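import Mathlib
import Cfsg.Agent.Lib.helper92.Basic

/-!
# Groups in which every involution has a four-group as centralizer

`FC G` : every involution of `G` has a centralizer of order `4` and exponent `2`, and all
involutions are conjugate.  The main result `FC.main` says that such a finite group has order
`60` (with elements of orders `3` and `5` that are products of two involutions) unless all
involutions commute with each other.
-/

set_option autoImplicit false

namespace Cfsg.Agent.Lib.helper11.FourCent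

open Cfsg.Agent.Lib.helper92

variable {G : Type*} [Group G]

/-- Every involution has a centralizer of order `4` and exponent `2`, and all involutions are
conjugate. -/
structure FC (G : Type*) [Group G] : Prop where
  sq : ∀ t c : G, t ≠ 1 → t * t = 1 → c * t = t * c → c * c = 1
  card : ∀ t : G, t ≠ 1 → t * t = 1 → Nat.card (Subgroup.centralizer ({t} : Set G)) = 4
  conj : ∀ s t : G, s ≠ 1 → s * s = 1 → t ≠ 1 → t * t = 1 → ∃ h : G, h * s * h⁻¹ = t

/-- `g` is a non-identity element of odd order inverted by `a`. -/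
def SA (a g : G) : Prop := g ≠ 1 ∧ Odd (orderOf g) ∧ a * g * a⁻¹ = g⁻¹

theorem inv_eq_self_of_sq {t : G} (h : t * t = 1) : t⁻¹ = t := inv_eq_of_mul_eq_one_left h

theorem mem_cent {g c : G} : c ∈ Subgroup.centralizer ({g} : Set G) ↔ c * g = g * c :=
  Subgroup.mem_centralizer_singleton_iff

/-- A subgroup of exponent `2` is commutative. -/
theorem comm_of_sq {V : Subgroup G} (hV : ∀ c ∈ V, c * c = 1) {c d : G} (hc : c ∈ V)
    (hd : d ∈ V) : c * d = d * c := by
  have h := inv_eq_self_of_sq (hV _ (V.mul_mem hc hd))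
  rw [mul_inv_rev, inv_eq_self_of_sq (hV c hc), inv_eq_self_of_sq (hV d hd)] at h
  exact h.symm

namespace FC

/-- Elements commuting with an involution commute with each other. -/
theorem comm (H : FC G) {t c d : G} (ht1 : t ≠ 1) (ht : t * t = 1) (hc : c * t = t * c)
    (hd : d * t = t * d) : c * d = d * c :=
  comm_of_sq (V := Subgroup.centralizer ({t} : Set G))
    (fun e he => H.sq t e ht1 ht (mem_cent.mp he)) (mem_cent.mpr hc) (mem_cent.mpr hd)

/-- A non-identity element of odd order commutes with no involution. -/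
theorem not_comm_odd (H : FC G) {t g : G} (ht1 : t ≠ 1) (ht : t * t = 1) (hg1 : g ≠ 1)
    (hodd : Odd (orderOf g)) : g * t ≠ t * g := by
  intro hc
  have h2 := H.sq t g ht1 ht hc
  have hd : orderOf g ∣ 2 := orderOf_dvd_of_pow_eq_one (by rw [pow_two]; exact h2)
  rcases (Nat.dvd_prime Nat.prime_two).1 hd with h | h
  · exact hg1 (orderOf_eq_one_iff.1 h)
  · rw [h] at hodd; exact absurd hodd (by decide)

/-- The product of two non-commuting involutions has odd order. -/
theorem odd_mul (H : FC G) [Finite G] {a t : G} (ha : a * a = 1) (ht : t * t = 1)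
    (hnc : a * t ≠ t * a) : Odd (orderOf (a * t)) := by
  by_contra hodd
  rw [Nat.not_odd_iff_even] at hodd
  obtain ⟨k, hk⟩ := hodd
  have hpos : 0 < orderOf (a * t) := orderOf_pos (a * t)
  have hk0 : 0 < k := by omega
  have hu1 : (a * t) ^ k ≠ 1 := by
    intro h
    have h1 := Nat.le_of_dvd hk0 (orderOf_dvd_of_pow_eq_one h)
    omega
  have hu2 : (a * t) ^ k * (a * t) ^ k = 1 := by rw [← pow_add, ← hk, pow_orderOf_eq_one]
  have hainv : a⁻¹ = a := inv_eq_self_of_sq ha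
  have htinv : t⁻¹ = t := inv_eq_self_of_sq ht
  have hac : a * (a * t) * a⁻¹ = (a * t)⁻¹ := by
    rw [mul_inv_rev, hainv, htinv, ← mul_assoc, ha, one_mul]
  have htc : t * (a * t) * t⁻¹ = (a * t)⁻¹ := by
    rw [mul_inv_rev, hainv, htinv, mul_assoc, mul_assoc, ht, mul_one]
  have hau : a * (a * t) ^ k * a⁻¹ = ((a * t) ^ k)⁻¹ := by rw [← conj_pow, hac, inv_pow]
  have htu : t * (a * t) ^ k * t⁻¹ = ((a * t) ^ k)⁻¹ := by rw [← conj_pow, htc, inv_pow]
  rw [inv_eq_self_of_sq hu2] at hau htu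
  exact hnc (H.comm hu1 hu2 (mul_inv_eq_iff_eq_mul.mp hau) (mul_inv_eq_iff_eq_mul.mp htu))

/-- The centralizer of a non-identity element of odd order has odd order. -/
theorem odd_card_cent (H : FC G) [Finite G] {g : G} (hg1 : g ≠ 1) (hodd : Odd (orderOf g)) :
    Odd (Nat.card (Subgroup.centralizer ({g} : Set G))) := by
  by_contra h
  rw [Nat.not_odd_iff_even] at h
  have : Fact (Nat.Prime 2) := ⟨Nat.prime_two⟩
  obtain ⟨u, hu⟩ := exists_prime_orderOf_dvd_card' 2 h.two_dvd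
  have hu' : orderOf (u : G) = 2 := by rw [Subgroup.orderOf_coe]; exact hu
  rw [orderOf_eq_prime_iff] at hu'
  have hu2 : (u : G) * u = 1 := by rw [← pow_two]; exact hu'.1
  exact H.not_comm_odd hu'.2 hu2 hg1 hodd (mem_cent.mp u.2).symm

/-- An involution normalizing the centralizer of a non-identity element of odd order inverts
it. -/
theorem inverts_of_normalizes (H : FC G) [Finite G] {b g : G} (hb1 : b ≠ 1) (hb : b * b = 1)
    (hg1 : g ≠ 1) (hodd : Odd (orderOf g))
    (hn : ∀ c ∈ Subgroup.centralizer ({g} : Set G),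
      b * c * b⁻¹ ∈ Subgroup.centralizer ({g} : Set G)) :
    ∀ c ∈ Subgroup.centralizer ({g} : Set G), b * c * b⁻¹ = c⁻¹ := by
  apply inverts_of_fixed_point_free hb hn
  intro c hc hbc
  exact eq_one_of_sq_eq_one_of_odd (H.odd_card_cent hg1 hodd) hc (H.sq b c hb1 hb hbc.symm)

/-- If `a` inverts `g` then `a` normalizes the centralizer of `g`. -/
theorem normalizes_of_SA {a g : G} (hg : a * g * a⁻¹ = g⁻¹) :
    ∀ c ∈ Subgroup.centralizer ({g} : Set G),
      a * c * a⁻¹ ∈ Subgroup.centralizer ({g} : Set G) := by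
  intro c hc
  rw [mem_cent] at hc ⊢
  have e : a * g⁻¹ * a⁻¹ = g := by rw [← conj_inv, hg, inv_inv]
  have hc' : c * g⁻¹ = g⁻¹ * c := by
    rw [eq_inv_mul_iff_mul_eq, ← mul_assoc, ← hc, mul_assoc, mul_inv_cancel, mul_one]
  calc a * c * a⁻¹ * g = (a * c * a⁻¹) * (a * g⁻¹ * a⁻¹) := by rw [e]
    _ = a * (c * g⁻¹) * a⁻¹ := by group
    _ = a * (g⁻¹ * c) * a⁻¹ := by rw [hc']
    _ = (a * g⁻¹ * a⁻¹) * (a * c * a⁻¹) := by group
    _ = g * (a * c * a⁻¹) := by rw [e]

/-- An involution inverting a non-identity element `g` of odd order inverts its centralizer. -/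
theorem inverts (H : FC G) [Finite G] {a g : G} (ha1 : a ≠ 1) (ha : a * a = 1) (hg : SA a g) :
    ∀ c ∈ Subgroup.centralizer ({g} : Set G), a * c * a⁻¹ = c⁻¹ :=
  H.inverts_of_normalizes ha1 ha hg.1 hg.2.1 (normalizes_of_SA hg.2.2)

/-- The centralizer of `g ∈ S a` is commutative. -/
theorem cent_comm (H : FC G) [Finite G] {a g : G} (ha1 : a ≠ 1) (ha : a * a = 1) (hg : SA a g)
    {c d : G} (hc : c ∈ Subgroup.centralizer ({g} : Set G))
    (hd : d ∈ Subgroup.centralizer ({g} : Set G)) : c * d = d * c :=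
  commute_of_inverts (H.inverts ha1 ha hg) c hc d hd

/-- Non-identity elements of the centralizer of `g ∈ S a` lie in `S a`. -/
theorem SA_of_mem (H : FC G) [Finite G] {a g : G} (ha1 : a ≠ 1) (ha : a * a = 1) (hg : SA a g)
    {c : G} (hc : c ∈ Subgroup.centralizer ({g} : Set G)) (hc1 : c ≠ 1) : SA a c := by
  refine ⟨hc1, ?_, H.inverts ha1 ha hg c hc⟩
  have h1 : orderOf c ∣ Nat.card (Subgroup.centralizer ({g} : Set G)) := by
    have := orderOf_dvd_natCard (⟨c, hc⟩ : Subgroup.centralizer ({g} : Set G))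
    rwa [Subgroup.orderOf_mk] at this
  exact (H.odd_card_cent hg.1 hg.2.1).of_dvd_nat h1

/-- The centralizer of a non-identity element of the centralizer of `g ∈ S a` is the
centralizer of `g`. -/
theorem cent_eq (H : FC G) [Finite G] {a g : G} (ha1 : a ≠ 1) (ha : a * a = 1) (hg : SA a g)
    {c : G} (hc : c ∈ Subgroup.centralizer ({g} : Set G)) (hc1 : c ≠ 1) :
    Subgroup.centralizer ({c} : Set G) = Subgroup.centralizer ({g} : Set G) := by
  have hcS : SA a c := H.SA_of_mem ha1 ha hg hc hc1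
  have hgc : g ∈ Subgroup.centralizer ({c} : Set G) := mem_cent.mpr (mem_cent.mp hc).symm
  apply le_antisymm
  · intro y hy
    exact mem_cent.mpr (H.cent_comm ha1 ha hcS hy hgc)
  · intro y hy
    exact mem_cent.mpr (H.cent_comm ha1 ha hg hy hc)

/-- A second involution of the centralizer of `a` moves every non-identity element of the
centralizer of `g ∈ S a` out of that centralizer. -/
theorem not_conj_mem (H : FC G) [Finite G] {a b g c : G} (ha1 : a ≠ 1) (ha : a * a = 1)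
    (hb1 : b ≠ 1) (hb : b * b = 1) (hab : b * a = a * b) (hne : b ≠ a) (hg : SA a g)
    (hc : c ∈ Subgroup.centralizer ({g} : Set G)) (hc1 : c ≠ 1) :
    b * c * b⁻¹ ∉ Subgroup.centralizer ({g} : Set G) := by
  intro hbc
  have hbc1 : b * c * b⁻¹ ≠ 1 := fun h => hc1 (conj_eq_one_iff.mp h)
  have hC1 := H.cent_eq ha1 ha hg hc hc1
  have hC2 := H.cent_eq ha1 ha hg hbc hbc1
  have hn : ∀ y ∈ Subgroup.centralizer ({g} : Set G),
      b * y * b⁻¹ ∈ Subgroup.centralizer ({g} : Set G) := by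
    intro y hy
    rw [← hC2, mem_cent]
    rw [← hC1, mem_cent] at hy
    calc b * y * b⁻¹ * (b * c * b⁻¹) = b * (y * c) * b⁻¹ := by group
      _ = b * (c * y) * b⁻¹ := by rw [hy]
      _ = b * c * b⁻¹ * (b * y * b⁻¹) := by group
  have hbinv := H.inverts_of_normalizes hb1 hb hg.1 hg.2.1 hn
  have h1 : b * g * b⁻¹ = g⁻¹ := hbinv g (mem_cent.mpr rfl)
  have h2 : a * g * a⁻¹ = g⁻¹ := hg.2.2
  have hab1 : a * b ≠ 1 := by
    intro h
    apply hne
    have h3 : b = a⁻¹ := (inv_eq_of_mul_eq_one_right h).symm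
    rw [h3, inv_eq_self_of_sq ha]
  have hab2 : (a * b) * (a * b) = 1 := by
    calc a * b * (a * b) = a * (b * a) * b := by group
      _ = a * (a * b) * b := by rw [hab]
      _ = (a * a) * (b * b) := by group
      _ = 1 := by rw [ha, hb, one_mul]
  have hcomm : g * (a * b) = (a * b) * g := by
    have e : a * g⁻¹ * a⁻¹ = g := by rw [← conj_inv, h2, inv_inv]
    have h3 : (a * b) * g * (a * b)⁻¹ = g := by
      calc (a * b) * g * (a * b)⁻¹ = a * (b * g * b⁻¹) * a⁻¹ := by group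
        _ = g := by rw [h1, e]
    exact (mul_inv_eq_iff_eq_mul.mp h3).symm
  exact H.not_comm_odd hab1 hab2 hg.1 hg.2.1 hcomm

/-- Any element inverting `g ∈ S a` is conjugate to `a` under the centralizer of `g`. -/
theorem exists_conj (H : FC G) [Finite G] {a a' g : G} (ha1 : a ≠ 1) (ha : a * a = 1)
    (hg : SA a g) (ha' : a' * g * a'⁻¹ = g⁻¹) :
    ∃ d ∈ Subgroup.centralizer ({g} : Set G), a' = d * a * d⁻¹ := by
  have h2 : a * g * a⁻¹ = g⁻¹ := hg.2.2
  have he : a' * a ∈ Subgroup.centralizer ({g} : Set G) := by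
    rw [mem_cent]
    have e' : a' * g⁻¹ * a'⁻¹ = g := by rw [← conj_inv, ha', inv_inv]
    have h3 : (a' * a) * g * (a' * a)⁻¹ = g := by
      calc (a' * a) * g * (a' * a)⁻¹ = a' * (a * g * a⁻¹) * a'⁻¹ := by group
        _ = g := by rw [h2, e']
    exact mul_inv_eq_iff_eq_mul.mp h3
  obtain ⟨j, hj⟩ := H.odd_card_cent hg.1 hg.2.1
  have hpow : (a' * a) ^ (2 * j + 1) = 1 := by
    have h3 := pow_card_eq_one' (G := Subgroup.centralizer ({g} : Set G)) (x := ⟨a' * a, he⟩)
    rw [hj] at h3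
    have h4 := congrArg Subtype.val h3
    simpa using h4
  have hdC : (a' * a) ^ (j + 1) ∈ Subgroup.centralizer ({g} : Set G) := Subgroup.pow_mem _ he _
  refine ⟨(a' * a) ^ (j + 1), hdC, ?_⟩
  have hdd : (a' * a) ^ (j + 1) * (a' * a) ^ (j + 1) = a' * a := by
    rw [← pow_add]
    have h3 : j + 1 + (j + 1) = (2 * j + 1) + 1 := by ring
    rw [h3, pow_succ, hpow, one_mul]
  have hinv : a * ((a' * a) ^ (j + 1))⁻¹ * a⁻¹ = (a' * a) ^ (j + 1) := by
    have h3 := H.inverts ha1 ha hg _ (Subgroup.inv_mem _ hdC)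
    rwa [inv_inv] at h3
  generalize (a' * a) ^ (j + 1) = d at hdd hinv
  calc a' = a' * (a * a) := by rw [ha, mul_one]
    _ = (d * d) * a := by rw [hdd, mul_assoc]
    _ = d * (a * d⁻¹ * a⁻¹) * a := by rw [hinv]
    _ = d * a * d⁻¹ := by group

/-- An element conjugating `g ∈ S a` into its own centralizer lies in `C(g)` or in `C(g) a`. -/
theorem mem_or_mul_mem (H : FC G) [Finite G] {a g k : G} (ha1 : a ≠ 1) (ha : a * a = 1)
    (hg : SA a g) (hk : k⁻¹ * g * k ∈ Subgroup.centralizer ({g} : Set G)) :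
    k ∈ Subgroup.centralizer ({g} : Set G) ∨ k * a ∈ Subgroup.centralizer ({g} : Set G) := by
  have hinv := H.inverts ha1 ha hg _ hk
  have ha' : (k * a * k⁻¹) * g * (k * a * k⁻¹)⁻¹ = g⁻¹ := by
    calc (k * a * k⁻¹) * g * (k * a * k⁻¹)⁻¹ = k * (a * (k⁻¹ * g * k) * a⁻¹) * k⁻¹ := by group
      _ = k * (k⁻¹ * g * k)⁻¹ * k⁻¹ := by rw [hinv]
      _ = g⁻¹ := by group
  obtain ⟨d, hd, hda⟩ := H.exists_conj ha1 ha hg ha'
  have hv : (d⁻¹ * k) * a = a * (d⁻¹ * k) := by
    have h3 : d⁻¹ * (k * a * k⁻¹) * d = a := by rw [hda]; group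
    calc d⁻¹ * k * a = (d⁻¹ * (k * a * k⁻¹) * d) * (d⁻¹ * k) := by group
      _ = a * (d⁻¹ * k) := by rw [h3]
  have hv2 := H.sq a (d⁻¹ * k) ha1 ha hv
  by_cases h1 : d⁻¹ * k = 1
  · left
    have h3 : k = d := by rw [inv_mul_eq_one] at h1; exact h1.symm
    rw [h3]; exact hd
  by_cases h2 : d⁻¹ * k = a
  · right
    have h3 : k * a = d := by
      have h4 : k = d * a := by rw [← h2]; group
      rw [h4, mul_assoc, ha, mul_one]
    rw [h3]; exact hd
  · exfalso
    have hc1 : k⁻¹ * g * k ≠ 1 := by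
      intro h; apply hg.1
      have h3 : k⁻¹ * g * k = k⁻¹ * g * k⁻¹⁻¹ := by rw [inv_inv]
      rw [h3] at h; exact conj_eq_one_iff.mp h
    apply H.not_conj_mem ha1 ha h1 hv2 hv h2 hg hk hc1
    have hdg : d * g = g * d := mem_cent.mp hd
    have h3 : (d⁻¹ * k) * (k⁻¹ * g * k) * (d⁻¹ * k)⁻¹ = g := by
      calc (d⁻¹ * k) * (k⁻¹ * g * k) * (d⁻¹ * k)⁻¹ = d⁻¹ * (g * d) := by group
        _ = d⁻¹ * (d * g) := by rw [hdg]
        _ = g := by group
    rw [h3]; exact mem_cent.mpr rfl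

/-- Transport of commutation along two ways of writing an element as a conjugate. -/
theorem conj_mem (H : FC G) [Finite G] {a g c₁ c₂ z h₁ h₂ : G} (ha1 : a ≠ 1) (ha : a * a = 1)
    (hg : SA a g) (hc : c₁ ∈ Subgroup.centralizer ({g} : Set G)) (hc1 : c₁ ≠ 1)
    (hz : z * c₂ = c₂ * z) (he : h₁ * c₁ * h₁⁻¹ = h₂ * c₂ * h₂⁻¹) :
    (h₁⁻¹ * h₂) * z * (h₁⁻¹ * h₂)⁻¹ ∈ Subgroup.centralizer ({g} : Set G) := by
  rw [← H.cent_eq ha1 ha hg hc hc1, mem_cent]
  have e : c₁ = (h₁⁻¹ * h₂) * c₂ * (h₁⁻¹ * h₂)⁻¹ := by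
    calc c₁ = h₁⁻¹ * (h₁ * c₁ * h₁⁻¹) * h₁ := by group
      _ = h₁⁻¹ * (h₂ * c₂ * h₂⁻¹) * h₁ := by rw [he]
      _ = _ := by group
  generalize h₁⁻¹ * h₂ = k at e
  rw [e]
  calc k * z * k⁻¹ * (k * c₂ * k⁻¹) = k * (z * c₂) * k⁻¹ := by group
    _ = k * (c₂ * z) * k⁻¹ := by rw [hz]
    _ = _ := by group

/-- If conjugates of non-identity elements of `C(g₁)` and `C(g₂)` coincide (`g₁, g₂ ∈ S a`),
then `g₂` is conjugate into `C(g₁)` by an element of the centralizer of `a`. -/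
theorem exists_cent_conj (H : FC G) [Finite G] {a g₁ g₂ c₁ c₂ h₁ h₂ : G} (ha1 : a ≠ 1)
    (ha : a * a = 1) (hg₁ : SA a g₁) (hg₂ : SA a g₂)
    (hc₁ : c₁ ∈ Subgroup.centralizer ({g₁} : Set G)) (hc₁1 : c₁ ≠ 1)
    (hc₂ : c₂ ∈ Subgroup.centralizer ({g₂} : Set G))
    (he : h₁ * c₁ * h₁⁻¹ = h₂ * c₂ * h₂⁻¹) :
    ∃ v : G, v * a = a * v ∧ v * g₂ * v⁻¹ ∈ Subgroup.centralizer ({g₁} : Set G) := by
  have hw := H.conj_mem ha1 ha hg₁ hc₁ hc₁1 (mem_cent.mp hc₂).symm he
  generalize h₁⁻¹ * h₂ = h at hw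
  have hinv := H.inverts ha1 ha hg₁ _ hw
  have ha' : (h⁻¹ * a * h) * g₂ * (h⁻¹ * a * h)⁻¹ = g₂⁻¹ := by
    calc (h⁻¹ * a * h) * g₂ * (h⁻¹ * a * h)⁻¹ = h⁻¹ * (a * (h * g₂ * h⁻¹) * a⁻¹) * h := by group
      _ = h⁻¹ * (h * g₂ * h⁻¹)⁻¹ * h := by rw [hinv]
      _ = g₂⁻¹ := by group
  obtain ⟨d, hd, hda⟩ := H.exists_conj ha1 ha hg₂ ha'
  refine ⟨h * d, ?_, ?_⟩
  · have h3 : (h * d) * a * (h * d)⁻¹ = a := by
      calc (h * d) * a * (h * d)⁻¹ = h * (d * a * d⁻¹) * h⁻¹ := by group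
        _ = h * (h⁻¹ * a * h) * h⁻¹ := by rw [← hda]
        _ = a := by group
    exact mul_inv_eq_iff_eq_mul.mp h3
  · have hdg : d * g₂ = g₂ * d := mem_cent.mp hd
    have h3 : (h * d) * g₂ * (h * d)⁻¹ = h * g₂ * h⁻¹ := by
      calc (h * d) * g₂ * (h * d)⁻¹ = h * (d * g₂) * d⁻¹ * h⁻¹ := by group
        _ = h * (g₂ * d) * d⁻¹ * h⁻¹ := by rw [hdg]
        _ = h * g₂ * h⁻¹ := by group
    rw [h3]; exact hw

end FC

theorem eq_one_of_odd_of_sq {g : G} (hodd : Odd (orderOf g)) (h : g * g = 1) : g = 1 := by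
  have hd : orderOf g ∣ 2 := orderOf_dvd_of_pow_eq_one (by rw [pow_two]; exact h)
  rcases (Nat.dvd_prime Nat.prime_two).1 hd with h | h
  · exact orderOf_eq_one_iff.1 h
  · rw [h] at hodd; exact absurd hodd (by decide)

theorem arith_aux {n d₁ d₂ : ℕ} (h : n + 4 = 8 * (d₁ + d₂)) (h1 : d₁ ∣ n) (h2 : d₂ ∣ n)
    (o1 : Odd d₁) (o2 : Odd d₂) (g1 : 3 ≤ d₁) (hle : d₁ ≤ d₂) : d₁ = 3 ∧ d₂ = 5 := by
  have c1 : Nat.Coprime d₁ 4 := by
    have h3 : Nat.Coprime d₁ (2 ^ 2) := Nat.Coprime.pow_right 2 (Nat.coprime_two_right.mpr o1)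
    simpa using h3
  have c2 : Nat.Coprime d₂ 4 := by
    have h3 : Nat.Coprime d₂ (2 ^ 2) := Nat.Coprime.pow_right 2 (Nat.coprime_two_right.mpr o2)
    simpa using h3
  have hA : d₁ ∣ 2 * d₂ - 1 := by
    have e : n = 8 * d₁ + (2 * d₂ - 1) * 4 := by omega
    rw [e] at h1
    exact c1.dvd_of_dvd_mul_right ((Nat.dvd_add_right (Dvd.intro_left 8 rfl)).mp h1)
  have hB : d₂ ∣ 2 * d₁ - 1 := by
    have e : n = 8 * d₂ + (2 * d₁ - 1) * 4 := by omega
    rw [e] at h2
    exact c2.dvd_of_dvd_mul_right ((Nat.dvd_add_right (Dvd.intro_left 8 rfl)).mp h2)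
  obtain ⟨l, hl⟩ := hB
  have hl1 : l = 1 := by
    rcases Nat.lt_or_ge l 2 with h3 | h3
    · interval_cases l
      · omega
      · rfl
    · exfalso
      have h4 : d₂ * 2 ≤ d₂ * l := Nat.mul_le_mul_left _ h3
      omega
  subst hl1
  have h3 : d₁ ∣ 3 := by
    have h4 : d₁ ∣ 4 * d₁ := Dvd.intro_left 4 rfl
    have h5 := Nat.dvd_sub h4 hA
    have e : 4 * d₁ - (2 * d₂ - 1) = 3 := by omega
    rwa [e] at h5
  have h4 := Nat.le_of_dvd (by norm_num) h3
  constructor <;> omega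

theorem arith60 {n d₁ d₂ : ℕ} (h : n + 4 = 8 * (d₁ + d₂)) (h1 : d₁ ∣ n) (h2 : d₂ ∣ n)
    (o1 : Odd d₁) (o2 : Odd d₂) (g1 : 3 ≤ d₁) (g2 : 3 ≤ d₂) :
    n = 60 ∧ ((d₁ = 3 ∧ d₂ = 5) ∨ (d₁ = 5 ∧ d₂ = 3)) := by
  rcases le_total d₁ d₂ with hle | hle
  · obtain ⟨e1, e2⟩ := arith_aux h h1 h2 o1 o2 g1 hle
    exact ⟨by omega, Or.inl ⟨e1, e2⟩⟩
  · obtain ⟨e1, e2⟩ := arith_aux (by omega : n + 4 = 8 * (d₂ + d₁)) h2 h1 o2 o1 g2 hle
    exact ⟨by omega, Or.inr ⟨e2, e1⟩⟩

section Count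

open Classical

variable [Fintype G]

/-- The centralizer of `g` as a finset. -/
noncomputable def CF (g : G) : Finset G := Finset.univ.filter (fun c => c * g = g * c)

/-- The non-identity elements of the centralizer of `g` as a finset. -/
noncomputable def CF' (g : G) : Finset G :=
  Finset.univ.filter (fun c => c * g = g * c ∧ c ≠ 1)

/-- `S a` as a finset. -/
noncomputable def SF (a : G) : Finset G := Finset.univ.filter (fun g => SA a g)

/-- The conjugates of the non-identity elements of the centralizer of `g`. -/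
noncomputable def XF (g : G) : Finset G :=
  (Finset.univ ×ˢ CF' g).image (fun p : G × G => p.1 * p.2 * p.1⁻¹)

/-- The conjugates of the non-identity elements of the centralizer of `g` under `{1, b}`. -/
noncomputable def AF (b g : G) : Finset G := CF' g ∪ (CF' g).image (fun c => b * c * b⁻¹)

theorem mem_CF {g c : G} : c ∈ CF g ↔ c * g = g * c := by simp [CF]

theorem mem_CF' {g c : G} : c ∈ CF' g ↔ c * g = g * c ∧ c ≠ 1 := by simp [CF']

theorem mem_SF {a g : G} : g ∈ SF a ↔ SA a g := by simp [SF]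

theorem mem_XF {g y : G} :
    y ∈ XF g ↔ ∃ h c : G, (c * g = g * c ∧ c ≠ 1) ∧ h * c * h⁻¹ = y := by
  rw [XF, Finset.mem_image]
  constructor
  · rintro ⟨⟨h, c⟩, hp, hy⟩
    rw [Finset.mem_product, mem_CF'] at hp
    exact ⟨h, c, hp.2, hy⟩
  · rintro ⟨h, c, hc, hy⟩
    exact ⟨(h, c), Finset.mem_product.mpr ⟨Finset.mem_univ _, mem_CF'.mpr hc⟩, hy⟩

theorem card_CF (g : G) : (CF g).card = Nat.card (Subgroup.centralizer ({g} : Set G)) := by
  have h : ((CF g : Finset G) : Set G) = (Subgroup.centralizer ({g} : Set G) : Set G) := by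
    ext c; simp [mem_CF, mem_cent]
  rw [← Set.ncard_coe_finset, h]
  exact (Nat.card_coe_set_eq _).symm

theorem card_CF' (g : G) :
    (CF' g).card + 1 = Nat.card (Subgroup.centralizer ({g} : Set G)) := by
  have h : CF' g = (CF g).erase 1 := by
    ext c; simp [mem_CF, mem_CF', and_comm]
  have h1 : (1 : G) ∈ CF g := by simp [mem_CF]
  rw [h, Finset.card_erase_of_mem h1, ← card_CF]
  have h2 := Finset.card_pos.mpr ⟨1, h1⟩
  omega

theorem dvd_card' (g : G) : (CF' g).card + 1 ∣ Fintype.card G := by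
  rw [card_CF', ← Nat.card_eq_fintype_card]; exact Subgroup.card_subgroup_dvd_card _

theorem orderOf_eq' {g : G} (hg1 : g ≠ 1) (hp : ((CF' g).card + 1).Prime) :
    orderOf g = (CF' g).card + 1 := by
  have h1 : orderOf g ∣ (CF' g).card + 1 := by
    rw [card_CF']
    have h2 := orderOf_dvd_natCard (⟨g, mem_cent.mpr rfl⟩ : Subgroup.centralizer ({g} : Set G))
    rwa [Subgroup.orderOf_mk] at h2
  rcases (Nat.dvd_prime hp).1 h1 with h | h
  · exact absurd (orderOf_eq_one_iff.1 h) hg1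
  · exact h

theorem AF_subset_XF (b g : G) : AF b g ⊆ XF g := by
  intro y hy
  rw [AF, Finset.mem_union, Finset.mem_image] at hy
  rw [mem_XF]
  rcases hy with hy | ⟨c, hc, rfl⟩
  · exact ⟨1, y, mem_CF'.mp hy, by simp⟩
  · exact ⟨b, c, mem_CF'.mp hc, rfl⟩

theorem XF_subset (g : G) : XF g ⊆ (Finset.univ : Finset G).erase 1 := by
  intro y hy
  rw [mem_XF] at hy
  obtain ⟨h, c, hc, rfl⟩ := hy
  rw [Finset.mem_erase]
  exact ⟨fun h1 => hc.2 (conj_eq_one_iff.mp h1), Finset.mem_univ _⟩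

namespace FC

theorem odd_card' (H : FC G) {a g : G} (hg : SA a g) : Odd ((CF' g).card + 1) := by
  rw [card_CF']; exact H.odd_card_cent hg.1 hg.2.1

theorem two_le_card' (H : FC G) {a g : G} (hg : SA a g) : 2 ≤ (CF' g).card := by
  have h1 : g ∈ CF' g := mem_CF'.mpr ⟨rfl, hg.1⟩
  have h2 := Finset.card_pos.mpr ⟨g, h1⟩
  obtain ⟨k, hk⟩ := H.odd_card' hg
  omega

theorem card_mul_le (H : FC G) {a g : G} (ha1 : a ≠ 1) (ha : a * a = 1) (hg : SA a g) :
    Fintype.card G * (CF' g).card ≤ (2 * ((CF' g).card + 1)) * (XF g).card := by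
  have key := Finset.card_le_mul_card_image (f := fun p : G × G => p.1 * p.2 * p.1⁻¹)
    (Finset.univ ×ˢ CF' g) (2 * ((CF' g).card + 1)) ?_
  · rw [Finset.card_product, Finset.card_univ] at key
    exact key
  intro y hy
  rw [Finset.mem_image] at hy
  obtain ⟨⟨h₀, c₀⟩, hp₀, hy₀⟩ := hy
  rw [Finset.mem_product, mem_CF'] at hp₀
  have hT : (CF g ∪ (CF g).image (fun c => c * a)).card ≤ 2 * ((CF' g).card + 1) := by
    calc (CF g ∪ (CF g).image (fun c => c * a)).card
        ≤ (CF g).card + ((CF g).image (fun c => c * a)).card := Finset.card_union_le _ _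
      _ ≤ (CF g).card + (CF g).card := Nat.add_le_add_left Finset.card_image_le _
      _ = 2 * ((CF' g).card + 1) := by rw [card_CF' g, card_CF g]; ring
  refine le_trans (Finset.card_le_card_of_injOn (fun p : G × G => h₀⁻¹ * p.1) ?_ ?_) hT
  · intro p hp
    rw [Finset.mem_coe, Finset.mem_filter, Finset.mem_product, mem_CF'] at hp
    obtain ⟨⟨-, hpc, hpc1⟩, hpy⟩ := hp
    have hw := H.conj_mem (z := g) ha1 ha hg (mem_cent.mpr hpc) hpc1 hp₀.2.1.symm
      (hpy.trans hy₀.symm)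
    have hk : (h₀⁻¹ * p.1)⁻¹ * g * (h₀⁻¹ * p.1) ∈ Subgroup.centralizer ({g} : Set G) := by
      have e : (h₀⁻¹ * p.1)⁻¹ * g * (h₀⁻¹ * p.1) = (p.1⁻¹ * h₀) * g * (p.1⁻¹ * h₀)⁻¹ := by
        group
      rw [e]; exact hw
    rw [Finset.mem_coe, Finset.mem_union, mem_CF, Finset.mem_image]
    rcases H.mem_or_mul_mem ha1 ha hg hk with h | h
    · left; exact mem_cent.mp h
    · right
      exact ⟨h₀⁻¹ * p.1 * a, mem_CF.mpr (mem_cent.mp h), by rw [mul_assoc, ha, mul_one]⟩
  · intro p hp q hq hpq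
    rw [Finset.mem_coe, Finset.mem_filter] at hp hq
    have h1 : p.1 = q.1 := mul_left_cancel hpq
    have h2 : p.2 = q.2 := by
      have e : p.1 * p.2 * p.1⁻¹ = q.1 * q.2 * q.1⁻¹ := hp.2.trans hq.2.symm
      rw [h1] at e
      exact mul_left_cancel (mul_right_cancel e)
    exact Prod.ext h1 h2

theorem card_le_three (H : FC G) {a g : G} (ha1 : a ≠ 1) (ha : a * a = 1) (hg : SA a g) :
    Fintype.card G ≤ 3 * (XF g).card := by
  have h1 := H.card_mul_le ha1 ha hg
  have h2 := H.two_le_card' hg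
  have h3 : (2 * ((CF' g).card + 1)) * (XF g).card ≤ (3 * (XF g).card) * (CF' g).card := by
    have h4 : 2 * ((CF' g).card + 1) ≤ 3 * (CF' g).card := by omega
    calc (2 * ((CF' g).card + 1)) * (XF g).card ≤ (3 * (CF' g).card) * (XF g).card :=
          Nat.mul_le_mul_right _ h4
      _ = (3 * (XF g).card) * (CF' g).card := by ring
  exact Nat.le_of_mul_le_mul_right (h1.trans h3) (by omega)

theorem exists_b (H : FC G) {a : G} (ha1 : a ≠ 1) (ha : a * a = 1) :
    ∃ b : G, b * a = a * b ∧ b ≠ 1 ∧ b ≠ a := by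
  have hc : (CF a).card = 4 := by rw [card_CF, H.card a ha1 ha]
  have h1 : ({1, a} : Finset G).card < (CF a).card := by
    rw [hc]; exact lt_of_le_of_lt Finset.card_le_two (by norm_num)
  obtain ⟨b, hb, hb'⟩ := Finset.exists_mem_notMem_of_card_lt_card h1
  rw [Finset.mem_insert, Finset.mem_singleton, not_or] at hb'
  exact ⟨b, mem_CF.mp hb, hb'.1, hb'.2⟩

theorem cent_elems (H : FC G) {a b : G} (ha1 : a ≠ 1) (ha : a * a = 1) (hba : b * a = a * b)
    (hb1 : b ≠ 1) (hbne : b ≠ a) :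
    ∀ v : G, v * a = a * v → v = 1 ∨ v = a ∨ v = b ∨ v = a * b := by
  have hc : (CF a).card = 4 := by rw [card_CF, H.card a ha1 ha]
  have hsub : ({1, a, b, a * b} : Finset G) ⊆ CF a := by
    intro v hv
    simp only [Finset.mem_insert, Finset.mem_singleton] at hv
    rw [mem_CF]
    rcases hv with rfl | rfl | rfl | rfl
    · simp
    · rfl
    · exact hba
    · rw [mul_assoc, hba]
  have n1 : b ≠ a * b := fun h => ha1 (by simpa using h.symm)
  have n2 : a ≠ a * b := fun h => hb1 (by simpa using h.symm)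
  have n3 : (1 : G) ≠ a * b := by
    intro h
    apply hbne
    have h3 : b = a⁻¹ := (inv_eq_of_mul_eq_one_right h.symm).symm
    rw [h3, inv_eq_self_of_sq ha]
  have hcard : ({1, a, b, a * b} : Finset G).card = 4 := by
    rw [Finset.card_insert_of_notMem, Finset.card_insert_of_notMem, Finset.card_pair n1]
    · simp only [Finset.mem_insert, Finset.mem_singleton, not_or]
      exact ⟨fun h => hbne h.symm, n2⟩
    · simp only [Finset.mem_insert, Finset.mem_singleton, not_or]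
      exact ⟨fun h => ha1 h.symm, fun h => hb1 h.symm, n3⟩
  have heq := Finset.eq_of_subset_of_card_le hsub (by rw [hc, hcard])
  intro v hv
  have h3 : v ∈ CF a := mem_CF.mpr hv
  rw [← heq] at h3
  simpa using h3

theorem AF_subset_SF (H : FC G) {a b g : G} (ha1 : a ≠ 1) (ha : a * a = 1)
    (hba : b * a = a * b) (hg : SA a g) : AF b g ⊆ SF a := by
  intro y hy
  rw [AF, Finset.mem_union, Finset.mem_image] at hy
  rw [mem_SF]
  rcases hy with hy | ⟨c, hc, rfl⟩
  · rw [mem_CF'] at hy; exact H.SA_of_mem ha1 ha hg (mem_cent.mpr hy.1) hy.2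
  · rw [mem_CF'] at hc
    have hcS := H.SA_of_mem ha1 ha hg (mem_cent.mpr hc.1) hc.2
    refine ⟨fun h => hc.2 (conj_eq_one_iff.mp h), ?_, ?_⟩
    · have e : orderOf (b * c * b⁻¹) = orderOf c := by
        rw [← MulAut.conj_apply]; exact MulEquiv.orderOf_eq _ _
      rw [e]; exact hcS.2.1
    · calc a * (b * c * b⁻¹) * a⁻¹ = (a * b) * c * (a * b)⁻¹ := by group
        _ = (b * a) * c * (b * a)⁻¹ := by rw [hba]
        _ = b * (a * c * a⁻¹) * b⁻¹ := by group
        _ = b * c⁻¹ * b⁻¹ := by rw [hcS.2.2]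
        _ = (b * c * b⁻¹)⁻¹ := by group

theorem card_AF (H : FC G) {a b g : G} (ha1 : a ≠ 1) (ha : a * a = 1) (hb1 : b ≠ 1)
    (hb : b * b = 1) (hba : b * a = a * b) (hbne : b ≠ a) (hg : SA a g) :
    (AF b g).card = 2 * (CF' g).card := by
  have hdisj : Disjoint (CF' g) ((CF' g).image (fun c => b * c * b⁻¹)) := by
    rw [Finset.disjoint_left]
    intro y hy hy'
    rw [Finset.mem_image] at hy'
    obtain ⟨c, hc, rfl⟩ := hy'
    rw [mem_CF'] at hy hc
    exact H.not_conj_mem ha1 ha hb1 hb hba hbne hg (mem_cent.mpr hc.1) hc.2 (mem_cent.mpr hy.1)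
  have hinj : Function.Injective (fun c : G => b * c * b⁻¹) := fun c c' h => by simpa using h
  rw [AF, Finset.card_union_of_disjoint hdisj, Finset.card_image_of_injective _ hinj]
  ring

theorem XF_disjoint (H : FC G) {a b g₁ g₂ : G} (ha1 : a ≠ 1) (ha : a * a = 1) (hb1 : b ≠ 1)
    (hba : b * a = a * b) (hbne : b ≠ a) (hg₁ : SA a g₁) (hg₂ : SA a g₂)
    (hn : g₂ ∉ AF b g₁) : Disjoint (XF g₁) (XF g₂) := by
  rw [Finset.disjoint_left]
  intro y hy₁ hy₂
  apply hn
  rw [mem_XF] at hy₁ hy₂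
  obtain ⟨h₁, c₁, hc₁, e₁⟩ := hy₁
  obtain ⟨h₂, c₂, hc₂, e₂⟩ := hy₂
  obtain ⟨v, hva, hv⟩ := H.exists_cent_conj ha1 ha hg₁ hg₂ (mem_cent.mpr hc₁.1) hc₁.2
    (mem_cent.mpr hc₂.1) (e₁.trans e₂.symm)
  have hb := H.sq a b ha1 ha hba
  have hB : b * g₂ * b⁻¹ ∈ Subgroup.centralizer ({g₁} : Set G) → g₂ ∈ AF b g₁ := by
    intro h
    rw [AF, Finset.mem_union, Finset.mem_image]
    right
    refine ⟨b * g₂ * b⁻¹,
      mem_CF'.mpr ⟨mem_cent.mp h, fun h1 => hg₂.1 (conj_eq_one_iff.mp h1)⟩, ?_⟩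
    calc b * (b * g₂ * b⁻¹) * b⁻¹ = (b * b) * g₂ * (b * b)⁻¹ := by group
      _ = g₂ := by rw [hb]; simp
  have hA : g₂ ∈ Subgroup.centralizer ({g₁} : Set G) → g₂ ∈ AF b g₁ := by
    intro h
    rw [AF, Finset.mem_union]
    left; exact mem_CF'.mpr ⟨mem_cent.mp h, hg₂.1⟩
  rcases H.cent_elems ha1 ha hba hb1 hbne v hva with rfl | rfl | rfl | rfl
  · apply hA; simpa using hv
  · apply hA
    rw [hg₂.2.2] at hv
    exact (Subgroup.inv_mem_iff _).mp hv
  · exact hB hv
  · apply hB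
    have h1 := normalizes_of_SA hg₁.2.2 _ hv
    have e : a * ((a * b) * g₂ * (a * b)⁻¹) * a⁻¹ = b * g₂ * b⁻¹ := by
      calc a * ((a * b) * g₂ * (a * b)⁻¹) * a⁻¹ = (a * a) * (b * g₂ * b⁻¹) * (a * a)⁻¹ := by
            group
        _ = b * g₂ * b⁻¹ := by rw [ha]; simp
    rw [e] at h1; exact h1

theorem SA_mul (H : FC G) {a t : G} (ha : a * a = 1) (ht : t * t = 1)
    (hnc : ¬ t * a = a * t) : SA a (a * t) := by
  have hainv := inv_eq_self_of_sq ha
  have htinv := inv_eq_self_of_sq ht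
  refine ⟨?_, H.odd_mul ha ht (fun h => hnc h.symm), ?_⟩
  · intro h
    have h3 : t = a := by rw [← hainv]; exact (inv_eq_of_mul_eq_one_right h).symm
    exact hnc (by rw [h3])
  · rw [mul_inv_rev, hainv, htinv, ← mul_assoc, ha, one_mul]

theorem card_SF (H : FC G) {a : G} (ha1 : a ≠ 1) (ha : a * a = 1) :
    4 * ((SF a).card + 3) = Fintype.card G := by
  have hainv := inv_eq_self_of_sq ha
  set IF : Finset G := Finset.univ.filter (fun t : G => t ≠ 1 ∧ t * t = 1) with hIF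
  have hmem : ∀ t, t ∈ IF ↔ t ≠ 1 ∧ t * t = 1 := by intro t; simp [hIF]
  have h1 : Fintype.card G = 4 * IF.card := by
    have hmaps : ((Finset.univ : Finset G) : Set G).MapsTo (fun h => h * a * h⁻¹) IF := by
      intro h _
      rw [Finset.mem_coe, hmem]
      refine ⟨fun h1 => ha1 (conj_eq_one_iff.mp h1), ?_⟩
      calc h * a * h⁻¹ * (h * a * h⁻¹) = h * (a * a) * h⁻¹ := by group
        _ = 1 := by rw [ha]; group
    have h2 := Finset.card_eq_sum_card_fiberwise hmaps
    rw [Finset.card_univ] at h2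
    have h3 : ∀ t ∈ IF, (Finset.univ.filter (fun h : G => h * a * h⁻¹ = t)).card = 4 := by
      intro t ht
      rw [hmem] at ht
      obtain ⟨h₀, hh₀⟩ := H.conj a t ha1 ha ht.1 ht.2
      rw [← H.card a ha1 ha, ← card_CF]
      symm
      apply Finset.card_bij (fun c _ => h₀ * c)
      · intro c hc
        rw [mem_CF] at hc
        rw [Finset.mem_filter]
        refine ⟨Finset.mem_univ _, ?_⟩
        calc h₀ * c * a * (h₀ * c)⁻¹ = h₀ * (c * a) * c⁻¹ * h₀⁻¹ := by group
          _ = h₀ * (a * c) * c⁻¹ * h₀⁻¹ := by rw [hc]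
          _ = h₀ * a * h₀⁻¹ := by group
          _ = t := hh₀
      · intro c _ c' _ h; exact mul_left_cancel h
      · intro h hh
        rw [Finset.mem_filter] at hh
        refine ⟨h₀⁻¹ * h, ?_, by group⟩
        rw [mem_CF]
        have e : h * a * h⁻¹ = h₀ * a * h₀⁻¹ := hh.2.trans hh₀.symm
        calc h₀⁻¹ * h * a = h₀⁻¹ * (h * a * h⁻¹) * h := by group
          _ = h₀⁻¹ * (h₀ * a * h₀⁻¹) * h := by rw [e]
          _ = a * (h₀⁻¹ * h) := by group
    rw [Finset.sum_congr rfl h3, Finset.sum_const, smul_eq_mul] at h2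
    omega
  have h4 := Finset.card_filter_add_card_filter_not (s := IF) (fun t : G => t * a = a * t)
  have h5 : (IF.filter (fun t : G => t * a = a * t)).card = 3 := by
    have e : IF.filter (fun t : G => t * a = a * t) = (CF a).erase 1 := by
      ext t
      rw [Finset.mem_filter, hmem, Finset.mem_erase, mem_CF]
      constructor
      · rintro ⟨⟨h1, -⟩, h2⟩; exact ⟨h1, h2⟩
      · rintro ⟨h1, h2⟩; exact ⟨⟨h1, H.sq a t ha1 ha h2⟩, h2⟩
    rw [e, Finset.card_erase_of_mem (mem_CF.mpr (by simp)), card_CF, H.card a ha1 ha]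
  have h6 : (IF.filter (fun t : G => ¬ t * a = a * t)).card = (SF a).card := by
    apply Finset.card_bij (fun t _ => a * t)
    · intro t ht
      rw [Finset.mem_filter, hmem] at ht
      exact mem_SF.mpr (H.SA_mul ha ht.1.2 ht.2)
    · intro c _ c' _ h; exact mul_left_cancel h
    · intro g hg
      rw [mem_SF] at hg
      have hag : a * g * a = g⁻¹ := by have h7 := hg.2.2; rwa [hainv] at h7
      refine ⟨a * g, ?_, by rw [← mul_assoc, ha, one_mul]⟩
      rw [Finset.mem_filter, hmem]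
      have hsq : a * g * (a * g) = 1 := by rw [← mul_assoc, hag, inv_mul_cancel]
      refine ⟨⟨?_, hsq⟩, ?_⟩
      · intro h
        have hga : g = a := by rw [← hainv]; exact (inv_eq_of_mul_eq_one_right h).symm
        exact hg.1 (eq_one_of_odd_of_sq hg.2.1 (by rw [hga]; exact ha))
      · intro h
        rw [hag, ← mul_assoc, ha, one_mul] at h
        exact hg.1 (eq_one_of_odd_of_sq hg.2.1 (mul_eq_one_iff_inv_eq.mpr h))
  omega

theorem main_fin (H : FC G) {a : G} (ha1 : a ≠ 1) (ha : a * a = 1) :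
    (∀ t : G, t ≠ 1 → t * t = 1 → t * a = a * t) ∨
    (Fintype.card G = 60 ∧
      ∃ g₁ g₂ : G, SA a g₁ ∧ SA a g₂ ∧ orderOf g₁ = 3 ∧ orderOf g₂ = 5) := by
  by_cases hS : SF a = ∅
  · left
    intro t ht1 ht
    by_contra hnc
    have h1 : a * t ∈ SF a := mem_SF.mpr (H.SA_mul ha ht hnc)
    rw [hS] at h1
    exact absurd h1 (Finset.notMem_empty _)
  right
  obtain ⟨g₁, hg₁⟩ := Finset.nonempty_iff_ne_empty.mpr hS
  rw [mem_SF] at hg₁
  obtain ⟨b, hba, hb1, hbne⟩ := H.exists_b ha1 ha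
  have hb := H.sq a b ha1 ha hba
  have hcard := H.card_SF ha1 ha
  have hn0 : 0 < Fintype.card G := Fintype.card_pos
  by_cases h1 : SF a ⊆ AF b g₁
  · exfalso
    have e : SF a = AF b g₁ := Finset.Subset.antisymm h1 (H.AF_subset_SF ha1 ha hba hg₁)
    rw [e, H.card_AF ha1 ha hb1 hb hba hbne hg₁] at hcard
    have hd := dvd_card' g₁
    have ho := H.odd_card' hg₁
    have h2 := H.two_le_card' hg₁
    have e2 : Fintype.card G = 8 * ((CF' g₁).card + 1) + 4 := by omega
    rw [e2] at hd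
    have h4 := (Nat.dvd_add_right (Dvd.intro_left 8 rfl)).mp hd
    have h5 := Nat.le_of_dvd (by norm_num) h4
    obtain ⟨k, hk⟩ := ho
    have h6 : (CF' g₁).card + 1 = 3 := by omega
    rw [h6] at h4
    omega
  obtain ⟨g₂, hg₂, hg₂'⟩ := Finset.not_subset.mp h1
  rw [mem_SF] at hg₂
  have hd12 := H.XF_disjoint ha1 ha hb1 hba hbne hg₁ hg₂ hg₂'
  by_cases h2 : SF a ⊆ AF b g₁ ∪ AF b g₂
  · have e : SF a = AF b g₁ ∪ AF b g₂ := Finset.Subset.antisymm h2
      (Finset.union_subset (H.AF_subset_SF ha1 ha hba hg₁) (H.AF_subset_SF ha1 ha hba hg₂))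
    have hdA : Disjoint (AF b g₁) (AF b g₂) :=
      Finset.disjoint_of_subset_left (AF_subset_XF b g₁)
        (Finset.disjoint_of_subset_right (AF_subset_XF b g₂) hd12)
    rw [e, Finset.card_union_of_disjoint hdA, H.card_AF ha1 ha hb1 hb hba hbne hg₁,
      H.card_AF ha1 ha hb1 hb hba hbne hg₂] at hcard
    have t1 := H.two_le_card' hg₁
    have t2 := H.two_le_card' hg₂
    have key := arith60 (n := Fintype.card G) (d₁ := (CF' g₁).card + 1)
      (d₂ := (CF' g₂).card + 1) (by omega) (dvd_card' g₁) (dvd_card' g₂) (H.odd_card' hg₁)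
      (H.odd_card' hg₂) (by omega) (by omega)
    refine ⟨key.1, ?_⟩
    rcases key.2 with ⟨e1, e2⟩ | ⟨e1, e2⟩
    · refine ⟨g₁, g₂, hg₁, hg₂, ?_, ?_⟩
      · rw [orderOf_eq' hg₁.1 (by rw [e1]; norm_num), e1]
      · rw [orderOf_eq' hg₂.1 (by rw [e2]; norm_num), e2]
    · refine ⟨g₂, g₁, hg₂, hg₁, ?_, ?_⟩
      · rw [orderOf_eq' hg₂.1 (by rw [e2]; norm_num), e2]
      · rw [orderOf_eq' hg₁.1 (by rw [e1]; norm_num), e1]
  · exfalso
    obtain ⟨g₃, hg₃, hg₃'⟩ := Finset.not_subset.mp h2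
    rw [mem_SF] at hg₃
    rw [Finset.mem_union, not_or] at hg₃'
    have hd13 := H.XF_disjoint ha1 ha hb1 hba hbne hg₁ hg₃ hg₃'.1
    have hd23 := H.XF_disjoint ha1 ha hb1 hba hbne hg₂ hg₃ hg₃'.2
    have hsub : XF g₁ ∪ XF g₂ ∪ XF g₃ ⊆ (Finset.univ : Finset G).erase 1 :=
      Finset.union_subset (Finset.union_subset (XF_subset g₁) (XF_subset g₂)) (XF_subset g₃)
    have hle := Finset.card_le_card hsub
    rw [Finset.card_union_of_disjoint (Finset.disjoint_union_left.mpr ⟨hd13, hd23⟩),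
      Finset.card_union_of_disjoint hd12, Finset.card_erase_of_mem (Finset.mem_univ _),
      Finset.card_univ] at hle
    have k1 := H.card_le_three ha1 ha hg₁
    have k2 := H.card_le_three ha1 ha hg₂
    have k3 := H.card_le_three ha1 ha hg₃
    omega

end FC

end Count

/-- **Main counting theorem.** In a finite group in which every involution has a centralizer
of order `4` and exponent `2` and all involutions are conjugate, either all involutions commute
with a given involution `a`, or the group has order `60` and contains elements of orders `3`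
and `5` inverted by `a`. -/
theorem FC.main (H : FC G) [Finite G] {a : G} (ha1 : a ≠ 1) (ha : a * a = 1) :
    (∀ t : G, t ≠ 1 → t * t = 1 → t * a = a * t) ∨
    (Nat.card G = 60 ∧
      ∃ g₁ g₂ : G, SA a g₁ ∧ SA a g₂ ∧ orderOf g₁ = 3 ∧ orderOf g₂ = 5) := by
  have := Fintype.ofFinite G
  rw [Nat.card_eq_fintype_card]
  exact H.main_fin ha1 ha

/-- Conjugate elements have centralizers of the same order. -/
theorem card_cent_conj (h x : G) :
    Nat.card (Subgroup.centralizer ({h * x * h⁻¹} : Set G)) =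
      Nat.card (Subgroup.centralizer ({x} : Set G)) := by
  have e : Subgroup.centralizer ({h * x * h⁻¹} : Set G) =
      (Subgroup.centralizer ({x} : Set G)).map (MulAut.conj h).toMonoidHom := by
    ext c
    rw [mem_cent, Subgroup.mem_map]
    constructor
    · intro hc
      refine ⟨h⁻¹ * c * h, mem_cent.mpr ?_, ?_⟩
      · calc h⁻¹ * c * h * x = h⁻¹ * (c * (h * x * h⁻¹)) * h := by group
          _ = h⁻¹ * ((h * x * h⁻¹) * c) * h := by rw [hc]
          _ = x * (h⁻¹ * c * h) := by group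
      · simp only [MulEquiv.coe_toMonoidHom, MulAut.conj_apply]; group
    · rintro ⟨d, hd, rfl⟩
      rw [mem_cent] at hd
      simp only [MulEquiv.coe_toMonoidHom, MulAut.conj_apply]
      calc h * d * h⁻¹ * (h * x * h⁻¹) = h * (d * x) * h⁻¹ := by group
        _ = h * (x * d) * h⁻¹ := by rw [hd]
        _ = h * x * h⁻¹ * (h * d * h⁻¹) := by group
  rw [e]
  exact Subgroup.card_map_of_injective (MulAut.conj h).injective

/-- `FC G` from the data at one involution `x` to which all involutions are conjugate. -/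
theorem FC.of_conj {x : G} (hC4 : Nat.card (Subgroup.centralizer ({x} : Set G)) = 4)
    (hCe : ∀ c : G, c * x = x * c → c * c = 1)
    (hconj : ∀ t : G, t ≠ 1 → t * t = 1 → ∃ h : G, h * x * h⁻¹ = t) : FC G where
  sq := by
    intro t c ht1 ht hct
    obtain ⟨h, rfl⟩ := hconj t ht1 ht
    have h1 : (h⁻¹ * c * h) * x = x * (h⁻¹ * c * h) := by
      calc h⁻¹ * c * h * x = h⁻¹ * (c * (h * x * h⁻¹)) * h := by group
        _ = h⁻¹ * ((h * x * h⁻¹) * c) * h := by rw [hct]
        _ = x * (h⁻¹ * c * h) := by group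
    have h2 := hCe _ h1
    have h3 : h⁻¹ * (c * c) * h⁻¹⁻¹ = 1 := by rw [← h2]; group
    exact conj_eq_one_iff.mp h3
  card := by
    intro t ht1 ht
    obtain ⟨h, rfl⟩ := hconj t ht1 ht
    rw [card_cent_conj, hC4]
  conj := by
    intro s t hs1 hs ht1 ht
    obtain ⟨h₁, rfl⟩ := hconj s hs1 hs
    obtain ⟨h₂, rfl⟩ := hconj t ht1 ht
    exact ⟨h₂ * h₁⁻¹, by group⟩

/-- The elements of a subgroup of order `4` containing two distinct non-identity elements
`a, b` with `a * a = 1`. -/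
theorem four_elems [Finite G] {V : Subgroup G} (hV : Nat.card V = 4) {a b : G} (ha : a ∈ V)
    (hb : b ∈ V) (ha1 : a ≠ 1) (hb1 : b ≠ 1) (hbne : b ≠ a) (ha2 : a * a = 1) :
    ∀ v ∈ V, v = 1 ∨ v = a ∨ v = b ∨ v = a * b := by
  classical
  have hsub : (({1, a, b, a * b} : Finset G) : Set G) ⊆ (V : Set G) := by
    intro v hv
    simp only [Finset.coe_insert, Finset.coe_singleton, Set.mem_insert_iff,
      Set.mem_singleton_iff] at hv
    rcases hv with rfl | rfl | rfl | rfl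
    exacts [V.one_mem, ha, hb, V.mul_mem ha hb]
  have n1 : b ≠ a * b := fun h => ha1 (by simpa using h.symm)
  have n2 : a ≠ a * b := fun h => hb1 (by simpa using h.symm)
  have n3 : (1 : G) ≠ a * b := by
    intro h
    apply hbne
    have h3 : b = a⁻¹ := (inv_eq_of_mul_eq_one_right h.symm).symm
    rw [h3, inv_eq_self_of_sq ha2]
  have hcard : ({1, a, b, a * b} : Finset G).card = 4 := by
    rw [Finset.card_insert_of_notMem, Finset.card_insert_of_notMem, Finset.card_pair n1]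
    · simp only [Finset.mem_insert, Finset.mem_singleton, not_or]
      exact ⟨fun h => hbne h.symm, n2⟩
    · simp only [Finset.mem_insert, Finset.mem_singleton, not_or]
      exact ⟨fun h => ha1 h.symm, fun h => hb1 h.symm, n3⟩
  have hV' : (V : Set G).ncard = 4 := hV
  have heq : (({1, a, b, a * b} : Finset G) : Set G) = (V : Set G) := by
    apply Set.eq_of_subset_of_ncard_le hsub _ (Set.toFinite _)
    rw [Set.ncard_coe_finset, hcard, hV']
  intro v hv
  have h3 : v ∈ (({1, a, b, a * b} : Finset G) : Set G) := by rw [heq]; exact hv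
  simpa using h3

/-- In the order-`60` case of `FC.main` the group is simple. -/
theorem FC.eq_bot_or_eq_top (H : FC G) [Finite G] {a : G} (ha1 : a ≠ 1) (ha : a * a = 1)
    (h60 : Nat.card G = 60)
    (hg : ∃ g₁ g₂ : G, SA a g₁ ∧ SA a g₂ ∧ orderOf g₁ = 3 ∧ orderOf g₂ = 5)
    (N : Subgroup G) (hN : N.Normal) : N = ⊥ ∨ N = ⊤ := by
  have hainv := inv_eq_self_of_sq ha
  rcases Nat.even_or_odd (Nat.card N) with hev | hodd
  · right
    have : Fact (Nat.Prime 2) := ⟨Nat.prime_two⟩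
    obtain ⟨u, hu⟩ := exists_prime_orderOf_dvd_card' 2 hev.two_dvd
    have hu' : orderOf (u : G) = 2 := by rw [Subgroup.orderOf_coe]; exact hu
    rw [orderOf_eq_prime_iff] at hu'
    have hu2 : (u : G) * u = 1 := by rw [← pow_two]; exact hu'.1
    have hinv : ∀ t : G, t ≠ 1 → t * t = 1 → t ∈ N := by
      intro t ht1 ht
      obtain ⟨h, rfl⟩ := H.conj u t hu'.2 hu2 ht1 ht
      exact hN.conj_mem _ u.2 h
    have haN : a ∈ N := hinv a ha1 ha
    have hSA : ∀ g : G, SA a g → g ∈ N := by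
      intro g hg
      have hag : a * g * a = g⁻¹ := by have h7 := hg.2.2; rwa [hainv] at h7
      have hsq : a * g * (a * g) = 1 := by rw [← mul_assoc, hag, inv_mul_cancel]
      have hne : a * g ≠ 1 := by
        intro h
        have hga : g = a := by rw [← hainv]; exact (inv_eq_of_mul_eq_one_right h).symm
        exact hg.1 (eq_one_of_odd_of_sq hg.2.1 (by rw [hga]; exact ha))
      have h1 := N.mul_mem haN (hinv _ hne hsq)
      rwa [← mul_assoc, ha, one_mul] at h1
    obtain ⟨g₁, g₂, hg₁, hg₂, ho₁, ho₂⟩ := hg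
    have d3 : 3 ∣ Nat.card N := by
      have h1 := orderOf_dvd_natCard (⟨g₁, hSA g₁ hg₁⟩ : N)
      rwa [Subgroup.orderOf_mk, ho₁] at h1
    have d5 : 5 ∣ Nat.card N := by
      have h1 := orderOf_dvd_natCard (⟨g₂, hSA g₂ hg₂⟩ : N)
      rwa [Subgroup.orderOf_mk, ho₂] at h1
    have d4 : 4 ∣ Nat.card N := by
      rw [← H.card a ha1 ha]
      apply Subgroup.card_dvd_of_le
      intro c hc
      rw [mem_cent] at hc
      by_cases hc1 : c = 1
      · rw [hc1]; exact N.one_mem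
      · exact hinv c hc1 (H.sq a c ha1 ha hc)
    have hle : Nat.card N ≤ Nat.card G := Subgroup.card_le_card_group N
    have hpos : 0 < Nat.card N := Nat.card_pos
    apply Subgroup.eq_top_of_card_eq
    omega
  · left
    have := Fintype.ofFinite G
    obtain ⟨b, hba, hb1, hbne⟩ := H.exists_b ha1 ha
    have hb := H.sq a b ha1 ha hba
    have hinvt : ∀ t : G, t ≠ 1 → t * t = 1 → ∀ k ∈ N, t * k * t⁻¹ = k⁻¹ := by
      intro t ht1 ht
      apply inverts_of_fixed_point_free ht (fun k hk => hN.conj_mem k hk t)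
      intro k hk hfix
      exact eq_one_of_sq_eq_one_of_odd hodd hk (H.sq t k ht1 ht hfix.symm)
    have hab : (a * b) * a = a * (a * b) := by rw [mul_assoc, hba]
    have hab2 := H.sq a (a * b) ha1 ha hab
    have hab1 : a * b ≠ 1 := by
      intro h; apply hbne
      have h3 : b = a⁻¹ := (inv_eq_of_mul_eq_one_right h).symm
      rw [h3, hainv]
    rw [Subgroup.eq_bot_iff_forall]
    intro k hk
    have h1 := hinvt a ha1 ha k hk
    have h2 := hinvt b hb1 hb k hk
    have h3 := hinvt (a * b) hab1 hab2 k hk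
    have h4 : (a * b) * k * (a * b)⁻¹ = k := by
      calc (a * b) * k * (a * b)⁻¹ = a * (b * k * b⁻¹) * a⁻¹ := by group
        _ = a * k⁻¹ * a⁻¹ := by rw [h2]
        _ = (a * k * a⁻¹)⁻¹ := by group
        _ = k := by rw [h1, inv_inv]
    rw [h4] at h3
    exact eq_one_of_sq_eq_one_of_odd hodd hk (mul_eq_one_iff_eq_inv.mpr h3)

end Cfsg.Agent.Lib.helper11.FourCent
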