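import Mathlib

set_option autoImplicit false

namespace Cfsg.Agent.Lib.helper11

open Subgroup

section Basic

variable {G : Type*} [Group G] [Finite G]

/-- A finite simple `p`-group is cyclic. -/
theorem isCyclic_of_simple_pgroup [IsSimpleGroup G] (p : ℕ) [Fact p.Prime] (h : IsPGroup p G) :
    IsCyclic G := by
  have hnt := h.center_nontrivial
  have hc : Subgroup.center G = ⊤ := by
    rcases (inferInstance : (Subgroup.center G).Normal).eq_bot_or_eq_top with h0 | h0
    · exfalso
      exact (Subgroup.nontrivial_iff_ne_bot _).mp hnt h0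
    · exact h0
  letI : CommGroup G := Group.commGroupOfCenterEqTop hc
  exact IsSimpleGroup.isCyclic

/-- Basic facts on a Sylow `p`-subgroup of a finite simple group that is not cyclic. -/
theorem sylow_facts [IsSimpleGroup G] (hG : ¬ IsCyclic G) (p : ℕ) [Fact p.Prime]
    (hp : p ∣ Nat.card G) (P : Sylow p G) :
    (P : Subgroup G) ≠ ⊥ ∧ (P : Subgroup G) ≠ ⊤ ∧ ¬ (P : Subgroup G).Normal ∧
      1 < Nat.card (Sylow p G) ∧ Nat.card G ∣ (Nat.card (Sylow p G)).factorial ∧
      ¬ (normalizer (P : Set G) ≤ centralizer (P : Set G)) := by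
  have hbot : (P : Subgroup G) ≠ ⊥ := P.ne_bot_of_dvd_card hp
  have htop : (P : Subgroup G) ≠ ⊤ := by
    intro h
    apply hG
    apply isCyclic_of_simple_pgroup p
    intro g
    obtain ⟨k, hk⟩ := P.isPGroup' ⟨g, h ▸ Subgroup.mem_top g⟩
    exact ⟨k, congrArg Subtype.val hk⟩
  have hnorm : ¬ (P : Subgroup G).Normal := by
    intro h
    rcases h.eq_bot_or_eq_top with h0 | h0
    · exact hbot h0
    · exact htop h0
  have hcard : 1 < Nat.card (Sylow p G) := by
    by_contra hle
    have h1 : Nat.card (Sylow p G) ≤ 1 := by omega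
    have hss : Subsingleton (Sylow p G) := (Finite.card_le_one_iff_subsingleton).mp h1
    exact hnorm P.normal_of_subsingleton
  refine ⟨hbot, htop, hnorm, hcard, ?_, ?_⟩
  · have hker : (MulAction.toPermHom G (Sylow p G)).ker = ⊥ := by
      rcases (inferInstance : (MulAction.toPermHom G (Sylow p G)).ker.Normal).eq_bot_or_eq_top
        with h0 | h0
      · exact h0
      · exfalso
        have hss : Subsingleton (Sylow p G) := by
          refine ⟨fun Q₁ Q₂ => ?_⟩
          obtain ⟨g, hg⟩ := MulAction.exists_smul_eq G Q₁ Q₂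
          have hgk : g ∈ (MulAction.toPermHom G (Sylow p G)).ker := h0 ▸ Subgroup.mem_top g
          rw [MonoidHom.mem_ker] at hgk
          have := congrArg (fun σ : Equiv.Perm (Sylow p G) => σ Q₁) hgk
          simp only [MulAction.toPermHom_apply, MulAction.toPerm_apply, Equiv.Perm.coe_one,
            id_eq] at this
          rw [← hg, this]
        have h1 : Nat.card (Sylow p G) ≤ 1 := Finite.card_le_one_iff_subsingleton.mpr hss
        omega
    have hinj : Function.Injective (MulAction.toPermHom G (Sylow p G)) :=
      (MonoidHom.ker_eq_bot_iff _).mp hker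
    have := Subgroup.card_dvd_of_injective _ hinj
    rwa [Nat.card_perm] at this
  · intro hNC
    have hcomp := MonoidHom.ker_transferSylow_isComplement' P hNC
    rcases (inferInstance : (MonoidHom.transferSylow P hNC).ker.Normal).eq_bot_or_eq_top
      with h0 | h0
    · rw [h0, isComplement'_bot_left] at hcomp
      exact htop hcomp
    · rw [h0, isComplement'_top_left] at hcomp
      exact hbot hcomp

/-- Order and index of a Sylow `p`-subgroup of a group of order `p ^ k * m` with `p ∤ m`. -/
theorem card_sylow_of_card_eq (p k m : ℕ) [hp : Fact p.Prime] (hpm : ¬ p ∣ m)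
    (hn : Nat.card G = p ^ k * m) (P : Sylow p G) :
    Nat.card P = p ^ k ∧ (P : Subgroup G).index = m := by
  have hm0 : m ≠ 0 := by
    rintro rfl
    exact hpm (dvd_zero p)
  have hPcard : Nat.card P = p ^ k := by
    rw [P.card_eq_multiplicity, hn, Nat.factorization_mul (pow_ne_zero k hp.out.ne_zero) hm0]
    simp [hp.out.factorization_pow, Nat.factorization_eq_zero_of_not_dvd hpm]
  refine ⟨hPcard, ?_⟩
  have h1 := (P : Subgroup G).card_mul_index
  rw [hPcard, hn] at h1
  exact Nat.eq_of_mul_eq_mul_left (pow_pos hp.out.pos k) h1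

/-- Numerical constraints on the number of Sylow `p`-subgroups of a non-cyclic finite simple group
of order `p ^ k * m`, `p ∤ m`. -/
theorem sylow_numeric [IsSimpleGroup G] (hG : ¬ IsCyclic G) (p k m : ℕ) (hp : p.Prime)
    (hk : 0 < k) (hpm : ¬ p ∣ m) (hn : Nat.card G = p ^ k * m) :
    ∃ d, d ∣ m ∧ d % p = 1 ∧ 1 < d ∧ (p ^ k * m) ∣ d.factorial ∧
      (k = 1 → Nat.gcd (m / d) (p - 1) ≠ 1) := by
  haveI : Fact p.Prime := ⟨hp⟩
  have hm0 : m ≠ 0 := by
    rintro rfl
    exact hpm (dvd_zero p)
  have hpdvd : p ∣ Nat.card G := by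
    rw [hn]
    exact Dvd.dvd.mul_right (dvd_pow_self p hk.ne') m
  obtain ⟨P⟩ : Nonempty (Sylow p G) := inferInstance
  obtain ⟨hbot, htop, hnorm, hcard, hfact, hburn⟩ := sylow_facts hG p hpdvd P
  have hPcard : Nat.card P = p ^ k := by
    rw [P.card_eq_multiplicity, hn, Nat.factorization_mul (pow_ne_zero k hp.ne_zero) hm0]
    simp [hp.factorization_pow, Nat.factorization_eq_zero_of_not_dvd hpm]
  have hPidx : (P : Subgroup G).index = m := by
    have h1 := (P : Subgroup G).card_mul_index
    rw [hPcard, hn] at h1
    exact Nat.eq_of_mul_eq_mul_left (pow_pos hp.pos k) h1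
  refine ⟨Nat.card (Sylow p G), ?_, ?_, hcard, ?_, ?_⟩
  · rw [← hPidx]
    exact P.card_dvd_index
  · have h1 := card_sylow_modEq_one p G
    rw [Nat.ModEq, Nat.mod_eq_of_lt hp.one_lt] at h1
    exact h1
  · rw [← hn]
    exact hfact
  · intro hk1 hgcd
    apply hburn
    have hd0 : 0 < Nat.card (Sylow p G) := by omega
    have hrel : (P : Subgroup G).relIndex (normalizer (P : Set G)) = m / Nat.card (Sylow p G) := by
      have h1 := relIndex_mul_index (H := (P : Subgroup G)) (K := normalizer (P : Set G)) le_normalizer
      rw [hPidx, ← P.card_eq_index_normalizer] at h1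
      exact (Nat.div_eq_of_eq_mul_left hd0 h1.symm).symm
    have key := card_dvd_of_injective _
      (QuotientGroup.kerLift_injective (P : Subgroup G).normalizerMonoidHom)
    rw [normalizerMonoidHom_ker, ← index, ← relIndex] at key
    have hcyc : IsCyclic P := by
      rw [hk1, pow_one] at hPcard
      exact isCyclic_of_prime_card hPcard
    rw [hcyc.card_mulAut, hPcard, hk1, pow_one, Nat.totient_prime hp] at key
    have hPabel : (P : Subgroup G) ≤ centralizer (P : Set G) := by
      intro x hx
      rw [mem_centralizer_iff]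
      intro y hy
      have hcomm : ∀ a b : P, a * b = b * a := by
        intro a b
        obtain ⟨g, hg⟩ := hcyc.exists_generator
        obtain ⟨i, rfl⟩ := Subgroup.mem_zpowers_iff.mp (hg a)
        obtain ⟨j, rfl⟩ := Subgroup.mem_zpowers_iff.mp (hg b)
        rw [← zpow_add, ← zpow_add, add_comm]
      exact congrArg Subtype.val (hcomm ⟨y, hy⟩ ⟨x, hx⟩)
    have h2 : (centralizer (P : Set G)).relIndex (normalizer (P : Set G)) ∣
        m / Nat.card (Sylow p G) := by
      rw [← hrel]
      exact relIndex_dvd_of_le_left _ hPabel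
    have h3 : (centralizer (P : Set G)).relIndex (normalizer (P : Set G)) ∣ 1 := by
      rw [← hgcd]
      exact Nat.dvd_gcd h2 key
    exact relIndex_eq_one.mp (Nat.dvd_one.mp h3)

end Basic

section Numeric

/-- Boolean test: there is no admissible number of Sylow `p`-subgroups for the order `p ^ k * m`. -/
def sylowKill (p k m : ℕ) : Bool :=
  (List.range (m + 1)).all fun d =>
    !(decide (d ∣ m) && decide (d % p = 1) && decide (1 < d) &&
      decide (p ^ k * m ∣ d.factorial) &&
      (decide (k ≠ 1) || decide (Nat.gcd (m / d) (p - 1) ≠ 1)))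

theorem card_ne_of_sylowKill {G : Type*} [Group G] [Finite G] [IsSimpleGroup G]
    (hG : ¬ IsCyclic G) (p k m : ℕ) (hp : p.Prime) (hk : 0 < k) (hpm : ¬ p ∣ m)
    (hkill : sylowKill p k m = true) : Nat.card G ≠ p ^ k * m := by
  intro hn
  obtain ⟨d, hd1, hd2, hd3, hd4, hd5⟩ := sylow_numeric hG p k m hp hk hpm hn
  have hm0 : 0 < m := Nat.pos_of_ne_zero (by rintro rfl; exact hpm (dvd_zero p))
  have hdm : d ≤ m := Nat.le_of_dvd hm0 hd1
  unfold sylowKill at hkill
  rw [List.all_eq_true] at hkill
  have := hkill d (List.mem_range.mpr (by omega))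
  simp only [hd1, hd2, hd3, hd4, decide_true, Bool.and_self, Bool.true_and, Bool.not_eq_true',
    Bool.or_eq_false_iff, decide_eq_false_iff_not, not_not] at this
  exact hd5 this.1 this.2

/-- The primes below 100. -/
def smallPrimes : List ℕ :=
  [2, 3, 5, 7, 11, 13, 17, 19, 23, 29, 31, 37, 41, 43, 47, 53, 59, 61, 67, 71, 73, 79, 83, 89, 97]

theorem smallPrimes_prime : ∀ p ∈ smallPrimes, p.Prime := by
  intro p hp
  simp only [smallPrimes, List.mem_cons, List.not_mem_nil, or_false] at hp
  rcases hp with rfl | rfl | rfl | rfl | rfl | rfl | rfl | rfl | rfl | rfl | rfl | rfl | rfl | rfl |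
    rfl | rfl | rfl | rfl | rfl | rfl | rfl | rfl | rfl | rfl | rfl <;> norm_num

/-- Boolean test: Sylow counting (with Burnside's transfer theorem for Sylow subgroups of prime
order) excludes a non-cyclic simple group of order `n`. -/
def orderKill (n : ℕ) : Bool :=
  smallPrimes.any fun p => [1, 2, 3, 4, 5, 6, 7, 8, 9, 10].any fun k =>
    decide (p ^ k ∣ n) && !decide (p ∣ n / p ^ k) && sylowKill p k (n / p ^ k)

theorem card_ne_of_orderKill {G : Type*} [Group G] [Finite G] [IsSimpleGroup G]
    (hG : ¬ IsCyclic G) (n : ℕ) (h : orderKill n = true) : Nat.card G ≠ n := by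
  unfold orderKill at h
  rw [List.any_eq_true] at h
  obtain ⟨p, hp, h⟩ := h
  rw [List.any_eq_true] at h
  obtain ⟨k, hk, h⟩ := h
  simp only [Bool.and_eq_true, decide_eq_true_eq, Bool.not_eq_true', decide_eq_false_iff_not]
    at h
  obtain ⟨⟨h1, h2⟩, h3⟩ := h
  have hk0 : 0 < k := by
    simp only [List.mem_cons, List.not_mem_nil, or_false] at hk
    omega
  have := card_ne_of_sylowKill hG p k (n / p ^ k) (smallPrimes_prime p hp) hk0 h2 h3
  rwa [Nat.mul_div_cancel' h1] at this

theorem orderKill_le_100 : ∀ n ∈ List.range 101, n < 2 ∨ n = 60 ∨ orderKill n = true := by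
  decide +kernel

/-- A non-cyclic finite simple group of order at most 100 has order 60. -/
theorem card_eq_sixty_of_le_hundred {G : Type*} [Group G] [Finite G] [IsSimpleGroup G]
    (hG : ¬ IsCyclic G) (h : Nat.card G ≤ 100) : Nat.card G = 60 := by
  have h2 : 1 < Nat.card G := Finite.one_lt_card
  rcases orderKill_le_100 (Nat.card G) (List.mem_range.mpr (by omega)) with h3 | h3 | h3
  · omega
  · exact h3
  · exact absurd rfl (card_ne_of_orderKill hG _ h3)

end Numeric

section Embedding

variable {G : Type*} [Group G] [Finite G]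

/-- A finite simple group that is commutative is cyclic. -/
theorem isCyclic_of_simple_of_comm [IsSimpleGroup G] (h : ∀ a b : G, a * b = b * a) :
    IsCyclic G := by
  letI : CommGroup G := { (inferInstance : Group G) with mul_comm := h }
  exact IsSimpleGroup.isCyclic

/-- A cyclic finite simple group has prime order. -/
theorem prime_card_of_simple_of_isCyclic [IsSimpleGroup G] (h : IsCyclic G) :
    (Nat.card G).Prime := by
  letI : CommGroup G := IsCyclic.commGroup
  exact IsSimpleGroup.prime_card

/-- A non-cyclic finite simple group acts faithfully on its Sylow `p`-subgroups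
(for `p` dividing the order). -/
theorem toPermHom_sylow_injective [IsSimpleGroup G] (hG : ¬ IsCyclic G) (p : ℕ) [Fact p.Prime]
    (hp : p ∣ Nat.card G) : Function.Injective (MulAction.toPermHom G (Sylow p G)) := by
  obtain ⟨P⟩ : Nonempty (Sylow p G) := inferInstance
  obtain ⟨-, -, -, hcard, -, -⟩ := sylow_facts hG p hp P
  have hker : (MulAction.toPermHom G (Sylow p G)).ker = ⊥ := by
    rcases (inferInstance : (MulAction.toPermHom G (Sylow p G)).ker.Normal).eq_bot_or_eq_top
      with h0 | h0
    · exact h0
    · exfalso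
      have hss : Subsingleton (Sylow p G) := by
        refine ⟨fun Q₁ Q₂ => ?_⟩
        obtain ⟨g, hg⟩ := MulAction.exists_smul_eq G Q₁ Q₂
        have hgk : g ∈ (MulAction.toPermHom G (Sylow p G)).ker := h0 ▸ Subgroup.mem_top g
        rw [MonoidHom.mem_ker] at hgk
        have := congrArg (fun σ : Equiv.Perm (Sylow p G) => σ Q₁) hgk
        simp only [MulAction.toPermHom_apply, MulAction.toPerm_apply, Equiv.Perm.coe_one,
          id_eq] at this
        rw [← hg, this]
      have h1 : Nat.card (Sylow p G) ≤ 1 := Finite.card_le_one_iff_subsingleton.mpr hss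
      omega
  exact (MonoidHom.ker_eq_bot_iff _).mp hker

/-- An injective homomorphism from a non-cyclic finite simple group into a symmetric group
lands in the alternating group. -/
theorem mem_alternatingGroup_of_injective [IsSimpleGroup G] (hG : ¬ IsCyclic G)
    {α : Type*} [Fintype α] [DecidableEq α] (ψ : G →* Equiv.Perm α)
    (hψ : Function.Injective ψ) (g : G) : ψ g ∈ alternatingGroup α := by
  rw [Equiv.Perm.mem_alternatingGroup]
  have hker : (Equiv.Perm.sign.comp ψ).ker = ⊤ := by
    rcases (inferInstance : (Equiv.Perm.sign.comp ψ).ker.Normal).eq_bot_or_eq_top with h0 | h0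
    · exfalso
      apply hG
      apply isCyclic_of_simple_of_comm
      intro a b
      have hinj : Function.Injective (Equiv.Perm.sign.comp ψ) :=
        (MonoidHom.ker_eq_bot_iff _).mp h0
      apply hinj
      rw [map_mul, map_mul, mul_comm]
    · exact h0
  have : g ∈ (Equiv.Perm.sign.comp ψ).ker := hker ▸ Subgroup.mem_top g
  exact this

/-- A non-cyclic finite simple group with an injective homomorphism into `Perm (Fin n)` whose
order is `n!/2` is isomorphic to the alternating group of degree `n`. -/
theorem nonempty_mulEquiv_alternatingGroup_of_injective [IsSimpleGroup G] (hG : ¬ IsCyclic G)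
    (n : ℕ) (ψ : G →* Equiv.Perm (Fin n)) (hψ : Function.Injective ψ)
    (hcard : Nat.card G = Nat.card (alternatingGroup (Fin n))) :
    Nonempty (G ≃* alternatingGroup (Fin n)) := by
  let θ : G →* alternatingGroup (Fin n) :=
    ψ.codRestrict (alternatingGroup (Fin n)) (mem_alternatingGroup_of_injective hG ψ hψ)
  have hθ : Function.Injective θ := by
    intro a b hab
    apply hψ
    exact congrArg Subtype.val hab
  have hbij : Function.Bijective θ :=
    (Nat.bijective_iff_injective_and_card θ).mpr ⟨hθ, hcard⟩
  exact ⟨MulEquiv.ofBijective θ hbij⟩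

/-- A non-cyclic finite simple group of order `n!/2` with a prime `p` for which there are exactly
`n` Sylow `p`-subgroups is isomorphic to the alternating group of degree `n`. -/
theorem nonempty_mulEquiv_alternatingGroup_of_card_sylow [IsSimpleGroup G] (hG : ¬ IsCyclic G)
    (n : ℕ) (p : ℕ) [Fact p.Prime] (hp : p ∣ Nat.card G) (hn : Nat.card (Sylow p G) = n)
    (hcard : Nat.card G = Nat.card (alternatingGroup (Fin n))) :
    Nonempty (G ≃* alternatingGroup (Fin n)) := by
  let e : Sylow p G ≃ Fin n := Finite.equivFinOfCardEq hn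
  let ψ : G →* Equiv.Perm (Fin n) :=
    (e.permCongrHom : Equiv.Perm (Sylow p G) →* Equiv.Perm (Fin n)).comp
      (MulAction.toPermHom G (Sylow p G))
  have hψ : Function.Injective ψ := by
    intro a b hab
    apply toPermHom_sylow_injective hG p hp
    exact e.permCongrHom.injective hab
  exact nonempty_mulEquiv_alternatingGroup_of_injective hG n ψ hψ hcard

/-- **Every simple group of order 60 is isomorphic to `A₅`.** -/
theorem nonempty_mulEquiv_alternatingGroup_five [IsSimpleGroup G] (h : Nat.card G = 60) :
    Nonempty (G ≃* alternatingGroup (Fin 5)) := by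
  have hG : ¬ IsCyclic G := by
    intro hc
    have := prime_card_of_simple_of_isCyclic hc
    rw [h] at this
    norm_num at this
  haveI : Fact (Nat.Prime 2) := ⟨Nat.prime_two⟩
  have h2 : 2 ∣ Nat.card G := by rw [h]; norm_num
  obtain ⟨P⟩ : Nonempty (Sylow 2 G) := inferInstance
  obtain ⟨hbot, htop, hnorm, hcard, hfact, hburn⟩ := sylow_facts hG 2 h2 P
  obtain ⟨hPcard, hPidx⟩ := card_sylow_of_card_eq (G := G) 2 2 15 (by norm_num) (by rw [h]; norm_num) P
  have hdvd : Nat.card (Sylow 2 G) ∣ 15 := hPidx ▸ P.card_dvd_index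
  rw [h] at hfact
  have hn : Nat.card (Sylow 2 G) = 5 := by
    have hle : Nat.card (Sylow 2 G) ≤ 15 := Nat.le_of_dvd (by norm_num) hdvd
    have hne15 : Nat.card (Sylow 2 G) ≠ 15 := by
      intro h15
      apply hburn
      -- the normalizer of `P` is `P`, and `P` is abelian
      have hNidx : (Subgroup.normalizer (P : Set G)).index = 15 := by
        rw [← P.card_eq_index_normalizer, h15]
      have hNcard : Nat.card (Subgroup.normalizer (P : Set G)) = 4 := by
        have h1 := (Subgroup.normalizer (P : Set G)).card_mul_index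
        rw [hNidx, h] at h1
        omega
      have hNP : Subgroup.normalizer (P : Set G) = P := by
        symm
        have hle' : Nat.card (Subgroup.normalizer (P : Set G)) ≤ Nat.card P := by
          rw [hNcard, hPcard]
          norm_num
        exact Subgroup.eq_of_le_of_card_ge Subgroup.le_normalizer hle'
      have hcomm := (IsPGroup.isMulCommutative_of_card_eq_prime_sq (p := 2) hPcard).is_comm.comm
      rw [hNP]
      intro x hx
      rw [Subgroup.mem_centralizer_iff]
      intro y hy
      exact congrArg Subtype.val (hcomm ⟨y, hy⟩ ⟨x, hx⟩)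
    generalize Nat.card (Sylow 2 G) = d at *
    interval_cases d <;> simp_all <;> revert hfact <;> decide
  have hc : Nat.card G = Nat.card (alternatingGroup (Fin 5)) := by
    rw [h, nat_card_alternatingGroup]
    simp [Nat.factorial]
  exact nonempty_mulEquiv_alternatingGroup_of_card_sylow hG 5 2 h2 hn hc

end Embedding

end Cfsg.Agent.Lib.helper11
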