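import Mathlib
import Cfsg.Agent.Lib.helper11.QuadPair
import Cfsg.Agent.Lib.helper46.DicksonMain

/-!
# Quadratic pairs involve `SL₂(p)`

Plumbing lemmas producing sections, and: a group generated by two elements acting quadratically
on an elementary abelian `p`-group (`p` odd), not inducing a `p`-group, has a section isomorphic to
`SL₂(𝔽_p)` (Gorenstein 3.8.1).  Uses the Dickson lemma of `helper46`.
-/

namespace Cfsg.Agent.Lib.helper11.QuadPair

open scoped commutatorElement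
open Cfsg.Agent.Lib.helper46

universe u

/-- A surjection from a subgroup `K` gives a section of the ambient group. -/
theorem exists_section_of_surjective {G : Type*} [Group G] (K : Subgroup G) {S : Type*} [Group S]
    (ψ : ↥K →* S) (hψ : Function.Surjective ψ) :
    ∃ (L : Subgroup G) (_ : (L.subgroupOf K).Normal),
      Nonempty ((↥K ⧸ L.subgroupOf K) ≃* S) := by
  have e : (ψ.ker.map K.subtype).subgroupOf K = ψ.ker :=
    Subgroup.comap_map_eq_self_of_injective (Subgroup.subtype_injective K) ψ.ker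
  have hL : ((ψ.ker.map K.subtype).subgroupOf K).Normal := by rw [e]; infer_instance
  exact ⟨ψ.ker.map K.subtype, hL,
    ⟨(QuotientGroup.quotientMulEquivOfEq e).trans
      (QuotientGroup.quotientKerEquivOfSurjective ψ hψ)⟩⟩

/-- If `f : H₀ →* M` and an injective `φ : S →* M` has range inside the range of `f`, then
`S` is (isomorphic to) a section `K / L` with `K ≤ H₀`. -/
theorem exists_section_of_hom {G : Type*} [Group G] (H0 : Subgroup G) {M S : Type*} [Group M]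
    [Group S] (f : ↥H0 →* M) (φ : S →* M) (hφ : Function.Injective φ) (hr : φ.range ≤ f.range) :
    ∃ (K L : Subgroup G) (_ : (L.subgroupOf K).Normal),
      K ≤ H0 ∧ Nonempty ((↥K ⧸ L.subgroupOf K) ≃* S) := by
  let K₀ : Subgroup ↥H0 := φ.range.comap f
  let e₀ : ↥K₀ ≃* ↥(K₀.map H0.subtype) :=
    K₀.equivMapOfInjective H0.subtype (Subgroup.subtype_injective H0)
  let g₀ : ↥K₀ →* ↥φ.range := (f.comp K₀.subtype).codRestrict φ.range (fun k => k.2)
  let φe : S ≃* ↥φ.range := MonoidHom.ofInjective hφ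
  let ψ : ↥(K₀.map H0.subtype) →* S :=
    (φe.symm.toMonoidHom.comp g₀).comp e₀.symm.toMonoidHom
  have hψ : Function.Surjective ψ := by
    intro s
    obtain ⟨h0, hh0⟩ := hr ⟨s, rfl⟩
    have hk : h0 ∈ K₀ := by
      show f h0 ∈ φ.range
      rw [hh0]; exact ⟨s, rfl⟩
    refine ⟨e₀ ⟨h0, hk⟩, ?_⟩
    show φe.symm (g₀ (e₀.symm (e₀ ⟨h0, hk⟩))) = s
    rw [MulEquiv.symm_apply_apply, MulEquiv.symm_apply_eq]
    apply Subtype.ext
    show f h0 = φ s
    exact hh0
  obtain ⟨L, hL, hiso⟩ := exists_section_of_surjective (K₀.map H0.subtype) ψ hψ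
  exact ⟨K₀.map H0.subtype, L, hL, Subgroup.map_subtype_le K₀, hiso⟩

/-- A subgroup of `SL₂(E)` (`E` a finite field of odd characteristic `p`) containing
`[[1,t],[0,1]]`, `t ≠ 0`, and `[[1,0],[1,1]]` contains the image of an injective homomorphism from
`SL₂(𝔽_p)`. -/
theorem exists_sl2p_hom_of_mem {E : Type*} [Field E] [Fintype E] {p : ℕ} [Fact p.Prime]
    [CharP E p] (hp2 : p ≠ 2) (R : Subgroup (Matrix.SpecialLinearGroup (Fin 2) E)) (t : E)
    (ht : t ≠ 0) (hx : ∃ g ∈ R, (g : Matrix (Fin 2) (Fin 2) E) = !![1, t; 0, 1])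
    (hy : ∃ g ∈ R, (g : Matrix (Fin 2) (Fin 2) E) = !![1, 0; 1, 1]) :
    ∃ φ : Matrix.SpecialLinearGroup (Fin 2) (ZMod p) →* Matrix.SpecialLinearGroup (Fin 2) E,
      Function.Injective φ ∧ φ.range ≤ R := by
  classical
  obtain ⟨ga, hgaR, hga⟩ := hx
  obtain ⟨gb, hgbR, hgb⟩ := hy
  have hga' : ga = dkX t := Subtype.ext (by rw [hga, dkX_coe])
  have hgb' : gb = dkY 1 := Subtype.ext (by rw [hgb, dkY_coe])
  subst hga' hgb'
  let w : Matrix.SpecialLinearGroup (Fin 2) E := mkSL 0 1 (-1) 0 (by ring)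
  have h1 : dkX (1 : E) * w * dkY 1 = w := by
    apply Subtype.ext
    simp only [Matrix.SpecialLinearGroup.coe_mul, dkX_coe, dkY_coe, w, mkSL_coe]
    ext i j
    fin_cases i <;> fin_cases j <;> simp [Matrix.mul_apply, Fin.sum_univ_two]
  have h2 : dkY (-t) * w = w * dkX t := by
    apply Subtype.ext
    simp only [Matrix.SpecialLinearGroup.coe_mul, dkX_coe, dkY_coe, w, mkSL_coe]
    ext i j
    fin_cases i <;> fin_cases j <;> simp [Matrix.mul_apply, Fin.sum_univ_two]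
  let L : Subgroup (Matrix.SpecialLinearGroup (Fin 2) E) :=
    R.comap (MulAut.conj w⁻¹).toMonoidHom
  have hmemL : ∀ g, g ∈ L ↔ w⁻¹ * g * w ∈ R := by
    intro g
    show w⁻¹ * g * w⁻¹⁻¹ ∈ R ↔ _
    rw [inv_inv]
  have hxL : dkX (1 : E) ∈ L := by
    rw [hmemL]
    have : w⁻¹ * dkX 1 * w = (dkY (1 : E))⁻¹ := by
      rw [eq_inv_iff_mul_eq_one, mul_assoc, mul_assoc, ← mul_assoc (dkX 1), h1, inv_mul_cancel]
    rw [this]
    exact inv_mem hgbR
  have hyL : dkY (-t) ∈ L := by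
    rw [hmemL]
    have : w⁻¹ * dkY (-t) * w = dkX t := by
      rw [mul_assoc, h2, ← mul_assoc, inv_mul_cancel, one_mul]
    rw [this]
    exact hgaR
  obtain ⟨A, hA⟩ := dk_contains_SL2p p hp2 L hxL (-t) (neg_ne_zero.mpr ht) hyL
  refine ⟨(MulAut.conj (w⁻¹ * A)).toMonoidHom.comp
    (Matrix.SpecialLinearGroup.map (ZMod.castHom (dvd_refl p) E)), ?_, ?_⟩
  · intro a b hab
    have := (MulAut.conj (w⁻¹ * A)).injective hab
    exact sl_map_injective (ZMod.castHom (dvd_refl p) E) this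
  · rintro _ ⟨h, rfl⟩
    have h3 := (hmemL _).mp (hA h)
    have h4 : (MulAut.conj (w⁻¹ * A)).toMonoidHom.comp
        (Matrix.SpecialLinearGroup.map (ZMod.castHom (dvd_refl p) E)) h =
        w⁻¹ * (A * Matrix.SpecialLinearGroup.map (ZMod.castHom (dvd_refl p) E) h * A⁻¹) * w := by
      show w⁻¹ * A * _ * (w⁻¹ * A)⁻¹ = _
      rw [_root_.mul_inv_rev, inv_inv]
      simp only [mul_assoc]
    rw [h4]
    exact h3

/-- **Quadratic pairs involve `SL₂(p)`** (Gorenstein 3.8.1): `V` an elementary abelian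
`p`-subgroup (`p` odd), `H = ⟨a, b⟩ ≤ N_G(V)`, `a` and `b` quadratic on `V`, and some element of
`H` has no `p`-power centralizing `V`.  Then `H` has a section isomorphic to `SL₂(𝔽_p)`. -/
theorem exists_sl2p_section_of_quadratic_pair {G : Type u} [Group G] [Finite G] {p : ℕ}
    [Fact p.Prime] (hp2 : p ≠ 2)
    (V H : Subgroup G) (hVc : ∀ x ∈ V, ∀ y ∈ V, x * y = y * x) (hVp : ∀ x ∈ V, x ^ p = 1)
    (hHV : H ≤ Subgroup.normalizer (V : Set G)) (a b : G) (haH : a ∈ H) (hbH : b ∈ H)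
    (hgen : Subgroup.closure {a, b} = H)
    (hqa : ⁅⁅V, Subgroup.zpowers a⁆, Subgroup.zpowers a⁆ = ⊥)
    (hqb : ⁅⁅V, Subgroup.zpowers b⁆, Subgroup.zpowers b⁆ = ⊥)
    (hnp : ∃ h ∈ H, ∀ k : ℕ, h ^ (p ^ k) ∉ Subgroup.centralizer (V : Set G)) :
    ∃ (K L : Subgroup G) (_ : (L.subgroupOf K).Normal),
      K ≤ H ∧ Nonempty ((↥K ⧸ L.subgroupOf K) ≃* Matrix.SpecialLinearGroup (Fin 2) (ZMod p)) := by
  obtain ⟨E, i1, i2, i3, t, f, ht, hfa, hfb, -⟩ :=
    exists_sl2_hom_of_subgroup V H hVc hVp hHV a b haH hbH hgen hqa hqb hnp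
  obtain ⟨φ, hφ, hr⟩ := exists_sl2p_hom_of_mem hp2 f.range t ht
    ⟨_, ⟨_, rfl⟩, hfa⟩ ⟨_, ⟨_, rfl⟩, hfb⟩
  exact exists_section_of_hom H f φ hφ hr

end Cfsg.Agent.Lib.helper11.QuadPair
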