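import Mathlib
import Cfsg.Agent.Lib.helper87.BG1430Asm
import Cfsg.Agent.Lib.helper60.BGCentU

/-!
# `T3Hyp M` from one complement

All complements of `M_σ` in `M` are conjugate under `M` (Hall), and the three clauses of
`T3Hyp` are invariant under conjugation by elements of `M`; so it suffices to establish them
for a single complement.
-/

set_option autoImplicit false
open Cfsg

namespace Cfsg.Agent.Lib.helper11

open Cfsg.Agent.Lib.helper60.BGCentU

/-- Two complements of `M_σ` in `M` are conjugate under `M`. -/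
theorem compl_sigmaCore_conj {G : Type*} [Group G] [Finite G] (hG : Cfsg.IsMinSimpleOddOrder G)
    (M : Subgroup G) (hM : IsCoatom M) (E₀ E : Subgroup G)
    (hE₀ : Cfsg.IsComplIn E₀ (Cfsg.sigmaCore M) M) (hE : Cfsg.IsComplIn E (Cfsg.sigmaCore M) M) :
    ∃ g ∈ M, E = E₀.map (MulAut.conj g).toMonoidHom := by
  obtain ⟨hodd, hsimple, hna, hsolv⟩ := id hG
  have hsolvM : Group.IsSolvable ↥M := hsolv M hM.1
  obtain ⟨hH1, -, -⟩ := Cfsg.Agent.S1350.result hG M hM
  have hcard : Nat.card E₀ * Nat.card (sigmaCore M) = Nat.card M := card_of_isComplIn hE₀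
  have hcard' : Nat.card E * Nat.card (sigmaCore M) = Nat.card M := card_of_isComplIn hE
  have hE₀M : E₀ ≤ M := hE₀.1
  have hEM : E ≤ M := hE.1
  have hσM : sigmaCore M ≤ M := hE₀.2.1
  have hcEE : Nat.card E = Nat.card E₀ := by
    have h1 : Nat.card E * Nat.card (sigmaCore M) = Nat.card E₀ * Nat.card (sigmaCore M) := by
      rw [hcard, hcard']
    exact Nat.eq_of_mul_eq_mul_right Nat.card_pos h1
  have hrel1 : (sigmaCore M).relIndex M = Nat.card E₀ := by
    have h1 := Cfsg.Agent.Lib.helper13.relIndex_mul_card_of_le hσM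
    rw [← hcard] at h1
    exact Nat.eq_of_mul_eq_mul_right Nat.card_pos h1
  have hrel2 : E₀.relIndex M = Nat.card (sigmaCore M) := by
    have h1 := Cfsg.Agent.Lib.helper13.relIndex_mul_card_of_le hE₀M
    rw [← hcard, mul_comm (Nat.card E₀)] at h1
    exact Nat.eq_of_mul_eq_mul_right Nat.card_pos h1
  have hcE : Nat.card (E₀.subgroupOf M) = Nat.card E₀ :=
    Nat.card_congr (Subgroup.subgroupOfEquivOfLe hE₀M).toEquiv
  have hcX : Nat.card (E.subgroupOf M) = Nat.card E :=
    Nat.card_congr (Subgroup.subgroupOfEquivOfLe hEM).toEquiv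
  have hHall : Cfsg.IsPiHall (sigma M)ᶜ (E₀.subgroupOf M) := by
    refine ⟨?_, ?_⟩
    · intro p hp hpd hpσ
      rw [hcE, ← hrel1] at hpd
      exact hH1.2.2 p hp hpσ hpd
    · intro p hp hpσ hpd
      apply hpσ
      apply hH1.2.1 p hp
      rw [← hrel2]
      exact hpd
  have hXπ : Cfsg.IsPiSubgroup (sigma M)ᶜ (E.subgroupOf M) := by
    intro p hp hpd hpσ
    rw [hcX, hcEE, ← hrel1] at hpd
    exact hH1.2.2 p hp hpσ hpd
  obtain ⟨g, hg⟩ := Cfsg.Agent.Lib.lead.le_conj_isPiHall_of_isSolvable hHall hXπ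
  refine ⟨(g : G), g.2, ?_⟩
  have hle : E ≤ E₀.map (MulAut.conj (g : G)).toMonoidHom := by
    intro x hx
    have hx' : (⟨x, hEM hx⟩ : ↥M) ∈ E.subgroupOf M := Subgroup.mem_subgroupOf.mpr hx
    obtain ⟨e, he, hee⟩ := hg hx'
    refine ⟨(e : G), Subgroup.mem_subgroupOf.mp he, ?_⟩
    have := congrArg Subtype.val hee
    exact this
  have hcmap : Nat.card (E₀.map (MulAut.conj (g : G)).toMonoidHom) = Nat.card E₀ :=
    Subgroup.card_map_of_injective (MulAut.conj (g : G)).injective
  have hfin : (E₀.map (MulAut.conj (g : G)).toMonoidHom : Set G).Finite := Set.toFinite _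
  apply SetLike.coe_injective
  apply Set.eq_of_subset_of_ncard_le hle _ hfin
  show Nat.card (E₀.map (MulAut.conj (g : G)).toMonoidHom) ≤ Nat.card E
  rw [hcmap, hcEE]

/-- The clauses of `T3Hyp M` for one complement give them for all complements. -/
theorem t3hyp_of_one_compl {G : Type*} [Group G] [Finite G] (hG : Cfsg.IsMinSimpleOddOrder G)
    (M : Subgroup G) (hM : IsCoatom M) (E₀ : Subgroup G)
    (hE₀ : Cfsg.IsComplIn E₀ (Cfsg.sigmaCore M) M)
    (h : (∀ q : ℕ, q.Prime → q ∣ Nat.card E₀ → q ∈ Cfsg.kappa M) ∧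
      (∀ X : Subgroup G, X ≤ E₀ → (Nat.card X).Prime →
        E₀ ≤ Subgroup.normalizer (X : Set G)) ∧
      ∀ x ∈ E₀, x ≠ 1 → Cfsg.sigmaCore M ⊓ Subgroup.centralizer ({x} : Set G) =
        Cfsg.sigmaCore M ⊓ Subgroup.centralizer (E₀ : Set G)) :
    Cfsg.Agent.Lib.helper87.BG142.T3Hyp M := by
  intro E hE
  obtain ⟨g, hgM, rfl⟩ := compl_sigmaCore_conj hG M hM E₀ E hE₀ hE
  obtain ⟨h1, h2, h3⟩ := h
  have hgN := Cfsg.Agent.Lib.helper13.le_normalizer_sigmaCore M hgM
  rw [Subgroup.mem_normalizer_iff] at hgN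
  have hcmap : Nat.card (E₀.map (MulAut.conj g).toMonoidHom) = Nat.card E₀ :=
    Subgroup.card_map_of_injective (MulAut.conj g).injective
  refine ⟨?_, ?_, ?_⟩
  · intro q hq hqd
    rw [hcmap] at hqd
    exact h1 q hq hqd
  · intro X hX hXp
    -- `X' = g⁻¹ X g ≤ E₀`
    have hX' : X.map (MulAut.conj g⁻¹).toMonoidHom ≤ E₀ := by
      rintro _ ⟨x, hx, rfl⟩
      obtain ⟨e, he, hee⟩ := hX hx
      have : (MulAut.conj g⁻¹).toMonoidHom x = e := by
        rw [← hee]
        simp [MulAut.conj_apply, mul_assoc]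
      rw [this]; exact he
    have hX'c : Nat.card (X.map (MulAut.conj g⁻¹).toMonoidHom) = Nat.card X :=
      Subgroup.card_map_of_injective (MulAut.conj g⁻¹).injective
    have hN := h2 _ hX' (by rw [hX'c]; exact hXp)
    rintro _ ⟨e, he, rfl⟩
    have heN := hN he
    rw [Subgroup.mem_normalizer_iff] at heN ⊢
    intro y
    have key := heN (g⁻¹ * y * g)
    have e1 : g⁻¹ * y * g ∈ X.map (MulAut.conj g⁻¹).toMonoidHom ↔ y ∈ X := by
      constructor
      · rintro ⟨x, hx, hxe⟩
        have : x = y := by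
          have hxe' : g⁻¹ * x * g⁻¹⁻¹ = g⁻¹ * y * g := hxe
          rw [inv_inv] at hxe'
          exact mul_left_cancel (mul_right_cancel hxe')
        rw [← this]; exact hx
      · intro hy
        exact ⟨y, hy, by simp⟩
    have e2 : e * (g⁻¹ * y * g) * e⁻¹ ∈ X.map (MulAut.conj g⁻¹).toMonoidHom ↔
        (MulAut.conj g).toMonoidHom e * y * ((MulAut.conj g).toMonoidHom e)⁻¹ ∈ X := by
      constructor
      · rintro ⟨x, hx, hxe⟩
        have hxe' : g⁻¹ * x * g⁻¹⁻¹ = e * (g⁻¹ * y * g) * e⁻¹ := hxe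
        rw [inv_inv] at hxe'
        have : (MulAut.conj g).toMonoidHom e * y * ((MulAut.conj g).toMonoidHom e)⁻¹ = x := by
          have h5 : x = g * (g⁻¹ * x * g) * g⁻¹ := by group
          rw [h5, hxe']
          simp [MulAut.conj_apply, mul_assoc]
        rw [this]; exact hx
      · intro hy
        refine ⟨_, hy, ?_⟩
        simp [MulAut.conj_apply, mul_assoc]
    rw [← e1, key, e2]
  · intro x hx hx1
    obtain ⟨e, he, rfl⟩ := hx
    have he1 : e ≠ 1 := by
      rintro rfl
      exact hx1 (map_one _)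
    have h3e := h3 e he he1
    ext c
    -- conjugate back
    have hc1 : c ∈ sigmaCore M ↔ g⁻¹ * c * g ∈ sigmaCore M := by
      rw [hgN (g⁻¹ * c * g)]
      have : g * (g⁻¹ * c * g) * g⁻¹ = c := by group
      rw [this]
    have hc2 : c ∈ Subgroup.centralizer ({(MulAut.conj g).toMonoidHom e} : Set G) ↔
        g⁻¹ * c * g ∈ Subgroup.centralizer ({e} : Set G) := by
      rw [Subgroup.mem_centralizer_iff, Subgroup.mem_centralizer_iff]
      constructor
      · intro hc y hy
        rw [Set.mem_singleton_iff] at hy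
        subst hy
        have := hc _ (Set.mem_singleton _)
        have h5 : g * y * g⁻¹ * c = c * (g * y * g⁻¹) := this
        calc y * (g⁻¹ * c * g) = g⁻¹ * (g * y * g⁻¹ * c) * g := by group
          _ = g⁻¹ * (c * (g * y * g⁻¹)) * g := by rw [h5]
          _ = g⁻¹ * c * g * y := by group
      · intro hc y hy
        rw [Set.mem_singleton_iff] at hy
        subst hy
        have h5 := hc e (Set.mem_singleton _)
        show g * e * g⁻¹ * c = c * (g * e * g⁻¹)
        calc g * e * g⁻¹ * c = g * (e * (g⁻¹ * c * g)) * g⁻¹ := by group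
          _ = g * (g⁻¹ * c * g * e) * g⁻¹ := by rw [h5]
          _ = c * (g * e * g⁻¹) := by group
    have hc3 : c ∈ Subgroup.centralizer ((E₀.map (MulAut.conj g).toMonoidHom : Subgroup G) : Set G) ↔
        g⁻¹ * c * g ∈ Subgroup.centralizer (E₀ : Set G) := by
      rw [Subgroup.mem_centralizer_iff, Subgroup.mem_centralizer_iff]
      constructor
      · intro hc y hy
        have h5 : g * y * g⁻¹ * c = c * (g * y * g⁻¹) := hc _ ⟨y, hy, rfl⟩
        calc y * (g⁻¹ * c * g) = g⁻¹ * (g * y * g⁻¹ * c) * g := by group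
          _ = g⁻¹ * (c * (g * y * g⁻¹)) * g := by rw [h5]
          _ = g⁻¹ * c * g * y := by group
      · rintro hc _ ⟨y, hy, rfl⟩
        have h5 := hc y hy
        show g * y * g⁻¹ * c = c * (g * y * g⁻¹)
        calc g * y * g⁻¹ * c = g * (y * (g⁻¹ * c * g)) * g⁻¹ := by group
          _ = g * (g⁻¹ * c * g * y) * g⁻¹ := by rw [h5]
          _ = c * (g * y * g⁻¹) := by group
    rw [Subgroup.mem_inf, Subgroup.mem_inf, hc1, hc2, hc3, ← Subgroup.mem_inf, ← Subgroup.mem_inf,
      h3e]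

end Cfsg.Agent.Lib.helper11
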