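import Mathlib
import Cfsg.Prelude.Def_OddOrderLocal

/-!
# S1373 from the frozen rows S1366, S1354, S1351, S1352, S1369 and "LEMMA P"

If `M = K U M_σ` with `K ≠ 1` and `U = 1`, then `K* = M_σ ∩ C_G(K)` has prime order: the partner
`M*` has `K*` as a (cyclic) Hall `κ(M*)`-subgroup and a nontrivial `U*`, and a Hall `κ`-subgroup
with a nontrivial complement `U*` has prime order.
-/

set_option autoImplicit false
open Cfsg

namespace Cfsg.Agent.Lib.helper11

/-- S1373 from the statements of S1366 (existence), S1354, S1351, S1352, S1369 (first clause) and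
the "prime order" lemma for Hall `κ`-subgroups with a nontrivial complement. -/
theorem s1373_of_hyps {G : Type*} [Group G] [Finite G]
    (h66 : ∀ (M : Subgroup G), IsCoatom M → ∀ (K U : Subgroup G), IsSigmaDecomposition M K U →
      K ≠ ⊥ → ∃ Mstar : Subgroup G, IsCoatom Mstar ∧
        K = sigmaCore Mstar ⊓ Subgroup.centralizer
          ((sigmaCore M ⊓ Subgroup.centralizer (K : Set G) : Subgroup G) : Set G) ∧
        IsPiHallOf (kappa Mstar) (sigmaCore M ⊓ Subgroup.centralizer (K : Set G)) Mstar)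
    (h54 : ∀ (M : Subgroup G), IsCoatom M → ∀ (K : Subgroup G), IsCyclic K →
      IsPiHallOf (kappa M) K M → sigmaCore M ⊓ Subgroup.centralizer (K : Set G) ≠ ⊥)
    (h51 : ∀ (M : Subgroup G), IsCoatom M → ∀ K : Subgroup G, IsPiHallOf (kappa M) K M →
      IsCyclic K)
    (h52 : ∀ (M : Subgroup G), IsCoatom M → ∀ (K : Subgroup G), IsCyclic K →
      IsPiHallOf (kappa M) K M → ∃ U : Subgroup G, IsSigmaDecomposition M K U)
    (h69 : ∀ (M : Subgroup G), IsCoatom M → ∀ (K U : Subgroup G), IsSigmaDecomposition M K U →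
      K ≠ ⊥ → ∀ (Mstar : Subgroup G), IsCoatom Mstar →
      K = sigmaCore Mstar ⊓ Subgroup.centralizer
          ((sigmaCore M ⊓ Subgroup.centralizer (K : Set G) : Subgroup G) : Set G) →
      IsPiHallOf (kappa Mstar) (sigmaCore M ⊓ Subgroup.centralizer (K : Set G)) Mstar →
      (U ≠ ⊥ ∨ ∀ Ustar : Subgroup G,
        IsSigmaDecomposition Mstar (sigmaCore M ⊓ Subgroup.centralizer (K : Set G)) Ustar →
          Ustar ≠ ⊥))
    (hP : ∀ (M : Subgroup G), IsCoatom M → ∀ (K : Subgroup G), IsPiHallOf (kappa M) K M →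
      K ≠ ⊥ → ∀ U : Subgroup G, IsComplIn U (K ⊔ sigmaCore M) M →
      K ≤ Subgroup.normalizer (U : Set G) → U ≠ ⊥ → (Nat.card K).Prime)
    (M : Subgroup G) (hM : IsCoatom M) (K U : Subgroup G) (hKU : IsSigmaDecomposition M K U)
    (hK1 : K ≠ ⊥) (hU : U = ⊥) :
    (Nat.card ↥(sigmaCore M ⊓ Subgroup.centralizer (K : Set G))).Prime := by
  obtain ⟨Mstar, hMs, hKst, hKstH⟩ := h66 M hM K U hKU hK1
  have hKs1 := h54 M hM K hKU.cyclic hKU.hall
  have hKsc := h51 Mstar hMs _ hKstH
  obtain ⟨Ustar, hUst⟩ := h52 Mstar hMs _ hKsc hKstH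
  rcases h69 M hM K U hKU hK1 Mstar hMs hKst hKstH with h | h
  · exact absurd hU h
  · exact hP Mstar hMs _ hKstH hKs1 Ustar hUst.compl hUst.normal (h Ustar hUst)

end Cfsg.Agent.Lib.helper11
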