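import Mathlib
import Cfsg.Agent.S1417
import Cfsg.Agent.Lib.helper11.BGT3Wrap
import Cfsg.Agent.Lib.helper98.BGT3End
import Cfsg.Agent.Lib.helper97.BGSeven1

/-!
# `T3Hyp M` from a common nontrivial centralizer on one complement

If all subgroups of prime order of ONE complement `E` of `M_σ` in `M` have the same nontrivial
centralizer `C` in `M_σ`, then `T3Hyp M` holds.  (`τ₂(M) = ∅` follows from S1417(d); the body is
`helper98.BGT3.t3_of_prime_cent`; the passage to all complements is `t3hyp_of_one_compl`.)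
-/

set_option autoImplicit false
open Cfsg

namespace Cfsg.Agent.Lib.helper11

/-- A common nontrivial centralizer on the prime-order subgroups of a complement excludes `τ₂`. -/
theorem tau2_empty_of_common_cent {G : Type*} [Group G] [Finite G]
    (hG : Cfsg.IsMinSimpleOddOrder G) (M : Subgroup G) (hM : IsCoatom M) (E : Subgroup G)
    (hE : Cfsg.IsComplIn E (Cfsg.sigmaCore M) M) (C : Subgroup G) (hC : C ≠ ⊥)
    (h : ∀ X : Subgroup G, X ≤ E → (Nat.card X).Prime →
      Cfsg.sigmaCore M ⊓ Subgroup.centralizer (X : Set G) = C) :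
    ∀ q : ℕ, q ∉ Cfsg.tau2 M := by
  intro q hq
  have hqp : q.Prime := hq.1
  have : Fact q.Prime := ⟨hqp⟩
  obtain ⟨B, hBE, hBe, hBc⟩ := Cfsg.Agent.Lib.helper97.bg7_exists_elemAb_compl M E hE q hq
  obtain ⟨-, -, -, hd, -, -⟩ :=
    Cfsg.Agent.S1417.result hG M hM q hq B ⟨hBE.trans hE.1, hBe, hBc⟩
  -- each nonidentity element of `B` generates a subgroup of order `q`
  have hkey : ∀ b ∈ B, b ≠ 1 → ∀ c ∈ C, c ∈ Cfsg.sigmaCore M ∧ b * c = c * b := by
    intro b hb hb1 c hc
    have hbq : b ^ q = 1 := hBe.2 b hb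
    have hord : orderOf b = q := by
      have hdvd : orderOf b ∣ q := orderOf_dvd_of_pow_eq_one hbq
      rcases (Nat.dvd_prime hqp).mp hdvd with h1 | h1
      · exact absurd (orderOf_eq_one_iff.mp h1) hb1
      · exact h1
    have hX : Nat.card (Subgroup.zpowers b) = q := by rw [Nat.card_zpowers, hord]
    have hXE : Subgroup.zpowers b ≤ E := by
      rw [Subgroup.zpowers_le]; exact hBE hb
    have h1 := h (Subgroup.zpowers b) hXE (hX ▸ hqp)
    rw [← h1, Subgroup.mem_inf] at hc
    refine ⟨hc.1, ?_⟩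
    have h2 := hc.2
    rw [Subgroup.mem_centralizer_iff] at h2
    exact h2 b (Subgroup.mem_zpowers b)
  have hB1 : B ≠ ⊥ := by
    rintro rfl
    rw [Subgroup.card_bot] at hBc
    have : 1 < q ^ 2 := Nat.one_lt_pow (by norm_num) hqp.one_lt
    omega
  obtain ⟨b₀, hb₀, hb₀1⟩ : ∃ b ∈ B, b ≠ 1 := by
    by_contra hcon
    push Not at hcon
    exact hB1 ((Subgroup.eq_bot_iff_forall B).mpr hcon)
  apply hC
  rw [eq_bot_iff, ← hd]
  intro c hc
  rw [Subgroup.mem_inf]
  refine ⟨(hkey b₀ hb₀ hb₀1 c hc).1, ?_⟩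
  rw [Subgroup.mem_centralizer_iff]
  intro b hb
  by_cases hb1 : b = 1
  · subst hb1; simp
  · exact (hkey b hb hb1 c hc).2

/-- (O-c), end piece in the shape announced to helper8: a common nontrivial centralizer `C` of
all prime-order subgroups of one complement `E` gives `T3Hyp M`. -/
theorem t3hyp_of_common_cent {G : Type*} [Group G] [Finite G] (hG : Cfsg.IsMinSimpleOddOrder G)
    (M : Subgroup G) (hM : IsCoatom M) (E : Subgroup G)
    (hE : Cfsg.IsComplIn E (Cfsg.sigmaCore M) M) (C : Subgroup G) (hC : C ≠ ⊥)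
    (h : ∀ X : Subgroup G, X ≤ E → (Nat.card X).Prime →
      Cfsg.sigmaCore M ⊓ Subgroup.centralizer (X : Set G) = C) :
    Cfsg.Agent.Lib.helper87.BG142.T3Hyp M :=
  t3hyp_of_one_compl hG M hM E hE
    (Cfsg.Agent.Lib.helper98.BGT3.t3_of_prime_cent hG M hM E hE
      (tau2_empty_of_common_cent hG M hM E hE C hC h) C hC h)

end Cfsg.Agent.Lib.helper11
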