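import Mathlib
import Cfsg.Agent.Lib.helper81.BLF1
import Cfsg.Agent.Lib.helper81.BLF3
import Cfsg.Agent.Lib.helper21.BLF4

/-!
helper11: S4471 piece FB (`fb_commute`): Frobenius–Blichfeldt contraction for a two-eigenvalue
element of a finite group of unitary matrices.
-/

set_option autoImplicit false

namespace Cfsg.Agent.Lib.helper68.BL

open scoped ComplexConjugate Matrix

universe u

/-- `ν(X) = 0 ⇒ X = 0`. -/
theorem helper11_nu_eq_zero {n : ℕ} (Y : Matrix (Fin n) (Fin n) ℂ)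
    (h0 : ((Yᴴ * Y).trace).re = 0) : Y = 0 := by
  have h : (Yᴴ * Y).trace = ∑ i, ∑ j, ((Complex.normSq (Y j i) : ℝ) : ℂ) := by
    rw [Matrix.trace]
    refine Finset.sum_congr rfl fun i _ => ?_
    rw [Matrix.diag_apply, Matrix.mul_apply]
    refine Finset.sum_congr rfl fun j _ => ?_
    rw [Matrix.conjTranspose_apply, Complex.star_def, Complex.normSq_eq_conj_mul_self]
  rw [h] at h0
  simp only [Complex.re_sum, Complex.ofReal_re] at h0
  have h1 := (Finset.sum_eq_zero_iff_of_nonneg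
    (fun i _ => Finset.sum_nonneg fun j _ => Complex.normSq_nonneg (Y j i))).mp h0
  ext j i
  have h2 := (Finset.sum_eq_zero_iff_of_nonneg
    (fun j _ => Complex.normSq_nonneg (Y j i))).mp (h1 i (Finset.mem_univ i)) j (Finset.mem_univ j)
  simpa using Complex.normSq_eq_zero.mp h2

/-- right multiplication by a unitary matrix preserves `ν`. -/
theorem helper11_nu_mul_unitary {n : ℕ} (X W : Matrix (Fin n) (Fin n) ℂ) (hW : W * Wᴴ = 1) :
    (((X * W)ᴴ * (X * W)).trace) = ((Xᴴ * X).trace) := by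
  rw [Matrix.conjTranspose_mul, Matrix.mul_assoc, Matrix.trace_mul_comm, Matrix.mul_assoc,
    Matrix.mul_assoc, hW, Matrix.mul_one]

/-- `ν(c X) = |c|² ν(X)`. -/
theorem helper11_nu_smul {n : ℕ} (c : ℂ) (X : Matrix (Fin n) (Fin n) ℂ) :
    (((c • X)ᴴ * (c • X)).trace).re = ‖c‖ ^ 2 * ((Xᴴ * X).trace).re := by
  rw [Matrix.conjTranspose_smul, Matrix.smul_mul, Matrix.mul_smul, smul_smul, Matrix.trace_smul,
    smul_eq_mul]
  have h : star c * c = ((‖c‖ ^ 2 : ℝ) : ℂ) := by
    rw [Complex.star_def, ← Complex.normSq_eq_conj_mul_self, Complex.normSq_eq_norm_sq]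
  rw [h, Complex.re_ofReal_mul]

/-- the adjoint identity for the standard Hermitian form. -/
theorem helper11_adj {n : ℕ} (A : Matrix (Fin n) (Fin n) ℂ) (v w : Fin n → ℂ) :
    star (A *ᵥ v) ⬝ᵥ w = star v ⬝ᵥ (Aᴴ *ᵥ w) := by
  rw [Matrix.star_mulVec, Matrix.dotProduct_mulVec]

/-- unitary matrices are isometries. -/
theorem helper11_isom {n : ℕ} (W : Matrix (Fin n) (Fin n) ℂ) (hW : Wᴴ * W = 1) (w : Fin n → ℂ) :
    star (W *ᵥ w) ⬝ᵥ (W *ᵥ w) = star w ⬝ᵥ w := by
  rw [helper11_adj, Matrix.mulVec_mulVec, hW, Matrix.one_mulVec]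

/-- FB (Frobenius–Blichfeldt for a two-eigenvalue element): in a finite group of unitary matrices, an
element `U z` with `(U z - 1)(U z - ω) = 0`, `|ω| = 1`, `|ω - 1| < 1` commutes with its conjugates. -/
theorem fb_commute {G : Type u} [Group G] [Finite G] {n : ℕ} (U : G →* Matrix (Fin n) (Fin n) ℂ)
    (hU : ∀ g : G, (U g)ᴴ * U g = 1) (z : G) (ω : ℂ) (hω : star ω * ω = 1) (hω1 : ω ≠ 1)
    (hr : ‖ω - 1‖ < 1) (hz : (U z - 1) * (U z - ω • (1 : Matrix (Fin n) (Fin n) ℂ)) = 0) (g : G) :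
    U z * U (g * z * g⁻¹) = U (g * z * g⁻¹) * U z := by
  classical
  have hω0 : ω - 1 ≠ 0 := sub_ne_zero.mpr hω1
  -- inverses
  have hUU : ∀ h : G, U h * (U h)ᴴ = 1 := fun h => mul_eq_one_comm.mp (hU h)
  have hinvl : ∀ h : G, U h⁻¹ * U h = 1 := fun h => by
    rw [← map_mul, inv_mul_cancel, map_one]
  have hinvr : ∀ h : G, U h * U h⁻¹ = 1 := fun h => by
    rw [← map_mul, mul_inv_cancel, map_one]
  have hUinv : ∀ h : G, U h⁻¹ = (U h)ᴴ := by
    intro h
    calc U h⁻¹ = U h⁻¹ * (U h * (U h)ᴴ) := by rw [hUU, mul_one]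
      _ = (U h)ᴴ := by rw [← mul_assoc, hinvl, one_mul]
  -- the idempotent `E`
  obtain ⟨E, hsE, hEdef⟩ : ∃ E : Matrix (Fin n) (Fin n) ℂ, U z = 1 + (ω - 1) • E ∧
      E = (ω - 1)⁻¹ • (U z - 1) := by
    refine ⟨(ω - 1)⁻¹ • (U z - 1), ?_, rfl⟩
    rw [smul_smul, mul_inv_cancel₀ hω0, one_smul]; abel
  have hEE : E * E = E := by
    have e : U z - 1 = (U z - ω • (1 : Matrix (Fin n) (Fin n) ℂ)) + (ω - 1) • (1 : Matrix (Fin n) (Fin n) ℂ) := by
      rw [sub_smul, one_smul]; abel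
    have h1 : (U z - 1) * (U z - 1) = (ω - 1) • (U z - 1) := by
      nth_rewrite 2 [e]
      rw [mul_add, hz, zero_add, Matrix.mul_smul, mul_one]
    rw [hEdef, Matrix.smul_mul, Matrix.mul_smul, h1, smul_smul, smul_smul]
    congr 1
    field_simp
  have hstarω : star ω - 1 ≠ 0 := by
    intro h
    have h1 : star ω = 1 := sub_eq_zero.mp h
    rw [h1, one_mul] at hω
    exact hω1 hω
  have hEh : Eᴴ = E := by
    have hT : U z * (1 + (star ω - 1) • E) = 1 := by
      rw [hsE]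
      have h2 : (1 + (ω - 1) • E) * (1 + (star ω - 1) • E)
          = 1 + ((ω - 1) + (star ω - 1) + (ω - 1) * (star ω - 1)) • E := by
        simp only [mul_add, add_mul, mul_one, one_mul, Matrix.smul_mul, Matrix.mul_smul, smul_smul,
          hEE, add_smul]
        rw [mul_comm (star ω - 1) (ω - 1)]
        abel
      rw [h2]
      have h3 : (ω - 1) + (star ω - 1) + (ω - 1) * (star ω - 1) = 0 := by
        have : (ω - 1) + (star ω - 1) + (ω - 1) * (star ω - 1) = star ω * ω - 1 := by ring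
        rw [this, hω, sub_self]
      rw [h3, zero_smul, add_zero]
    have hsh : (U z)ᴴ = 1 + (star ω - 1) • E := by
      calc (U z)ᴴ = (U z)ᴴ * (U z * (1 + (star ω - 1) • E)) := by rw [hT, mul_one]
        _ = 1 + (star ω - 1) • E := by rw [← mul_assoc, hU, one_mul]
    have hsh2 : (U z)ᴴ = 1 + (star ω - 1) • Eᴴ := by
      rw [hsE, Matrix.conjTranspose_add, Matrix.conjTranspose_one, Matrix.conjTranspose_smul,
        star_sub, star_one]
    have h4 : (star ω - 1) • Eᴴ = (star ω - 1) • E := by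
      have := hsh2.symm.trans hsh
      exact add_left_cancel this
    exact smul_right_injective _ hstarω h4
  -- conjugates of `E`
  have hconjE : ∀ h : G, (U h * E * U h⁻¹) * (U h * E * U h⁻¹) = U h * E * U h⁻¹ := by
    intro h
    calc (U h * E * U h⁻¹) * (U h * E * U h⁻¹)
        = U h * E * (U h⁻¹ * U h) * E * U h⁻¹ := by simp only [mul_assoc]
      _ = U h * E * U h⁻¹ := by rw [hinvl, mul_one, mul_assoc (U h), hEE]
  have hconjH : ∀ h : G, (U h * E * U h⁻¹)ᴴ = U h * E * U h⁻¹ := by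
    intro h
    rw [Matrix.conjTranspose_mul, Matrix.conjTranspose_mul, hEh, hUinv h,
      Matrix.conjTranspose_conjTranspose, mul_assoc]
  have hconjU : ∀ h : G, U (h * z * h⁻¹) = 1 + (ω - 1) • (U h * E * U h⁻¹) := by
    intro h
    rw [map_mul, map_mul, hsE, mul_add, add_mul, mul_one, hinvr, Matrix.mul_smul, Matrix.smul_mul]
  -- the sequence
  obtain ⟨c, hc0, hcs⟩ : ∃ c : ℕ → G, c 0 = g * z * g⁻¹ ∧
      ∀ k, c (k + 1) = z * c k * z⁻¹ * (c k)⁻¹ :=
    ⟨fun k => Nat.rec (g * z * g⁻¹) (fun _ x => z * x * z⁻¹ * x⁻¹) k, rfl, fun _ => rfl⟩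
  -- `U (c (k+1)) = 1` implies that `U z` and `U (c k)` commute
  have hcomm_of : ∀ k, U (c (k + 1)) = 1 → U z * U (c k) = U (c k) * U z := by
    intro k hk
    have h1 : c (k + 1) * (c k * z) = z * c k := by rw [hcs]; group
    have h2 := congrArg U h1
    rw [map_mul, hk, one_mul, map_mul, map_mul] at h2
    exact h2.symm
  -- contraction
  have hq0 : 0 ≤ ‖ω - 1‖ ^ 2 := by positivity
  have hq1 : ‖ω - 1‖ ^ 2 < 1 := by
    have h0 : 0 ≤ ‖ω - 1‖ := norm_nonneg _
    nlinarith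
  have hstep : ∀ k, (((U (c (k + 1)) - 1)ᴴ * (U (c (k + 1)) - 1)).trace).re
      ≤ ‖ω - 1‖ ^ 2 * (((U (c k) - 1)ᴴ * (U (c k) - 1)).trace).re := by
    intro k
    have h1 : U (c (k + 1)) - 1
        = ((ω - 1) • (E * (U (c k) - 1) - (U (c k) - 1) * E)) * U (z⁻¹ * (c k)⁻¹) := by
      have h2 : (ω - 1) • (E * (U (c k) - 1) - (U (c k) - 1) * E)
          = U z * U (c k) - U (c k) * U z := by
        rw [hsE]
        simp only [mul_sub, sub_mul, mul_one, one_mul, mul_add, add_mul, Matrix.smul_mul,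
          Matrix.mul_smul, smul_sub]
        abel
      rw [h2, sub_mul, ← map_mul, ← map_mul, ← map_mul, ← map_mul, hcs]
      have e1 : z * c k * (z⁻¹ * (c k)⁻¹) = z * c k * z⁻¹ * (c k)⁻¹ := by group
      have e2 : c k * z * (z⁻¹ * (c k)⁻¹) = 1 := by group
      rw [e1, e2, map_one]
    rw [h1]
    have h3 := helper11_nu_mul_unitary ((ω - 1) • (E * (U (c k) - 1) - (U (c k) - 1) * E))
      (U (z⁻¹ * (c k)⁻¹)) (hUU _)
    rw [h3, helper11_nu_smul]
    exact mul_le_mul_of_nonneg_left (herm_idem_comm_le E (U (c k) - 1) hEE hEh) hq0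
  have hnn : ∀ k, 0 ≤ (((U (c k) - 1)ᴴ * (U (c k) - 1)).trace).re := fun k =>
    helper81_nu_nonneg _
  -- some `U (c K)` is `1`
  have hK : ∃ K, U (c K) = 1 := by
    have hlt : ∀ i m, (((U (c (i + m + 1)) - 1)ᴴ * (U (c (i + m + 1)) - 1)).trace).re
        ≤ ‖ω - 1‖ ^ 2 * (((U (c i) - 1)ᴴ * (U (c i) - 1)).trace).re := by
      intro i m
      induction m with
      | zero => exact hstep i
      | succ m ih =>
        have h1 := hstep (i + m + 1)
        have h2 := hnn (i + m + 1)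
        have h3 : i + (m + 1) + 1 = i + m + 1 + 1 := by ring
        rw [h3]
        nlinarith
    have hzero : ∀ i j, i < j → c i = c j → U (c i) = 1 := by
      intro i j hij hcij
      obtain ⟨m, rfl⟩ : ∃ m, j = i + m + 1 := ⟨j - i - 1, by omega⟩
      have h1 := hlt i m
      rw [← hcij] at h1
      have h2 := hnn i
      have h3 : (((U (c i) - 1)ᴴ * (U (c i) - 1)).trace).re = 0 := by nlinarith
      exact sub_eq_zero.mp (helper11_nu_eq_zero _ h3)
    obtain ⟨i, j, hij, hcij⟩ := Finite.exists_ne_map_eq_of_infinite c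
    rcases Nat.lt_or_gt_of_ne hij with h | h
    · exact ⟨i, hzero i j h hcij⟩
    · exact ⟨j, hzero j i h hcij.symm⟩
  -- descent
  have hdesc : ∀ k, U (c (k + 2)) = 1 → U (c (k + 1)) = 1 := by
    intro k hk
    have hsc := hcomm_of (k + 1) hk
    -- `c (k+1) = z * d⁻¹`, `d = c k * z * (c k)⁻¹`
    have hd : c (k + 1) = z * (c k * z * (c k)⁻¹)⁻¹ := by rw [hcs]; group
    have hUd := hconjU (c k)
    have hdinvl : U (c k * z * (c k)⁻¹)⁻¹ * U (c k * z * (c k)⁻¹) = 1 := hinvl _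
    have hdinvr : U (c k * z * (c k)⁻¹) * U (c k * z * (c k)⁻¹)⁻¹ = 1 := hinvr _
    rw [hd, map_mul] at hsc
    -- `U z` commutes with `U d⁻¹`
    have h1 : U z * U (c k * z * (c k)⁻¹)⁻¹ = U (c k * z * (c k)⁻¹)⁻¹ * U z := by
      have := congrArg (fun X => U z⁻¹ * X) hsc
      simp only [← mul_assoc, hinvl, one_mul] at this
      exact this
    -- `U z` commutes with `U d`
    have h2 : U (c k * z * (c k)⁻¹) * U z = U z * U (c k * z * (c k)⁻¹) := by
      have hgen : ∀ D D' S : Matrix (Fin n) (Fin n) ℂ, D' * D = 1 → D * D' = 1 →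
          S * D' = D' * S → D * S = S * D := by
        intro D D' S hl hr' hcm
        calc D * S = D * (S * (D' * D)) := by rw [hl, mul_one]
          _ = D * (S * D') * D := by simp only [mul_assoc]
          _ = D * (D' * S) * D := by rw [hcm]
          _ = (D * D') * S * D := by simp only [mul_assoc]
          _ = S * D := by rw [hr', one_mul]
      exact hgen _ _ _ hdinvl hdinvr h1
    -- the idempotents commute
    have h3 : E * (U (c k) * E * U (c k)⁻¹) = (U (c k) * E * U (c k)⁻¹) * E := by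
      rw [hUd, hsE] at h2
      simp only [mul_add, add_mul, mul_one, one_mul, Matrix.smul_mul, Matrix.mul_smul,
        smul_smul] at h2
      have h4 : ((ω - 1) * (ω - 1)) • (E * (U (c k) * E * U (c k)⁻¹))
          = ((ω - 1) * (ω - 1)) • ((U (c k) * E * U (c k)⁻¹) * E) := by
        have h5 := sub_eq_zero.mpr h2.symm
        have h6 : ((ω - 1) * (ω - 1)) • (E * (U (c k) * E * U (c k)⁻¹))
            - ((ω - 1) * (ω - 1)) • ((U (c k) * E * U (c k)⁻¹) * E) = 0 := by
          rw [← h5]; abel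
        exact sub_eq_zero.mp h6
      exact smul_right_injective _ (mul_ne_zero hω0 hω0) h4
    -- the hypothesis of F4
    have hstar : ∀ w : Fin n → ℂ, E *ᵥ w = w → E *ᵥ (U (c k) *ᵥ w) = 0 → w = 0 := by
      intro w hw hu
      have hnorm : star (U (c k) *ᵥ w) ⬝ᵥ (U (c k) *ᵥ w) = star w ⬝ᵥ w :=
        helper11_isom _ (hU _) w
      cases k with
      | zero =>
        have hy : U (c 0) = 1 + (ω - 1) • (U g * E * U g⁻¹) := by rw [hc0]; exact hconjU g
        have horth : star w ⬝ᵥ (U (c 0) *ᵥ w) = 0 := by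
          nth_rewrite 1 [← hw]
          rw [helper11_adj, hEh, hu, dotProduct_zero]
        have hdiff : U (c 0) *ᵥ w - w = (ω - 1) • ((U g * E * U g⁻¹) *ᵥ w) := by
          rw [hy, Matrix.add_mulVec, Matrix.one_mulVec, Matrix.smul_mulVec, add_sub_cancel_left]
        exact orth_vec_zero (U g * E * U g⁻¹) (hconjE g) (hconjH g) w (U (c 0) *ᵥ w) horth hnorm
          (ω - 1) hr hdiff
      | succ k' =>
        have hd' : c (k' + 1) = z * (c k' * z * (c k')⁻¹)⁻¹ := by rw [hcs]; group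
        have hUd' := hconjU (c k')
        -- `U z u = u`
        have hsu : U z *ᵥ (U (c (k' + 1)) *ᵥ w) = U (c (k' + 1)) *ᵥ w := by
          rw [hsE, Matrix.add_mulVec, Matrix.one_mulVec, Matrix.smul_mulVec, hu, smul_zero,
            add_zero]
        -- `u = U d⁻¹ w`
        have hu2 : U (c (k' + 1)) *ᵥ w = U (c k' * z * (c k')⁻¹)⁻¹ *ᵥ w := by
          have h5 : U z⁻¹ *ᵥ (U z *ᵥ (U (c (k' + 1)) *ᵥ w)) = U (c (k' + 1)) *ᵥ w := by
            rw [Matrix.mulVec_mulVec, hinvl, Matrix.one_mulVec]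
          rw [hsu] at h5
          rw [← h5, Matrix.mulVec_mulVec, ← map_mul, hd']
          congr 2
          group
        -- `w = U d u`
        have hw2 : U (c k' * z * (c k')⁻¹) *ᵥ (U (c (k' + 1)) *ᵥ w) = w := by
          rw [hu2, Matrix.mulVec_mulVec, hinvr, Matrix.one_mulVec]
        have horth : star (U (c (k' + 1)) *ᵥ w) ⬝ᵥ w = 0 := by
          nth_rewrite 2 [← hw]
          have h6 := helper11_adj E (U (c (k' + 1)) *ᵥ w) w
          rw [hEh, hu, star_zero, zero_dotProduct] at h6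
          exact h6.symm
        have hdiff : w - U (c (k' + 1)) *ᵥ w
            = (ω - 1) • ((U (c k') * E * U (c k')⁻¹) *ᵥ (U (c (k' + 1)) *ᵥ w)) := by
          nth_rewrite 1 [← hw2]
          rw [hUd', Matrix.add_mulVec, Matrix.one_mulVec, Matrix.smul_mulVec,
            add_sub_cancel_left]
        have hu0 : U (c (k' + 1)) *ᵥ w = 0 :=
          orth_vec_zero (U (c k') * E * U (c k')⁻¹) (hconjE _) (hconjH _)
            (U (c (k' + 1)) *ᵥ w) w horth hnorm.symm (ω - 1) hr hdiff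
        rw [← hw2, hu0, Matrix.mulVec_zero]
    have hEE' : U (c k) * E * U (c k)⁻¹ = E :=
      proj_eq_of_commute E (U (c k) * E * U (c k)⁻¹) (U (c k)) (U (c k)⁻¹) hEE hEh (hconjH _)
        (hinvr _) rfl h3 hstar
    -- conclusion
    have hds : U (c k * z * (c k)⁻¹) = U z := by rw [hUd, hEE', ← hsE]
    rw [hd, map_mul, ← hds, hdinvr]
  -- conclusion
  obtain ⟨K, hK⟩ := hK
  rw [← hc0]
  cases K with
  | zero => rw [hK, mul_one, one_mul]
  | succ K =>
    have h1 : ∀ m, U (c (m + 1)) = 1 → U (c 1) = 1 := by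
      intro m
      induction m with
      | zero => exact fun h => h
      | succ m ih => exact fun h => ih (hdesc m h)
    exact hcomm_of 0 (h1 K hK)

end Cfsg.Agent.Lib.helper68.BL
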