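import Mathlib
import Cfsg.Prelude.Def_Characters
import Cfsg.Agent.Lib.helper81.CharTools

/-!
# A virtual character vanishing on the `q`-singular elements has degree divisible by `|G|_q`
-/

set_option autoImplicit false

namespace Cfsg.Agent.Lib.helper11.BT

open Cfsg Cfsg.Agent.Lib.helper81

universe u

variable {G : Type u} [Group G]

/-- If the integral combination `Ψ = ∑_{χ ∈ S} c χ • χ` of irreducible characters vanishes on all
`q`-singular elements, then `|G|_q` divides `Ψ 1 = ∑ c χ * χ(1)`. -/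
theorem virt_dvd_of_vanish [Finite G] (q : ℕ) [Fact q.Prime] (S : Finset (IrrCharacter G))
    (c : IrrCharacter G → ℤ)
    (hvan : ∀ y : G, q ∣ orderOf y → ∑ χ ∈ S, (c χ : ℂ) * (χ : G → ℂ) y = 0) :
    ((q ^ (Nat.card G).factorization q : ℕ) : ℤ) ∣
      ∑ χ ∈ S, c χ * (charDegree (χ : G → ℂ) : ℤ) := by
  classical
  have hq : q.Prime := Fact.out
  obtain ⟨Q⟩ : Nonempty (Sylow q G) := inferInstance
  have : Fintype (Q : Subgroup G) := Fintype.ofFinite _
  choose m hm using fun χ : IrrCharacter G =>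
    sum_subgroup_char (irr_isCharacter χ) (Q : Subgroup G)
  have hcard : Nat.card (Q : Subgroup G) = q ^ (Nat.card G).factorization q :=
    Sylow.card_eq_multiplicity Q
  refine ⟨∑ χ ∈ S, c χ * (m χ : ℤ), ?_⟩
  have h1 : ∑ u : (Q : Subgroup G), ∑ χ ∈ S, (c χ : ℂ) * (χ : G → ℂ) (u : G) =
      ∑ χ ∈ S, (c χ : ℂ) * (χ : G → ℂ) 1 := by
    rw [Finset.sum_eq_single (1 : (Q : Subgroup G))]
    · rfl
    · intro u _ hu
      apply hvan
      obtain ⟨k, hk⟩ := Q.isPGroup' u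
      have h2 : orderOf u ∣ q ^ k := orderOf_dvd_of_pow_eq_one hk
      obtain ⟨j, -, hj⟩ := (Nat.dvd_prime_pow hq).mp h2
      have hj0 : j ≠ 0 := by
        intro hj0
        rw [hj0, pow_zero, orderOf_eq_one_iff] at hj
        exact hu hj
      rw [Subgroup.orderOf_coe, hj]
      exact dvd_pow_self q hj0
    · intro h
      exact absurd (Finset.mem_univ _) h
  have h2 : ∑ u : (Q : Subgroup G), ∑ χ ∈ S, (c χ : ℂ) * (χ : G → ℂ) (u : G) =
      ∑ χ ∈ S, (c χ : ℂ) * ((Nat.card (Q : Subgroup G) : ℂ) * m χ) := by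
    rw [Finset.sum_comm]
    apply Finset.sum_congr rfl
    intro χ _
    rw [← Finset.mul_sum, hm χ]
  have h3 : ((∑ χ ∈ S, c χ * (charDegree (χ : G → ℂ) : ℤ) : ℤ) : ℂ) =
      (((q ^ (Nat.card G).factorization q : ℕ) : ℤ) * ∑ χ ∈ S, c χ * (m χ : ℤ) : ℤ) := by
    have h4 : ∑ χ ∈ S, (c χ : ℂ) * (χ : G → ℂ) 1 =
        ∑ χ ∈ S, (c χ : ℂ) * ((Nat.card (Q : Subgroup G) : ℂ) * m χ) := by
      rw [← h1, h2]
    rw [hcard] at h4
    push_cast
    rw [Finset.mul_sum]
    rw [← Finset.sum_congr rfl (fun χ _ => by rw [irr_one_eq_charDegree χ])] at h4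
    rw [h4]
    apply Finset.sum_congr rfl
    intro χ _
    push_cast
    ring
  exact_mod_cast h3

end Cfsg.Agent.Lib.helper11.BT
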