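import Mathlib
import Cfsg.Prelude.Def_Characters
import Cfsg.Prelude.Def_Blocks
import Cfsg.Agent.Lib.helper84.BrDefs
import Cfsg.Agent.Lib.helper82.BFA1
import Cfsg.Agent.Lib.helper20.D1EE1

/-!
# S0997 piece PBKER : a character of degree `< p` in the principal block is trivial on the
`p`-regular elements of `C_G(P)` (`|P| = p`)
-/

set_option autoImplicit false

namespace Cfsg.Agent.Lib.helper11.BU

open Cfsg Cfsg.Agent.Lib.helper81 Cfsg.Agent.Lib.helper84.Br
open scoped ComplexConjugate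

universe u

/-- Fourier inversion on `ZMod p`. -/
theorem h11_fourier (p : ℕ) [Fact p.Prime] (c : ZMod p → ℂ) (b₀ : ZMod p) :
    ∑ i ∈ Finset.range p,
        (∑ b : ZMod p, c b * Cfsg.Agent.Lib.helper20.D1E.zeta p ^ (b.val * i)) *
          (Cfsg.Agent.Lib.helper20.D1E.zeta p ^ (b₀.val * i))⁻¹ = (p : ℂ) * c b₀ := by
  classical
  have hz := Cfsg.Agent.Lib.helper83.D1E.zeta_prim p
  have hz0 : Cfsg.Agent.Lib.helper20.D1E.zeta p ≠ 0 := Cfsg.Agent.Lib.helper83.D1E.zeta_ne_zero p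
  have hzp : Cfsg.Agent.Lib.helper20.D1E.zeta p ^ p = 1 := Cfsg.Agent.Lib.helper83.D1E.zeta_pow_p p
  set ζ := Cfsg.Agent.Lib.helper20.D1E.zeta p with hζ
  have hinner : ∀ b : ZMod p, ∑ i ∈ Finset.range p, ζ ^ (b.val * i) * (ζ ^ (b₀.val * i))⁻¹ =
      if b = b₀ then (p : ℂ) else 0 := by
    intro b
    by_cases hb : b = b₀
    · rw [if_pos hb, hb]
      rw [Finset.sum_congr rfl (fun i _ => mul_inv_cancel₀ (pow_ne_zero _ hz0))]
      simp
    · rw [if_neg hb]
      set ξ : ℂ := ζ ^ b.val * (ζ ^ b₀.val)⁻¹ with hξ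
      have hterm : ∀ i ∈ Finset.range p, ζ ^ (b.val * i) * (ζ ^ (b₀.val * i))⁻¹ = ξ ^ i := by
        intro i _
        rw [hξ, mul_pow, inv_pow, ← pow_mul, ← pow_mul]
      rw [Finset.sum_congr rfl hterm]
      have hξ1 : ξ ≠ 1 := by
        intro h1
        have h2 : ζ ^ b.val = ζ ^ b₀.val := by
          have h3 : ζ ^ b.val * (ζ ^ b₀.val)⁻¹ * ζ ^ b₀.val = 1 * ζ ^ b₀.val := by rw [← hξ, h1]
          rw [mul_assoc, inv_mul_cancel₀ (pow_ne_zero _ hz0), mul_one, one_mul] at h3
          exact h3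
        have h4 := hz.pow_inj (ZMod.val_lt b) (ZMod.val_lt b₀) h2
        exact hb (ZMod.val_injective p h4)
      have hξp : ξ ^ p = 1 := by
        rw [hξ, mul_pow, inv_pow, ← pow_mul, ← pow_mul, mul_comm b.val p, mul_comm b₀.val p,
          pow_mul, pow_mul, hzp, one_pow, one_pow, inv_one, mul_one]
      rw [geom_sum_eq hξ1, hξp, sub_self, zero_div]
  calc ∑ i ∈ Finset.range p, (∑ b : ZMod p, c b * ζ ^ (b.val * i)) * (ζ ^ (b₀.val * i))⁻¹
      = ∑ i ∈ Finset.range p, ∑ b : ZMod p, c b * (ζ ^ (b.val * i) * (ζ ^ (b₀.val * i))⁻¹) := by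
        apply Finset.sum_congr rfl
        intro i _
        rw [Finset.sum_mul]
        apply Finset.sum_congr rfl
        intro b _
        ring
    _ = ∑ b : ZMod p, c b * ∑ i ∈ Finset.range p, ζ ^ (b.val * i) * (ζ ^ (b₀.val * i))⁻¹ := by
        rw [Finset.sum_comm]
        apply Finset.sum_congr rfl
        intro b _
        rw [Finset.mul_sum]
    _ = ∑ b : ZMod p, c b * (if b = b₀ then (p : ℂ) else 0) := by
        apply Finset.sum_congr rfl
        intro b _
        rw [hinner b]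
    _ = (p : ℂ) * c b₀ := by
        rw [Finset.sum_eq_single b₀]
        · rw [if_pos rfl, mul_comm]
        · intro b _ hb
          rw [if_neg hb, mul_zero]
        · intro h
          exact absurd (Finset.mem_univ _) h

section pieces

variable {G : Type u} [Group G] [Fintype G]

variable {p : ℕ} [Fact p.Prime] {P : Sylow p G} {e : ℕ}

/-- PBKER : a character of degree `< p` in the principal block is trivial on the `p`-regular
elements of `C_G(P)` (`|P| = p`). -/
theorem pb_ker (M : Ideal AlgInt) (hM : IsPModular p M) (hP : Nat.card P = p)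
    (θ : IrrCharacter G) (hθ : θ ∈ principalBlock M G) (hdeg : charDegree (θ : G → ℂ) < p)
    (y : G) (hy : y ∈ Subgroup.centralizer ((P : Subgroup G) : Set G))
    (hpy : ¬ p ∣ orderOf y) : (θ : G → ℂ) y = (θ : G → ℂ) 1 := by
  classical
  have hp : p.Prime := Fact.out
  have hpc : (p : ℂ) ≠ 0 := by exact_mod_cast hp.ne_zero
  -- a generator of `P`
  obtain ⟨x, hxP, hx1⟩ : ∃ x ∈ (P : Subgroup G), x ≠ 1 := by
    by_contra hcon
    push Not at hcon
    have hbot : (P : Subgroup G) = ⊥ := by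
      rw [eq_bot_iff]
      intro g hg
      exact Subgroup.mem_bot.mpr (hcon g hg)
    have h1 : Nat.card (P : Subgroup G) = 1 := by
      rw [hbot]
      exact Subgroup.card_bot
    have h2 : Nat.card (P : Subgroup G) = p := hP
    rw [h1] at h2
    exact hp.one_lt.ne h2
  have hxp : x ^ p = 1 := by
    have h1 : (⟨x, hxP⟩ : (P : Subgroup G)) ^ Nat.card (P : Subgroup G) = 1 := pow_card_eq_one'
    have h2 : Nat.card (P : Subgroup G) = p := hP
    rw [h2] at h1
    have h3 := congrArg (fun g : (P : Subgroup G) => (g : G)) h1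
    simpa using h3
  have hord : orderOf x = p := by
    have h1 : orderOf x ∣ p := orderOf_dvd_of_pow_eq_one hxp
    rcases (Nat.dvd_prime hp).mp h1 with h | h
    · exact absurd (orderOf_eq_one_iff.mp h) hx1
    · exact h
  have hχ : IsCharacter G (θ : G → ℂ) := irr_isCharacter θ
  choose d hd using fun b => Cfsg.Agent.Lib.helper2.BF.mu_nat p x hxp (θ : G → ℂ) hχ b
  have hexp := Cfsg.Agent.Lib.helper2.BF.mu_expand p x hxp (θ : G → ℂ)
  have hsum : (θ : G → ℂ) 1 = ∑ b : ZMod p, (d b : ℂ) := by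
    have h0 := hexp 0
    rw [pow_zero] at h0
    rw [h0]
    apply Finset.sum_congr rfl
    intro b _
    rw [hd b, mul_zero, pow_zero, mul_one]
  obtain ⟨b₀, hb₀⟩ : ∃ b₀, d b₀ = 0 := by
    by_contra hcon
    push Not at hcon
    have h1 : ∀ b, 1 ≤ d b := fun b => Nat.one_le_iff_ne_zero.mpr (hcon b)
    have h2 : p ≤ ∑ b : ZMod p, d b := by
      calc p = ∑ _b : ZMod p, 1 := by simp [ZMod.card]
        _ ≤ ∑ b : ZMod p, d b := Finset.sum_le_sum (fun b _ => h1 b)
    have h3 : (charDegree (θ : G → ℂ) : ℂ) = ((∑ b : ZMod p, d b : ℕ) : ℂ) := by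
      rw [← irr_one_eq_charDegree, hsum]
      push_cast
      rfl
    have h4 : charDegree (θ : G → ℂ) = ∑ b : ZMod p, d b := by exact_mod_cast h3
    omega
  have hcomm : Commute x y := by
    rw [Subgroup.mem_centralizer_iff] at hy
    exact hy x hxP
  obtain ⟨τ, hτ0, hτ⟩ := Cfsg.Agent.Lib.helper2.BF.mu_twist p x hxp (θ : G → ℂ) hχ y hcomm
  have hτb : τ b₀ = 0 := hτ0 b₀ (by rw [hd, hb₀]; simp)
  have hF : ∀ i, i ∈ Finset.range p → i ≠ 0 →
      (θ : G → ℂ) (x ^ i * y) = (θ : G → ℂ) (x ^ i) := by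
    intro i hi hi0
    have hz : x ^ i ∈ (P : Subgroup G) := pow_mem hxP i
    have hz1 : x ^ i ≠ 1 := by
      intro h
      have h1 : orderOf x ∣ i := orderOf_dvd_of_pow_eq_one h
      rw [hord] at h1
      have h2 := Nat.le_of_dvd (Nat.pos_of_ne_zero hi0) h1
      have h3 := Finset.mem_range.mp hi
      omega
    exact ((Cfsg.Agent.Lib.helper20.D1E.principal_iff p M hM P hP (x ^ i) hz hz1 θ).mp hθ).2 y
      hy hpy
  have key := h11_fourier p (fun b => τ b - (d b : ℂ)) b₀
  have hL : ∑ i ∈ Finset.range p,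
        (∑ b : ZMod p, (τ b - (d b : ℂ)) *
            Cfsg.Agent.Lib.helper20.D1E.zeta p ^ (b.val * i)) *
          (Cfsg.Agent.Lib.helper20.D1E.zeta p ^ (b₀.val * i))⁻¹ =
      (θ : G → ℂ) y - (θ : G → ℂ) 1 := by
    have hterm : ∀ i : ℕ, ∑ b : ZMod p, (τ b - (d b : ℂ)) *
        Cfsg.Agent.Lib.helper20.D1E.zeta p ^ (b.val * i) =
        (θ : G → ℂ) (x ^ i * y) - (θ : G → ℂ) (x ^ i) := by
      intro i
      rw [hτ i, hexp i, ← Finset.sum_sub_distrib]
      apply Finset.sum_congr rfl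
      intro b _
      rw [hd b]
      ring
    rw [Finset.sum_eq_single 0]
    · rw [hterm 0, pow_zero, one_mul, mul_zero, pow_zero, inv_one, mul_one]
    · intro i hi hi0
      rw [hterm i, hF i hi hi0, sub_self, zero_mul]
    · intro h
      exact absurd (Finset.mem_range.mpr hp.pos) h
  rw [hL] at key
  have hz : (τ b₀ - (d b₀ : ℂ)) = 0 := by rw [hτb, hb₀]; simp
  rw [hz, mul_zero] at key
  exact sub_eq_zero.mp key

end pieces

end Cfsg.Agent.Lib.helper11.BU
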