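import Mathlib
import Cfsg.Prelude.Def_Characters
import Cfsg.Prelude.Def_Blocks
import Cfsg.Agent.S4441
import Cfsg.Agent.Lib.helper78.BR_GT2
import Cfsg.Agent.Lib.helper76.KazCore
import Cfsg.Agent.Lib.helper81.Blocks
import Cfsg.Agent.Lib.helper81.CharOrtho

/-!
helper11: S4501 piece T3 (`three_block_consec`): in a non-abelian simple group with `3 ∥ |G|`
the principal 3-block is `{1, χ, ψ}` with `ψ(1) = χ(1) + 1` and both degrees prime to 3
(landed S4441 with `p = 3`, `e = 2`; `e = 2` by Burnside's transfer, `helper21.BR.relIndex_facts`).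
-/

set_option autoImplicit false

namespace Cfsg.Agent.Lib.helper11.BW

open Cfsg

universe u

variable {G : Type u} [Group G] [Finite G]

/-- T3 : if `3 ∥ |G|` the principal 3-block consists of `1` and two characters of
consecutive degrees (landed `Cfsg.Agent.S4441.result` with `p = 3`, `e = 2`). -/
theorem three_block_consec [IsSimpleGroup G] (hna : ∃ x y : G, x * y ≠ y * x)
    (h3 : 3 ∣ Nat.card G) (h9 : ¬ 9 ∣ Nat.card G) :
    ∃ χ ψ : IrrCharacter G, (χ : G → ℂ) ≠ (fun _ => 1) ∧ (ψ : G → ℂ) ≠ (fun _ => 1) ∧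
      charDegree (ψ : G → ℂ) = charDegree (χ : G → ℂ) + 1 ∧
      ¬ 3 ∣ charDegree (χ : G → ℂ) ∧ ¬ 3 ∣ charDegree (ψ : G → ℂ) := by
  classical
  haveI : Fintype G := Fintype.ofFinite G
  haveI : Fact (Nat.Prime 3) := ⟨Nat.prime_three⟩
  obtain ⟨M, hM⟩ := Cfsg.Agent.Lib.helper76.exists_isPModular 3 Nat.prime_three
  have hMp : M.IsPrime := Cfsg.Agent.Lib.helper20.isPrime_of_isPModular hM
  obtain ⟨P⟩ : Nonempty (Sylow 3 G) := inferInstance
  have hG0 : Nat.card G ≠ 0 := Nat.card_pos.ne'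
  have hP : Nat.card P = 3 := by
    have h := Sylow.card_eq_multiplicity P
    have h1 : 1 ≤ (Nat.card G).factorization 3 :=
      (Nat.prime_three.pow_dvd_iff_le_factorization hG0).mp (by simpa using h3)
    have h2 : ¬ 2 ≤ (Nat.card G).factorization 3 := fun h2 =>
      h9 (by simpa using (Nat.prime_three.pow_dvd_iff_le_factorization hG0).mpr h2)
    have h3' : (Nat.card G).factorization 3 = 1 := by omega
    rw [h, h3', pow_one]
  have hcyc : ¬ IsCyclic G := by
    intro hc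
    obtain ⟨x, y, hxy⟩ := hna
    letI := IsCyclic.commGroup (α := G)
    exact hxy (mul_comm x y)
  obtain ⟨h2le, hdvd⟩ := Cfsg.Agent.Lib.helper21.BR.relIndex_facts hcyc 3 P hP
  have he : (Subgroup.centralizer ((P : Subgroup G) : Set G)).relIndex
      (Subgroup.normalizer ((P : Subgroup G) : Set G)) = 2 := by
    have := Nat.le_of_dvd (by norm_num) hdvd
    omega
  obtain ⟨X, Y, hXY, hdisj, hcX, hcY, εX, ε, hX, hε, hYdeg, hYeq, hrel⟩ :=
    Cfsg.Agent.S4441.result 3 M hM (by norm_num) P hP 2 he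
  -- the trivial character
  set T : IrrCharacter G := Cfsg.Agent.Lib.helper81.trivChar G with hTdef
  have hT : T ∈ X ∪ Y := by
    rw [← hXY]; exact Cfsg.Agent.Lib.helper81.trivChar_mem_principalBlock hMp
  have hdT : charDegree (T : G → ℂ) = 1 := by
    have h := Cfsg.Agent.Lib.helper81.irr_one_eq_charDegree T
    have h1 : (T : G → ℂ) 1 = 1 := rfl
    rw [h1] at h
    exact_mod_cast h.symm
  have htriv : ∀ χ : IrrCharacter G, (χ : G → ℂ) = (fun _ => 1) → χ = T :=
    fun χ h => Subtype.ext h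
  -- X = {a, b}
  obtain ⟨a, b, hab, hXab⟩ := Nat.card_eq_two_iff.mp hcX
  have habne : (a : IrrCharacter G) ≠ (b : IrrCharacter G) := fun h => hab (Subtype.ext h)
  have hXeq : X = {(a : IrrCharacter G), (b : IrrCharacter G)} := by
    ext χ
    constructor
    · intro hχ
      have hmem : (⟨χ, hχ⟩ : X) ∈ ({a, b} : Set X) := by rw [hXab]; trivial
      rcases hmem with h | h
      · left; exact congrArg Subtype.val h
      · right; exact congrArg Subtype.val h
    · rintro (h | h)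
      · rw [h]; exact a.2
      · rw [h]; exact b.2
  -- Y = {θ}
  have hcY1 : Nat.card Y = 1 := by rw [hcY]
  obtain ⟨hYsub, ⟨θ⟩⟩ := Nat.card_eq_one_iff_unique.mp hcY1
  have hYθ : ∀ θ' ∈ Y, θ' = (θ : IrrCharacter G) := fun θ' h' =>
    congrArg Subtype.val (Subsingleton.elim (⟨θ', h'⟩ : Y) θ)
  have hXY' : ∀ χ : IrrCharacter G, χ ∈ X → χ ∈ Y → False := fun χ h1 h2 =>
    Set.disjoint_left.mp hdisj h1 h2
  -- the degree relation
  have hrel1 := hrel θ θ.2 1 (by simp)
  rw [hXeq, finsum_mem_pair habne] at hrel1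
  rw [Cfsg.Agent.Lib.helper81.irr_one_eq_charDegree (a : IrrCharacter G),
    Cfsg.Agent.Lib.helper81.irr_one_eq_charDegree (b : IrrCharacter G),
    Cfsg.Agent.Lib.helper81.irr_one_eq_charDegree (θ : IrrCharacter G)] at hrel1
  have hrelZ : ε * (charDegree ((θ : IrrCharacter G) : G → ℂ) : ℤ)
      = εX a * (charDegree ((a : IrrCharacter G) : G → ℂ) : ℤ)
        + εX b * (charDegree ((b : IrrCharacter G) : G → ℂ) : ℤ) := by exact_mod_cast hrel1
  have hposa := Cfsg.Agent.Lib.helper81.irr_charDegree_pos (a : IrrCharacter G)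
  have hposb := Cfsg.Agent.Lib.helper81.irr_charDegree_pos (b : IrrCharacter G)
  have hposθ := Cfsg.Agent.Lib.helper81.irr_charDegree_pos (θ : IrrCharacter G)
  obtain ⟨hεa, hmoda, -⟩ := hX a a.2
  obtain ⟨hεb, hmodb, -⟩ := hX b b.2
  have hmodθ := hYdeg θ θ.2
  unfold Int.ModEq at hmoda hmodb hmodθ
  -- the key case analysis when the trivial character is `a'` in `X = {a', b'}`
  have key : ∀ a' b' : IrrCharacter G, a' ∈ X → b' ∈ X → a' ≠ b' →
      (εX a' = 1 ∨ εX a' = -1) → (εX b' = 1 ∨ εX b' = -1) →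
      (charDegree (a' : G → ℂ) : ℤ) % ((3 : ℕ) : ℤ) = εX a' % ((3 : ℕ) : ℤ) →
      (charDegree (b' : G → ℂ) : ℤ) % ((3 : ℕ) : ℤ) = εX b' % ((3 : ℕ) : ℤ) →
      0 < charDegree (b' : G → ℂ) →
      ε * (charDegree ((θ : IrrCharacter G) : G → ℂ) : ℤ)
        = εX a' * (charDegree (a' : G → ℂ) : ℤ) + εX b' * (charDegree (b' : G → ℂ) : ℤ) →
      a' = T →
      ∃ χ ψ : IrrCharacter G, (χ : G → ℂ) ≠ (fun _ => 1) ∧ (ψ : G → ℂ) ≠ (fun _ => 1) ∧
        charDegree (ψ : G → ℂ) = charDegree (χ : G → ℂ) + 1 ∧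
        ¬ 3 ∣ charDegree (χ : G → ℂ) ∧ ¬ 3 ∣ charDegree (ψ : G → ℂ) := by
    intro a' b' ha' hb' hne hεa' hεb' hma hmb hpb hr haT
    have hb1 : (b' : G → ℂ) ≠ (fun _ => 1) := fun h => hne (haT.trans (htriv b' h).symm)
    have hθ1 : ((θ : IrrCharacter G) : G → ℂ) ≠ (fun _ => 1) := fun h =>
      hXY' a' ha' (by rw [haT, ← htriv _ h]; exact θ.2)
    rw [haT, hdT] at hma hr
    have hεa1 : εX T = 1 := by
      rw [haT] at hεa'
      rcases hεa' with h | h
      · exact h
      · rw [h] at hma; norm_num at hma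
    rw [hεa1] at hr
    rcases hε with h | h <;> rcases hεb' with h' | h' <;> rw [h] at hr hmodθ <;>
      rw [h'] at hr hmb
    · refine ⟨b', θ, hb1, hθ1, by omega, by omega, by omega⟩
    · exfalso; omega
    · exfalso; omega
    · refine ⟨θ, b', hθ1, hb1, by omega, by omega, by omega⟩
  rcases hT with hTX | hTY
  · rw [hXeq] at hTX
    rcases hTX with h | h
    · exact key a b a.2 b.2 habne hεa hεb hmoda hmodb hposb hrelZ h.symm
    · exact key b a b.2 a.2 (Ne.symm habne) hεb hεa hmodb hmoda hposa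
        (by rw [hrelZ]; ring) h.symm
  · have hθT : (θ : IrrCharacter G) = T := (hYθ T hTY).symm
    have ha1 : ((a : IrrCharacter G) : G → ℂ) ≠ (fun _ => 1) := fun h =>
      hXY' a a.2 (by rw [htriv _ h]; exact hTY)
    have hb1 : ((b : IrrCharacter G) : G → ℂ) ≠ (fun _ => 1) := fun h =>
      hXY' b b.2 (by rw [htriv _ h]; exact hTY)
    rw [hθT, hdT] at hrelZ hmodθ
    have hεm : ε = -1 := by
      rcases hε with h | h
      · rw [h] at hmodθ; norm_num at hmodθ
      · exact h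
    rw [hεm] at hrelZ
    rcases hεa with h | h <;> rcases hεb with h' | h' <;> rw [h] at hrelZ hmoda <;>
      rw [h'] at hrelZ hmodb
    · exfalso; omega
    · refine ⟨a, b, ha1, hb1, by omega, by omega, by omega⟩
    · refine ⟨b, a, hb1, ha1, by omega, by omega, by omega⟩
    · exfalso; omega

end Cfsg.Agent.Lib.helper11.BW
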