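import Mathlib
import Cfsg.Agent.Lib.helper92.Basic
import Cfsg.Agent.Lib.helper11.FourCent

/-!
# Groups in which an involution has a dihedral centralizer of order `8`

`DC a φ` says that `φ` is an isomorphism of the dihedral group of order `8` onto the centralizer
of `a` that maps the central involution to `a`.  `D8H a φ` adds that all involutions of the
group are conjugate to `a`.  This file contains the local analysis; the counting is in
`D8Count`.
-/

set_option autoImplicit false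

namespace Cfsg.Agent.Lib.helper11.D8Cent

open Cfsg.Agent.Lib.helper92 Cfsg.Agent.Lib.helper11.FourCent

variable {G : Type*} [Group G]

/-- No non-identity element of odd order commutes with an involution. -/
def NC (G : Type*) [Group G] : Prop :=
  ∀ t g : G, t ≠ 1 → t * t = 1 → g ≠ 1 → Odd (orderOf g) → g * t ≠ t * g

namespace NC

/-- The centralizer of a non-identity element of odd order has odd order. -/
theorem odd_card_cent (H : NC G) [Finite G] {g : G} (hg1 : g ≠ 1) (hodd : Odd (orderOf g)) :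
    Odd (Nat.card (Subgroup.centralizer ({g} : Set G))) := by
  by_contra h
  rw [Nat.not_odd_iff_even] at h
  have : Fact (Nat.Prime 2) := ⟨Nat.prime_two⟩
  obtain ⟨u, hu⟩ := exists_prime_orderOf_dvd_card' 2 h.two_dvd
  have hu' : orderOf (u : G) = 2 := by rw [Subgroup.orderOf_coe]; exact hu
  rw [orderOf_eq_prime_iff] at hu'
  have hu2 : (u : G) * u = 1 := by rw [← pow_two]; exact hu'.1
  exact H _ _ hu'.2 hu2 hg1 hodd (mem_cent.mp u.2).symm

/-- Elements of a subgroup of odd order have odd order. -/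
theorem odd_orderOf_of_mem [Finite G] {K : Subgroup G} (hK : Odd (Nat.card K)) {c : G}
    (hc : c ∈ K) : Odd (orderOf c) := by
  have h1 : orderOf c ∣ Nat.card K := by
    have := orderOf_dvd_natCard (⟨c, hc⟩ : K)
    rwa [Subgroup.orderOf_mk] at this
  exact hK.of_dvd_nat h1

/-- An involution normalizing a subgroup of odd order inverts it. -/
theorem inverts_of_odd (H : NC G) [Finite G] {b : G} (hb1 : b ≠ 1) (hb : b * b = 1)
    {K : Subgroup G} (hK : Odd (Nat.card K)) (hn : ∀ c ∈ K, b * c * b⁻¹ ∈ K) :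
    ∀ c ∈ K, b * c * b⁻¹ = c⁻¹ := by
  apply inverts_of_fixed_point_free hb hn
  intro c hc hbc
  by_contra hc1
  exact H b c hb1 hb hc1 (odd_orderOf_of_mem hK hc) hbc.symm

/-- An involution normalizing the centralizer of a non-identity element of odd order inverts
it. -/
theorem inverts_of_normalizes (H : NC G) [Finite G] {b g : G} (hb1 : b ≠ 1) (hb : b * b = 1)
    (hg1 : g ≠ 1) (hodd : Odd (orderOf g))
    (hn : ∀ c ∈ Subgroup.centralizer ({g} : Set G),
      b * c * b⁻¹ ∈ Subgroup.centralizer ({g} : Set G)) :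
    ∀ c ∈ Subgroup.centralizer ({g} : Set G), b * c * b⁻¹ = c⁻¹ :=
  H.inverts_of_odd hb1 hb (H.odd_card_cent hg1 hodd) hn

/-- An involution inverting a non-identity element `g` of odd order inverts its centralizer. -/
theorem inverts (H : NC G) [Finite G] {a g : G} (ha1 : a ≠ 1) (ha : a * a = 1) (hg : SA a g) :
    ∀ c ∈ Subgroup.centralizer ({g} : Set G), a * c * a⁻¹ = c⁻¹ :=
  H.inverts_of_normalizes ha1 ha hg.1 hg.2.1 (FC.normalizes_of_SA hg.2.2)

/-- The centralizer of `g ∈ S a` is commutative. -/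
theorem cent_comm (H : NC G) [Finite G] {a g : G} (ha1 : a ≠ 1) (ha : a * a = 1) (hg : SA a g)
    {c d : G} (hc : c ∈ Subgroup.centralizer ({g} : Set G))
    (hd : d ∈ Subgroup.centralizer ({g} : Set G)) : c * d = d * c :=
  commute_of_inverts (H.inverts ha1 ha hg) c hc d hd

/-- Non-identity elements of the centralizer of `g ∈ S a` lie in `S a`. -/
theorem SA_of_mem (H : NC G) [Finite G] {a g : G} (ha1 : a ≠ 1) (ha : a * a = 1) (hg : SA a g)
    {c : G} (hc : c ∈ Subgroup.centralizer ({g} : Set G)) (hc1 : c ≠ 1) : SA a c :=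
  ⟨hc1, odd_orderOf_of_mem (H.odd_card_cent hg.1 hg.2.1) hc, H.inverts ha1 ha hg c hc⟩

/-- The centralizer of a non-identity element of the centralizer of `g ∈ S a` is the
centralizer of `g`. -/
theorem cent_eq (H : NC G) [Finite G] {a g : G} (ha1 : a ≠ 1) (ha : a * a = 1) (hg : SA a g)
    {c : G} (hc : c ∈ Subgroup.centralizer ({g} : Set G)) (hc1 : c ≠ 1) :
    Subgroup.centralizer ({c} : Set G) = Subgroup.centralizer ({g} : Set G) := by
  have hcS : SA a c := H.SA_of_mem ha1 ha hg hc hc1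
  have hgc : g ∈ Subgroup.centralizer ({c} : Set G) := mem_cent.mpr (mem_cent.mp hc).symm
  apply le_antisymm
  · intro y hy
    exact mem_cent.mpr (H.cent_comm ha1 ha hcS hy hgc)
  · intro y hy
    exact mem_cent.mpr (H.cent_comm ha1 ha hg hy hc)

/-- Any element inverting `g ∈ S a` is conjugate to `a` under the centralizer of `g`. -/
theorem exists_conj (H : NC G) [Finite G] {a a' g : G} (ha1 : a ≠ 1) (ha : a * a = 1)
    (hg : SA a g) (ha' : a' * g * a'⁻¹ = g⁻¹) :
    ∃ d ∈ Subgroup.centralizer ({g} : Set G), a' = d * a * d⁻¹ := by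
  have h2 : a * g * a⁻¹ = g⁻¹ := hg.2.2
  have he : a' * a ∈ Subgroup.centralizer ({g} : Set G) := by
    rw [mem_cent]
    have e' : a' * g⁻¹ * a'⁻¹ = g := by rw [← conj_inv, ha', inv_inv]
    have h3 : (a' * a) * g * (a' * a)⁻¹ = g := by
      calc (a' * a) * g * (a' * a)⁻¹ = a' * (a * g * a⁻¹) * a'⁻¹ := by group
        _ = g := by rw [h2, e']
    exact mul_inv_eq_iff_eq_mul.mp h3
  obtain ⟨j, hj⟩ := H.odd_card_cent hg.1 hg.2.1
  have hpow : (a' * a) ^ (2 * j + 1) = 1 := by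
    have h3 := pow_card_eq_one' (G := Subgroup.centralizer ({g} : Set G)) (x := ⟨a' * a, he⟩)
    rw [hj] at h3
    have h4 := congrArg Subtype.val h3
    simpa using h4
  have hdC : (a' * a) ^ (j + 1) ∈ Subgroup.centralizer ({g} : Set G) := Subgroup.pow_mem _ he _
  refine ⟨(a' * a) ^ (j + 1), hdC, ?_⟩
  have hdd : (a' * a) ^ (j + 1) * (a' * a) ^ (j + 1) = a' * a := by
    rw [← pow_add]
    have h3 : j + 1 + (j + 1) = (2 * j + 1) + 1 := by ring
    rw [h3, pow_succ, hpow, one_mul]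
  have hinv : a * ((a' * a) ^ (j + 1))⁻¹ * a⁻¹ = (a' * a) ^ (j + 1) := by
    have h3 := H.inverts ha1 ha hg _ (Subgroup.inv_mem _ hdC)
    rwa [inv_inv] at h3
  generalize (a' * a) ^ (j + 1) = d at hdd hinv
  calc a' = a' * (a * a) := by rw [ha, mul_one]
    _ = (d * d) * a := by rw [hdd, mul_assoc]
    _ = d * (a * d⁻¹ * a⁻¹) * a := by rw [hinv]
    _ = d * a * d⁻¹ := by group

/-- Transport of commutation along two ways of writing an element as a conjugate. -/
theorem conj_mem (H : NC G) [Finite G] {a g c₁ c₂ z h₁ h₂ : G} (ha1 : a ≠ 1) (ha : a * a = 1)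
    (hg : SA a g) (hc : c₁ ∈ Subgroup.centralizer ({g} : Set G)) (hc1 : c₁ ≠ 1)
    (hz : z * c₂ = c₂ * z) (he : h₁ * c₁ * h₁⁻¹ = h₂ * c₂ * h₂⁻¹) :
    (h₁⁻¹ * h₂) * z * (h₁⁻¹ * h₂)⁻¹ ∈ Subgroup.centralizer ({g} : Set G) := by
  rw [← H.cent_eq ha1 ha hg hc hc1, mem_cent]
  have e : c₁ = (h₁⁻¹ * h₂) * c₂ * (h₁⁻¹ * h₂)⁻¹ := by
    calc c₁ = h₁⁻¹ * (h₁ * c₁ * h₁⁻¹) * h₁ := by group
      _ = h₁⁻¹ * (h₂ * c₂ * h₂⁻¹) * h₁ := by rw [he]
      _ = _ := by group
  generalize h₁⁻¹ * h₂ = k at e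
  rw [e]
  calc k * z * k⁻¹ * (k * c₂ * k⁻¹) = k * (z * c₂) * k⁻¹ := by group
    _ = k * (c₂ * z) * k⁻¹ := by rw [hz]
    _ = _ := by group

/-- If conjugates of non-identity elements of `C(g₁)` and `C(g₂)` coincide (`g₁, g₂ ∈ S a`),
then `g₂` is conjugate into `C(g₁)` by an element of the centralizer of `a`. -/
theorem exists_cent_conj (H : NC G) [Finite G] {a g₁ g₂ c₁ c₂ h₁ h₂ : G} (ha1 : a ≠ 1)
    (ha : a * a = 1) (hg₁ : SA a g₁) (hg₂ : SA a g₂)
    (hc₁ : c₁ ∈ Subgroup.centralizer ({g₁} : Set G)) (hc₁1 : c₁ ≠ 1)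
    (hc₂ : c₂ ∈ Subgroup.centralizer ({g₂} : Set G))
    (he : h₁ * c₁ * h₁⁻¹ = h₂ * c₂ * h₂⁻¹) :
    ∃ v : G, v * a = a * v ∧ v * g₂ * v⁻¹ ∈ Subgroup.centralizer ({g₁} : Set G) := by
  have hw := H.conj_mem ha1 ha hg₁ hc₁ hc₁1 (mem_cent.mp hc₂).symm he
  generalize h₁⁻¹ * h₂ = h at hw
  have hinv := H.inverts ha1 ha hg₁ _ hw
  have ha' : (h⁻¹ * a * h) * g₂ * (h⁻¹ * a * h)⁻¹ = g₂⁻¹ := by
    calc (h⁻¹ * a * h) * g₂ * (h⁻¹ * a * h)⁻¹ = h⁻¹ * (a * (h * g₂ * h⁻¹) * a⁻¹) * h := by group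
      _ = h⁻¹ * (h * g₂ * h⁻¹)⁻¹ * h := by rw [hinv]
      _ = g₂⁻¹ := by group
  obtain ⟨d, hd, hda⟩ := H.exists_conj ha1 ha hg₂ ha'
  refine ⟨h * d, ?_, ?_⟩
  · have h3 : (h * d) * a * (h * d)⁻¹ = a := by
      calc (h * d) * a * (h * d)⁻¹ = h * (d * a * d⁻¹) * h⁻¹ := by group
        _ = h * (h⁻¹ * a * h) * h⁻¹ := by rw [← hda]
        _ = a := by group
    exact mul_inv_eq_iff_eq_mul.mp h3
  · have hdg : d * g₂ = g₂ * d := mem_cent.mp hd
    have h3 : (h * d) * g₂ * (h * d)⁻¹ = h * g₂ * h⁻¹ := by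
      calc (h * d) * g₂ * (h * d)⁻¹ = h * (d * g₂) * d⁻¹ * h⁻¹ := by group
        _ = h * (g₂ * d) * d⁻¹ * h⁻¹ := by rw [hdg]
        _ = h * g₂ * h⁻¹ := by group
    rw [h3]; exact hw

/-- For `g ∈ S a`, an element `u` conjugates `g` into its centralizer iff it normalizes the
centralizer. -/
theorem normalizes_of_conj_mem (H : NC G) [Finite G] {a g u : G} (ha1 : a ≠ 1) (ha : a * a = 1)
    (hg : SA a g) (hu : u * g * u⁻¹ ∈ Subgroup.centralizer ({g} : Set G)) (c : G) :
    c ∈ Subgroup.centralizer ({g} : Set G) ↔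
      u * c * u⁻¹ ∈ Subgroup.centralizer ({g} : Set G) := by
  have hu1 : u * g * u⁻¹ ≠ 1 := fun h => hg.1 (conj_eq_one_iff.mp h)
  have hC := H.cent_eq ha1 ha hg hu hu1
  constructor
  · intro hc
    rw [← hC, mem_cent]
    rw [mem_cent] at hc
    calc u * c * u⁻¹ * (u * g * u⁻¹) = u * (c * g) * u⁻¹ := by group
      _ = u * (g * c) * u⁻¹ := by rw [hc]
      _ = _ := by group
  · intro hc
    rw [← hC, mem_cent] at hc
    rw [mem_cent]
    have h1 : u⁻¹ * (u * c * u⁻¹ * (u * g * u⁻¹)) * u = u⁻¹ * (u * g * u⁻¹ * (u * c * u⁻¹)) * u := by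
      rw [hc]
    calc c * g = u⁻¹ * (u * c * u⁻¹ * (u * g * u⁻¹)) * u := by group
      _ = u⁻¹ * (u * g * u⁻¹ * (u * c * u⁻¹)) * u := h1
      _ = g * c := by group

/-- The inverse of an element normalizing the centralizer of `g ∈ S a` normalizes it. -/
theorem inv_conj_mem (H : NC G) [Finite G] {a g u : G} (ha1 : a ≠ 1) (ha : a * a = 1)
    (hg : SA a g) (hu : u * g * u⁻¹ ∈ Subgroup.centralizer ({g} : Set G)) :
    u⁻¹ * g * u⁻¹⁻¹ ∈ Subgroup.centralizer ({g} : Set G) := by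
  rw [H.normalizes_of_conj_mem ha1 ha hg hu]
  have e : u * (u⁻¹ * g * u⁻¹⁻¹) * u⁻¹ = g := by group
  rw [e]; exact mem_cent.mpr rfl

/-- An involution `b ≠ a` commuting with `a` moves every non-identity element of the
centralizer of `g ∈ S a` out of that centralizer. -/
theorem not_conj_mem (H : NC G) [Finite G] {a b g c : G} (ha1 : a ≠ 1) (ha : a * a = 1)
    (hb1 : b ≠ 1) (hb : b * b = 1) (hab : b * a = a * b) (hne : b ≠ a) (hg : SA a g)
    (hc : c ∈ Subgroup.centralizer ({g} : Set G)) (hc1 : c ≠ 1) :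
    b * c * b⁻¹ ∉ Subgroup.centralizer ({g} : Set G) := by
  intro hbc
  have hbc1 : b * c * b⁻¹ ≠ 1 := fun h => hc1 (conj_eq_one_iff.mp h)
  have hC1 := H.cent_eq ha1 ha hg hc hc1
  have hC2 := H.cent_eq ha1 ha hg hbc hbc1
  have hn : ∀ y ∈ Subgroup.centralizer ({g} : Set G),
      b * y * b⁻¹ ∈ Subgroup.centralizer ({g} : Set G) := by
    intro y hy
    rw [← hC2, mem_cent]
    rw [← hC1, mem_cent] at hy
    calc b * y * b⁻¹ * (b * c * b⁻¹) = b * (y * c) * b⁻¹ := by group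
      _ = b * (c * y) * b⁻¹ := by rw [hy]
      _ = b * c * b⁻¹ * (b * y * b⁻¹) := by group
  have hbinv := H.inverts_of_normalizes hb1 hb hg.1 hg.2.1 hn
  have h1 : b * g * b⁻¹ = g⁻¹ := hbinv g (mem_cent.mpr rfl)
  have h2 : a * g * a⁻¹ = g⁻¹ := hg.2.2
  have hab1 : a * b ≠ 1 := by
    intro h
    apply hne
    have h3 : b = a⁻¹ := (inv_eq_of_mul_eq_one_right h).symm
    rw [h3, inv_eq_self_of_sq ha]
  have hab2 : (a * b) * (a * b) = 1 := by
    calc a * b * (a * b) = a * (b * a) * b := by group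
      _ = a * (a * b) * b := by rw [hab]
      _ = (a * a) * (b * b) := by group
      _ = 1 := by rw [ha, hb, one_mul]
  have hcomm : g * (a * b) = (a * b) * g := by
    have e : a * g⁻¹ * a⁻¹ = g := by rw [← conj_inv, h2, inv_inv]
    have h3 : (a * b) * g * (a * b)⁻¹ = g := by
      calc (a * b) * g * (a * b)⁻¹ = a * (b * g * b⁻¹) * a⁻¹ := by group
        _ = g := by rw [h1, e]
    exact (mul_inv_eq_iff_eq_mul.mp h3).symm
  exact H (a * b) g hab1 hab2 hg.1 hg.2.1 hcomm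

end NC

open DihedralGroup

/-- `φ` is an isomorphism of the dihedral group of order `8` onto the centralizer of `a` which
maps the central involution to `a`. -/
structure DC (a : G) (φ : DihedralGroup 4 →* G) : Prop where
  inj : Function.Injective φ
  mem : ∀ x : G, x * a = a * x → ∃ d, φ d = x
  ha : φ (r 2) = a

namespace DC

variable {a : G} {φ : DihedralGroup 4 →* G}

theorem comm (H : DC a φ) (d : DihedralGroup 4) : φ d * a = a * φ d := by
  rw [← H.ha, ← map_mul, ← map_mul]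
  congr 1
  revert d; decide

theorem ne_one (H : DC a φ) : a ≠ 1 := by
  rw [← H.ha]
  intro h
  have h1 := H.inj (h.trans (map_one φ).symm)
  revert h1; decide

theorem sq (H : DC a φ) : a * a = 1 := by
  rw [← H.ha, ← map_mul]
  have h1 : (r 2 : DihedralGroup 4) * r 2 = 1 := by decide
  rw [h1, map_one]

/-- Transport along conjugation. -/
theorem conj (H : DC a φ) (h : G) :
    DC (h * a * h⁻¹) ((MulAut.conj h).toMonoidHom.comp φ) where
  inj := (MulAut.conj h).injective.comp H.inj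
  mem := by
    intro x hx
    have h1 : (h⁻¹ * x * h) * a = a * (h⁻¹ * x * h) := by
      calc h⁻¹ * x * h * a = h⁻¹ * (x * (h * a * h⁻¹)) * h := by group
        _ = h⁻¹ * ((h * a * h⁻¹) * x) * h := by rw [hx]
        _ = a * (h⁻¹ * x * h) := by group
    obtain ⟨d, hd⟩ := H.mem _ h1
    refine ⟨d, ?_⟩
    simp only [MonoidHom.coe_comp, MulEquiv.coe_toMonoidHom, Function.comp_apply,
      MulAut.conj_apply, hd]
    group
  ha := by
    simp only [MonoidHom.coe_comp, MulEquiv.coe_toMonoidHom, Function.comp_apply,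
      MulAut.conj_apply, H.ha]

/-- Elements commuting with `a` have order dividing `4`. -/
theorem pow_four (H : DC a φ) {x : G} (hx : x * a = a * x) : x * x * (x * x) = 1 := by
  obtain ⟨d, rfl⟩ := H.mem x hx
  rw [← map_mul, ← map_mul]
  have key : ∀ d : DihedralGroup 4, d * d * (d * d) = 1 := by decide
  rw [key d, map_one]

/-- Two involutions of the centralizer of `a`, both different from `a`: they are equal, differ
by `a`, or their product squares to `a`. -/
theorem inv_trichotomy (H : DC a φ) {x y : G} (hxa : x * a = a * x) (hya : y * a = a * y)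
    (hx : x * x = 1) (hy : y * y = 1) (hx1 : x ≠ 1) (hy1 : y ≠ 1) (hxne : x ≠ a)
    (hyne : y ≠ a) : y = x ∨ y = x * a ∨ (x * y) * (x * y) = a := by
  obtain ⟨d, rfl⟩ := H.mem x hxa
  obtain ⟨e, rfl⟩ := H.mem y hya
  have key : ∀ d e : DihedralGroup 4, d * d = 1 → e * e = 1 → d ≠ 1 → e ≠ 1 → d ≠ r 2 →
      e ≠ r 2 → e = d ∨ e = d * r 2 ∨ (d * e) * (d * e) = r 2 := by decide
  have h1 : d * d = 1 := H.inj (by rw [map_mul, hx, map_one])
  have h2 : e * e = 1 := H.inj (by rw [map_mul, hy, map_one])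
  have h3 : d ≠ 1 := fun h => hx1 (by rw [h, map_one])
  have h4 : e ≠ 1 := fun h => hy1 (by rw [h, map_one])
  have h5 : d ≠ r 2 := fun h => hxne (by rw [h, H.ha])
  have h6 : e ≠ r 2 := fun h => hyne (by rw [h, H.ha])
  rcases key d e h1 h2 h3 h4 h5 h6 with h | h | h
  · left; rw [h]
  · right; left; rw [h, map_mul, H.ha]
  · right; right; rw [← map_mul, ← map_mul, h, H.ha]

theorem sqrt_sq (H : DC a φ) : φ (r 1) * φ (r 1) = a := by
  rw [← map_mul, ← H.ha]; congr 1

theorem sqrt_sq' (H : DC a φ) : φ (r 3) * φ (r 3) = a := by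
  rw [← map_mul, ← H.ha]; congr 1

theorem sqrt_ne (H : DC a φ) : φ (r 1) ≠ φ (r 3) := by
  intro h
  have h1 := H.inj h
  revert h1; decide

/-- The square roots of `a`. -/
theorem eq_of_sq (H : DC a φ) {y : G} (hy : y * y = a) : y = φ (r 1) ∨ y = φ (r 3) := by
  have hya : y * a = a * y := by rw [← hy, mul_assoc]
  obtain ⟨d, rfl⟩ := H.mem y hya
  have key : ∀ d : DihedralGroup 4, d * d = r 2 → d = r 1 ∨ d = r 3 := by decide
  have h1 : d * d = r 2 := H.inj (by rw [map_mul, hy, H.ha])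
  rcases key d h1 with h | h
  · left; rw [h]
  · right; rw [h]

/-- A non-central involution of the centralizer of `a` inverts the square roots of `a`. -/
theorem inv_sqrt (H : DC a φ) {x y : G} (hxa : x * a = a * x) (hx : x * x = 1) (hx1 : x ≠ 1)
    (hxne : x ≠ a) (hy : y * y = a) : x * y * x⁻¹ = y⁻¹ := by
  have hya : y * a = a * y := by rw [← hy, mul_assoc]
  obtain ⟨d, rfl⟩ := H.mem x hxa
  obtain ⟨e, rfl⟩ := H.mem y hya
  have key : ∀ d e : DihedralGroup 4, d * d = 1 → d ≠ 1 → d ≠ r 2 → e * e = r 2 →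
      d * e * d⁻¹ = e⁻¹ := by decide
  have h1 : d * d = 1 := H.inj (by rw [map_mul, hx, map_one])
  have h3 : d ≠ 1 := fun h => hx1 (by rw [h, map_one])
  have h5 : d ≠ r 2 := fun h => hxne (by rw [h, H.ha])
  have h6 : e * e = r 2 := H.inj (by rw [map_mul, hy, H.ha])
  rw [← map_inv, ← map_inv, ← map_mul, ← map_mul, key d e h1 h3 h5 h6]

/-- The non-central involutions of the centralizer of `a`. -/
theorem eq_sr (H : DC a φ) {x : G} (hxa : x * a = a * x) (hx : x * x = 1) (hx1 : x ≠ 1)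
    (hxne : x ≠ a) : ∃ i : ZMod 4, x = φ (sr i) := by
  obtain ⟨d, rfl⟩ := H.mem x hxa
  have key : ∀ d : DihedralGroup 4, d * d = 1 → d ≠ 1 → d ≠ r 2 → ∃ i : ZMod 4, d = sr i := by
    decide
  have h1 : d * d = 1 := H.inj (by rw [map_mul, hx, map_one])
  have h3 : d ≠ 1 := fun h => hx1 (by rw [h, map_one])
  have h5 : d ≠ r 2 := fun h => hxne (by rw [h, H.ha])
  obtain ⟨i, hi⟩ := key d h1 h3 h5
  exact ⟨i, by rw [hi]⟩

theorem sr_sq (φ : DihedralGroup 4 →* G) (i : ZMod 4) : φ (sr i) * φ (sr i) = 1 := by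
  rw [← map_mul]
  have key : ∀ i : ZMod 4, (sr i : DihedralGroup 4) * sr i = 1 := by decide
  rw [key i, map_one]

theorem sr_ne_one (H : DC a φ) (i : ZMod 4) : φ (sr i) ≠ 1 := by
  intro h
  have h1 := H.inj (h.trans (map_one φ).symm)
  have key : ∀ i : ZMod 4, (sr i : DihedralGroup 4) ≠ 1 := by decide
  exact key i h1

theorem sr_ne (H : DC a φ) (i : ZMod 4) : φ (sr i) ≠ a := by
  rw [← H.ha]
  intro h
  have h1 := H.inj h
  have key : ∀ i : ZMod 4, (sr i : DihedralGroup 4) ≠ r 2 := by decide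
  exact key i h1

/-- Every element of the centralizer of `a` is a product of two elements of square `1`. -/
theorem exists_mul (H : DC a φ) {x : G} (hxa : x * a = a * x) :
    ∃ y z : G, y * y = 1 ∧ z * z = 1 ∧ x = y * z := by
  obtain ⟨d, rfl⟩ := H.mem x hxa
  have key : ∀ d : DihedralGroup 4, ∃ e f : DihedralGroup 4, e * e = 1 ∧ f * f = 1 ∧
      d = e * f := by decide
  obtain ⟨e, f, h1, h2, h3⟩ := key d
  exact ⟨φ e, φ f, by rw [← map_mul, h1, map_one], by rw [← map_mul, h2, map_one],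
    by rw [h3, map_mul]⟩

end DC

/-- `a` has a dihedral centralizer of order `8` and all involutions are conjugate to `a`. -/
structure D8H (a : G) (φ : DihedralGroup 4 →* G) : Prop where
  dc : DC a φ
  conj : ∀ t : G, t ≠ 1 → t * t = 1 → ∃ h : G, h * a * h⁻¹ = t

namespace D8H

variable {a : G} {φ : DihedralGroup 4 →* G}

theorem exists_dc (H : D8H a φ) {t : G} (ht1 : t ≠ 1) (ht : t * t = 1) :
    ∃ ψ : DihedralGroup 4 →* G, DC t ψ := by
  obtain ⟨h, rfl⟩ := H.conj t ht1 ht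
  exact ⟨_, H.dc.conj h⟩

theorem nc (H : D8H a φ) : NC G := by
  intro t g ht1 ht hg1 hodd hc
  obtain ⟨ψ, hψ⟩ := H.exists_dc ht1 ht
  have h4 := hψ.pow_four hc
  have hd : orderOf g ∣ 4 := by
    apply orderOf_dvd_of_pow_eq_one
    rw [show (4 : ℕ) = 2 + 2 from rfl, pow_add, pow_two]; exact h4
  have h1 : orderOf g = 1 := by
    have hcop : Nat.Coprime (orderOf g) 4 := by
      have h3 : Nat.Coprime (orderOf g) (2 ^ 2) :=
        Nat.Coprime.pow_right 2 (Nat.coprime_two_right.mpr hodd)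
      simpa using h3
    exact Nat.Coprime.eq_one_of_dvd hcop hd
  exact hg1 (orderOf_eq_one_iff.mp h1)

end D8H

end Cfsg.Agent.Lib.helper11.D8Cent
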