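import Mathlib
import Cfsg.Agent.Lib.helper11.D8Cent

/-!
# Counting in groups with a dihedral centralizer of order `8`

For `D8H a φ` (the centralizer of the involution `a` is dihedral of order `8` and all involutions
are conjugate) the order of the group is `8 * (13 + |S a|)` where `S a` is the set of
non-identity elements of odd order inverted by `a`.  The analysis of the classes of `S a` under
the centralizer of `a` is in this file.
-/

set_option autoImplicit false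

namespace Cfsg.Agent.Lib.helper11.D8Cent

open Cfsg.Agent.Lib.helper92 Cfsg.Agent.Lib.helper11.FourCent DihedralGroup

variable {G : Type*} [Group G]

/-- If the product of two non-commuting involutions `a`, `t` has even order then its square is
a non-central involution of the centralizer of `a`. -/
theorem D8H.sq_of_even {a : G} {φ : DihedralGroup 4 →* G} (H : D8H a φ) [Finite G] {t : G}
    (ht1 : t ≠ 1) (ht : t * t = 1) (hnc : ¬ t * a = a * t) (hodd : ¬ Odd (orderOf (a * t))) :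
    ∃ i : ZMod 4, (a * t) * (a * t) = φ (sr i) := by
  have ha := H.dc.sq
  have ha1 := H.dc.ne_one
  rw [Nat.not_odd_iff_even] at hodd
  obtain ⟨k, hk⟩ := hodd
  have hpos : 0 < orderOf (a * t) := orderOf_pos (a * t)
  have hk0 : 0 < k := by omega
  have hu1 : (a * t) ^ k ≠ 1 := by
    intro h
    have h1 := Nat.le_of_dvd hk0 (orderOf_dvd_of_pow_eq_one h)
    omega
  have hu2 : (a * t) ^ k * (a * t) ^ k = 1 := by rw [← pow_add, ← hk, pow_orderOf_eq_one]
  have hainv : a⁻¹ = a := inv_eq_self_of_sq ha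
  have htinv : t⁻¹ = t := inv_eq_self_of_sq ht
  have hac : a * (a * t) * a⁻¹ = (a * t)⁻¹ := by
    rw [mul_inv_rev, hainv, htinv, ← mul_assoc, ha, one_mul]
  have htc : t * (a * t) * t⁻¹ = (a * t)⁻¹ := by
    rw [mul_inv_rev, hainv, htinv, mul_assoc, mul_assoc, ht, mul_one]
  have hau : a * (a * t) ^ k * a⁻¹ = ((a * t) ^ k)⁻¹ := by rw [← conj_pow, hac, inv_pow]
  have htu : t * (a * t) ^ k * t⁻¹ = ((a * t) ^ k)⁻¹ := by rw [← conj_pow, htc, inv_pow]
  rw [inv_eq_self_of_sq hu2] at hau htu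
  generalize (a * t) ^ k = u at hu1 hu2 hau htu
  have hau' : a * u = u * a := mul_inv_eq_iff_eq_mul.mp hau
  have htu' : t * u = u * t := mul_inv_eq_iff_eq_mul.mp htu
  obtain ⟨ψ, hψ⟩ := H.exists_dc hu1 hu2
  have hane : a ≠ u := by
    intro h; apply hnc; rw [h]; exact htu'
  have htne : t ≠ u := by
    intro h; apply hnc; rw [h]; exact hau'.symm
  rcases hψ.inv_trichotomy hau' htu' ha ht ha1 ht1 hane htne with h | h | h
  · exact absurd (by rw [h]) hnc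
  · exfalso; apply hnc; rw [h, mul_assoc, hau']
  · obtain ⟨i, hi⟩ := H.dc.eq_sr hau'.symm hu2 hu1 (Ne.symm hane)
    exact ⟨i, h.trans hi⟩

/-- An element conjugating `g ∈ S a` into its own centralizer is a product of an element of
`C(g)` and an element of `C(a)` normalizing `C(g)`. -/
theorem NC.exists_mul_of_conj_mem (H : NC G) [Finite G] {a g k : G} (ha1 : a ≠ 1)
    (ha : a * a = 1) (hg : SA a g) (hk : k⁻¹ * g * k ∈ Subgroup.centralizer ({g} : Set G)) :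
    ∃ d v : G, d ∈ Subgroup.centralizer ({g} : Set G) ∧ v * a = a * v ∧
      v * g * v⁻¹ ∈ Subgroup.centralizer ({g} : Set G) ∧ k = d * v := by
  have hinv := H.inverts ha1 ha hg _ hk
  have ha' : (k * a * k⁻¹) * g * (k * a * k⁻¹)⁻¹ = g⁻¹ := by
    calc (k * a * k⁻¹) * g * (k * a * k⁻¹)⁻¹ = k * (a * (k⁻¹ * g * k) * a⁻¹) * k⁻¹ := by group
      _ = k * (k⁻¹ * g * k)⁻¹ * k⁻¹ := by rw [hinv]
      _ = g⁻¹ := by group
  obtain ⟨d, hd, hda⟩ := H.exists_conj ha1 ha hg ha'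
  have hv : (d⁻¹ * k) * a = a * (d⁻¹ * k) := by
    have h3 : d⁻¹ * (k * a * k⁻¹) * d = a := by rw [hda]; group
    calc d⁻¹ * k * a = (d⁻¹ * (k * a * k⁻¹) * d) * (d⁻¹ * k) := by group
      _ = a * (d⁻¹ * k) := by rw [h3]
  refine ⟨d, d⁻¹ * k, hd, hv, ?_, by group⟩
  have hdg : d * g = g * d := mem_cent.mp hd
  have h1 : (d⁻¹ * k)⁻¹ * g * (d⁻¹ * k)⁻¹⁻¹ ∈ Subgroup.centralizer ({g} : Set G) := by
    have e : (d⁻¹ * k)⁻¹ * g * (d⁻¹ * k)⁻¹⁻¹ = k⁻¹ * g * k := by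
      calc (d⁻¹ * k)⁻¹ * g * (d⁻¹ * k)⁻¹⁻¹ = k⁻¹ * (d * g) * d⁻¹ * k := by group
        _ = k⁻¹ * (g * d) * d⁻¹ * k := by rw [hdg]
        _ = k⁻¹ * g * k := by group
    rw [e]; exact hk
  have h2 := H.inv_conj_mem ha1 ha hg h1
  rwa [inv_inv] at h2

section Count

open Classical

variable [Fintype G]

/-- The involutions. -/
noncomputable def IF (G : Type*) [Group G] [Fintype G] : Finset G :=
  Finset.univ.filter (fun t : G => t ≠ 1 ∧ t * t = 1)

/-- The elements whose square is an involution. -/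
noncomputable def WF (G : Type*) [Group G] [Fintype G] : Finset G :=
  Finset.univ.filter (fun x : G => x * x ≠ 1 ∧ (x * x) * (x * x) = 1)

theorem mem_IF {t : G} : t ∈ IF G ↔ t ≠ 1 ∧ t * t = 1 := by simp [IF]

theorem mem_WF {x : G} : x ∈ WF G ↔ x * x ≠ 1 ∧ (x * x) * (x * x) = 1 := by simp [WF]

theorem DC.CF_eq {a : G} {φ : DihedralGroup 4 →* G} (H : DC a φ) :
    CF a = Finset.univ.image φ := by
  ext x
  rw [mem_CF, Finset.mem_image]
  constructor
  · intro hx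
    obtain ⟨d, hd⟩ := H.mem x hx
    exact ⟨d, Finset.mem_univ _, hd⟩
  · rintro ⟨d, -, rfl⟩
    exact H.comm d

theorem DC.card_CF {a : G} {φ : DihedralGroup 4 →* G} (H : DC a φ) : (CF a).card = 8 := by
  rw [H.CF_eq, Finset.card_image_of_injective _ H.inj, Finset.card_univ, DihedralGroup.card]

namespace D8H

variable {a : G} {φ : DihedralGroup 4 →* G}

theorem card_IF (H : D8H a φ) : Fintype.card G = 8 * (IF G).card := by
  have ha := H.dc.sq
  have ha1 := H.dc.ne_one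
  have hmaps : ((Finset.univ : Finset G) : Set G).MapsTo (fun h => h * a * h⁻¹) (IF G) := by
    intro h _
    rw [Finset.mem_coe, mem_IF]
    refine ⟨fun h1 => ha1 (conj_eq_one_iff.mp h1), ?_⟩
    calc h * a * h⁻¹ * (h * a * h⁻¹) = h * (a * a) * h⁻¹ := by group
      _ = 1 := by rw [ha]; group
  have h2 := Finset.card_eq_sum_card_fiberwise hmaps
  rw [Finset.card_univ] at h2
  have h3 : ∀ t ∈ IF G, (Finset.univ.filter (fun h : G => h * a * h⁻¹ = t)).card = 8 := by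
    intro t ht
    rw [mem_IF] at ht
    obtain ⟨h₀, hh₀⟩ := H.conj t ht.1 ht.2
    rw [← H.dc.card_CF]
    symm
    apply Finset.card_bij (fun c _ => h₀ * c)
    · intro c hc
      rw [mem_CF] at hc
      rw [Finset.mem_filter]
      refine ⟨Finset.mem_univ _, ?_⟩
      calc h₀ * c * a * (h₀ * c)⁻¹ = h₀ * (c * a) * c⁻¹ * h₀⁻¹ := by group
        _ = h₀ * (a * c) * c⁻¹ * h₀⁻¹ := by rw [hc]
        _ = h₀ * a * h₀⁻¹ := by group
        _ = t := hh₀
    · intro c _ c' _ h; exact mul_left_cancel h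
    · intro h hh
      rw [Finset.mem_filter] at hh
      refine ⟨h₀⁻¹ * h, ?_, by group⟩
      rw [mem_CF]
      have e : h * a * h⁻¹ = h₀ * a * h₀⁻¹ := hh.2.trans hh₀.symm
      calc h₀⁻¹ * h * a = h₀⁻¹ * (h * a * h⁻¹) * h := by group
        _ = h₀⁻¹ * (h₀ * a * h₀⁻¹) * h := by rw [e]
        _ = a * (h₀⁻¹ * h) := by group
  rw [Finset.sum_congr rfl h3, Finset.sum_const, smul_eq_mul] at h2
  omega

/-- Every involution has exactly two square roots. -/
theorem card_sqrt (H : D8H a φ) {t : G} (ht1 : t ≠ 1) (ht : t * t = 1) :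
    (Finset.univ.filter (fun x : G => x * x = t)).card = 2 := by
  obtain ⟨ψ, hψ⟩ := H.exists_dc ht1 ht
  have e : Finset.univ.filter (fun x : G => x * x = t) = {ψ (r 1), ψ (r 3)} := by
    ext x
    simp only [Finset.mem_filter, Finset.mem_univ, true_and, Finset.mem_insert,
      Finset.mem_singleton]
    constructor
    · exact hψ.eq_of_sq
    · rintro (rfl | rfl)
      · exact hψ.sqrt_sq
      · exact hψ.sqrt_sq'
  rw [e, Finset.card_pair hψ.sqrt_ne]

theorem card_WF (H : D8H a φ) : (WF G).card = 2 * (IF G).card := by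
  have hmaps : ((WF G : Finset G) : Set G).MapsTo (fun x => x * x) (IF G) := by
    intro x hx
    rw [Finset.mem_coe, mem_WF] at hx
    rw [Finset.mem_coe, mem_IF]; exact hx
  have h2 := Finset.card_eq_sum_card_fiberwise hmaps
  have h3 : ∀ t ∈ IF G, ((WF G).filter (fun x : G => x * x = t)).card = 2 := by
    intro t ht
    rw [mem_IF] at ht
    rw [← H.card_sqrt ht.1 ht.2]
    congr 1
    ext x
    simp only [Finset.mem_filter, Finset.mem_univ, true_and, mem_WF]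
    constructor
    · exact fun h => h.2
    · intro h; rw [h]; exact ⟨ht, rfl⟩
  rw [Finset.sum_congr rfl h3, Finset.sum_const, smul_eq_mul] at h2
  omega

theorem card_inv_comm (H : D8H a φ) :
    ((IF G).filter (fun t => t * a = a * t)).card = 5 := by
  have e : (IF G).filter (fun t => t * a = a * t) =
      (Finset.univ.filter (fun d : DihedralGroup 4 => d ≠ 1 ∧ d * d = 1)).image φ := by
    ext t
    simp only [Finset.mem_filter, mem_IF, Finset.mem_image, Finset.mem_univ, true_and]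
    constructor
    · rintro ⟨⟨h1, h2⟩, h3⟩
      obtain ⟨d, rfl⟩ := H.dc.mem t h3
      exact ⟨d, ⟨fun h => h1 (by rw [h, map_one]),
        H.dc.inj (by rw [map_mul, h2, map_one])⟩, rfl⟩
    · rintro ⟨d, ⟨h1, h2⟩, rfl⟩
      exact ⟨⟨fun h => h1 (H.dc.inj (h.trans (map_one φ).symm)),
        by rw [← map_mul, h2, map_one]⟩, H.dc.comm d⟩
  rw [e, Finset.card_image_of_injective _ H.dc.inj]
  decide

/-- The square roots of the non-central involutions of the centralizer of `a`. -/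
noncomputable def R4 (φ : DihedralGroup 4 →* G) : Finset G :=
  Finset.univ.filter (fun g : G => ∃ i : ZMod 4, g * g = φ (sr i))

theorem mem_R4 {g : G} : g ∈ R4 φ ↔ ∃ i : ZMod 4, g * g = φ (sr i) := by simp [R4]

theorem card_R4 (H : D8H a φ) : (R4 φ).card = 8 := by
  have hinj : Function.Injective (fun i : ZMod 4 => φ (sr i)) := by
    intro i j h
    have h1 := H.dc.inj h
    exact DihedralGroup.sr.inj h1
  have hmaps : ((R4 φ : Finset G) : Set G).MapsTo (fun x => x * x)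
      (Finset.univ.image (fun i : ZMod 4 => φ (sr i))) := by
    intro x hx
    rw [Finset.mem_coe, mem_R4] at hx
    obtain ⟨i, hi⟩ := hx
    rw [Finset.mem_coe, Finset.mem_image]
    exact ⟨i, Finset.mem_univ _, hi.symm⟩
  have h2 := Finset.card_eq_sum_card_fiberwise hmaps
  have h3 : ∀ t ∈ Finset.univ.image (fun i : ZMod 4 => φ (sr i)),
      ((R4 φ).filter (fun x : G => x * x = t)).card = 2 := by
    intro t ht
    rw [Finset.mem_image] at ht
    obtain ⟨i, -, rfl⟩ := ht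
    rw [← H.card_sqrt (H.dc.sr_ne_one i) (DC.sr_sq φ i)]
    congr 1
    ext x
    simp only [Finset.mem_filter, Finset.mem_univ, true_and, mem_R4]
    constructor
    · exact fun h => h.2
    · intro h; exact ⟨⟨i, h⟩, h⟩
  rw [Finset.sum_congr rfl h3, Finset.sum_const, smul_eq_mul,
    Finset.card_image_of_injective _ hinj, Finset.card_univ, ZMod.card] at h2
  omega

/-- The number of involutions is `13 + |S a|`. -/
theorem card_SF (H : D8H a φ) : (IF G).card = 13 + (SF a).card := by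
  have ha := H.dc.sq
  have ha1 := H.dc.ne_one
  have hainv := inv_eq_self_of_sq ha
  have h4 := Finset.card_filter_add_card_filter_not (s := IF G) (fun t : G => t * a = a * t)
  have h5 := H.card_inv_comm
  have h4' := Finset.card_filter_add_card_filter_not
    (s := (IF G).filter (fun t : G => ¬ t * a = a * t)) (fun t : G => Odd (orderOf (a * t)))
  have h6 : (((IF G).filter (fun t : G => ¬ t * a = a * t)).filter
      (fun t : G => Odd (orderOf (a * t)))).card = (SF a).card := by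
    apply Finset.card_bij (fun t _ => a * t)
    · intro t ht
      rw [Finset.mem_filter, Finset.mem_filter, mem_IF] at ht
      obtain ⟨⟨⟨ht1, ht2⟩, hnc⟩, hodd⟩ := ht
      have htinv := inv_eq_self_of_sq ht2
      rw [mem_SF]
      refine ⟨?_, hodd, ?_⟩
      · intro h
        have h3 : t = a := by rw [← hainv]; exact (inv_eq_of_mul_eq_one_right h).symm
        exact hnc (by rw [h3])
      · rw [mul_inv_rev, hainv, htinv, ← mul_assoc, ha, one_mul]
    · intro c _ c' _ h; exact mul_left_cancel h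
    · intro g hg
      rw [mem_SF] at hg
      have hag : a * g * a = g⁻¹ := by have h7 := hg.2.2; rwa [hainv] at h7
      refine ⟨a * g, ?_, by rw [← mul_assoc, ha, one_mul]⟩
      rw [Finset.mem_filter, Finset.mem_filter, mem_IF]
      have hsq : a * g * (a * g) = 1 := by rw [← mul_assoc, hag, inv_mul_cancel]
      refine ⟨⟨⟨?_, hsq⟩, ?_⟩, ?_⟩
      · intro h
        have hga : g = a := by rw [← hainv]; exact (inv_eq_of_mul_eq_one_right h).symm
        exact hg.1 (eq_one_of_odd_of_sq hg.2.1 (by rw [hga]; exact ha))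
      · intro h
        rw [hag, ← mul_assoc, ha, one_mul] at h
        exact hg.1 (eq_one_of_odd_of_sq hg.2.1 (mul_eq_one_iff_inv_eq.mpr h))
      · rw [← mul_assoc, ha, one_mul]; exact hg.2.1
  have h7 : (((IF G).filter (fun t : G => ¬ t * a = a * t)).filter
      (fun t : G => ¬ Odd (orderOf (a * t)))).card = (R4 φ).card := by
    apply Finset.card_bij (fun t _ => a * t)
    · intro t ht
      rw [Finset.mem_filter, Finset.mem_filter, mem_IF] at ht
      obtain ⟨⟨⟨ht1, ht2⟩, hnc⟩, hodd⟩ := ht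
      rw [mem_R4]
      exact H.sq_of_even ht1 ht2 hnc hodd
    · intro c _ c' _ h; exact mul_left_cancel h
    · intro g hg
      rw [mem_R4] at hg
      obtain ⟨i, hi⟩ := hg
      have hw1 := H.dc.sr_ne_one i
      have hw2 := DC.sr_sq φ i
      have hwa := H.dc.comm (sr i)
      have hwne := H.dc.sr_ne i
      obtain ⟨ψ, hψ⟩ := H.exists_dc hw1 hw2
      have hinv : a * g * a⁻¹ = g⁻¹ := hψ.inv_sqrt hwa.symm ha ha1 (Ne.symm hwne) hi
      have hag : a * g * a = g⁻¹ := by rwa [hainv] at hinv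
      have hsq : a * g * (a * g) = 1 := by rw [← mul_assoc, hag, inv_mul_cancel]
      have hgg : g * g ≠ 1 := by rw [hi]; exact hw1
      refine ⟨a * g, ?_, by rw [← mul_assoc, ha, one_mul]⟩
      rw [Finset.mem_filter, Finset.mem_filter, mem_IF]
      refine ⟨⟨⟨?_, hsq⟩, ?_⟩, ?_⟩
      · intro h
        have hga : g = a := by rw [← hainv]; exact (inv_eq_of_mul_eq_one_right h).symm
        exact hgg (by rw [hga]; exact ha)
      · intro h
        rw [hag, ← mul_assoc, ha, one_mul] at h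
        exact hgg (mul_eq_one_iff_inv_eq.mpr h)
      · rw [← mul_assoc, ha, one_mul]
        intro hodd
        have h4 : g * g * (g * g) = 1 := by rw [hi]; exact hw2
        have h8 : (g * g) = 1 := by
          apply eq_one_of_odd_of_sq _ h4
          have hd : orderOf (g * g) ∣ orderOf g := by
            rw [← pow_two]; exact orderOf_pow_dvd 2
          exact hodd.of_dvd_nat hd
        exact hgg h8
  have h8 := H.card_R4
  omega

end D8H

omit [Fintype G] in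
theorem inv_comm_of_comm {v a : G} (h : v * a = a * v) : v⁻¹ * a = a * v⁻¹ := by
  rw [inv_mul_eq_iff_eq_mul, ← mul_assoc, h, mul_assoc, mul_inv_cancel, mul_one]

/-- `r` normalizes the centralizer of `g`. -/
def Nr (φ : DihedralGroup 4 →* G) (g : G) : Prop :=
  φ (r 1) * g * (φ (r 1))⁻¹ ∈ Subgroup.centralizer ({g} : Set G)

/-- The elements of the centralizer of `a` normalizing the centralizer of `g`. -/
noncomputable def TD (a g : G) : Finset G :=
  (CF a).filter (fun u => u * g * u⁻¹ ∈ Subgroup.centralizer ({g} : Set G))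

/-- The conjugates of the non-identity elements of `C(g)` under `C(a)`. -/
noncomputable def AD (a g : G) : Finset G :=
  (CF a ×ˢ CF' g).image (fun p : G × G => p.1 * p.2 * p.1⁻¹)

theorem mem_TD {a g u : G} :
    u ∈ TD a g ↔ u * a = a * u ∧ u * g * u⁻¹ ∈ Subgroup.centralizer ({g} : Set G) := by
  simp [TD, mem_CF]

theorem mem_AD {a g y : G} :
    y ∈ AD a g ↔ ∃ v c : G, v * a = a * v ∧ (c * g = g * c ∧ c ≠ 1) ∧ v * c * v⁻¹ = y := by
  rw [AD, Finset.mem_image]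
  constructor
  · rintro ⟨⟨v, c⟩, hp, hy⟩
    rw [Finset.mem_product, mem_CF, mem_CF'] at hp
    exact ⟨v, c, hp.1, hp.2, hy⟩
  · rintro ⟨v, c, hv, hc, hy⟩
    exact ⟨(v, c), Finset.mem_product.mpr ⟨mem_CF.mpr hv, mem_CF'.mpr hc⟩, hy⟩

theorem AD_subset_XF (a g : G) : AD a g ⊆ XF g := by
  intro y hy
  rw [mem_AD] at hy
  rw [mem_XF]
  obtain ⟨v, c, -, hc, hy⟩ := hy
  exact ⟨v, c, hc, hy⟩

/-- The identity, the involutions and the elements whose square is an involution. -/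
noncomputable def BF (G : Type*) [Group G] [Fintype G] : Finset G := insert 1 (IF G ∪ WF G)

namespace D8H

variable {a : G} {φ : DihedralGroup 4 →* G}

theorem TD_eq_of_Nr (H : D8H a φ) {g : G} (hg : SA a g) (hN : Nr φ g) :
    TD a g = ({r 0, r 1, r 2, r 3} : Finset (DihedralGroup 4)).image φ := by
  have ha := H.dc.sq
  have ha1 := H.dc.ne_one
  have hnc := H.nc
  ext x
  rw [mem_TD, Finset.mem_image]
  constructor
  · rintro ⟨hxa, hx⟩
    obtain ⟨d, rfl⟩ := H.dc.mem x hxa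
    have key : ∀ d : DihedralGroup 4, (∃ i : ZMod 4, d = sr i) ∨
        d ∈ ({r 0, r 1, r 2, r 3} : Finset (DihedralGroup 4)) := by decide
    rcases key d with ⟨i, rfl⟩ | hd
    · exfalso
      exact hnc.not_conj_mem ha1 ha (H.dc.sr_ne_one i) (DC.sr_sq φ i) (H.dc.comm (sr i))
        (H.dc.sr_ne i) hg (mem_cent.mpr rfl) hg.1 hx
    · exact ⟨d, hd, rfl⟩
  · rintro ⟨d, hd, rfl⟩
    refine ⟨H.dc.comm d, ?_⟩
    simp only [Finset.mem_insert, Finset.mem_singleton] at hd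
    rcases hd with rfl | rfl | rfl | rfl
    · have e : (r 0 : DihedralGroup 4) = 1 := rfl
      rw [e, map_one, one_mul, inv_one, mul_one]; exact mem_cent.mpr rfl
    · exact hN
    · rw [H.dc.ha, hg.2.2]; exact (Subgroup.inv_mem_iff _).mpr (mem_cent.mpr rfl)
    · have e : (r 3 : DihedralGroup 4) = (r 1)⁻¹ := by decide
      rw [e, map_inv]
      exact hnc.inv_conj_mem ha1 ha hg hN

theorem TD_eq_of_not_Nr (H : D8H a φ) {g : G} (hg : SA a g) (hN : ¬ Nr φ g) :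
    TD a g = ({r 0, r 2} : Finset (DihedralGroup 4)).image φ := by
  have ha := H.dc.sq
  have ha1 := H.dc.ne_one
  have hnc := H.nc
  ext x
  rw [mem_TD, Finset.mem_image]
  constructor
  · rintro ⟨hxa, hx⟩
    obtain ⟨d, rfl⟩ := H.dc.mem x hxa
    have key : ∀ d : DihedralGroup 4, (∃ i : ZMod 4, d = sr i) ∨ d = r 1 ∨ d = r 3 ∨
        d ∈ ({r 0, r 2} : Finset (DihedralGroup 4)) := by decide
    rcases key d with ⟨i, rfl⟩ | rfl | rfl | hd
    · exfalso
      exact hnc.not_conj_mem ha1 ha (H.dc.sr_ne_one i) (DC.sr_sq φ i) (H.dc.comm (sr i))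
        (H.dc.sr_ne i) hg (mem_cent.mpr rfl) hg.1 hx
    · exact absurd hx hN
    · exfalso
      apply hN
      have h1 := hnc.inv_conj_mem ha1 ha hg hx
      have e : (r 1 : DihedralGroup 4) = (r 3)⁻¹ := by decide
      unfold Nr
      rw [e, map_inv]
      exact h1
    · exact ⟨d, hd, rfl⟩
  · rintro ⟨d, hd, rfl⟩
    refine ⟨H.dc.comm d, ?_⟩
    simp only [Finset.mem_insert, Finset.mem_singleton] at hd
    rcases hd with rfl | rfl
    · have e : (r 0 : DihedralGroup 4) = 1 := rfl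
      rw [e, map_one, one_mul, inv_one, mul_one]; exact mem_cent.mpr rfl
    · rw [H.dc.ha, hg.2.2]; exact (Subgroup.inv_mem_iff _).mpr (mem_cent.mpr rfl)

theorem card_TD_of_Nr (H : D8H a φ) {g : G} (hg : SA a g) (hN : Nr φ g) :
    (TD a g).card = 4 := by
  rw [H.TD_eq_of_Nr hg hN, Finset.card_image_of_injective _ H.dc.inj]
  decide

theorem card_TD_of_not_Nr (H : D8H a φ) {g : G} (hg : SA a g) (hN : ¬ Nr φ g) :
    (TD a g).card = 2 := by
  rw [H.TD_eq_of_not_Nr hg hN, Finset.card_image_of_injective _ H.dc.inj]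
  decide

theorem card_AD (H : D8H a φ) {g : G} (hg : SA a g) :
    (AD a g).card * (TD a g).card = 8 * (CF' g).card := by
  have ha := H.dc.sq
  have ha1 := H.dc.ne_one
  have hnc := H.nc
  have hmaps : (((CF a ×ˢ CF' g : Finset (G × G))) : Set (G × G)).MapsTo
      (fun p : G × G => p.1 * p.2 * p.1⁻¹) (AD a g) := by
    intro p hp
    rw [Finset.mem_coe] at hp ⊢
    exact Finset.mem_image_of_mem _ hp
  have h2 := Finset.card_eq_sum_card_fiberwise hmaps
  have h3 : ∀ y ∈ AD a g, ((CF a ×ˢ CF' g).filter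
      (fun p : G × G => p.1 * p.2 * p.1⁻¹ = y)).card = (TD a g).card := by
    intro y hy
    rw [mem_AD] at hy
    obtain ⟨v₀, c₀, hv₀, hc₀, rfl⟩ := hy
    symm
    apply Finset.card_bij (fun u _ => (v₀ * u, u⁻¹ * c₀ * u))
    · intro u hu
      rw [mem_TD] at hu
      rw [Finset.mem_filter, Finset.mem_product, mem_CF, mem_CF']
      refine ⟨⟨?_, ?_, ?_⟩, by group⟩
      · rw [mul_assoc, hu.1, ← mul_assoc, hv₀, mul_assoc]
      · have h5 := hnc.inv_conj_mem ha1 ha hg hu.2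
        have h6 := (hnc.normalizes_of_conj_mem ha1 ha hg h5 c₀).mp (mem_cent.mpr hc₀.1)
        rw [inv_inv] at h6
        exact mem_cent.mp h6
      · intro h
        apply hc₀.2
        have h7 : u⁻¹ * c₀ * u⁻¹⁻¹ = 1 := by rw [inv_inv]; exact h
        exact conj_eq_one_iff.mp h7
    · intro u _ u' _ h
      have h7 := congrArg Prod.fst h
      exact mul_left_cancel h7
    · intro p hp
      rw [Finset.mem_filter, Finset.mem_product, mem_CF, mem_CF'] at hp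
      obtain ⟨⟨hpa, hpc⟩, hpy⟩ := hp
      refine ⟨v₀⁻¹ * p.1, ?_, ?_⟩
      · rw [mem_TD]
        refine ⟨?_, ?_⟩
        · rw [mul_assoc, hpa, ← mul_assoc, inv_comm_of_comm hv₀, mul_assoc]
        · exact hnc.conj_mem ha1 ha hg (mem_cent.mpr hc₀.1) hc₀.2 hpc.1.symm hpy.symm
      · apply Prod.ext
        · simp
        · show (v₀⁻¹ * p.1)⁻¹ * c₀ * (v₀⁻¹ * p.1) = p.2
          calc (v₀⁻¹ * p.1)⁻¹ * c₀ * (v₀⁻¹ * p.1) = p.1⁻¹ * (v₀ * c₀ * v₀⁻¹) * p.1 := by group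
            _ = p.1⁻¹ * (p.1 * p.2 * p.1⁻¹) * p.1 := by rw [hpy]
            _ = p.2 := by group
  rw [Finset.sum_congr rfl h3, Finset.sum_const, smul_eq_mul, Finset.card_product,
    H.dc.card_CF] at h2
  exact h2.symm

/-- If `r` normalizes the centralizer of `g ∈ S a` then the order of this centralizer is
`1` modulo `4`. -/
theorem four_dvd (H : D8H a φ) {g : G} (hg : SA a g) (hN : Nr φ g) : 4 ∣ (CF' g).card := by
  have ha := H.dc.sq
  have ha1 := H.dc.ne_one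
  have hnc := H.nc
  have hρ2 : φ (r 1) * φ (r 1) = a := H.dc.sqrt_sq
  have hN' : φ (r 1) * g * (φ (r 1))⁻¹ ∈ Subgroup.centralizer ({g} : Set G) := hN
  generalize φ (r 1) = ρ at hρ2 hN'
  let f : G → Finset G := fun c => {c, ρ * c * ρ⁻¹, c⁻¹, (ρ * c * ρ⁻¹)⁻¹}
  have p1 : ∀ c, c ∈ CF' g → ρ * c * ρ⁻¹ ∈ CF' g := by
    intro c hc
    rw [mem_CF'] at hc ⊢
    exact ⟨mem_cent.mp ((hnc.normalizes_of_conj_mem ha1 ha hg hN' c).mp (mem_cent.mpr hc.1)),
      fun h => hc.2 (conj_eq_one_iff.mp h)⟩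
  have p2 : ∀ c, c ∈ CF' g → ρ * (ρ * c * ρ⁻¹) * ρ⁻¹ = c⁻¹ := by
    intro c hc
    rw [mem_CF'] at hc
    have h1 := hnc.inverts ha1 ha hg c (mem_cent.mpr hc.1)
    rw [← hρ2] at h1
    rw [← h1]; group
  have p3 : ∀ c, c ∈ CF' g → c ≠ c⁻¹ := by
    intro c hc h
    rw [mem_CF'] at hc
    have hS := hnc.SA_of_mem ha1 ha hg (mem_cent.mpr hc.1) hc.2
    exact hc.2 (eq_one_of_odd_of_sq hS.2.1 (mul_eq_one_iff_eq_inv.mpr h))
  have p4 : ∀ c, c ∈ CF' g → c⁻¹ ∈ CF' g := by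
    intro c hc
    rw [mem_CF'] at hc ⊢
    exact ⟨mem_cent.mp ((Subgroup.inv_mem_iff _).mpr (mem_cent.mpr hc.1)), inv_ne_one.mpr hc.2⟩
  have hA : ∀ c ∈ CF' g, ∀ c' ∈ f c, c' ∈ CF' g ∧ f c' = f c := by
    intro c hc c' hc'
    have q2 := p2 c hc
    simp only [f, Finset.mem_insert, Finset.mem_singleton] at hc'
    rcases hc' with rfl | rfl | rfl | rfl
    · exact ⟨hc, rfl⟩
    · refine ⟨p1 c hc, ?_⟩
      ext x
      simp only [f, Finset.mem_insert, Finset.mem_singleton, q2, inv_inv]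
      tauto
    · refine ⟨p4 c hc, ?_⟩
      have e : ρ * c⁻¹ * ρ⁻¹ = (ρ * c * ρ⁻¹)⁻¹ := conj_inv.symm
      ext x
      simp only [f, Finset.mem_insert, Finset.mem_singleton, e, inv_inv]
      tauto
    · refine ⟨p4 _ (p1 c hc), ?_⟩
      have e : ρ * (ρ * c * ρ⁻¹)⁻¹ * ρ⁻¹ = c := by
        rw [← conj_inv, q2, inv_inv]
      ext x
      simp only [f, Finset.mem_insert, Finset.mem_singleton, e, inv_inv]
      tauto
  have hB : ∀ c ∈ CF' g, (f c).card = 4 := by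
    intro c hc
    have q2 := p2 c hc
    have n1 : c ≠ c⁻¹ := p3 c hc
    have n2 : ρ * c * ρ⁻¹ ≠ (ρ * c * ρ⁻¹)⁻¹ := p3 _ (p1 c hc)
    have n3 : c ≠ ρ * c * ρ⁻¹ := by
      intro h
      apply n1
      have h1 : ρ * (ρ * c * ρ⁻¹) * ρ⁻¹ = c := by rw [← h, ← h]
      rw [q2] at h1; exact h1.symm
    have n4 : ρ * c * ρ⁻¹ ≠ c⁻¹ := by
      intro h
      apply n1
      have h1 : ρ * (ρ * c * ρ⁻¹) * ρ⁻¹ = c := by
        rw [h]
        calc ρ * c⁻¹ * ρ⁻¹ = (ρ * c * ρ⁻¹)⁻¹ := conj_inv.symm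
          _ = c := by rw [h, inv_inv]
      rw [q2] at h1; exact h1.symm
    have n5 : c ≠ (ρ * c * ρ⁻¹)⁻¹ := by
      intro h
      apply n4
      have h1 := congrArg Inv.inv h
      rw [inv_inv] at h1
      exact h1.symm
    have n6 : c⁻¹ ≠ (ρ * c * ρ⁻¹)⁻¹ := fun h => n3 (inv_injective h)
    simp only [f]
    rw [Finset.card_insert_of_notMem, Finset.card_insert_of_notMem, Finset.card_pair n6]
    · simp only [Finset.mem_insert, Finset.mem_singleton, not_or]; exact ⟨n4, n2⟩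
    · simp only [Finset.mem_insert, Finset.mem_singleton, not_or]; exact ⟨n3, n1, n5⟩
  have hmaps : ((CF' g : Finset G) : Set G).MapsTo f ((CF' g).image f) := by
    intro c hc; exact Finset.mem_image_of_mem _ hc
  have h2 := Finset.card_eq_sum_card_fiberwise hmaps
  have h3 : ∀ q ∈ (CF' g).image f, ((CF' g).filter (fun c => f c = q)).card = 4 := by
    intro q hq
    rw [Finset.mem_image] at hq
    obtain ⟨c₀, hc₀, rfl⟩ := hq
    rw [← hB c₀ hc₀]
    congr 1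
    ext c
    rw [Finset.mem_filter]
    constructor
    · rintro ⟨-, h⟩
      rw [← h]; simp [f]
    · intro h
      exact hA c₀ hc₀ c h
  rw [Finset.sum_congr rfl h3, Finset.sum_const, smul_eq_mul] at h2
  exact Dvd.intro_left _ h2.symm

theorem card_mul_le (H : D8H a φ) {g : G} (hg : SA a g) :
    Fintype.card G * (CF' g).card ≤ (((CF' g).card + 1) * (TD a g).card) * (XF g).card := by
  have ha := H.dc.sq
  have ha1 := H.dc.ne_one
  have hnc := H.nc
  have key := Finset.card_le_mul_card_image (f := fun p : G × G => p.1 * p.2 * p.1⁻¹)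
    (Finset.univ ×ˢ CF' g) (((CF' g).card + 1) * (TD a g).card) ?_
  · rw [Finset.card_product, Finset.card_univ] at key
    exact key
  intro y hy
  rw [Finset.mem_image] at hy
  obtain ⟨⟨h₀, c₀⟩, hp₀, hy₀⟩ := hy
  rw [Finset.mem_product, mem_CF'] at hp₀
  have hT : ((CF g ×ˢ TD a g).image (fun q : G × G => q.1 * q.2)).card ≤
      ((CF' g).card + 1) * (TD a g).card := by
    calc ((CF g ×ˢ TD a g).image (fun q : G × G => q.1 * q.2)).card
        ≤ (CF g ×ˢ TD a g).card := Finset.card_image_le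
      _ = ((CF' g).card + 1) * (TD a g).card := by
          rw [Finset.card_product, card_CF g, card_CF' g]
  refine le_trans (Finset.card_le_card_of_injOn (fun p : G × G => h₀⁻¹ * p.1) ?_ ?_) hT
  · intro p hp
    rw [Finset.mem_coe, Finset.mem_filter, Finset.mem_product, mem_CF'] at hp
    obtain ⟨⟨-, hpc, hpc1⟩, hpy⟩ := hp
    have hw := hnc.conj_mem (z := g) ha1 ha hg (mem_cent.mpr hpc) hpc1 hp₀.2.1.symm
      (hpy.trans hy₀.symm)
    have hk : (h₀⁻¹ * p.1)⁻¹ * g * (h₀⁻¹ * p.1) ∈ Subgroup.centralizer ({g} : Set G) := by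
      have e : (h₀⁻¹ * p.1)⁻¹ * g * (h₀⁻¹ * p.1) = (p.1⁻¹ * h₀) * g * (p.1⁻¹ * h₀)⁻¹ := by
        group
      rw [e]; exact hw
    obtain ⟨d, v, hd, hva, hvg, hkdv⟩ := hnc.exists_mul_of_conj_mem ha1 ha hg hk
    rw [Finset.mem_coe, Finset.mem_image]
    exact ⟨(d, v), Finset.mem_product.mpr ⟨mem_CF.mpr (mem_cent.mp hd),
      mem_TD.mpr ⟨hva, hvg⟩⟩, hkdv.symm⟩
  · intro p hp q hq hpq
    rw [Finset.mem_coe, Finset.mem_filter] at hp hq
    have h1 : p.1 = q.1 := mul_left_cancel hpq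
    have h2 : p.2 = q.2 := by
      have e : p.1 * p.2 * p.1⁻¹ = q.1 * q.2 * q.1⁻¹ := hp.2.trans hq.2.symm
      rw [h1] at e
      exact mul_left_cancel (mul_right_cancel e)
    exact Prod.ext h1 h2

theorem XF_disjoint (H : D8H a φ) {g₁ g₂ : G} (hg₁ : SA a g₁) (hg₂ : SA a g₂)
    (hn : g₂ ∉ AD a g₁) : Disjoint (XF g₁) (XF g₂) := by
  have ha := H.dc.sq
  have ha1 := H.dc.ne_one
  have hnc := H.nc
  rw [Finset.disjoint_left]
  intro y hy₁ hy₂
  apply hn
  rw [mem_XF] at hy₁ hy₂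
  obtain ⟨h₁, c₁, hc₁, e₁⟩ := hy₁
  obtain ⟨h₂, c₂, hc₂, e₂⟩ := hy₂
  obtain ⟨v, hva, hv⟩ := hnc.exists_cent_conj ha1 ha hg₁ hg₂ (mem_cent.mpr hc₁.1) hc₁.2
    (mem_cent.mpr hc₂.1) (e₁.trans e₂.symm)
  rw [mem_AD]
  exact ⟨v⁻¹, v * g₂ * v⁻¹, inv_comm_of_comm hva,
    ⟨mem_cent.mp hv, fun h => hg₂.1 (conj_eq_one_iff.mp h)⟩, by group⟩

theorem AD_subset_SF (H : D8H a φ) {g : G} (hg : SA a g) : AD a g ⊆ SF a := by
  intro y hy
  rw [mem_AD] at hy
  rw [mem_SF]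
  obtain ⟨v, c, hv, hc, rfl⟩ := hy
  have hcS := H.nc.SA_of_mem H.dc.ne_one H.dc.sq hg (mem_cent.mpr hc.1) hc.2
  refine ⟨fun h => hc.2 (conj_eq_one_iff.mp h), ?_, ?_⟩
  · have e : orderOf (v * c * v⁻¹) = orderOf c := by
      rw [← MulAut.conj_apply]; exact MulEquiv.orderOf_eq _ _
    rw [e]; exact hcS.2.1
  · calc a * (v * c * v⁻¹) * a⁻¹ = (a * v) * c * (a * v)⁻¹ := by group
      _ = (v * a) * c * (v * a)⁻¹ := by rw [hv]
      _ = v * (a * c * a⁻¹) * v⁻¹ := by group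
      _ = v * c⁻¹ * v⁻¹ := by rw [hcS.2.2]
      _ = (v * c * v⁻¹)⁻¹ := by group

theorem card_BF (H : D8H a φ) : (BF G).card = 1 + 3 * (IF G).card := by
  have hd : Disjoint (IF G) (WF G) := by
    rw [Finset.disjoint_left]
    intro x h1 h2
    rw [mem_IF] at h1
    rw [mem_WF] at h2
    exact h2.1 h1.2
  have h1 : (1 : G) ∉ IF G ∪ WF G := by
    rw [Finset.mem_union, mem_IF, mem_WF]; simp
  rw [BF, Finset.card_insert_of_notMem h1, Finset.card_union_of_disjoint hd, H.card_WF]; ring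

theorem XF_disjoint_BF (H : D8H a φ) {g : G} (hg : SA a g) : Disjoint (XF g) (BF G) := by
  rw [Finset.disjoint_left]
  intro y hy hB
  rw [mem_XF] at hy
  obtain ⟨h, c, hc, rfl⟩ := hy
  have hcS := H.nc.SA_of_mem H.dc.ne_one H.dc.sq hg (mem_cent.mpr hc.1) hc.2
  have ho : Odd (orderOf (h * c * h⁻¹)) := by
    have e : orderOf (h * c * h⁻¹) = orderOf c := by
      rw [← MulAut.conj_apply]; exact MulEquiv.orderOf_eq _ _
    rw [e]; exact hcS.2.1
  have h1 : h * c * h⁻¹ ≠ 1 := fun h1 => hc.2 (conj_eq_one_iff.mp h1)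
  rw [BF, Finset.mem_insert, Finset.mem_union, mem_IF, mem_WF] at hB
  rcases hB with hB | hB | hB
  · exact h1 hB
  · exact h1 (eq_one_of_odd_of_sq ho hB.2)
  · apply hB.1
    apply eq_one_of_odd_of_sq _ hB.2
    have hd : orderOf ((h * c * h⁻¹) * (h * c * h⁻¹)) ∣ orderOf (h * c * h⁻¹) := by
      rw [← pow_two]; exact orderOf_pow_dvd 2
    exact ho.of_dvd_nat hd

end D8H

/-- The numerical data of a class. -/
def Facts (n D A X : ℕ) (N : Prop) : Prop :=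
  Even D ∧ 2 ≤ D ∧ (D + 1) ∣ n ∧
    ((¬ N ∧ A = 4 * D ∧ n * D ≤ 2 * (D + 1) * X) ∨
      (N ∧ A = 2 * D ∧ n * D ≤ 4 * (D + 1) * X ∧ 4 ∣ D))

theorem D8H.facts {a : G} {φ : DihedralGroup 4 →* G} (H : D8H a φ) {g : G} (hg : SA a g) :
    Facts (Fintype.card G) (CF' g).card (AD a g).card (XF g).card (Nr φ g) := by
  have hodd : Odd ((CF' g).card + 1) := by
    rw [card_CF']; exact H.nc.odd_card_cent hg.1 hg.2.1
  have hpos : 0 < (CF' g).card := Finset.card_pos.mpr ⟨g, mem_CF'.mpr ⟨rfl, hg.1⟩⟩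
  have hev : Even (CF' g).card := by
    obtain ⟨k, hk⟩ := hodd
    exact ⟨k, by omega⟩
  have h2 : 2 ≤ (CF' g).card := by
    obtain ⟨k, hk⟩ := hev
    omega
  refine ⟨hev, h2, dvd_card' g, ?_⟩
  have hA := H.card_AD hg
  have hX := H.card_mul_le hg
  by_cases hN : Nr φ g
  · right
    rw [H.card_TD_of_Nr hg hN] at hA hX
    refine ⟨hN, by omega, ?_, H.four_dvd hg hN⟩
    calc Fintype.card G * (CF' g).card ≤ ((CF' g).card + 1) * 4 * (XF g).card := hX
      _ = 4 * ((CF' g).card + 1) * (XF g).card := by ring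
  · left
    rw [H.card_TD_of_not_Nr hg hN] at hA hX
    refine ⟨hN, by omega, ?_⟩
    calc Fintype.card G * (CF' g).card ≤ ((CF' g).card + 1) * 2 * (XF g).card := hX
      _ = 2 * ((CF' g).card + 1) * (XF g).card := by ring

end Count

theorem Facts.le_three {n D A X : ℕ} {N : Prop} (F : Facts n D A X N) (hN : ¬ N) :
    n ≤ 3 * X := by
  obtain ⟨-, h2, -, hc⟩ := F
  rcases hc with ⟨-, -, b⟩ | ⟨hN', -⟩
  · have h : n * D ≤ (3 * X) * D := by
      calc n * D ≤ 2 * (D + 1) * X := b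
        _ ≤ (3 * D) * X := Nat.mul_le_mul_right _ (by omega)
        _ = (3 * X) * D := by ring
    exact Nat.le_of_mul_le_mul_right h (by omega)
  · exact absurd hN' hN

theorem Facts.le_five {n D A X : ℕ} {N : Prop} (F : Facts n D A X N) : n ≤ 5 * X := by
  by_cases hN : N
  · obtain ⟨-, h2, -, hc⟩ := F
    rcases hc with ⟨hN', -⟩ | ⟨-, -, b, f⟩
    · exact absurd hN hN'
    · have hD : 4 ≤ D := by obtain ⟨j, hj⟩ := f; omega
      have h : n * D ≤ (5 * X) * D := by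
        calc n * D ≤ 4 * (D + 1) * X := b
          _ ≤ (5 * D) * X := Nat.mul_le_mul_right _ (by omega)
          _ = (5 * X) * D := by ring
      exact Nat.le_of_mul_le_mul_right h (by omega)
  · have := F.le_three hN
    omega

theorem coprime_eight_of_even {D : ℕ} (h : Even D) : Nat.Coprime (D + 1) 8 := by
  have h3 : Nat.Coprime (D + 1) (2 ^ 3) :=
    Nat.Coprime.pow_right 3 (Nat.coprime_two_right.mpr h.add_one)
  simpa using h3

theorem arith1 {n D A X : ℕ} {N : Prop} (F : Facts n D A X N) (hn : n = 8 * (13 + A)) :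
    ¬ N ∧ ((D = 2 ∧ n = 168) ∨ (D = 8 ∧ n = 360)) := by
  obtain ⟨hev, h2, hd, hc⟩ := F
  have hcop := coprime_eight_of_even hev
  rcases hc with ⟨hN, hA, -⟩ | ⟨hN, hA, -, h4⟩
  · refine ⟨hN, ?_⟩
    have e : n = 32 * (D + 1) + 8 * 9 := by omega
    rw [e] at hd
    have h5 : D + 1 ∣ 8 * 9 := (Nat.dvd_add_right (Dvd.intro_left 32 rfl)).mp hd
    have h6 : D + 1 ∣ 3 ^ 2 := hcop.dvd_of_dvd_mul_left h5
    obtain ⟨i, hi, hi2⟩ := (Nat.dvd_prime_pow Nat.prime_three).1 h6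
    interval_cases i <;> norm_num at hi2
    · omega
    · left; omega
    · right; omega
  · exfalso
    have e : n = 16 * (D + 1) + 8 * 11 := by omega
    rw [e] at hd
    have h5 : D + 1 ∣ 8 * 11 := (Nat.dvd_add_right (Dvd.intro_left 16 rfl)).mp hd
    have h6 : D + 1 ∣ 11 := hcop.dvd_of_dvd_mul_left h5
    rcases (Nat.dvd_prime (by norm_num : Nat.Prime 11)).1 h6 with h7 | h7 <;> omega

theorem bound8 {n D X : ℕ} (b : n * D ≤ 4 * (D + 1) * X) (hX : 40 * X + 40 ≤ 9 * n) :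
    D ≤ 8 := by
  by_contra hcon
  push Not at hcon
  have h1 := Nat.mul_le_mul_left (D + 1) hX
  have h2 := Nat.mul_le_mul_left n (show 9 ≤ D by omega)
  nlinarith [b, h1, h2]

theorem arith24 {n D₁ D₂ X₁ X₂ : ℕ} (hn : n = 8 * (13 + 4 * D₁ + 2 * D₂))
    (hb : 8 * (X₁ + X₂) + 8 ≤ 5 * n) (e1 : Even D₁) (g1 : 2 ≤ D₁) (d1 : D₁ + 1 ∣ n)
    (b1 : n * D₁ ≤ 2 * (D₁ + 1) * X₁) (d2 : D₂ + 1 ∣ n) (b2 : n * D₂ ≤ 4 * (D₂ + 1) * X₂)
    (f2 : 4 ∣ D₂) (g2 : 2 ≤ D₂) : n = 360 ∧ D₁ = 4 ∧ D₂ = 8 := by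
  have h5 : n ≤ 5 * X₂ := by
    have hD : 4 ≤ D₂ := by obtain ⟨j, hj⟩ := f2; omega
    have h : n * D₂ ≤ (5 * X₂) * D₂ := by
      calc n * D₂ ≤ 4 * (D₂ + 1) * X₂ := b2
        _ ≤ (5 * D₂) * X₂ := Nat.mul_le_mul_right _ (by omega)
        _ = (5 * X₂) * D₂ := by ring
    exact Nat.le_of_mul_le_mul_right h (by omega)
  have hX1 : 40 * X₁ + 40 ≤ 17 * n := by omega
  have hD1 : D₁ ≤ 5 := by
    by_contra hcon
    push Not at hcon
    have h1 := Nat.mul_le_mul_left (D₁ + 1) hX1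
    have h2 := Nat.mul_le_mul_left n (show 6 ≤ D₁ by omega)
    nlinarith [b1, h1, h2]
  have hev2 : Even D₂ := by obtain ⟨j, hj⟩ := f2; exact ⟨2 * j, by omega⟩
  obtain ⟨j, hj⟩ := e1
  have hj' : j = 1 ∨ j = 2 := by omega
  rcases hj' with rfl | rfl
  · exfalso
    have hD1' : D₁ = 2 := by omega
    subst hD1'
    have e : n = 16 * (D₂ + 1) + 8 * 19 := by omega
    have hcop := coprime_eight_of_even hev2
    rw [e] at d2
    have h5 : D₂ + 1 ∣ 8 * 19 := (Nat.dvd_add_right (Dvd.intro_left 16 rfl)).mp d2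
    have h6 : D₂ + 1 ∣ 19 := hcop.dvd_of_dvd_mul_left h5
    obtain ⟨j, hj⟩ := f2
    rcases (Nat.dvd_prime (by norm_num : Nat.Prime 19)).1 h6 with h7 | h7 <;> omega
  · have hD1' : D₁ = 4 := by omega
    subst hD1'
    have hX2 : 40 * X₂ + 40 ≤ 9 * n := by omega
    have hD2 := bound8 b2 hX2
    obtain ⟨q, hq⟩ := d1
    obtain ⟨j, hj⟩ := f2
    have hj2 : j = 1 ∨ j = 2 := by omega
    rcases hj2 with rfl | rfl
    · exfalso; omega
    · exact ⟨by omega, rfl, by omega⟩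

theorem arith44_aux {n D₁ D₂ : ℕ} (hn : n = 8 * (13 + 2 * D₁ + 2 * D₂)) (d1 : D₁ + 1 ∣ n)
    (d2 : D₂ + 1 ∣ n) (f1 : 4 ∣ D₁) (f2 : 4 ∣ D₂) (g1 : 2 ≤ D₁) (hle : D₁ ≤ D₂) :
    n = 360 ∧ D₁ = 8 ∧ D₂ = 8 := by
  have hev1 : Even D₁ := by obtain ⟨j, hj⟩ := f1; exact ⟨2 * j, by omega⟩
  have hev2 : Even D₂ := by obtain ⟨j, hj⟩ := f2; exact ⟨2 * j, by omega⟩
  have hcop1 := coprime_eight_of_even hev1
  have hcop2 := coprime_eight_of_even hev2
  obtain ⟨j₁, hj₁⟩ := f1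
  obtain ⟨j₂, hj₂⟩ := f2
  have hA : D₁ + 1 ∣ 2 * (D₂ + 1) + 9 := by
    have e : n = 16 * (D₁ + 1) + 8 * (2 * (D₂ + 1) + 9) := by omega
    rw [e] at d1
    exact hcop1.dvd_of_dvd_mul_left ((Nat.dvd_add_right (Dvd.intro_left 16 rfl)).mp d1)
  have hB : D₂ + 1 ∣ 2 * (D₁ + 1) + 9 := by
    have e : n = 16 * (D₂ + 1) + 8 * (2 * (D₁ + 1) + 9) := by omega
    rw [e] at d2
    exact hcop2.dvd_of_dvd_mul_left ((Nat.dvd_add_right (Dvd.intro_left 16 rfl)).mp d2)
  obtain ⟨l, hl⟩ := hB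
  rcases Nat.lt_or_ge l 3 with h3 | h3
  · interval_cases l
    · omega
    · exfalso
      have h4 : D₁ + 1 ∣ 3 ^ 3 := by
        have e : 2 * (D₂ + 1) + 9 = 4 * (D₁ + 1) + 3 ^ 3 := by omega
        rw [e] at hA
        exact (Nat.dvd_add_right (Dvd.intro_left 4 rfl)).mp hA
      obtain ⟨i, hi, hi2⟩ := (Nat.dvd_prime_pow Nat.prime_three).1 h4
      interval_cases i <;> norm_num at hi2 <;> omega
    · omega
  · have h4 : (D₂ + 1) * 3 ≤ (D₂ + 1) * l := Nat.mul_le_mul_left _ h3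
    rw [← hl] at h4
    have h5 : D₂ ≤ 8 := by omega
    have h6 : j₂ = 1 ∨ j₂ = 2 := by omega
    have h7 : j₁ = 1 ∨ j₁ = 2 := by omega
    obtain ⟨q, hq⟩ := hA
    subst hj₁ hj₂
    rcases h6 with rfl | rfl <;> rcases h7 with rfl | rfl
    · exfalso; omega
    · exfalso; omega
    · exfalso; omega
    · exact ⟨by omega, by omega, by omega⟩

theorem arith44 {n D₁ D₂ : ℕ} (hn : n = 8 * (13 + 2 * D₁ + 2 * D₂)) (d1 : D₁ + 1 ∣ n)
    (d2 : D₂ + 1 ∣ n) (f1 : 4 ∣ D₁) (f2 : 4 ∣ D₂) (g1 : 2 ≤ D₁) (g2 : 2 ≤ D₂) :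
    n = 360 ∧ D₁ = 8 ∧ D₂ = 8 := by
  rcases le_total D₁ D₂ with hle | hle
  · exact arith44_aux hn d1 d2 f1 f2 g1 hle
  · obtain ⟨h1, h2, h3⟩ := arith44_aux (by omega) d2 d1 f2 f1 g2 hle
    exact ⟨h1, h3, h2⟩

theorem arith2 {n D₁ A₁ X₁ D₂ A₂ X₂ : ℕ} {N₁ N₂ : Prop} (F₁ : Facts n D₁ A₁ X₁ N₁)
    (F₂ : Facts n D₂ A₂ X₂ N₂) (hn : n = 8 * (13 + A₁ + A₂))
    (hb : 8 * (X₁ + X₂) + 8 ≤ 5 * n) :
    n = 360 ∧ ((¬ N₁ ∧ D₁ = 4 ∧ N₂ ∧ D₂ = 8) ∨ (N₁ ∧ D₁ = 8 ∧ ¬ N₂ ∧ D₂ = 4) ∨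
      (N₁ ∧ N₂ ∧ D₁ = 8 ∧ D₂ = 8)) := by
  have l1 := F₁.le_three
  have l2 := F₂.le_three
  obtain ⟨e1, g1, d1, c1⟩ := F₁
  obtain ⟨e2, g2, d2, c2⟩ := F₂
  rcases c1 with ⟨hN1, hA1, b1⟩ | ⟨hN1, hA1, b1, f1⟩ <;>
    rcases c2 with ⟨hN2, hA2, b2⟩ | ⟨hN2, hA2, b2, f2⟩
  · exfalso
    have := l1 hN1
    have := l2 hN2
    omega
  · subst hA1 hA2
    obtain ⟨h1, h2, h3⟩ := arith24 hn hb e1 g1 d1 b1 d2 b2 f2 g2
    exact ⟨h1, Or.inl ⟨hN1, h2, hN2, h3⟩⟩
  · subst hA1 hA2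
    obtain ⟨h1, h2, h3⟩ := arith24 (by omega) (by omega) e2 g2 d2 b2 d1 b1 f1 g1
    exact ⟨h1, Or.inr (Or.inl ⟨hN1, h3, hN2, h2⟩)⟩
  · subst hA1 hA2
    obtain ⟨h1, h2, h3⟩ := arith44 hn d1 d2 f1 f2 g1 g2
    exact ⟨h1, Or.inr (Or.inr ⟨hN1, hN2, h2, h3⟩)⟩

theorem Facts.of_N {n D A X : ℕ} {N : Prop} (F : Facts n D A X N) (hN : N) :
    A = 2 * D ∧ n * D ≤ 4 * (D + 1) * X ∧ 4 ∣ D ∧ D + 1 ∣ n := by
  obtain ⟨-, -, d, hc⟩ := F
  rcases hc with ⟨hN', -⟩ | ⟨-, hA, b, f⟩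
  · exact absurd hN hN'
  · exact ⟨hA, b, f, d⟩

theorem arith3 {n D₁ A₁ X₁ D₂ A₂ X₂ D₃ A₃ X₃ : ℕ} {N₁ N₂ N₃ : Prop}
    (F₁ : Facts n D₁ A₁ X₁ N₁) (F₂ : Facts n D₂ A₂ X₂ N₂) (F₃ : Facts n D₃ A₃ X₃ N₃)
    (hn : n = 8 * (13 + A₁ + A₂ + A₃)) (hb : 8 * (X₁ + X₂ + X₃) + 8 ≤ 5 * n) :
    n = 360 ∧ ((D₁ = 4 ∧ D₂ = 4) ∨ (D₁ = 4 ∧ D₃ = 4) ∨ (D₂ = 4 ∧ D₃ = 4)) := by
  have m1 := F₁.le_five
  have m2 := F₂.le_five
  have m3 := F₃.le_five
  have hN1 : N₁ := by
    by_contra h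
    have := F₁.le_three h
    omega
  have hN2 : N₂ := by
    by_contra h
    have := F₂.le_three h
    omega
  have hN3 : N₃ := by
    by_contra h
    have := F₃.le_three h
    omega
  obtain ⟨hA1, b1, f1, d1⟩ := F₁.of_N hN1
  obtain ⟨hA2, b2, f2, d2⟩ := F₂.of_N hN2
  obtain ⟨hA3, b3, f3, d3⟩ := F₃.of_N hN3
  have g1 := F₁.2.1
  have g2 := F₂.2.1
  have g3 := F₃.2.1
  subst hA1 hA2 hA3
  have k1 := bound8 b1 (by omega)
  have k2 := bound8 b2 (by omega)
  have k3 := bound8 b3 (by omega)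
  obtain ⟨j₁, hj₁⟩ := f1
  obtain ⟨j₂, hj₂⟩ := f2
  obtain ⟨j₃, hj₃⟩ := f3
  obtain ⟨q₁, hq₁⟩ := d1
  obtain ⟨q₂, hq₂⟩ := d2
  obtain ⟨q₃, hq₃⟩ := d3
  have h1 : j₁ = 1 ∨ j₁ = 2 := by omega
  have h2 : j₂ = 1 ∨ j₂ = 2 := by omega
  have h3 : j₃ = 1 ∨ j₃ = 2 := by omega
  subst hj₁ hj₂ hj₃
  rcases h1 with rfl | rfl <;> rcases h2 with rfl | rfl <;> rcases h3 with rfl | rfl
  · exfalso; omega
  · exact ⟨by omega, Or.inl ⟨by omega, by omega⟩⟩
  · exact ⟨by omega, Or.inr (Or.inl ⟨by omega, by omega⟩)⟩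
  · exfalso; omega
  · exact ⟨by omega, Or.inr (Or.inr ⟨by omega, by omega⟩)⟩
  · exfalso; omega
  · exfalso; omega
  · exfalso; omega

section Main

open Classical

variable [Fintype G]

theorem D8H.main_fin {a : G} {φ : DihedralGroup 4 →* G} (H : D8H a φ) :
    (Fintype.card G = 104 ∧ SF a = ∅) ∨
    (Fintype.card G = 168 ∧ ∃ g, SA a g ∧ (CF' g).card = 2) ∨
    (Fintype.card G = 360 ∧ ∃ g, SA a g ∧ (CF' g).card = 8 ∧ ¬ Nr φ g) ∨
    (Fintype.card G = 360 ∧ ∃ g₁ g₂, SA a g₁ ∧ SA a g₂ ∧ (CF' g₁).card = 4 ∧ ¬ Nr φ g₁ ∧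
      (CF' g₂).card = 8 ∧ Nr φ g₂ ∧ Disjoint (XF g₁) (XF g₂)) ∨
    (Fintype.card G = 360 ∧ ∃ g₁ g₂, SA a g₁ ∧ SA a g₂ ∧ Disjoint (XF g₁) (XF g₂) ∧
      (((CF' g₁).card = 8 ∧ (CF' g₂).card = 8) ∨ ((CF' g₁).card = 4 ∧ (CF' g₂).card = 4))) := by
  have hI := H.card_IF
  have hS := H.card_SF
  have hB := H.card_BF
  by_cases hS0 : SF a = ∅
  · left
    rw [hS0, Finset.card_empty] at hS
    exact ⟨by omega, hS0⟩
  right
  obtain ⟨g₁, hg₁⟩ := Finset.nonempty_iff_ne_empty.mpr hS0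
  rw [mem_SF] at hg₁
  have F₁ := H.facts hg₁
  have hX₁ := H.XF_disjoint_BF hg₁
  by_cases h1 : SF a ⊆ AD a g₁
  · have e : SF a = AD a g₁ := Finset.Subset.antisymm h1 (H.AD_subset_SF hg₁)
    rw [e] at hS
    obtain ⟨hN, hc⟩ := arith1 F₁ (by omega)
    rcases hc with ⟨hD, hn⟩ | ⟨hD, hn⟩
    · left; exact ⟨hn, g₁, hg₁, hD⟩
    · right; left; exact ⟨hn, g₁, hg₁, hD, hN⟩
  obtain ⟨g₂, hg₂, hg₂'⟩ := Finset.not_subset.mp h1
  rw [mem_SF] at hg₂
  have F₂ := H.facts hg₂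
  have hX₂ := H.XF_disjoint_BF hg₂
  have hd12 := H.XF_disjoint hg₁ hg₂ hg₂'
  have hdA12 : Disjoint (AD a g₁) (AD a g₂) :=
    Finset.disjoint_of_subset_left (AD_subset_XF a g₁)
      (Finset.disjoint_of_subset_right (AD_subset_XF a g₂) hd12)
  by_cases h2 : SF a ⊆ AD a g₁ ∪ AD a g₂
  · have e : SF a = AD a g₁ ∪ AD a g₂ := Finset.Subset.antisymm h2
      (Finset.union_subset (H.AD_subset_SF hg₁) (H.AD_subset_SF hg₂))
    rw [e, Finset.card_union_of_disjoint hdA12] at hS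
    have hle : (XF g₁ ∪ XF g₂).card + (BF G).card ≤ Fintype.card G := by
      rw [← Finset.card_union_of_disjoint (Finset.disjoint_union_left.mpr ⟨hX₁, hX₂⟩),
        ← Finset.card_univ]
      exact Finset.card_le_card (Finset.subset_univ _)
    rw [Finset.card_union_of_disjoint hd12] at hle
    obtain ⟨hn, hc⟩ := arith2 F₁ F₂ (by omega) (by omega)
    rcases hc with ⟨hN1, hD1, hN2, hD2⟩ | ⟨hN1, hD1, hN2, hD2⟩ | ⟨hN1, hN2, hD1, hD2⟩
    · right; right; left; exact ⟨hn, g₁, g₂, hg₁, hg₂, hD1, hN1, hD2, hN2, hd12⟩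
    · right; right; left; exact ⟨hn, g₂, g₁, hg₂, hg₁, hD2, hN2, hD1, hN1, hd12.symm⟩
    · right; right; right; exact ⟨hn, g₁, g₂, hg₁, hg₂, hd12, Or.inl ⟨hD1, hD2⟩⟩
  obtain ⟨g₃, hg₃, hg₃'⟩ := Finset.not_subset.mp h2
  rw [mem_SF] at hg₃
  rw [Finset.mem_union, not_or] at hg₃'
  have F₃ := H.facts hg₃
  have hX₃ := H.XF_disjoint_BF hg₃
  have hd13 := H.XF_disjoint hg₁ hg₃ hg₃'.1
  have hd23 := H.XF_disjoint hg₂ hg₃ hg₃'.2
  have hdA13 : Disjoint (AD a g₁) (AD a g₃) :=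
    Finset.disjoint_of_subset_left (AD_subset_XF a g₁)
      (Finset.disjoint_of_subset_right (AD_subset_XF a g₃) hd13)
  have hdA23 : Disjoint (AD a g₂) (AD a g₃) :=
    Finset.disjoint_of_subset_left (AD_subset_XF a g₂)
      (Finset.disjoint_of_subset_right (AD_subset_XF a g₃) hd23)
  by_cases h3 : SF a ⊆ AD a g₁ ∪ AD a g₂ ∪ AD a g₃
  · have e : SF a = AD a g₁ ∪ AD a g₂ ∪ AD a g₃ := Finset.Subset.antisymm h3
      (Finset.union_subset (Finset.union_subset (H.AD_subset_SF hg₁) (H.AD_subset_SF hg₂))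
        (H.AD_subset_SF hg₃))
    rw [e, Finset.card_union_of_disjoint (Finset.disjoint_union_left.mpr ⟨hdA13, hdA23⟩),
      Finset.card_union_of_disjoint hdA12] at hS
    have hle : (XF g₁ ∪ XF g₂ ∪ XF g₃).card + (BF G).card ≤ Fintype.card G := by
      rw [← Finset.card_union_of_disjoint (Finset.disjoint_union_left.mpr
        ⟨Finset.disjoint_union_left.mpr ⟨hX₁, hX₂⟩, hX₃⟩), ← Finset.card_univ]
      exact Finset.card_le_card (Finset.subset_univ _)
    rw [Finset.card_union_of_disjoint (Finset.disjoint_union_left.mpr ⟨hd13, hd23⟩),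
      Finset.card_union_of_disjoint hd12] at hle
    obtain ⟨hn, hc⟩ := arith3 F₁ F₂ F₃ (by omega) (by omega)
    right; right; right
    rcases hc with ⟨k1, k2⟩ | ⟨k1, k2⟩ | ⟨k1, k2⟩
    · exact ⟨hn, g₁, g₂, hg₁, hg₂, hd12, Or.inr ⟨k1, k2⟩⟩
    · exact ⟨hn, g₁, g₃, hg₁, hg₃, hd13, Or.inr ⟨k1, k2⟩⟩
    · exact ⟨hn, g₂, g₃, hg₂, hg₃, hd23, Or.inr ⟨k1, k2⟩⟩
  · exfalso
    obtain ⟨g₄, hg₄, hg₄'⟩ := Finset.not_subset.mp h3
    rw [mem_SF] at hg₄
    rw [Finset.mem_union, Finset.mem_union, not_or, not_or] at hg₄'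
    have F₄ := H.facts hg₄
    have hX₄ := H.XF_disjoint_BF hg₄
    have hd14 := H.XF_disjoint hg₁ hg₄ hg₄'.1.1
    have hd24 := H.XF_disjoint hg₂ hg₄ hg₄'.1.2
    have hd34 := H.XF_disjoint hg₃ hg₄ hg₄'.2
    have hle : (XF g₁ ∪ XF g₂ ∪ XF g₃ ∪ XF g₄).card + (BF G).card ≤ Fintype.card G := by
      rw [← Finset.card_union_of_disjoint (Finset.disjoint_union_left.mpr
        ⟨Finset.disjoint_union_left.mpr ⟨Finset.disjoint_union_left.mpr ⟨hX₁, hX₂⟩, hX₃⟩, hX₄⟩),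
        ← Finset.card_univ]
      exact Finset.card_le_card (Finset.subset_univ _)
    rw [Finset.card_union_of_disjoint (Finset.disjoint_union_left.mpr
        ⟨Finset.disjoint_union_left.mpr ⟨hd14, hd24⟩, hd34⟩),
      Finset.card_union_of_disjoint (Finset.disjoint_union_left.mpr ⟨hd13, hd23⟩),
      Finset.card_union_of_disjoint hd12] at hle
    have m1 := F₁.le_five
    have m2 := F₂.le_five
    have m3 := F₃.le_five
    have m4 := F₄.le_five
    omega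

end Main

end Cfsg.Agent.Lib.helper11.D8Cent
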