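import Mathlib
import Cfsg.Agent.Lib.helper11.D8Count
import Cfsg.Agent.Lib.helper11.SmallSimple
import Cfsg.Agent.Lib.helper92.SylowConj

/-!
# Groups with a dihedral centralizer of order `8`: order `168` or `360`, simplicity

The cases left open by `D8H.main_fin` are excluded with Sylow's theorems, and the group is shown
to be simple.
-/

set_option autoImplicit false

namespace Cfsg.Agent.Lib.helper11.D8Cent

open Cfsg.Agent.Lib.helper92 Cfsg.Agent.Lib.helper11.FourCent DihedralGroup
open Cfsg.Agent.Lib.helper11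

variable {G : Type*} [Group G]

/-- A subgroup of order `p ^ k` of a group of order `p ^ k * m`, `p ∤ m`, is a Sylow
subgroup. -/
theorem exists_sylow_eq [Finite G] {p k m : ℕ} [Fact p.Prime] (hpm : ¬ p ∣ m)
    (hn : Nat.card G = p ^ k * m) (C : Subgroup G) (hC : Nat.card C = p ^ k) :
    ∃ P : Sylow p G, (P : Subgroup G) = C := by
  obtain ⟨Q, hQ⟩ := (IsPGroup.of_card hC).exists_le_sylow
  refine ⟨Q, ?_⟩
  have h1 := (card_sylow_of_card_eq p k m hpm hn Q).1
  exact (Subgroup.eq_of_le_of_card_ge hQ (by rw [h1, hC])).symm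

section Fin

open Classical

variable [Fintype G] {a : G} {φ : DihedralGroup 4 →* G}

theorem D8H.not_disjoint_of_sylow (_H : D8H a φ) {p k m : ℕ} [Fact p.Prime] (hpm : ¬ p ∣ m)
    (hn : Fintype.card G = p ^ k * m) {g₁ g₂ : G} (_hg₁ : SA a g₁) (hg₂ : SA a g₂)
    (h1 : (CF' g₁).card + 1 = p ^ k) (h2 : (CF' g₂).card + 1 = p ^ k) :
    ¬ Disjoint (XF g₁) (XF g₂) := by
  intro hd
  have hC1 : Nat.card (Subgroup.centralizer ({g₁} : Set G)) = p ^ k := by rw [← card_CF', h1]
  obtain ⟨P, hP⟩ := exists_sylow_eq hpm (by rw [Nat.card_eq_fintype_card, hn]) _ hC1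
  have ho : orderOf g₂ ∣ p ^ k := by
    rw [← h2, card_CF']
    have h3 := orderOf_dvd_natCard (⟨g₂, mem_cent.mpr rfl⟩ : Subgroup.centralizer ({g₂} : Set G))
    rwa [Subgroup.orderOf_mk] at h3
  obtain ⟨j, -, hj⟩ := (Nat.dvd_prime_pow (Fact.out)).1 ho
  obtain ⟨x, hx⟩ := exists_conj_mem_sylow_of_orderOf P hj
  have hx' : x⁻¹ * g₂ * x ∈ Subgroup.centralizer ({g₁} : Set G) := by rw [← hP]; exact hx
  have hne : x⁻¹ * g₂ * x ≠ 1 := by
    intro h
    apply hg₂.1
    have h3 : x⁻¹ * g₂ * x⁻¹⁻¹ = 1 := by rw [inv_inv]; exact h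
    exact conj_eq_one_iff.mp h3
  rw [Finset.disjoint_left] at hd
  apply hd (a := x⁻¹ * g₂ * x)
  · rw [mem_XF]; exact ⟨1, _, ⟨mem_cent.mp hx', hne⟩, by simp⟩
  · rw [mem_XF]; exact ⟨x⁻¹, g₂, ⟨rfl, hg₂.1⟩, by rw [inv_inv]⟩

theorem D8H.kill104 (H : D8H a φ) (hn : Fintype.card G = 104) (hS : SF a = ∅) : False := by
  have ha := H.dc.sq
  have ha1 := H.dc.ne_one
  have hnc := H.nc
  have : Fact (Nat.Prime 13) := ⟨by norm_num⟩
  obtain ⟨P⟩ : Nonempty (Sylow 13 G) := inferInstance
  obtain ⟨hP, hidx⟩ := card_sylow_of_card_eq (G := G) 13 1 8 (by norm_num)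
    (by rw [Nat.card_eq_fintype_card, hn]; norm_num) P
  have h1 := card_sylow_modEq_one 13 G
  have h2 := P.card_dvd_index
  rw [hidx] at h2
  have h3 : Nat.card (Sylow 13 G) = 1 := by
    have h4 := Nat.le_of_dvd (by norm_num) h2
    unfold Nat.ModEq at h1
    omega
  have : Subsingleton (Sylow 13 G) := (Nat.card_eq_one_iff_unique.mp h3).1
  have hnorm : (P : Subgroup G).Normal := Sylow.normal_of_subsingleton P
  have hodd : Odd (Nat.card (P : Subgroup G)) := by
    have h5 : Nat.card (P : Subgroup G) = 13 := by simpa using hP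
    rw [h5]; decide
  have hinv := hnc.inverts_of_odd ha1 ha hodd (fun c hc => hnorm.conj_mem c hc a)
  have hne : (P : Subgroup G) ≠ ⊥ := by
    intro h
    have h5 : Nat.card (P : Subgroup G) = 13 := by simpa using hP
    rw [h, Subgroup.card_bot] at h5
    omega
  obtain ⟨⟨z, hz⟩, hz1'⟩ := (Subgroup.ne_bot_iff_exists_ne_one).mp hne
  have hz1 : z ≠ 1 := fun h => hz1' (Subtype.ext h)
  have hzS : z ∈ SF a := mem_SF.mpr ⟨hz1, NC.odd_orderOf_of_mem hodd hz, hinv z hz⟩
  rw [hS] at hzS
  exact absurd hzS (Finset.notMem_empty _)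

theorem D8H.kill_nine (H : D8H a φ) (hn : Fintype.card G = 360) {g : G} (hg : SA a g)
    (h8 : (CF' g).card = 8) (hN : ¬ Nr φ g) : False := by
  have ha := H.dc.sq
  have ha1 := H.dc.ne_one
  have hnc := H.nc
  have : Fact (Nat.Prime 3) := ⟨Nat.prime_three⟩
  have hC : Nat.card (Subgroup.centralizer ({g} : Set G)) = 3 ^ 2 := by
    rw [← card_CF', h8]; norm_num
  obtain ⟨P, hP⟩ := exists_sylow_eq (p := 3) (k := 2) (m := 40) (by norm_num)
    (by rw [Nat.card_eq_fintype_card, hn]; norm_num) _ hC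
  have h1 := card_sylow_modEq_one 3 G
  have h2 : Nat.card (Sylow 3 G) =
      (Subgroup.normalizer ((Subgroup.centralizer ({g} : Set G)) : Set G)).index := by
    rw [← hP]; exact P.card_eq_index_normalizer
  have hCN : Subgroup.centralizer ({g} : Set G) ≤
      Subgroup.normalizer ((Subgroup.centralizer ({g} : Set G)) : Set G) := Subgroup.le_normalizer
  have haN : a ∈ Subgroup.normalizer ((Subgroup.centralizer ({g} : Set G)) : Set G) := by
    rw [Subgroup.mem_normalizer_iff]
    intro c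
    have hag : a * g * a⁻¹ ∈ Subgroup.centralizer ({g} : Set G) := by
      rw [hg.2.2]; exact (Subgroup.inv_mem_iff _).mpr (mem_cent.mpr rfl)
    exact hnc.normalizes_of_conj_mem ha1 ha hg hag c
  have hle : Nat.card (Subgroup.normalizer ((Subgroup.centralizer ({g} : Set G)) : Set G))
      ≤ 18 := by
    have hsub : ((Subgroup.normalizer ((Subgroup.centralizer ({g} : Set G)) : Set G) :
        Subgroup G) : Set G) ⊆
        (((CF g ×ˢ TD a g).image (fun q : G × G => q.1 * q.2) : Finset G) : Set G) := by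
      intro k hk
      have hk' := Subgroup.inv_mem _ hk
      rw [Subgroup.mem_normalizer_iff] at hk'
      have h4 := (hk' g).mp (mem_cent.mpr rfl)
      rw [inv_inv] at h4
      obtain ⟨d, v, hd, hva, hvg, hkdv⟩ := hnc.exists_mul_of_conj_mem ha1 ha hg h4
      rw [Finset.mem_coe, Finset.mem_image]
      exact ⟨(d, v), Finset.mem_product.mpr ⟨mem_CF.mpr (mem_cent.mp hd),
        mem_TD.mpr ⟨hva, hvg⟩⟩, hkdv.symm⟩
    have h5 := Set.ncard_le_ncard hsub (Finset.finite_toSet _)
    rw [Set.ncard_coe_finset] at h5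
    have h6 : ((CF g ×ˢ TD a g).image (fun q : G × G => q.1 * q.2)).card ≤ 18 := by
      calc ((CF g ×ˢ TD a g).image (fun q : G × G => q.1 * q.2)).card
          ≤ (CF g ×ˢ TD a g).card := Finset.card_image_le
        _ = 18 := by
            rw [Finset.card_product, card_CF g, hC, H.card_TD_of_not_Nr hg hN]; norm_num
    have h7 := Nat.card_coe_set_eq ((Subgroup.normalizer
      ((Subgroup.centralizer ({g} : Set G)) : Set G) : Subgroup G) : Set G)
    have h8 : Nat.card (Subgroup.normalizer ((Subgroup.centralizer ({g} : Set G)) : Set G)) =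
        ((Subgroup.normalizer ((Subgroup.centralizer ({g} : Set G)) : Set G) : Subgroup G) :
          Set G).ncard := h7
    omega
  generalize Subgroup.normalizer ((Subgroup.centralizer ({g} : Set G)) : Set G) = N at *
  have h9 : 9 ∣ Nat.card N := by
    have h3 := Subgroup.card_dvd_of_le hCN
    rwa [hC] at h3
  have h2' : 2 ∣ Nat.card N := by
    have h3 := orderOf_dvd_natCard (⟨a, haN⟩ : N)
    rw [Subgroup.orderOf_mk] at h3
    have h4 : orderOf a = 2 := orderOf_eq_prime (by rw [pow_two]; exact ha) ha1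
    rwa [h4] at h3
  have hN18 : Nat.card N = 18 := by
    have hpos : 0 < Nat.card N := Nat.card_pos
    omega
  have hidx : N.index = 20 := by
    have h3 := N.card_mul_index
    rw [hN18, Nat.card_eq_fintype_card, hn] at h3
    omega
  rw [hidx] at h2
  rw [h2] at h1
  exact absurd h1 (by decide)

/-- The order of the group is `168` or `360`, with the structure of `S a`. -/
theorem D8H.main (H : D8H a φ) :
    (Fintype.card G = 168 ∧ ∃ g, SA a g ∧ (CF' g).card = 2) ∨
    (Fintype.card G = 360 ∧ ∃ g₁ g₂, SA a g₁ ∧ SA a g₂ ∧ (CF' g₁).card = 4 ∧ ¬ Nr φ g₁ ∧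
      (CF' g₂).card = 8 ∧ Nr φ g₂ ∧ Disjoint (XF g₁) (XF g₂)) := by
  rcases H.main_fin with ⟨hn, hS⟩ | h | ⟨hn, g, hg, h8, hN⟩ | h |
    ⟨hn, g₁, g₂, hg₁, hg₂, hd, hc⟩
  · exact absurd hS (fun hS => H.kill104 hn hS)
  · exact Or.inl h
  · exact (H.kill_nine hn hg h8 hN).elim
  · exact Or.inr h
  · exfalso
    rcases hc with ⟨h1, h2⟩ | ⟨h1, h2⟩
    · haveI : Fact (Nat.Prime 3) := ⟨Nat.prime_three⟩
      exact H.not_disjoint_of_sylow (p := 3) (k := 2) (m := 40) (by norm_num)
        (by rw [hn]; norm_num) hg₁ hg₂ (by rw [h1]; norm_num) (by rw [h2]; norm_num) hd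
    · haveI : Fact (Nat.Prime 5) := ⟨by norm_num⟩
      exact H.not_disjoint_of_sylow (p := 5) (k := 1) (m := 72) (by norm_num)
        (by rw [hn]; norm_num) hg₁ hg₂ (by rw [h1]; norm_num) (by rw [h2]; norm_num) hd

/-- In both cases of `D8H.main` the group is simple. -/
theorem D8H.eq_bot_or_eq_top (H : D8H a φ)
    (hcase : (Fintype.card G = 168 ∧ ∃ g, SA a g ∧ (CF' g).card = 2) ∨
      (Fintype.card G = 360 ∧ ∃ g₁ g₂, SA a g₁ ∧ SA a g₂ ∧ (CF' g₁).card = 4 ∧
        (CF' g₂).card = 8))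
    (N : Subgroup G) (hN : N.Normal) : N = ⊥ ∨ N = ⊤ := by
  have ha := H.dc.sq
  have ha1 := H.dc.ne_one
  have hnc := H.nc
  have hainv := inv_eq_self_of_sq ha
  rcases Nat.even_or_odd (Nat.card N) with hev | hodd
  · right
    have : Fact (Nat.Prime 2) := ⟨Nat.prime_two⟩
    obtain ⟨u, hu⟩ := exists_prime_orderOf_dvd_card' 2 hev.two_dvd
    have hu' : orderOf (u : G) = 2 := by rw [Subgroup.orderOf_coe]; exact hu
    rw [orderOf_eq_prime_iff] at hu'
    have hu2 : (u : G) * u = 1 := by rw [← pow_two]; exact hu'.1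
    have hinv : ∀ t : G, t ≠ 1 → t * t = 1 → t ∈ N := by
      intro t ht1 ht
      obtain ⟨h₁, hh₁⟩ := H.conj (u : G) hu'.2 hu2
      obtain ⟨h₂, hh₂⟩ := H.conj t ht1 ht
      have e : t = (h₂ * h₁⁻¹) * u * (h₂ * h₁⁻¹)⁻¹ := by rw [← hh₂, ← hh₁]; group
      rw [e]; exact hN.conj_mem _ u.2 _
    have hsq : ∀ x : G, x * x = 1 → x ∈ N := by
      intro x hx
      by_cases h1 : x = 1
      · rw [h1]; exact N.one_mem
      · exact hinv x h1 hx
    have hCa : ∀ x : G, x * a = a * x → x ∈ N := by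
      intro x hx
      obtain ⟨y, z, hy, hz, rfl⟩ := H.dc.exists_mul hx
      exact N.mul_mem (hsq y hy) (hsq z hz)
    have haN : a ∈ N := hinv a ha1 ha
    have hSA : ∀ g : G, SA a g → g ∈ N := by
      intro g hg
      have hag : a * g * a = g⁻¹ := by have h7 := hg.2.2; rwa [hainv] at h7
      have hsq' : a * g * (a * g) = 1 := by rw [← mul_assoc, hag, inv_mul_cancel]
      have h1 := N.mul_mem haN (hsq _ hsq')
      rwa [← mul_assoc, ha, one_mul] at h1
    have d8 : 8 ∣ Nat.card N := by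
      have h1 : Subgroup.centralizer ({a} : Set G) ≤ N := fun x hx => hCa x (mem_cent.mp hx)
      have h2 := Subgroup.card_dvd_of_le h1
      rwa [← card_CF, H.dc.card_CF] at h2
    have hC : ∀ g, SA a g → (CF' g).card + 1 ∣ Nat.card N := by
      intro g hg
      rw [card_CF']
      apply Subgroup.card_dvd_of_le
      intro c hc
      by_cases hc1 : c = 1
      · rw [hc1]; exact N.one_mem
      · exact hSA c (hnc.SA_of_mem ha1 ha hg hc hc1)
    have hle : Nat.card N ≤ Nat.card G := Subgroup.card_le_card_group N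
    have hpos : 0 < Nat.card N := Nat.card_pos
    have hdvd : Nat.card N ∣ Nat.card G := Subgroup.card_subgroup_dvd_card N
    rw [Nat.card_eq_fintype_card (α := G)] at hle hdvd
    apply Subgroup.eq_top_of_card_eq
    rw [Nat.card_eq_fintype_card (α := G)]
    rcases hcase with ⟨hn, g, hg, hD⟩ | ⟨hn, g₁, g₂, hg₁, hg₂, hD₁, hD₂⟩
    · have d3 := hC g hg
      rw [hD] at d3
      have hBF : (BF G).card ≤ Nat.card N := by
        have hsub : ((BF G : Finset G) : Set G) ⊆ (N : Set G) := by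
          intro x hx
          rw [Finset.mem_coe, BF, Finset.mem_insert, Finset.mem_union, mem_IF, mem_WF] at hx
          rcases hx with rfl | hx | hx
          · exact N.one_mem
          · exact hinv x hx.1 hx.2
          · obtain ⟨h, hh⟩ := H.conj (x * x) hx.1 hx.2
            have h1 : (h⁻¹ * x * h) * (h⁻¹ * x * h) = a := by
              calc (h⁻¹ * x * h) * (h⁻¹ * x * h) = h⁻¹ * (x * x) * h := by group
                _ = h⁻¹ * (h * a * h⁻¹) * h := by rw [hh]
                _ = a := by group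
            have h2' : ∀ y : G, y * y = a → y * a = a * y := fun y hy => by
              rw [← hy, mul_assoc]
            have h2 : (h⁻¹ * x * h) * a = a * (h⁻¹ * x * h) := h2' _ h1
            have h3 := hN.conj_mem _ (hCa _ h2) h
            have e : h * (h⁻¹ * x * h) * h⁻¹ = x := by group
            rwa [e] at h3
        have h5 := Set.ncard_le_ncard hsub (Set.toFinite _)
        rw [Set.ncard_coe_finset] at h5
        have h7 : Nat.card N = (N : Set G).ncard := Nat.card_coe_set_eq (N : Set G)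
        omega
      have hI := H.card_IF
      have hB := H.card_BF
      have d24 : 24 ∣ Nat.card N :=
        Nat.Coprime.mul_dvd_of_dvd_of_dvd (by norm_num : Nat.Coprime 8 3) d8 d3
      obtain ⟨k, hk⟩ := d24
      rw [hn] at hdvd hle ⊢
      have hk1 : 3 ≤ k := by omega
      have hk2 : k ≤ 7 := by omega
      interval_cases k
      · rw [hk] at hdvd; norm_num at hdvd
      · rw [hk] at hdvd; norm_num at hdvd
      · rw [hk] at hdvd; norm_num at hdvd
      · rw [hk] at hdvd; norm_num at hdvd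
      · omega
    · have d5 := hC g₁ hg₁
      have d9 := hC g₂ hg₂
      rw [hD₁] at d5
      rw [hD₂] at d9
      have d40 : 40 ∣ Nat.card N :=
        Nat.Coprime.mul_dvd_of_dvd_of_dvd (by norm_num : Nat.Coprime 8 5) d8 d5
      have d360 : 360 ∣ Nat.card N :=
        Nat.Coprime.mul_dvd_of_dvd_of_dvd (by norm_num : Nat.Coprime 40 9) d40 d9
      rw [hn] at hle ⊢
      exact Nat.le_antisymm hle (Nat.le_of_dvd hpos d360)
  · left
    have hinvt : ∀ t : G, t ≠ 1 → t * t = 1 → ∀ k ∈ N, t * k * t⁻¹ = k⁻¹ := by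
      intro t ht1 ht
      exact hnc.inverts_of_odd ht1 ht hodd (fun k hk => hN.conj_mem k hk t)
    have hb1 := H.dc.sr_ne_one 0
    have hb := DC.sr_sq φ 0
    have hba := H.dc.comm (sr 0)
    have hbne := H.dc.sr_ne 0
    generalize φ (sr 0) = b at hb1 hb hba hbne
    have hab2 : (a * b) * (a * b) = 1 := by
      calc a * b * (a * b) = a * (b * a) * b := by group
        _ = a * (a * b) * b := by rw [hba]
        _ = (a * a) * (b * b) := by group
        _ = 1 := by rw [ha, hb, one_mul]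
    have hab1 : a * b ≠ 1 := by
      intro h
      apply hbne
      have h3 : b = a⁻¹ := (inv_eq_of_mul_eq_one_right h).symm
      rw [h3, hainv]
    rw [Subgroup.eq_bot_iff_forall]
    intro k hk
    have h1 := hinvt a ha1 ha k hk
    have h2 := hinvt b hb1 hb k hk
    have h3 := hinvt (a * b) hab1 hab2 k hk
    have h4 : (a * b) * k * (a * b)⁻¹ = k := by
      calc (a * b) * k * (a * b)⁻¹ = a * (b * k * b⁻¹) * a⁻¹ := by group
        _ = a * k⁻¹ * a⁻¹ := by rw [h2]
        _ = (a * k * a⁻¹)⁻¹ := by group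
        _ = k := by rw [h1, inv_inv]
    rw [h4] at h3
    exact eq_one_of_sq_eq_one_of_odd hodd hk (mul_eq_one_iff_eq_inv.mpr h3)

end Fin

end Cfsg.Agent.Lib.helper11.D8Cent
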