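import Mathlib
import Cfsg.Agent.Lib.helper11.D8Fin

/-!
# Groups with a dihedral centralizer of order `8`: the case of order `360`

In the case of order `360` of `D8H.main` we find an involution `t` and an element `y` of order
`3` whose product has order `5`, by counting fixed points on the cosets of the normalizer of a
Sylow `3`-subgroup.
-/

set_option autoImplicit false

namespace Cfsg.Agent.Lib.helper11.D8Cent

open Cfsg.Agent.Lib.helper92 Cfsg.Agent.Lib.helper11.FourCent DihedralGroup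
open Cfsg.Agent.Lib.helper11

variable {G : Type*} [Group G]

/-- The normalizer of the centralizer of `y`. -/
abbrev Nz (y : G) : Subgroup G :=
  Subgroup.normalizer ((Subgroup.centralizer ({y} : Set G) : Subgroup G) : Set G)

/-- An element of odd order whose square lies in a subgroup lies in the subgroup. -/
theorem mem_of_sq_mem_of_odd {K : Subgroup G} {x : G} (hodd : Odd (orderOf x))
    (h : x * x ∈ K) : x ∈ K := by
  obtain ⟨j, hj⟩ := hodd
  have e : (x * x) ^ (j + 1) = x := by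
    rw [← pow_two, ← pow_mul, show 2 * (j + 1) = orderOf x + 1 by omega, pow_succ,
      pow_orderOf_eq_one, one_mul]
  rw [← e]
  exact K.pow_mem h _

section Fin

variable [Finite G] {a : G} {φ : DihedralGroup 4 →* G}

theorem D8H.mem_Nz (H : D8H a φ) {y : G} (hy : SA a y) {x : G} :
    x ∈ Nz y ↔ x * y * x⁻¹ ∈ Subgroup.centralizer ({y} : Set G) := by
  rw [Subgroup.mem_normalizer_iff]
  constructor
  · intro h; exact (h y).mp (mem_cent.mpr rfl)
  · intro h c; exact H.nc.normalizes_of_conj_mem H.dc.ne_one H.dc.sq hy h c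

theorem D8H.a_mem_Nz (H : D8H a φ) {y : G} (hy : SA a y) : a ∈ Nz y := by
  rw [H.mem_Nz hy, hy.2.2]
  exact (Subgroup.inv_mem_iff _).mpr (mem_cent.mpr rfl)

/-- An involution normalizing the centralizer of `y ∈ S a` lies in `C(y) a`. -/
theorem D8H.mul_mem_of_inv (H : D8H a φ) {y : G} (hy : SA a y) {t : G} (ht : t ∈ Nz y)
    (ht1 : t ≠ 1) (ht2 : t * t = 1) : t * a ∈ Subgroup.centralizer ({y} : Set G) := by
  have hn : ∀ c ∈ Subgroup.centralizer ({y} : Set G),
      t * c * t⁻¹ ∈ Subgroup.centralizer ({y} : Set G) := by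
    intro c hc
    exact ((Subgroup.mem_normalizer_iff.mp ht) c).mp hc
  have h1 := H.nc.inverts_of_normalizes ht1 ht2 hy.1 hy.2.1 hn y (mem_cent.mpr rfl)
  have h2 : a * y * a⁻¹ = y⁻¹ := hy.2.2
  rw [mem_cent]
  have h3 : (t * a) * y * (t * a)⁻¹ = y := by
    calc (t * a) * y * (t * a)⁻¹ = t * (a * y * a⁻¹) * t⁻¹ := by group
      _ = t * y⁻¹ * t⁻¹ := by rw [h2]
      _ = (t * y * t⁻¹)⁻¹ := by group
      _ = y := by rw [h1, inv_inv]
  exact mul_inv_eq_iff_eq_mul.mp h3

end Fin

section Count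

open Classical

variable [Fintype G] {a : G} {φ : DihedralGroup 4 →* G}

/-- Replace an element of `S a` with centralizer of order `9` by one of order `3`. -/
theorem D8H.exists_order_three (H : D8H a φ) {g : G} (hg : SA a g) (h8 : (CF' g).card = 8)
    (hN : Nr φ g) : ∃ y, SA a y ∧ orderOf y = 3 ∧ CF' y = CF' g ∧ Nr φ y := by
  have ha := H.dc.sq
  have ha1 := H.dc.ne_one
  have hnc := H.nc
  have hC : Nat.card (Subgroup.centralizer ({g} : Set G)) = 9 := by rw [← card_CF', h8]
  have : Fact (Nat.Prime 3) := ⟨Nat.prime_three⟩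
  obtain ⟨u, hu⟩ := exists_prime_orderOf_dvd_card' (G := Subgroup.centralizer ({g} : Set G)) 3
    (by rw [hC]; norm_num)
  have hu' : orderOf (u : G) = 3 := by rw [Subgroup.orderOf_coe]; exact hu
  have hu1 : (u : G) ≠ 1 := by
    intro h
    rw [h, orderOf_one] at hu'
    omega
  have hS := hnc.SA_of_mem ha1 ha hg u.2 hu1
  have hCe := hnc.cent_eq ha1 ha hg u.2 hu1
  refine ⟨u, hS, hu', ?_, ?_⟩
  · ext c
    rw [mem_CF', mem_CF', ← mem_cent, ← mem_cent, hCe]
  · unfold Nr
    rw [hCe]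
    exact (hnc.normalizes_of_conj_mem ha1 ha hg hN _).mp u.2

/-- In the case of order `360` every element is the identity, an involution, an element whose
square is an involution, a conjugate of an element of the centralizer of order `9`, or of
order `5`. -/
theorem D8H.cover (H : D8H a φ) (hn : Fintype.card G = 360) {g₁ y : G} (hg₁ : SA a g₁)
    (hy : SA a y) (h5 : (CF' g₁).card = 4) (hN1 : ¬ Nr φ g₁) (h9 : (CF' y).card = 8)
    (hN : Nr φ y) (hd : Disjoint (XF g₁) (XF y)) (x : G) :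
    x ∈ BF G ∨ x ∈ XF y ∨ x ^ 5 = 1 := by
  have F₁ := H.facts hg₁
  have F₂ := H.facts hy
  have hI := H.card_IF
  have hB := H.card_BF
  have hX₁ := H.XF_disjoint_BF hg₁
  have hX₂ := H.XF_disjoint_BF hy
  rw [hn] at F₁ F₂
  rw [h5] at F₁
  rw [h9] at F₂
  have b1 : 144 ≤ (XF g₁).card := by
    obtain ⟨-, -, -, hc⟩ := F₁
    rcases hc with ⟨-, -, b⟩ | ⟨hN', -⟩
    · omega
    · exact absurd hN' hN1
  have b2 : 80 ≤ (XF y).card := by
    obtain ⟨-, -, -, hc⟩ := F₂
    rcases hc with ⟨hN', -⟩ | ⟨-, -, b, -⟩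
    · exact absurd hN hN'
    · omega
  have hU : XF g₁ ∪ XF y ∪ BF G = Finset.univ := by
    apply Finset.eq_univ_of_card
    rw [Finset.card_union_of_disjoint (Finset.disjoint_union_left.mpr ⟨hX₁, hX₂⟩),
      Finset.card_union_of_disjoint hd]
    have hle : (XF g₁ ∪ XF y ∪ BF G).card ≤ Fintype.card G := by
      rw [← Finset.card_univ]; exact Finset.card_le_card (Finset.subset_univ _)
    rw [Finset.card_union_of_disjoint (Finset.disjoint_union_left.mpr ⟨hX₁, hX₂⟩),
      Finset.card_union_of_disjoint hd] at hle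
    omega
  have hx : x ∈ XF g₁ ∪ XF y ∪ BF G := by rw [hU]; exact Finset.mem_univ x
  rw [Finset.mem_union, Finset.mem_union] at hx
  rcases hx with (hx | hx) | hx
  · right; right
    rw [mem_XF] at hx
    obtain ⟨h, c, hc, rfl⟩ := hx
    have hC : Nat.card (Subgroup.centralizer ({g₁} : Set G)) = 5 := by rw [← card_CF', h5]
    have h3 := pow_card_eq_one' (G := Subgroup.centralizer ({g₁} : Set G))
      (x := ⟨c, mem_cent.mpr hc.1⟩)
    rw [hC] at h3
    have h4 : c ^ 5 = 1 := by
      have h6 := congrArg Subtype.val h3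
      simpa using h6
    rw [conj_pow, h4]; group
  · right; left; exact hx
  · left; exact hx

theorem D8H.card_Nz (H : D8H a φ) {y : G} (hy : SA a y) (h9 : (CF' y).card = 8)
    (hN : Nr φ y) : Nat.card (Nz y) = 36 := by
  have ha := H.dc.sq
  have ha1 := H.dc.ne_one
  have hnc := H.nc
  have hC : Nat.card (Subgroup.centralizer ({y} : Set G)) = 9 := by rw [← card_CF', h9]
  have hle : Nat.card (Nz y) ≤ 36 := by
    have hsub : ((Nz y : Subgroup G) : Set G) ⊆
        (((CF y ×ˢ TD a y).image (fun q : G × G => q.1 * q.2) : Finset G) : Set G) := by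
      intro k hk
      have hk' : k⁻¹ ∈ Nz y := Subgroup.inv_mem _ hk
      rw [H.mem_Nz hy, inv_inv] at hk'
      obtain ⟨d, v, hd, hva, hvg, hkdv⟩ := hnc.exists_mul_of_conj_mem ha1 ha hy hk'
      rw [Finset.mem_coe, Finset.mem_image]
      exact ⟨(d, v), Finset.mem_product.mpr ⟨mem_CF.mpr (mem_cent.mp hd),
        mem_TD.mpr ⟨hva, hvg⟩⟩, hkdv.symm⟩
    have h5 := Set.ncard_le_ncard hsub (Finset.finite_toSet _)
    rw [Set.ncard_coe_finset] at h5
    have h6 : ((CF y ×ˢ TD a y).image (fun q : G × G => q.1 * q.2)).card ≤ 36 := by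
      calc ((CF y ×ˢ TD a y).image (fun q : G × G => q.1 * q.2)).card
          ≤ (CF y ×ˢ TD a y).card := Finset.card_image_le
        _ = 36 := by rw [Finset.card_product, card_CF y, hC, H.card_TD_of_Nr hy hN]
    have h7 : Nat.card (Nz y) = ((Nz y : Subgroup G) : Set G).ncard :=
      Nat.card_coe_set_eq ((Nz y : Subgroup G) : Set G)
    omega
  have d9 : 9 ∣ Nat.card (Nz y) := by
    have h3 := Subgroup.card_dvd_of_le
      (Subgroup.le_normalizer (H := Subgroup.centralizer ({y} : Set G)))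
    rwa [hC] at h3
  have d4 : 4 ∣ Nat.card (Nz y) := by
    have hρ : φ (r 1) ∈ Nz y := (H.mem_Nz hy).mpr hN
    have h3 := orderOf_dvd_natCard (⟨φ (r 1), hρ⟩ : Nz y)
    rw [Subgroup.orderOf_mk, orderOf_injective φ H.dc.inj, DihedralGroup.orderOf_r_one] at h3
    exact h3
  have d36 : 36 ∣ Nat.card (Nz y) :=
    Nat.Coprime.mul_dvd_of_dvd_of_dvd (by norm_num : Nat.Coprime 9 4) d9 d4
  have hpos : 0 < Nat.card (Nz y) := Nat.card_pos
  omega

/-- Elements of odd order of the normalizer of `C(y)` lie in `C(y)`. -/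
theorem D8H.odd_mem_cent (H : D8H a φ) {y : G} (hy : SA a y) (h9 : (CF' y).card = 8)
    (hN : Nr φ y) {x : G} (hx : x ∈ Nz y) (hodd : Odd (orderOf x)) :
    x ∈ Subgroup.centralizer ({y} : Set G) := by
  have hC : Nat.card (Subgroup.centralizer ({y} : Set G)) = 9 := by rw [← card_CF', h9]
  have hcard := H.card_Nz hy h9 hN
  have hq : Nat.card (↥(Nz y) ⧸ (Subgroup.centralizer ({y} : Set G)).subgroupOf (Nz y)) = 4 := by
    have h1 := Subgroup.card_eq_card_quotient_mul_card_subgroup
      ((Subgroup.centralizer ({y} : Set G)).subgroupOf (Nz y))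
    have h2 : Nat.card ((Subgroup.centralizer ({y} : Set G)).subgroupOf (Nz y)) = 9 := by
      rw [Nat.card_congr (Subgroup.subgroupOfEquivOfLe (Subgroup.le_normalizer)).toEquiv, hC]
    rw [hcard, h2] at h1
    omega
  have h4 : x ^ 4 ∈ Subgroup.centralizer ({y} : Set G) := by
    have h1 : ((QuotientGroup.mk (⟨x, hx⟩ : Nz y) :
        ↥(Nz y) ⧸ (Subgroup.centralizer ({y} : Set G)).subgroupOf (Nz y))) ^ 4 = 1 := by
      rw [← hq]; exact pow_card_eq_one'
    rw [← QuotientGroup.mk_pow, QuotientGroup.eq_one_iff] at h1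
    have h2 := Subgroup.mem_subgroupOf.mp h1
    simpa using h2
  have hodd2 : Odd (orderOf (x * x)) := by
    have hd : orderOf (x * x) ∣ orderOf x := by rw [← pow_two]; exact orderOf_pow_dvd 2
    exact hodd.of_dvd_nat hd
  apply mem_of_sq_mem_of_odd hodd
  apply mem_of_sq_mem_of_odd hodd2
  have e : x * x * (x * x) = x ^ 4 := by
    rw [show (4 : ℕ) = 2 + 2 from rfl, pow_add, pow_two]
  rw [e]; exact h4

/-- In the case of order `360` there is an involution `t` and an element `y` of order `3` such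
that `t * y` has order `5`. -/
theorem D8H.exists_235 (H : D8H a φ) (hn : Fintype.card G = 360) {g₁ y : G} (hg₁ : SA a g₁)
    (hy : SA a y) (h5 : (CF' g₁).card = 4) (hN1 : ¬ Nr φ g₁) (h9 : (CF' y).card = 8)
    (hN : Nr φ y) (hd : Disjoint (XF g₁) (XF y)) :
    ∃ t : G, t * t = 1 ∧ (t * y) ^ 5 = 1 := by
  by_contra hcon
  push Not at hcon
  have ha := H.dc.sq
  have ha1 := H.dc.ne_one
  have hnc := H.nc
  have hainv := inv_eq_self_of_sq ha
  have hC : Nat.card (Subgroup.centralizer ({y} : Set G)) = 9 := by rw [← card_CF', h9]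
  have hcardN := H.card_Nz hy h9 hN
  have hCN : Subgroup.centralizer ({y} : Set G) ≤ Nz y := Subgroup.le_normalizer
  have haN := H.a_mem_Nz hy
  have hyC : y ∈ Subgroup.centralizer ({y} : Set G) := mem_cent.mpr rfl
  have hyN : y ∈ Nz y := hCN hyC
  have hρN : φ (r 1) ∈ Nz y := (H.mem_Nz hy).mpr hN
  obtain ⟨NF, hNF⟩ : ∃ NF : Finset G, ∀ x, x ∈ NF ↔ x ∈ Nz y :=
    ⟨Finset.univ.filter (fun x => x ∈ Nz y), fun x => by simp⟩
  have hNFcard : NF.card = 36 := by
    have h1 : ((NF : Finset G) : Set G) = ((Nz y : Subgroup G) : Set G) := by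
      ext x; simp [hNF]
    rw [← hcardN, ← Set.ncard_coe_finset, h1]
    exact (Nat.card_coe_set_eq ((Nz y : Subgroup G) : Set G)).symm
  -- a nonempty fibre has at least `36` elements
  have L1 : ∀ x h₀ : G, h₀⁻¹ * x * h₀ ∈ Nz y →
      36 ≤ (Finset.univ.filter (fun h : G => h⁻¹ * x * h ∈ Nz y)).card := by
    intro x h₀ hx
    rw [← hNFcard]
    apply Finset.card_le_card_of_injOn (fun k => h₀ * k)
    · intro k hk
      rw [Finset.mem_coe, hNF] at hk
      rw [Finset.mem_coe, Finset.mem_filter]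
      refine ⟨Finset.mem_univ _, ?_⟩
      have e : (h₀ * k)⁻¹ * x * (h₀ * k) = k⁻¹ * (h₀⁻¹ * x * h₀) * k := by group
      rw [e]
      exact (Nz y).mul_mem ((Nz y).mul_mem ((Nz y).inv_mem hk) hx) hk
    · intro k _ k' _ h; exact mul_left_cancel h
  have hσ1 := H.dc.sr_ne_one 0
  have hσ2 := DC.sr_sq φ 0
  have hσa := H.dc.comm (sr 0)
  have hσne := H.dc.sr_ne 0
  generalize φ (sr 0) = σ at hσ1 hσ2 hσa hσne
  have hσN : σ ∉ Nz y := by
    intro h
    rw [H.mem_Nz hy] at h
    exact hnc.not_conj_mem ha1 ha hσ1 hσ2 hσa hσne hy hyC hy.1 h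
  -- the fibre of a conjugate of `a` under `C(y)` has at least `72` elements
  have L2 : ∀ d : G,
      72 ≤ (Finset.univ.filter (fun h : G => h⁻¹ * (d * a * d⁻¹) * h ∈ Nz y)).card := by
    intro d
    have hdisj : Disjoint (NF.image (fun k => d * k)) (NF.image (fun k => d * σ * k)) := by
      rw [Finset.disjoint_left]
      intro x hx1 hx2
      rw [Finset.mem_image] at hx1 hx2
      obtain ⟨k, hk, rfl⟩ := hx1
      obtain ⟨k', hk', hkk⟩ := hx2
      rw [hNF] at hk hk'
      apply hσN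
      have h2 : σ * k' = k := by
        apply mul_left_cancel (a := d)
        rw [← mul_assoc]; exact hkk
      have e : σ = k * k'⁻¹ := by rw [← h2]; group
      rw [e]; exact (Nz y).mul_mem hk ((Nz y).inv_mem hk')
    have hc1 : (NF.image (fun k => d * k)).card = 36 := by
      rw [Finset.card_image_of_injective _ (fun k k' h => mul_left_cancel h), hNFcard]
    have hc2 : (NF.image (fun k => d * σ * k)).card = 36 := by
      rw [Finset.card_image_of_injective _ (fun k k' h => mul_left_cancel h), hNFcard]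
    have hsub : NF.image (fun k => d * k) ∪ NF.image (fun k => d * σ * k) ⊆
        Finset.univ.filter (fun h : G => h⁻¹ * (d * a * d⁻¹) * h ∈ Nz y) := by
      intro x hx
      rw [Finset.mem_union, Finset.mem_image, Finset.mem_image] at hx
      rw [Finset.mem_filter]
      refine ⟨Finset.mem_univ _, ?_⟩
      rcases hx with ⟨k, hk, rfl⟩ | ⟨k, hk, rfl⟩
      · rw [hNF] at hk
        have e : (d * k)⁻¹ * (d * a * d⁻¹) * (d * k) = k⁻¹ * a * k := by group
        rw [e]; exact (Nz y).mul_mem ((Nz y).mul_mem ((Nz y).inv_mem hk) haN) hk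
      · rw [hNF] at hk
        have e : (d * σ * k)⁻¹ * (d * a * d⁻¹) * (d * σ * k) = k⁻¹ * a * k := by
          calc (d * σ * k)⁻¹ * (d * a * d⁻¹) * (d * σ * k) = k⁻¹ * σ⁻¹ * (a * σ) * k := by group
            _ = k⁻¹ * σ⁻¹ * (σ * a) * k := by rw [hσa]
            _ = k⁻¹ * a * k := by group
        rw [e]; exact (Nz y).mul_mem ((Nz y).mul_mem ((Nz y).inv_mem hk) haN) hk
    have h3 := Finset.card_le_card hsub
    rw [Finset.card_union_of_disjoint hdisj, hc1, hc2] at h3
    exact h3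
  -- every product `t * y` has a conjugate in the normalizer
  have L3 : ∀ t : G, t ≠ 1 → t * t = 1 → ∃ h₀ : G, h₀⁻¹ * (t * y) * h₀ ∈ Nz y := by
    intro t ht1 ht2
    rcases H.cover hn hg₁ hy h5 hN1 h9 hN hd (t * y) with hB | hX | h5'
    · rw [BF, Finset.mem_insert, Finset.mem_union, mem_IF, mem_WF] at hB
      rcases hB with hB | hB | hB
      · exfalso
        have h1 : t⁻¹ = y := inv_eq_of_mul_eq_one_right hB
        have h2 : y * y = 1 := by rw [← h1, inv_eq_self_of_sq ht2]; exact ht2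
        exact hy.1 (eq_one_of_odd_of_sq hy.2.1 h2)
      · obtain ⟨h, hh⟩ := H.conj (t * y) hB.1 hB.2
        refine ⟨h, ?_⟩
        rw [← hh]
        have e : h⁻¹ * (h * a * h⁻¹) * h = a := by group
        rw [e]; exact haN
      · obtain ⟨h, hh⟩ := H.conj ((t * y) * (t * y)) hB.1 hB.2
        refine ⟨h, ?_⟩
        have h1 : (h⁻¹ * (t * y) * h) * (h⁻¹ * (t * y) * h) = a := by
          calc (h⁻¹ * (t * y) * h) * (h⁻¹ * (t * y) * h)
              = h⁻¹ * ((t * y) * (t * y)) * h := by group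
            _ = h⁻¹ * (h * a * h⁻¹) * h := by rw [hh]
            _ = a := by group
        rcases H.dc.eq_of_sq h1 with h2 | h2
        · rw [h2]; exact hρN
        · rw [h2]
          have e : (r 3 : DihedralGroup 4) = (r 1)⁻¹ := by decide
          rw [e, map_inv]; exact (Nz y).inv_mem hρN
    · rw [mem_XF] at hX
      obtain ⟨h, c, hc, hh⟩ := hX
      refine ⟨h, ?_⟩
      rw [← hh]
      have e : h⁻¹ * (h * c * h⁻¹) * h = c := by group
      rw [e]; exact hCN (mem_cent.mpr hc.1)
    · exact absurd h5' (hcon t ht2)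
  -- the special involutions
  have L4 : ∀ c : G, c * y = y * c →
      (c * a ≠ 1 ∧ (c * a) * (c * a) = 1) ∧ ∃ d : G, (c * a) * y = d * a * d⁻¹ := by
    intro c hc
    have hcC : c ∈ Subgroup.centralizer ({y} : Set G) := mem_cent.mpr hc
    have hinv := hnc.inverts ha1 ha hy c hcC
    have hinv' : a * c * a = c⁻¹ := by rwa [hainv] at hinv
    have hay : a * y = y⁻¹ * a := mul_inv_eq_iff_eq_mul.mp hy.2.2
    refine ⟨⟨?_, ?_⟩, ?_⟩
    · intro h
      have h1 : c⁻¹ = a := inv_eq_of_mul_eq_one_right h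
      have h2 : a ∈ Subgroup.centralizer ({y} : Set G) := by
        rw [← h1]; exact Subgroup.inv_mem _ hcC
      have h3 := mem_cent.mp h2
      have h4 : y⁻¹ * a = y * a := by rw [← hay, h3]
      have h6 : y⁻¹ = y := mul_right_cancel h4
      exact hy.1 (eq_one_of_odd_of_sq hy.2.1 (mul_eq_one_iff_eq_inv.mpr h6.symm))
    · calc c * a * (c * a) = c * (a * c * a) := by group
        _ = 1 := by rw [hinv', mul_inv_cancel]
    · have hcy : c * y⁻¹ = y⁻¹ * c := by
        rw [eq_inv_mul_iff_mul_eq, ← mul_assoc, ← hc, mul_assoc, mul_inv_cancel, mul_one]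
      have hinvy : (c * y⁻¹ * a) * y * (c * y⁻¹ * a)⁻¹ = y⁻¹ := by
        calc (c * y⁻¹ * a) * y * (c * y⁻¹ * a)⁻¹
            = (c * y⁻¹) * (a * y * a⁻¹) * (c * y⁻¹)⁻¹ := by group
          _ = (c * y⁻¹) * y⁻¹ * (c * y⁻¹)⁻¹ := by rw [hy.2.2]
          _ = y⁻¹ := mul_inv_eq_iff_eq_mul.mpr (by rw [← mul_assoc, ← hcy])
      obtain ⟨d, -, hd⟩ := hnc.exists_conj ha1 ha hy hinvy
      refine ⟨d, ?_⟩
      rw [← hd, mul_assoc, hay, ← mul_assoc]
  obtain ⟨SP, hSP⟩ : ∃ SP : Finset G, SP = (CF y).image (fun c => c * a) := ⟨_, rfl⟩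
  have hSPcard : SP.card = 9 := by
    rw [hSP, Finset.card_image_of_injective _ (fun c c' h => mul_right_cancel h), card_CF, hC]
  have hSPsub : SP ⊆ IF G := by
    intro t ht
    rw [hSP, Finset.mem_image] at ht
    obtain ⟨c, hc, rfl⟩ := ht
    rw [mem_IF]; exact (L4 c (mem_CF.mp hc)).1
  have hI := H.card_IF
  have hlow : 1944 ≤ ∑ t ∈ IF G,
      (Finset.univ.filter (fun h : G => h⁻¹ * (t * y) * h ∈ Nz y)).card := by
    have h1 : ∀ t ∈ IF G, (if t ∈ SP then 72 else 36) ≤
        (Finset.univ.filter (fun h : G => h⁻¹ * (t * y) * h ∈ Nz y)).card := by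
      intro t ht
      rw [mem_IF] at ht
      split_ifs with hs
      · rw [hSP, Finset.mem_image] at hs
        obtain ⟨c, hc, rfl⟩ := hs
        obtain ⟨d, hd⟩ := (L4 c (mem_CF.mp hc)).2
        rw [hd]; exact L2 d
      · obtain ⟨h₀, hh₀⟩ := L3 t ht.1 ht.2
        exact L1 _ h₀ hh₀
    have h2 := Finset.sum_le_sum h1
    rw [Finset.sum_ite, Finset.sum_const, Finset.sum_const, smul_eq_mul, smul_eq_mul] at h2
    have h3 : (IF G).filter (fun t => t ∈ SP) = SP := by
      ext t
      rw [Finset.mem_filter]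
      exact ⟨fun h => h.2, fun h => ⟨hSPsub h, h⟩⟩
    have h4 := Finset.card_filter_add_card_filter_not (s := IF G) (fun t => t ∈ SP)
    rw [h3, hSPcard] at h2 h4
    omega
  have hup : ∑ t ∈ IF G,
      (Finset.univ.filter (fun h : G => h⁻¹ * (t * y) * h ∈ Nz y)).card ≤ 1620 := by
    have hsw : ∑ t ∈ IF G, (Finset.univ.filter (fun h : G => h⁻¹ * (t * y) * h ∈ Nz y)).card =
        ∑ h : G, ((IF G).filter (fun t => h⁻¹ * (t * y) * h ∈ Nz y)).card :=
      Finset.sum_card_bipartiteAbove_eq_sum_card_bipartiteBelow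
        (s := IF G) (t := (Finset.univ : Finset G)) (r := fun t h => h⁻¹ * (t * y) * h ∈ Nz y)
    rw [hsw]
    have hT : ∀ h : G, ((IF G).filter (fun t => h⁻¹ * (t * y) * h ∈ Nz y)).card ≤
        (if h ∈ NF then 9 else 4) := by
      intro h
      split_ifs with hh
      · rw [hNF] at hh
        rw [← hSPcard]
        apply Finset.card_le_card
        intro t ht
        rw [Finset.mem_filter, mem_IF] at ht
        obtain ⟨⟨ht1, ht2⟩, htN⟩ := ht
        have h1 : t * y ∈ Nz y := by
          have h3 := (Nz y).mul_mem ((Nz y).mul_mem hh htN) ((Nz y).inv_mem hh)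
          have e : h * (h⁻¹ * (t * y) * h) * h⁻¹ = t * y := by group
          rwa [e] at h3
        have h2 : t ∈ Nz y := by
          have h3 := (Nz y).mul_mem h1 ((Nz y).inv_mem hyN)
          rwa [mul_assoc, mul_inv_cancel, mul_one] at h3
        have h3 := H.mul_mem_of_inv hy h2 ht1 ht2
        rw [hSP, Finset.mem_image]
        exact ⟨t * a, mem_CF.mpr (mem_cent.mp h3), by rw [mul_assoc, ha, mul_one]⟩
      · rw [hNF] at hh
        by_contra hgt
        push Not at hgt
        have hne : ((IF G).filter (fun t => h⁻¹ * (t * y) * h ∈ Nz y)).Nonempty :=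
          Finset.card_pos.mp (by omega)
        obtain ⟨t₀, ht₀⟩ := hne
        rw [Finset.mem_filter, mem_IF] at ht₀
        obtain ⟨⟨ht₀1, ht₀2⟩, ht₀N⟩ := ht₀
        have ht₀inv : t₀⁻¹ = t₀ := inv_eq_self_of_sq ht₀2
        have hinj : (CF y ×ˢ (IF G).filter (fun t => h⁻¹ * (t * y) * h ∈ Nz y)).card ≤
            NF.card := by
          apply Finset.card_le_card_of_injOn (fun p : G × G => p.1 * (h⁻¹ * (p.2 * t₀) * h))
          · intro p hp
            rw [Finset.mem_coe, Finset.mem_product, mem_CF, Finset.mem_filter, mem_IF] at hp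
            obtain ⟨hpc, ⟨hp1, hp2⟩, hpN⟩ := hp
            rw [Finset.mem_coe, hNF]
            refine (Nz y).mul_mem (hCN (mem_cent.mpr hpc)) ?_
            have e : h⁻¹ * (p.2 * t₀) * h =
                (h⁻¹ * (p.2 * y) * h) * (h⁻¹ * (t₀ * y) * h)⁻¹ := by
              calc h⁻¹ * (p.2 * t₀) * h = h⁻¹ * (p.2 * t₀⁻¹) * h := by rw [ht₀inv]
                _ = _ := by group
            rw [e]; exact (Nz y).mul_mem hpN ((Nz y).inv_mem ht₀N)
          · intro p hp q hq hpq
            rw [Finset.mem_coe, Finset.mem_product, mem_CF, Finset.mem_filter, mem_IF] at hp hq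
            obtain ⟨hpc, ⟨hp1, hp2⟩, hpN⟩ := hp
            obtain ⟨hqc, ⟨hq1, hq2⟩, hqN⟩ := hq
            have hp2inv : p.2⁻¹ = p.2 := inv_eq_self_of_sq hp2
            have hq2inv : q.2⁻¹ = q.2 := inv_eq_self_of_sq hq2
            have hpq' : p.1 * (h⁻¹ * (p.2 * t₀) * h) = q.1 * (h⁻¹ * (q.2 * t₀) * h) := hpq
            have he : q.1⁻¹ * p.1 = h⁻¹ * (q.2 * p.2) * h := by
              calc q.1⁻¹ * p.1
                  = q.1⁻¹ * (p.1 * (h⁻¹ * (p.2 * t₀) * h)) * (h⁻¹ * (p.2 * t₀) * h)⁻¹ := by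
                    group
                _ = q.1⁻¹ * (q.1 * (h⁻¹ * (q.2 * t₀) * h)) * (h⁻¹ * (p.2 * t₀) * h)⁻¹ := by
                    rw [hpq']
                _ = h⁻¹ * (q.2 * p.2⁻¹) * h := by group
                _ = h⁻¹ * (q.2 * p.2) * h := by rw [hp2inv]
            have heC : q.1⁻¹ * p.1 ∈ Subgroup.centralizer ({y} : Set G) :=
              Subgroup.mul_mem _ (Subgroup.inv_mem _ (mem_cent.mpr hqc)) (mem_cent.mpr hpc)
            have he1 : q.1⁻¹ * p.1 = 1 := by
              by_contra hne1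
              apply hh
              have huN : (h⁻¹ * y⁻¹ * h) * (q.1⁻¹ * p.1) * (h⁻¹ * y⁻¹ * h)⁻¹ ∈ Nz y := by
                have e2 : (h⁻¹ * y⁻¹ * h) * (q.1⁻¹ * p.1) * (h⁻¹ * y⁻¹ * h)⁻¹ =
                    (h⁻¹ * (q.2 * y) * h)⁻¹ * (h⁻¹ * (p.2 * y) * h) := by
                  rw [he]
                  calc (h⁻¹ * y⁻¹ * h) * (h⁻¹ * (q.2 * p.2) * h) * (h⁻¹ * y⁻¹ * h)⁻¹
                      = h⁻¹ * (y⁻¹ * q.2 * p.2 * y) * h := by group
                    _ = h⁻¹ * (y⁻¹ * q.2⁻¹ * p.2 * y) * h := by rw [hq2inv]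
                    _ = _ := by group
                rw [e2]; exact (Nz y).mul_mem ((Nz y).inv_mem hqN) hpN
              have hoe : Odd (orderOf (q.1⁻¹ * p.1)) :=
                NC.odd_orderOf_of_mem (hnc.odd_card_cent hy.1 hy.2.1) heC
              have hou : Odd (orderOf ((h⁻¹ * y⁻¹ * h) * (q.1⁻¹ * p.1) *
                  (h⁻¹ * y⁻¹ * h)⁻¹)) := by
                have e3 : orderOf ((h⁻¹ * y⁻¹ * h) * (q.1⁻¹ * p.1) * (h⁻¹ * y⁻¹ * h)⁻¹) =
                    orderOf (q.1⁻¹ * p.1) := by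
                  rw [← MulAut.conj_apply]; exact MulEquiv.orderOf_eq _ _
                rw [e3]; exact hoe
              have huC := H.odd_mem_cent hy h9 hN huN hou
              have hu1 : (h⁻¹ * y⁻¹ * h) * (q.1⁻¹ * p.1) * (h⁻¹ * y⁻¹ * h)⁻¹ ≠ 1 :=
                fun h' => hne1 (conj_eq_one_iff.mp h')
              have hyu := hnc.conj_mem (z := y) (h₁ := 1) (h₂ := h⁻¹ * y⁻¹ * h)
                (c₂ := q.1⁻¹ * p.1) ha1 ha hy huC hu1 (mem_cent.mp heC).symm (by group)
              have hyu' : (h⁻¹ * y⁻¹ * h) * y * (h⁻¹ * y⁻¹ * h)⁻¹ ∈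
                  Subgroup.centralizer ({y} : Set G) := by
                have e4 : (1⁻¹ * (h⁻¹ * y⁻¹ * h)) * y * (1⁻¹ * (h⁻¹ * y⁻¹ * h))⁻¹ =
                    (h⁻¹ * y⁻¹ * h) * y * (h⁻¹ * y⁻¹ * h)⁻¹ := by group
                rw [← e4]; exact hyu
              have huN' : h⁻¹ * y⁻¹ * h ∈ Nz y := (H.mem_Nz hy).mpr hyu'
              have hou' : Odd (orderOf (h⁻¹ * y⁻¹ * h)) := by
                have e5 : orderOf (h⁻¹ * y⁻¹ * h) = orderOf y := by
                  have e6 : h⁻¹ * y⁻¹ * h = MulAut.conj h⁻¹ y⁻¹ := by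
                    rw [MulAut.conj_apply, inv_inv]
                  rw [e6, MulEquiv.orderOf_eq, orderOf_inv]
                rw [e5]; exact hy.2.1
              have huC' := H.odd_mem_cent hy h9 hN huN' hou'
              have hu1' : h⁻¹ * y⁻¹ * h ≠ 1 := by
                intro h'
                have h7 : h⁻¹ * y⁻¹ * h⁻¹⁻¹ = 1 := by rw [inv_inv]; exact h'
                exact hy.1 (inv_eq_one.mp (conj_eq_one_iff.mp h7))
              have hfin := hnc.conj_mem (z := y) (h₁ := 1) (h₂ := h⁻¹) (c₂ := y⁻¹) ha1 ha hy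
                huC' hu1' (by group) (by group)
              have hfin' : h⁻¹ * y * h⁻¹⁻¹ ∈ Subgroup.centralizer ({y} : Set G) := by
                have e6 : (1⁻¹ * h⁻¹) * y * (1⁻¹ * h⁻¹)⁻¹ = h⁻¹ * y * h⁻¹⁻¹ := by group
                rw [← e6]; exact hfin
              exact (Subgroup.inv_mem_iff _).mp ((H.mem_Nz hy).mpr hfin')
            have hpq1 : p.1 = q.1 := (inv_mul_eq_one.mp he1).symm
            have hpq2 : p.2 = q.2 := by
              rw [hpq1] at hpq'
              exact mul_right_cancel (mul_left_cancel (mul_right_cancel (mul_left_cancel hpq')))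
            exact Prod.ext hpq1 hpq2
        rw [Finset.card_product, card_CF, hC, hNFcard] at hinj
        omega
    calc ∑ h : G, ((IF G).filter (fun t => h⁻¹ * (t * y) * h ∈ Nz y)).card
        ≤ ∑ h : G, (if h ∈ NF then 9 else 4) := Finset.sum_le_sum (fun h _ => hT h)
      _ = 1620 := by
        rw [Finset.sum_ite, Finset.sum_const, Finset.sum_const, smul_eq_mul, smul_eq_mul]
        have h3 : (Finset.univ : Finset G).filter (fun h => h ∈ NF) = NF := by
          ext h; simp
        have h4 := Finset.card_filter_add_card_filter_not (s := (Finset.univ : Finset G))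
          (fun h => h ∈ NF)
        rw [h3, hNFcard, Finset.card_univ, hn] at h4
        rw [h3, hNFcard]
        omega
  omega

end Count

end Cfsg.Agent.Lib.helper11.D8Cent
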