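import Mathlib

/-!
Computational core for the uniqueness of the simple group of order `168` (helper11).

Permutations of `Fin 8` (the projective line over `𝔽₇`, `7 = ∞`) as functions read off from
base-`8` digits; word evaluation; the two exhaustive searches `searchR` and `searchT`.
-/

set_option autoImplicit false

namespace Cfsg.Agent.Lib.helper11.L27

/-- Functions on eight points. -/
abbrev F8 := Fin 8 → Fin 8

/-- The function whose value at `i` is the `i`-th base-`8` digit of `n`. -/
def dig (n : ℕ) : F8 := fun i => ⟨(n / 8 ^ i.val) % 8, Nat.mod_lt _ (by norm_num)⟩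

/-- `x ↦ x + 1`. -/
def sF : F8 := dig 0o70654321
/-- Inverse of `sF`. -/
def sFi : F8 := dig 0o75432106
/-- `x ↦ 2 x`. -/
def tF : F8 := dig 0o75316420
/-- Inverse of `tF`: `x ↦ 4 x`. -/
def tFi : F8 := dig 0o73625140
/-- `x ↦ -1 / x`. -/
def t0F : F8 := dig 0o01452367

/-- Letters of words. -/
inductive Letter
  | s | t | h
  deriving DecidableEq

/-- Evaluation of a word as a composition of functions. -/
def evalF (s t h : F8) : List Letter → F8
  | [] => fun i => i
  | Letter.s :: w => fun i => s (evalF s t h w i)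
  | Letter.t :: w => fun i => t (evalF s t h w i)
  | Letter.h :: w => fun i => h (evalF s t h w i)

/-- The function is the identity. -/
def IsId (g : F8) : Prop :=
  g 0 = 0 ∧ g 1 = 1 ∧ g 2 = 2 ∧ g 3 = 3 ∧ g 4 = 4 ∧ g 5 = 5 ∧ g 6 = 6 ∧ g 7 = 7

instance (g : F8) : Decidable (IsId g) := by unfold IsId; infer_instance

/-- Pointwise equality. -/
def Eq8 (g g' : F8) : Prop :=
  g 0 = g' 0 ∧ g 1 = g' 1 ∧ g 2 = g' 2 ∧ g 3 = g' 3 ∧ g 4 = g' 4 ∧ g 5 = g' 5 ∧ g 6 = g' 6 ∧
    g 7 = g' 7

instance (g g' : F8) : Decidable (Eq8 g g') := by unfold Eq8; infer_instance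

/-- Third iterate. -/
def iter3 (g : F8) : F8 := fun i => g (g (g i))
/-- Seventh iterate. -/
def iter7 (g : F8) : F8 := fun i => g (g (g (g (g (g (g i))))))
/-- Twenty-first iterate. -/
def iter21 (g : F8) : F8 := iter3 (iter7 g)

/-- Two distinct fixed points. -/
def Fix2 (g : F8) : Prop := ∃ a b : Fin 8, a ≠ b ∧ g a = a ∧ g b = b

instance (g : F8) : Decidable (Fix2 g) := by unfold Fix2; infer_instance

/-- The number of fixed points. -/
def fixCount (g : F8) : ℕ := (Finset.univ.filter (fun i => g i = i)).card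

theorem fix2_of_fixCount {g : F8} (h : 2 ≤ fixCount g) : Fix2 g := by
  unfold fixCount at h
  obtain ⟨a, ha, b, hb, hab⟩ := Finset.one_lt_card.mp h
  rw [Finset.mem_filter] at ha hb
  exact ⟨a, b, hab, ha.2, hb.2⟩

/-- Violation of "two fixed points implies order dividing 3". -/
def BadW1 (g : F8) : Prop := 2 ≤ fixCount g ∧ ¬ IsId (iter3 g)
/-- Violation of "fixing `∞` implies order dividing 21". -/
def BadW2 (g : F8) : Prop := g 7 = 7 ∧ ¬ IsId (iter21 g)

instance (g : F8) : Decidable (BadW1 g) := by unfold BadW1; infer_instance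
instance (g : F8) : Decidable (BadW2 g) := by unfold BadW2; infer_instance

open Letter in
/-- Words for the search for `ρ`. -/
def WR : List (List Letter) := [[h], [s, s, h, s, h, h], [s, s, s, h, s, h, h], [s, s, h]]

open Letter in
/-- Words for the search for `θ`. -/
def WT : List (List Letter) :=
  [[t, h, h], [t, t, h, t, h, h], [t, t, h, h, h], [h], [s, h, s, h, s, h],
    [s, s, h, s, h, s, t], [s, t, h, s, h, s, h], [s, s, h, s, s, h, s, h]]

/-- The candidate `ρ` fixing `0` and `∞` with the given values on `1, …, 6`. -/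
def mkR (a b c d e f : Fin 8) : F8 :=
  dig (8 * a.val + 64 * b.val + 512 * c.val + 4096 * d.val + 32768 * e.val + 262144 * f.val +
    14680064)

/-- The candidate `θ` swapping `0` and `∞` with the given values on `1, …, 6`. -/
def mkT (a b c d e f : Fin 8) : F8 :=
  dig (7 + 8 * a.val + 64 * b.val + 512 * c.val + 4096 * d.val + 32768 * e.val + 262144 * f.val)

/-- Outcome of the search for `ρ`. -/
def GoodR (h : F8) : Prop :=
  (∃ w ∈ WR, BadW1 (evalF sF sF h w) ∨ BadW2 (evalF sF sF h w)) ∨ IsId h ∨ Eq8 h tF ∨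
    Eq8 h (fun i => tF (tF i))

instance (h : F8) : Decidable (GoodR h) := by unfold GoodR; infer_instance

/-- The conjugate-like element `h s^j h⁵`. -/
def psiF (s h : F8) (j : ℕ) : F8 := fun i => h (s^[j] (h (h (h (h (h i))))))

/-- The "multiplication table" attached to `s` and `ψ`. -/
def mfun (s ψ : F8) (x y : Fin 8) : Fin 8 :=
  if x = 7 then s y else s^[x.val] (ψ (s^[7 - x.val] y))

/-- `g` preserves the table `m`. -/
def Pres (m : Fin 8 → Fin 8 → Fin 8) (g : F8) : Prop := ∀ x y : Fin 8, g (m x y) = m (g x) (g y)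

instance (m : Fin 8 → Fin 8 → Fin 8) (g : F8) : Decidable (Pres m g) := by
  unfold Pres; infer_instance

/-- Violation of "`σ` and a second element of order 7 generate everything". -/
def BadC5 (s t h : F8) (j : ℕ) : Prop :=
  IsId (iter7 (psiF s h j)) ∧ psiF s h j 7 ≠ 7 ∧ Pres (mfun s (psiF s h j)) s ∧
    Pres (mfun s (psiF s h j)) (psiF s h j) ∧ ¬ Pres (mfun s (psiF s h j)) t

instance (s t h : F8) (j : ℕ) : Decidable (BadC5 s t h j) := by unfold BadC5; infer_instance

/-- Outcome of the search for `θ`. -/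
def GoodT (h : F8) : Prop :=
  (∃ w ∈ WT, BadW1 (evalF sF tF h w)) ∨ BadC5 sF tF h 1 ∨ BadC5 sF tF h 2 ∨ BadC5 sF tF h 4 ∨
    Eq8 h t0F ∨ Eq8 h (fun i => t0F (tF i)) ∨ Eq8 h (fun i => t0F (tF (tF i)))

instance (h : F8) : Decidable (GoodT h) := by unfold GoodT; infer_instance

/-- A predicate holds at the six points `1, …, 6`. -/
def All6 (Q : Fin 8 → Prop) : Prop := Q 1 ∧ Q 2 ∧ Q 3 ∧ Q 4 ∧ Q 5 ∧ Q 6

instance (Q : Fin 8 → Prop) [DecidablePred Q] : Decidable (All6 Q) := by
  unfold All6; infer_instance

theorem All6.elim {Q : Fin 8 → Prop} (h : All6 Q) (f : Fin 8) (h0 : f ≠ 0) (h7 : f ≠ 7) : Q f := by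
  obtain ⟨h1, h2, h3, h4, h5, h6⟩ := h
  fin_cases f
  · exact absurd rfl h0
  · exact h1
  · exact h2
  · exact h3
  · exact h4
  · exact h5
  · exact h6
  · exact absurd rfl h7

section Search

variable (P : Fin 8 → Fin 8 → Fin 8 → Fin 8 → Fin 8 → Fin 8 → Prop)

/-- Innermost level of the search over the six free values. -/
def S6 (a b c d e : Fin 8) : Prop :=
  All6 fun f => f ∉ [a, b, c, d, e] → P a b c d e f
def S5 (a b c d : Fin 8) : Prop :=
  All6 fun e => e ∉ [a, b, c, d] → S6 P a b c d e
def S4 (a b c : Fin 8) : Prop :=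
  All6 fun d => d ∉ [a, b, c] → S5 P a b c d
def S3 (a b : Fin 8) : Prop :=
  All6 fun c => c ∉ [a, b] → S4 P a b c
def S2 (a : Fin 8) : Prop :=
  All6 fun b => b ∉ [a] → S3 P a b
def S1 : Prop :=
  All6 fun a => S2 P a

variable [∀ a b c d e f, Decidable (P a b c d e f)]

instance (a b c d e : Fin 8) : Decidable (S6 P a b c d e) := by unfold S6; infer_instance
instance (a b c d : Fin 8) : Decidable (S5 P a b c d) := by unfold S5; infer_instance
instance (a b c : Fin 8) : Decidable (S4 P a b c) := by unfold S4; infer_instance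
instance (a b : Fin 8) : Decidable (S3 P a b) := by unfold S3; infer_instance
instance (a : Fin 8) : Decidable (S2 P a) := by unfold S2; infer_instance
instance : Decidable (S1 P) := by unfold S1; infer_instance

end Search

set_option maxRecDepth 100000 in
theorem searchR_1 : S2 (fun a b c d e f => GoodR (mkR a b c d e f)) 1 := by
  decide +kernel

set_option maxRecDepth 100000 in
theorem searchR_2 : S2 (fun a b c d e f => GoodR (mkR a b c d e f)) 2 := by
  decide +kernel

set_option maxRecDepth 100000 in
theorem searchR_3 : S2 (fun a b c d e f => GoodR (mkR a b c d e f)) 3 := by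
  decide +kernel

set_option maxRecDepth 100000 in
theorem searchR_4 : S2 (fun a b c d e f => GoodR (mkR a b c d e f)) 4 := by
  decide +kernel

set_option maxRecDepth 100000 in
theorem searchR_5 : S2 (fun a b c d e f => GoodR (mkR a b c d e f)) 5 := by
  decide +kernel

set_option maxRecDepth 100000 in
theorem searchR_6 : S2 (fun a b c d e f => GoodR (mkR a b c d e f)) 6 := by
  decide +kernel

theorem searchR : S1 (fun a b c d e f => GoodR (mkR a b c d e f)) := by
  unfold S1 All6
  exact ⟨searchR_1, searchR_2, searchR_3, searchR_4, searchR_5, searchR_6⟩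

set_option maxRecDepth 100000 in
theorem searchT_1 : S2 (fun a b c d e f => GoodT (mkT a b c d e f)) 1 := by
  decide +kernel

set_option maxRecDepth 100000 in
theorem searchT_2 : S2 (fun a b c d e f => GoodT (mkT a b c d e f)) 2 := by
  decide +kernel

set_option maxRecDepth 100000 in
theorem searchT_3 : S2 (fun a b c d e f => GoodT (mkT a b c d e f)) 3 := by
  decide +kernel

set_option maxRecDepth 100000 in
theorem searchT_4 : S2 (fun a b c d e f => GoodT (mkT a b c d e f)) 4 := by
  decide +kernel

set_option maxRecDepth 100000 in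
theorem searchT_5 : S2 (fun a b c d e f => GoodT (mkT a b c d e f)) 5 := by
  decide +kernel

set_option maxRecDepth 100000 in
theorem searchT_6 : S2 (fun a b c d e f => GoodT (mkT a b c d e f)) 6 := by
  decide +kernel

theorem searchT : S1 (fun a b c d e f => GoodT (mkT a b c d e f)) := by
  unfold S1 All6
  exact ⟨searchT_1, searchT_2, searchT_3, searchT_4, searchT_5, searchT_6⟩

end Cfsg.Agent.Lib.helper11.L27
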