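import Mathlib
import Cfsg.Agent.Lib.helper11.L27Search
import Cfsg.Agent.Lib.helper11.SmallSimple

/-!
Uniqueness of the simple group of order `168` (helper11): every simple group of order `168` is
isomorphic to one fixed subgroup `G168` of `Perm (Fin 8)`.
-/

set_option autoImplicit false

namespace Cfsg.Agent.Lib.helper11.L27

open Equiv

/-- `x ↦ x + 1` as a permutation. -/
def sP : Perm (Fin 8) := ⟨sF, sFi, by decide +kernel, by decide +kernel⟩
/-- `x ↦ 2 x` as a permutation. -/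
def tP : Perm (Fin 8) := ⟨tF, tFi, by decide +kernel, by decide +kernel⟩
/-- `x ↦ -1 / x` as a permutation. -/
def t0P : Perm (Fin 8) := ⟨t0F, t0F, by decide +kernel, by decide +kernel⟩

theorem coe_sP : ⇑sP = sF := rfl
theorem coe_tP : ⇑tP = tF := rfl
theorem coe_t0P : ⇑t0P = t0F := rfl

/-- Evaluation of a word as a product of permutations. -/
def evalP (s t h : Perm (Fin 8)) : List Letter → Perm (Fin 8)
  | [] => 1
  | Letter.s :: w => s * evalP s t h w
  | Letter.t :: w => t * evalP s t h w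
  | Letter.h :: w => h * evalP s t h w

theorem coe_evalP (s t h : Perm (Fin 8)) (w : List Letter) :
    ⇑(evalP s t h w) = evalF ⇑s ⇑t ⇑h w := by
  induction w with
  | nil => rfl
  | cons l w ih =>
    cases l <;>
    · funext i
      simp only [evalP, evalF, Perm.mul_apply, ih]

theorem evalP_mem (T : Subgroup (Perm (Fin 8))) {s t h : Perm (Fin 8)} (hs : s ∈ T) (ht : t ∈ T)
    (hh : h ∈ T) (w : List Letter) : evalP s t h w ∈ T := by
  induction w with
  | nil => exact T.one_mem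
  | cons l w ih =>
    cases l
    · exact T.mul_mem hs ih
    · exact T.mul_mem ht ih
    · exact T.mul_mem hh ih

theorem isId_iff (g : F8) : IsId g ↔ ∀ i, g i = i := by
  constructor
  · rintro ⟨h0, h1, h2, h3, h4, h5, h6, h7⟩ i
    fin_cases i <;> assumption
  · intro h
    exact ⟨h 0, h 1, h 2, h 3, h 4, h 5, h 6, h 7⟩

theorem eq8_iff (g g' : F8) : Eq8 g g' ↔ g = g' := by
  constructor
  · rintro ⟨h0, h1, h2, h3, h4, h5, h6, h7⟩
    funext i
    fin_cases i <;> assumption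
  · rintro rfl
    exact ⟨rfl, rfl, rfl, rfl, rfl, rfl, rfl, rfl⟩

theorem iter3_coe (ψ : Perm (Fin 8)) : iter3 ⇑ψ = ⇑(ψ ^ 3) := by
  funext i
  simp [iter3, pow_succ, Perm.mul_apply]

theorem iter7_coe (ψ : Perm (Fin 8)) : iter7 ⇑ψ = ⇑(ψ ^ 7) := by
  funext i
  simp [iter7, pow_succ, Perm.mul_apply]

theorem iter21_coe (ψ : Perm (Fin 8)) : iter21 ⇑ψ = ⇑(ψ ^ 21) := by
  unfold iter21
  rw [iter7_coe, iter3_coe, ← pow_mul]

/-- The properties of the image of a simple group of order `168` acting on its eight Sylow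
`7`-subgroups, suitably labelled. -/
structure Good168 (T : Subgroup (Perm (Fin 8))) : Prop where
  mem_s : sP ∈ T
  c1 : ∀ ψ ∈ T, Fix2 ⇑ψ → ψ ^ 3 = 1
  c2 : ∀ ψ ∈ T, ψ 7 = 7 → ψ ^ 21 = 1
  c5 : ∀ ψ ∈ T, ψ ^ 7 = 1 → ψ 7 ≠ 7 → T ≤ Subgroup.closure {sP, ψ}
  ex_rho : ∃ ρ ∈ T, ρ 7 = 7 ∧ ρ 0 = 0 ∧ ρ ≠ 1
  ex_theta : ∃ θ ∈ T, θ 7 = 0 ∧ θ 0 = 7

theorem not_badW1 {T : Subgroup (Perm (Fin 8))} (hT : Good168 T) (ψ : Perm (Fin 8))
    (hψ : ψ ∈ T) : ¬ BadW1 ⇑ψ := by
  rintro ⟨h1, h2⟩
  apply h2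
  rw [iter3_coe, hT.c1 ψ hψ (fix2_of_fixCount h1), isId_iff]
  intro i
  rfl

theorem not_badW2 {T : Subgroup (Perm (Fin 8))} (hT : Good168 T) (ψ : Perm (Fin 8))
    (hψ : ψ ∈ T) : ¬ BadW2 ⇑ψ := by
  rintro ⟨h1, h2⟩
  apply h2
  rw [iter21_coe, hT.c2 ψ hψ h1, isId_iff]
  intro i
  rfl

theorem S1.elim_of_injective {P : Fin 8 → Fin 8 → Fin 8 → Fin 8 → Fin 8 → Fin 8 → Prop}
    (h : S1 P) (g : Fin 8 → Fin 8) (hg : Function.Injective g)
    (h0 : ∀ k, k ≠ 0 → k ≠ 7 → g k ≠ 0 ∧ g k ≠ 7) : P (g 1) (g 2) (g 3) (g 4) (g 5) (g 6) := by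
  have h1 := All6.elim h (g 1) (h0 1 (by decide) (by decide)).1 (h0 1 (by decide) (by decide)).2
  have h2 := All6.elim h1 (g 2) (h0 2 (by decide) (by decide)).1 (h0 2 (by decide) (by decide)).2
    (by simp [hg.eq_iff])
  have h3 := All6.elim h2 (g 3) (h0 3 (by decide) (by decide)).1 (h0 3 (by decide) (by decide)).2
    (by simp [hg.eq_iff])
  have h4 := All6.elim h3 (g 4) (h0 4 (by decide) (by decide)).1 (h0 4 (by decide) (by decide)).2
    (by simp [hg.eq_iff])
  have h5 := All6.elim h4 (g 5) (h0 5 (by decide) (by decide)).1 (h0 5 (by decide) (by decide)).2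
    (by simp [hg.eq_iff])
  exact All6.elim h5 (g 6) (h0 6 (by decide) (by decide)).1 (h0 6 (by decide) (by decide)).2
    (by simp [hg.eq_iff])

theorem coe_eq_mkR (ρ : Perm (Fin 8)) (h7 : ρ 7 = 7) (h0 : ρ 0 = 0) :
    ⇑ρ = mkR (ρ 1) (ρ 2) (ρ 3) (ρ 4) (ρ 5) (ρ 6) := by
  have b1 := (ρ 1).isLt
  have b2 := (ρ 2).isLt
  have b3 := (ρ 3).isLt
  have b4 := (ρ 4).isLt
  have b5 := (ρ 5).isLt
  have b6 := (ρ 6).isLt
  have k0 : (ρ 0).val = (mkR (ρ 1) (ρ 2) (ρ 3) (ρ 4) (ρ 5) (ρ 6) 0).val := by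
    simp only [mkR, dig, h7, h0]
    norm_num
    try omega
  have k1 : (ρ 1).val = (mkR (ρ 1) (ρ 2) (ρ 3) (ρ 4) (ρ 5) (ρ 6) 1).val := by
    simp only [mkR, dig, h7, h0]
    norm_num
    try omega
  have k2 : (ρ 2).val = (mkR (ρ 1) (ρ 2) (ρ 3) (ρ 4) (ρ 5) (ρ 6) 2).val := by
    simp only [mkR, dig, h7, h0]
    norm_num
    try omega
  have k3 : (ρ 3).val = (mkR (ρ 1) (ρ 2) (ρ 3) (ρ 4) (ρ 5) (ρ 6) 3).val := by
    simp only [mkR, dig, h7, h0]
    norm_num
    try omega
  have k4 : (ρ 4).val = (mkR (ρ 1) (ρ 2) (ρ 3) (ρ 4) (ρ 5) (ρ 6) 4).val := by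
    simp only [mkR, dig, h7, h0]
    norm_num
    try omega
  have k5 : (ρ 5).val = (mkR (ρ 1) (ρ 2) (ρ 3) (ρ 4) (ρ 5) (ρ 6) 5).val := by
    simp only [mkR, dig, h7, h0]
    norm_num
    try omega
  have k6 : (ρ 6).val = (mkR (ρ 1) (ρ 2) (ρ 3) (ρ 4) (ρ 5) (ρ 6) 6).val := by
    simp only [mkR, dig, h7, h0]
    norm_num
    try omega
  have k7 : (ρ 7).val = (mkR (ρ 1) (ρ 2) (ρ 3) (ρ 4) (ρ 5) (ρ 6) 7).val := by
    simp only [mkR, dig, h7, h0]
    norm_num
    try omega
  funext i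
  fin_cases i
  · exact Fin.ext k0
  · exact Fin.ext k1
  · exact Fin.ext k2
  · exact Fin.ext k3
  · exact Fin.ext k4
  · exact Fin.ext k5
  · exact Fin.ext k6
  · exact Fin.ext k7

theorem coe_eq_mkT (θ : Perm (Fin 8)) (h7 : θ 7 = 0) (h0 : θ 0 = 7) :
    ⇑θ = mkT (θ 1) (θ 2) (θ 3) (θ 4) (θ 5) (θ 6) := by
  have b1 := (θ 1).isLt
  have b2 := (θ 2).isLt
  have b3 := (θ 3).isLt
  have b4 := (θ 4).isLt
  have b5 := (θ 5).isLt
  have b6 := (θ 6).isLt
  have k0 : (θ 0).val = (mkT (θ 1) (θ 2) (θ 3) (θ 4) (θ 5) (θ 6) 0).val := by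
    simp only [mkT, dig, h7, h0]
    norm_num
    try omega
  have k1 : (θ 1).val = (mkT (θ 1) (θ 2) (θ 3) (θ 4) (θ 5) (θ 6) 1).val := by
    simp only [mkT, dig, h7, h0]
    norm_num
    try omega
  have k2 : (θ 2).val = (mkT (θ 1) (θ 2) (θ 3) (θ 4) (θ 5) (θ 6) 2).val := by
    simp only [mkT, dig, h7, h0]
    norm_num
    try omega
  have k3 : (θ 3).val = (mkT (θ 1) (θ 2) (θ 3) (θ 4) (θ 5) (θ 6) 3).val := by
    simp only [mkT, dig, h7, h0]
    norm_num
    try omega
  have k4 : (θ 4).val = (mkT (θ 1) (θ 2) (θ 3) (θ 4) (θ 5) (θ 6) 4).val := by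
    simp only [mkT, dig, h7, h0]
    norm_num
    try omega
  have k5 : (θ 5).val = (mkT (θ 1) (θ 2) (θ 3) (θ 4) (θ 5) (θ 6) 5).val := by
    simp only [mkT, dig, h7, h0]
    norm_num
    try omega
  have k6 : (θ 6).val = (mkT (θ 1) (θ 2) (θ 3) (θ 4) (θ 5) (θ 6) 6).val := by
    simp only [mkT, dig, h7, h0]
    norm_num
    try omega
  have k7 : (θ 7).val = (mkT (θ 1) (θ 2) (θ 3) (θ 4) (θ 5) (θ 6) 7).val := by
    simp only [mkT, dig, h7, h0]
    norm_num
    try omega
  funext i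
  fin_cases i
  · exact Fin.ext k0
  · exact Fin.ext k1
  · exact Fin.ext k2
  · exact Fin.ext k3
  · exact Fin.ext k4
  · exact Fin.ext k5
  · exact Fin.ext k6
  · exact Fin.ext k7

/-- The permutations preserving a binary operation form a subgroup. -/
def presSub (m : Fin 8 → Fin 8 → Fin 8) : Subgroup (Perm (Fin 8)) where
  carrier := {g | Pres m ⇑g}
  one_mem' := fun x y => rfl
  mul_mem' := by
    intro g g' hg hg' x y
    show g (g' (m x y)) = m (g (g' x)) (g (g' y))
    rw [hg' x y, hg (g' x) (g' y)]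
  inv_mem' := by
    intro g hg x y
    apply g.injective
    have e : ∀ z, g (g⁻¹ z) = z := fun z => g.apply_symm_apply z
    have h1 := hg (g⁻¹ x) (g⁻¹ y)
    rw [e, e] at h1
    rw [h1, e]

theorem mem_presSub (m : Fin 8 → Fin 8 → Fin 8) (g : Perm (Fin 8)) :
    g ∈ presSub m ↔ Pres m ⇑g := Iff.rfl

theorem not_badC5 {T : Subgroup (Perm (Fin 8))} (hT : Good168 T) (htP : tP ∈ T)
    (θ : Perm (Fin 8)) (hθ : θ ∈ T) (j : ℕ) : ¬ BadC5 sF tF ⇑θ j := by
  rintro ⟨h7, hne, hps, hpψ, hnt⟩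
  obtain ⟨ψ, hψdef⟩ : ∃ ψ : Perm (Fin 8), ψ = θ * sP ^ j * θ ^ 5 := ⟨_, rfl⟩
  have hcoe : ⇑ψ = psiF sF ⇑θ j := by
    funext i
    rw [hψdef]
    simp only [psiF, Perm.mul_apply, pow_succ, pow_zero, one_mul]
    rw [← coe_sP, Perm.iterate_eq_pow]
  have hψT : ψ ∈ T := by
    rw [hψdef]
    exact T.mul_mem (T.mul_mem hθ (T.pow_mem hT.mem_s j)) (T.pow_mem hθ 5)
  rw [← hcoe] at h7 hne hps hpψ hnt
  have hψ7 : ψ ^ 7 = 1 := by
    ext i
    rw [iter7_coe, isId_iff] at h7
    rw [h7 i]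
    rfl
  have hle := hT.c5 ψ hψT hψ7 hne
  have hcl : Subgroup.closure {sP, ψ} ≤ presSub (mfun sF ⇑ψ) := by
    rw [Subgroup.closure_le]
    rintro x (rfl | rfl)
    · exact hps
    · exact hpψ
  exact hnt (hcl (hle htP))

theorem tP_mem {T : Subgroup (Perm (Fin 8))} (hT : Good168 T) : tP ∈ T := by
  obtain ⟨ρ, hρ, h7, h0, h1⟩ := hT.ex_rho
  have hs := S1.elim_of_injective searchR ⇑ρ ρ.injective (by
    intro k hk0 hk7
    constructor
    · intro h
      rw [← h0] at h
      exact hk0 (ρ.injective h)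
    · intro h
      rw [← h7] at h
      exact hk7 (ρ.injective h))
  rw [← coe_eq_mkR ρ h7 h0] at hs
  rcases hs with ⟨w, -, hbad⟩ | hid | ht | ht2
  · have hψ := evalP_mem T hT.mem_s hT.mem_s hρ w
    rw [← coe_sP, ← coe_evalP] at hbad
    rcases hbad with hb | hb
    · exact absurd hb (not_badW1 hT _ hψ)
    · exact absurd hb (not_badW2 hT _ hψ)
  · exfalso
    apply h1
    ext i
    rw [(isId_iff _).mp hid i]
    rfl
  · have : ρ = tP := Equiv.ext (fun i => congrFun ((eq8_iff _ _).mp ht) i)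
    rwa [← this]
  · have h2 : ρ = tP * tP := Equiv.ext (fun i => congrFun ((eq8_iff _ _).mp ht2) i)
    have h3 : tP = (tP * tP) * (tP * tP) := by decide +kernel
    rw [h3, ← h2]
    exact T.mul_mem hρ hρ

theorem t0P_mem {T : Subgroup (Perm (Fin 8))} (hT : Good168 T) : t0P ∈ T := by
  have htP := tP_mem hT
  obtain ⟨θ, hθ, h7, h0⟩ := hT.ex_theta
  have hs := S1.elim_of_injective searchT ⇑θ θ.injective (by
    intro k hk0 hk7
    constructor
    · intro h
      rw [← h7] at h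
      exact hk7 (θ.injective h)
    · intro h
      rw [← h0] at h
      exact hk0 (θ.injective h))
  rw [← coe_eq_mkT θ h7 h0] at hs
  rcases hs with ⟨w, -, hbad⟩ | hb | hb | hb | he | he | he
  · have hψ := evalP_mem T hT.mem_s htP hθ w
    rw [← coe_sP, ← coe_tP, ← coe_evalP] at hbad
    exact absurd hbad (not_badW1 hT _ hψ)
  · exact absurd hb (not_badC5 hT htP θ hθ 1)
  · exact absurd hb (not_badC5 hT htP θ hθ 2)
  · exact absurd hb (not_badC5 hT htP θ hθ 4)
  · have : θ = t0P := Equiv.ext (fun i => congrFun ((eq8_iff _ _).mp he) i)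
    rwa [← this]
  · have h2 : θ = t0P * tP := Equiv.ext (fun i => congrFun ((eq8_iff _ _).mp he) i)
    have h3 : t0P = t0P * tP * tP⁻¹ := by group
    rw [h3, ← h2]
    exact T.mul_mem hθ (T.inv_mem htP)
  · have h2 : θ = t0P * tP * tP := Equiv.ext (fun i => congrFun ((eq8_iff _ _).mp he) i)
    have h3 : t0P = t0P * tP * tP * tP⁻¹ * tP⁻¹ := by group
    rw [h3, ← h2]
    exact T.mul_mem (T.mul_mem hθ (T.inv_mem htP)) (T.inv_mem htP)

/-- The fixed copy of the simple group of order `168` inside `Perm (Fin 8)`. -/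
def G168 : Subgroup (Perm (Fin 8)) := Subgroup.closure {sP, t0P * sP * t0P}

theorem eq_G168 {T : Subgroup (Perm (Fin 8))} (hT : Good168 T) : T = G168 := by
  have h0 := t0P_mem hT
  apply le_antisymm
  · apply hT.c5 (t0P * sP * t0P) (T.mul_mem (T.mul_mem h0 hT.mem_s) h0)
    · decide +kernel
    · decide +kernel
  · unfold G168
    rw [Subgroup.closure_le]
    rintro x (rfl | rfl)
    · exact hT.mem_s
    · exact T.mul_mem (T.mul_mem h0 hT.mem_s) h0

theorem sF_iterate_fix (a : ℕ) : sF^[a] 7 = 7 := by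
  induction a with
  | zero => rfl
  | succ a ih => rw [Function.iterate_succ_apply', ih]; decide +kernel

theorem sF_iterate_zero : ∀ c : Fin 8, c ≠ 7 → sF^[7 - c.val] c = 0 := by decide +kernel

theorem eq_eight_of_dvd_of_mod (n : ℕ) (h1 : 1 < n) (h3 : n % 7 = 1) (h4 : n ∣ 24) : n = 8 := by
  have h5 : n ≤ 24 := Nat.le_of_dvd (by norm_num) h4
  interval_cases n <;> revert h3 h4 <;> decide

section Abstract

variable {G : Type*} [Group G] [Finite G]

/-- A simple group with a proper subgroup of index `k` has order dividing `k!`. -/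
theorem card_dvd_factorial_index_of_simple [IsSimpleGroup G] (K : Subgroup G) (hK : K ≠ ⊤) :
    Nat.card G ∣ K.index.factorial := by
  have hker : (MulAction.toPermHom G (G ⧸ K)).ker = ⊥ := by
    rcases (inferInstance : (MulAction.toPermHom G (G ⧸ K)).ker.Normal).eq_bot_or_eq_top
      with h | h
    · exact h
    · exfalso
      apply hK
      rw [← Subgroup.normalCore_eq_ker] at h
      exact top_le_iff.mp (h ▸ Subgroup.normalCore_le K)
  have hinj : Function.Injective (MulAction.toPermHom G (G ⧸ K)) :=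
    (MonoidHom.ker_eq_bot_iff _).mp hker
  have h1 := Subgroup.card_dvd_of_injective _ hinj
  rwa [Nat.card_perm] at h1

variable [IsSimpleGroup G]

set_option maxHeartbeats 3200000 in
theorem exists_good_hom (hcard : Nat.card G = 168) :
    ∃ φ : G →* Perm (Fin 8), Function.Injective φ ∧ Good168 φ.range := by
  haveI : Fact (Nat.Prime 7) := ⟨by norm_num⟩
  have hG : ¬ IsCyclic G := by
    intro hc
    have := prime_card_of_simple_of_isCyclic hc
    rw [hcard] at this
    norm_num at this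
  have h7 : 7 ∣ Nat.card G := by rw [hcard]; norm_num
  obtain ⟨P⟩ : Nonempty (Sylow 7 G) := inferInstance
  have hcardeq : Nat.card G = 7 ^ 1 * 24 := by rw [hcard]; norm_num
  have hPcard : ∀ Q : Sylow 7 G, Nat.card (Q : Subgroup G) = 7 := fun Q => by
    have := (card_sylow_of_card_eq 7 1 24 (by norm_num) hcardeq Q).1
    simpa using this
  have hn7 : Nat.card (Sylow 7 G) = 8 := by
    obtain ⟨-, -, -, h1, -, -⟩ := sylow_facts hG 7 h7 P
    have h3 : Nat.card (Sylow 7 G) ≡ 1 [MOD 7] := card_sylow_modEq_one 7 G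
    have h4 : Nat.card (Sylow 7 G) ∣ 24 := by
      have := Sylow.card_dvd_index P
      rwa [(card_sylow_of_card_eq 7 1 24 (by norm_num) hcardeq P).2] at this
    unfold Nat.ModEq at h3
    exact eq_eight_of_dvd_of_mod _ h1 (by omega) h4
  have hN : ∀ Q : Sylow 7 G,
      Nat.card (Subgroup.normalizer ((Q : Subgroup G) : Set G)) = 21 := by
    intro Q
    have h1 : Nat.card (Sylow 7 G) = (Subgroup.normalizer ((Q : Subgroup G) : Set G)).index :=
      Sylow.card_eq_index_normalizer Q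
    have h2 := Subgroup.card_mul_index (Subgroup.normalizer ((Q : Subgroup G) : Set G))
    rw [← h1, hn7, hcard] at h2
    omega
  -- elements of the normalizer of a Sylow 7-subgroup have order dividing 21
  have hN21 : ∀ (x : G) (Q : Sylow 7 G), x • Q = Q → x ^ 21 = 1 := by
    intro x Q hx
    have hx' : x ∈ Subgroup.normalizer ((Q : Subgroup G) : Set G) :=
      Sylow.smul_eq_iff_mem_normalizer.mp hx
    have h1 : (⟨x, hx'⟩ : Subgroup.normalizer ((Q : Subgroup G) : Set G)) ^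
        Nat.card (Subgroup.normalizer ((Q : Subgroup G) : Set G)) = 1 := pow_card_eq_one'
    rw [hN Q] at h1
    exact congrArg Subtype.val h1
  -- a 7-element fixing a Sylow 7-subgroup lies in it
  have hmem : ∀ (x : G) (Q : Sylow 7 G), x ^ 7 = 1 → x • Q = Q → x ∈ (Q : Subgroup G) := by
    intro x Q hx hQ
    have hZ : IsPGroup 7 (Subgroup.zpowers x) := by
      by_cases h1 : x = 1
      · refine IsPGroup.of_card (n := 0) ?_
        rw [Nat.card_zpowers, h1, orderOf_one, pow_zero]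
      · refine IsPGroup.of_card (n := 1) ?_
        rw [Nat.card_zpowers, pow_one]
        exact orderOf_eq_prime hx h1
    have hfix : Q ∈ MulAction.fixedPoints (Subgroup.zpowers x) (Sylow 7 G) := by
      rintro ⟨y, hy⟩
      have hstab : x ∈ MulAction.stabilizer G Q := MulAction.mem_stabilizer_iff.mpr hQ
      have hy' : y ∈ MulAction.stabilizer G Q := by
        obtain ⟨k, rfl⟩ := Subgroup.mem_zpowers_iff.mp hy
        exact Subgroup.zpow_mem _ hstab k
      exact MulAction.mem_stabilizer_iff.mp hy'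
    exact (hZ.sylow_mem_fixedPoints_iff.mp hfix) (Subgroup.mem_zpowers x)
  -- a 7-element fixing two distinct Sylow 7-subgroups is trivial
  have hFP : ∀ (x : G) (Q₁ Q₂ : Sylow 7 G), x ^ 7 = 1 → x • Q₁ = Q₁ → x • Q₂ = Q₂ → Q₁ ≠ Q₂ →
      x = 1 := by
    intro x Q₁ Q₂ hx h1 h2 hne
    by_contra hx_ne
    have ho : orderOf x = 7 := orderOf_eq_prime hx hx_ne
    have e : ∀ Q : Sylow 7 G, x • Q = Q → Subgroup.zpowers x = (Q : Subgroup G) := by
      intro Q hQ
      refine Subgroup.eq_of_le_of_card_ge ?_ ?_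
      · rw [Subgroup.zpowers_le]
        exact hmem x Q hx hQ
      · rw [Nat.card_zpowers, ho, hPcard]
    exact hne (Sylow.ext ((e Q₁ h1).symm.trans (e Q₂ h2)))
  -- a generator of `P`
  obtain ⟨g, hgP, hg1⟩ : ∃ g ∈ (P : Subgroup G), g ≠ 1 := by
    by_contra hcon
    push Not at hcon
    have : (P : Subgroup G) = ⊥ := (Subgroup.eq_bot_iff_forall _).mpr hcon
    have h2 := hPcard P
    rw [this, Subgroup.card_bot] at h2
    omega
  have hg7 : g ^ 7 = 1 := by
    have h1 : (⟨g, hgP⟩ : (P : Subgroup G)) ^ Nat.card (P : Subgroup G) = 1 := pow_card_eq_one'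
    rw [hPcard P] at h1
    exact congrArg Subtype.val h1
  have hgo : orderOf g = 7 := orderOf_eq_prime hg7 hg1
  have hPfix : ∀ x ∈ (P : Subgroup G), x • P = P := fun x hx =>
    Sylow.smul_eq_iff_mem_normalizer.mpr (Subgroup.le_normalizer hx)
  haveI : Nontrivial (Sylow 7 G) := by
    rw [← Finite.one_lt_card_iff_nontrivial, hn7]
    norm_num
  obtain ⟨Q₀, hQ₀⟩ := exists_ne P
  -- the labelling of the Sylow 7-subgroups
  obtain ⟨β, hβdef⟩ : ∃ β : Fin 8 → Sylow 7 G,
      β = fun i => if i = 7 then P else g ^ i.val • Q₀ := ⟨_, rfl⟩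
  have hβ7 : β 7 = P := by rw [hβdef]; simp
  have hβi : ∀ i : Fin 8, i ≠ 7 → β i = g ^ i.val • Q₀ := by
    intro i hi
    rw [hβdef]
    simp [hi]
  have hβ0 : β 0 = Q₀ := by
    rw [hβi 0 (by decide)]
    simp
  have hβne : ∀ i : Fin 8, i ≠ 7 → β i ≠ P := by
    intro i hi h
    rw [hβi i hi] at h
    apply hQ₀
    have h2 : Q₀ = (g ^ i.val)⁻¹ • P := by rw [← h, inv_smul_smul]
    rw [h2]
    exact hPfix _ (Subgroup.inv_mem _ (Subgroup.pow_mem _ hgP _))
  have hβinj : Function.Injective β := by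
    intro i j hij
    by_cases hi : i = 7 <;> by_cases hj : j = 7
    · rw [hi, hj]
    · rw [hi, hβ7] at hij
      exact absurd hij.symm (hβne j hj)
    · rw [hj, hβ7] at hij
      exact absurd hij (hβne i hi)
    · rw [hβi i hi, hβi j hj] at hij
      have hx : ((g ^ j.val)⁻¹ * g ^ i.val) • Q₀ = Q₀ := by
        rw [mul_smul, hij, inv_smul_smul]
      have hxP : ((g ^ j.val)⁻¹ * g ^ i.val) • P = P :=
        hPfix _ (Subgroup.mul_mem _ (Subgroup.inv_mem _ (Subgroup.pow_mem _ hgP _))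
          (Subgroup.pow_mem _ hgP _))
      have hx7 : ((g ^ j.val)⁻¹ * g ^ i.val) ^ 7 = 1 := by
        have e : (g ^ j.val)⁻¹ * g ^ i.val = g ^ (-(j.val : ℤ) + (i.val : ℤ)) := by
          rw [zpow_add, zpow_neg, zpow_natCast, zpow_natCast]
        rw [e, ← zpow_natCast, ← zpow_mul, mul_comm, zpow_mul, zpow_natCast, hg7, one_zpow]
      have hx1 := hFP _ Q₀ P hx7 hx hxP hQ₀
      have h2 : g ^ i.val = g ^ j.val := by
        rw [inv_mul_eq_one] at hx1
        exact hx1.symm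
      rw [pow_eq_pow_iff_modEq, hgo] at h2
      unfold Nat.ModEq at h2
      have hi' : i.val ≠ 7 := fun h => hi (Fin.ext h)
      have hj' : j.val ≠ 7 := fun h => hj (Fin.ext h)
      have := i.isLt
      have := j.isLt
      apply Fin.ext
      omega
  have hβbij : Function.Bijective β :=
    hβinj.bijective_of_nat_card_le (by rw [hn7, Nat.card_fin])
  obtain ⟨e, he⟩ : ∃ e : Fin 8 ≃ Sylow 7 G, ∀ i, e i = β i :=
    ⟨Equiv.ofBijective β hβbij, fun i => rfl⟩
  obtain ⟨φ, hφdef⟩ : ∃ φ : G →* Perm (Fin 8),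
      φ = (e.symm.permCongrHom).toMonoidHom.comp (MulAction.toPermHom G (Sylow 7 G)) :=
    ⟨_, rfl⟩
  have hφ : ∀ (x : G) (i : Fin 8), β (φ x i) = x • β i := by
    intro x i
    rw [hφdef, ← he, ← he]
    simp [Equiv.permCongrHom, Equiv.permCongr_apply]
  have hφinj : Function.Injective φ := by
    rw [hφdef]
    exact (e.symm.permCongrHom).injective.comp (toPermHom_sylow_injective hG 7 h7)
  have hφeq : ∀ (x : G) (i j : Fin 8), x • β i = β j → φ x i = j := by
    intro x i j h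
    apply hβinj
    rw [hφ, h]
  -- `φ g = sP`
  have hφg : φ g = sP := by
    ext i
    congr 1
    apply hφeq
    have hstep : ∀ i j : Fin 8, i ≠ 7 → j ≠ 7 → j.val = i.val + 1 → g • β i = β j := by
      intro i j hi hj h
      rw [hβi i hi, hβi j hj, smul_smul, h, pow_succ']
    fin_cases i
    · show g • β 0 = β (sP 0)
      rw [show sP 0 = 1 from by decide +kernel]
      exact hstep 0 1 (by decide) (by decide) rfl
    · show g • β 1 = β (sP 1)
      rw [show sP 1 = 2 from by decide +kernel]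
      exact hstep 1 2 (by decide) (by decide) rfl
    · show g • β 2 = β (sP 2)
      rw [show sP 2 = 3 from by decide +kernel]
      exact hstep 2 3 (by decide) (by decide) rfl
    · show g • β 3 = β (sP 3)
      rw [show sP 3 = 4 from by decide +kernel]
      exact hstep 3 4 (by decide) (by decide) rfl
    · show g • β 4 = β (sP 4)
      rw [show sP 4 = 5 from by decide +kernel]
      exact hstep 4 5 (by decide) (by decide) rfl
    · show g • β 5 = β (sP 5)
      rw [show sP 5 = 6 from by decide +kernel]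
      exact hstep 5 6 (by decide) (by decide) rfl
    · show g • β 6 = β (sP 6)
      rw [show sP 6 = 0 from by decide +kernel, hβi 6 (by decide), hβ0, smul_smul]
      have : g * g ^ (6 : Fin 8).val = 1 := by
        rw [← pow_succ']
        exact hg7
      rw [this, one_smul]
    · show g • β 7 = β (sP 7)
      rw [show sP 7 = 7 from by decide +kernel, hβ7]
      exact hPfix g hgP
  -- C1
  have hc1 : ∀ x : G, Fix2 ⇑(φ x) → x ^ 3 = 1 := by
    rintro x ⟨a, b, hab, ha, hb⟩
    have ha' : x • β a = β a := by rw [← hφ, ha]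
    have hb' : x • β b = β b := by rw [← hφ, hb]
    have h21 := hN21 x (β a) ha'
    have h7' : (x ^ 3) ^ 7 = 1 := by rw [← pow_mul]; exact h21
    have hstab : ∀ Q : Sylow 7 G, x • Q = Q → x ^ 3 • Q = Q := by
      intro Q hQ
      have hs : x ∈ MulAction.stabilizer G Q := MulAction.mem_stabilizer_iff.mpr hQ
      exact MulAction.mem_stabilizer_iff.mp (Subgroup.pow_mem _ hs 3)
    exact hFP (x ^ 3) (β a) (β b) h7' (hstab _ ha') (hstab _ hb') (fun h => hab (hβinj h))
  -- C2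
  have hc2 : ∀ x : G, φ x 7 = 7 → x ^ 21 = 1 := by
    intro x hx
    apply hN21 x P
    rw [← hβ7, ← hφ, hx]
  -- powers of `g`
  have hφpow : ∀ (a : ℕ) (i : Fin 8), φ (g ^ a) i = sF^[a] i := by
    intro a i
    rw [map_pow, hφg, ← coe_sP, Perm.iterate_eq_pow]
  -- existence of `ρ`
  have hex_rho : ∃ x : G, φ x 7 = 7 ∧ φ x 0 = 0 ∧ x ≠ 1 := by
    have hlt : (P : Subgroup G) < Subgroup.normalizer ((P : Subgroup G) : Set G) := by
      refine lt_of_le_of_ne Subgroup.le_normalizer ?_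
      intro h
      have h1 := hN P
      rw [← h, hPcard P] at h1
      omega
    obtain ⟨y, hyN, hyP⟩ := SetLike.exists_of_lt hlt
    have hy7 : φ y 7 = 7 := by
      apply hφeq
      rw [hβ7]
      exact Sylow.smul_eq_iff_mem_normalizer.mpr hyN
    have hc : φ y 0 ≠ 7 := by
      intro h
      exact absurd ((φ y).injective (h.trans hy7.symm)) (by decide : (0 : Fin 8) ≠ 7)
    refine ⟨g ^ (7 - (φ y 0).val) * y, ?_, ?_, ?_⟩
    · rw [map_mul, Perm.mul_apply, hy7, hφpow, sF_iterate_fix]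
    · rw [map_mul, Perm.mul_apply, hφpow, sF_iterate_zero _ hc]
    · intro h
      apply hyP
      have h2 : y = (g ^ (7 - (φ y 0).val))⁻¹ := eq_inv_of_mul_eq_one_right h
      rw [h2]
      exact Subgroup.inv_mem _ (Subgroup.pow_mem _ hgP _)
  -- existence of `θ`
  have hex_theta : ∃ x : G, φ x 7 = 0 ∧ φ x 0 = 7 := by
    obtain ⟨x₁, hx₁⟩ := MulAction.exists_smul_eq G Q₀ P
    have h0 : φ x₁ 0 = 7 := by
      apply hφeq
      rw [hβ0, hβ7, hx₁]
    have hc : φ x₁ 7 ≠ 7 := by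
      intro h
      exact absurd ((φ x₁).injective (h.trans h0.symm)) (by decide : (7 : Fin 8) ≠ 0)
    refine ⟨g ^ (7 - (φ x₁ 7).val) * x₁, ?_, ?_⟩
    · rw [map_mul, Perm.mul_apply, hφpow, sF_iterate_zero _ hc]
    · rw [map_mul, Perm.mul_apply, h0, hφpow, sF_iterate_fix]
  -- C5
  have hc5 : ∀ x : G, x ^ 7 = 1 → φ x 7 ≠ 7 → Subgroup.closure {g, x} = ⊤ := by
    intro x hx7 hx
    have hxP : x ∉ (P : Subgroup G) := by
      intro h
      apply hx
      apply hφeq
      rw [hβ7]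
      exact hPfix x h
    have hx1 : x ≠ 1 := fun h => hxP (h ▸ Subgroup.one_mem _)
    have hxo : orderOf x = 7 := orderOf_eq_prime hx7 hx1
    have hZ : IsPGroup 7 (Subgroup.zpowers x) := by
      refine IsPGroup.of_card (n := 1) ?_
      rw [Nat.card_zpowers, hxo, pow_one]
    obtain ⟨P', hP'⟩ := hZ.exists_le_sylow
    have hxP' : x ∈ (P' : Subgroup G) := hP' (Subgroup.mem_zpowers x)
    have hne : P' ≠ P := fun h => hxP (h ▸ hxP')
    obtain ⟨K, hKdef⟩ : ∃ K : Subgroup G, K = Subgroup.closure {g, x} := ⟨_, rfl⟩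
    rw [← hKdef]
    have hgK : g ∈ K := by rw [hKdef]; exact Subgroup.subset_closure (by simp)
    have hxK : x ∈ K := by rw [hKdef]; exact Subgroup.subset_closure (by simp)
    have hPK : (P : Subgroup G) ≤ K := by
      have e1 : Subgroup.zpowers g = (P : Subgroup G) :=
        Subgroup.eq_of_le_of_card_ge (by rw [Subgroup.zpowers_le]; exact hgP)
          (by rw [Nat.card_zpowers, hgo, hPcard])
      rw [← e1, Subgroup.zpowers_le]
      exact hgK
    have hP'K : (P' : Subgroup G) ≤ K := by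
      have e1 : Subgroup.zpowers x = (P' : Subgroup G) :=
        Subgroup.eq_of_le_of_card_ge hP' (by rw [Nat.card_zpowers, hxo, hPcard])
      rw [← e1, Subgroup.zpowers_le]
      exact hxK
    have hneK : P'.subtype hP'K ≠ P.subtype hPK := by
      intro h
      apply hne
      have h2 := congrArg (fun S : Sylow 7 K => ((S : Subgroup K).map K.subtype : Subgroup G)) h
      simp only [Sylow.coe_subtype] at h2
      rw [Subgroup.map_subgroupOf_eq_of_le hP'K, Subgroup.map_subgroupOf_eq_of_le hPK] at h2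
      exact Sylow.ext h2
    haveI : Nontrivial (Sylow 7 K) := ⟨⟨_, _, hneK⟩⟩
    have h1 : 1 < Nat.card (Sylow 7 K) := Finite.one_lt_card
    have h3 : Nat.card (Sylow 7 K) ≡ 1 [MOD 7] := card_sylow_modEq_one 7 K
    have h4 : Nat.card (Sylow 7 K) ∣ Nat.card K :=
      (Sylow.card_dvd_index (P.subtype hPK)).trans (Subgroup.index_dvd_card _)
    have hK168 : Nat.card K ∣ 168 := hcard ▸ Subgroup.card_subgroup_dvd_card K
    have h7K : 7 ∣ Nat.card K := by
      have := Subgroup.card_dvd_of_le hPK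
      rwa [hPcard P] at this
    have h8 : Nat.card (Sylow 7 K) = 8 := by
      have h5 : Nat.card (Sylow 7 K) ∣ 7 * 24 := h4.trans hK168
      unfold Nat.ModEq at h3
      have hcop : Nat.Coprime (Nat.card (Sylow 7 K)) 7 := by
        rw [Nat.coprime_comm, Nat.Prime.coprime_iff_not_dvd (by norm_num)]
        omega
      have h24 : Nat.card (Sylow 7 K) ∣ 24 := hcop.dvd_of_dvd_mul_left h5
      exact eq_eight_of_dvd_of_mod _ h1 (by omega) h24
    have h56 : 56 ∣ Nat.card K := by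
      rw [h8] at h4
      exact Nat.Coprime.mul_dvd_of_dvd_of_dvd (by norm_num) h7K h4
    by_contra hKtop
    have h9 := card_dvd_factorial_index_of_simple K hKtop
    have h10 := Subgroup.card_mul_index K
    rw [hcard] at h9 h10
    obtain ⟨c, hc⟩ := h56
    have hc3 : c ≤ 3 := by
      have := Nat.le_of_dvd (by norm_num) hK168
      omega
    have hc0 : c ≠ 0 := by
      rintro rfl
      have := Nat.card_pos (α := K)
      omega
    have hidx : K.index * c = 3 := by
      rw [hc] at h10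
      nlinarith
    have hidx3 : K.index ≤ 3 := by
      rcases Nat.eq_zero_or_pos c with h | h
      · exact absurd h hc0
      · nlinarith
    have hidx0 : K.index ≠ 0 := by
      rintro h
      rw [h] at hidx
      omega
    generalize K.index = k at *
    interval_cases k <;> norm_num [Nat.factorial] at h9
  refine ⟨φ, hφinj, ?_⟩
  refine ⟨⟨g, hφg⟩, ?_, ?_, ?_, ?_, ?_⟩
  · rintro _ ⟨x, rfl⟩ hfix
    rw [← map_pow, hc1 x hfix, map_one]
  · rintro _ ⟨x, rfl⟩ hfix
    rw [← map_pow, hc2 x hfix, map_one]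
  · rintro _ ⟨x, rfl⟩ h7' hne
    have hx7 : x ^ 7 = 1 := by
      apply hφinj
      rw [map_pow, h7', map_one]
    have h := hc5 x hx7 hne
    rw [← hφg, MonoidHom.range_eq_map, ← h, MonoidHom.map_closure]
    apply Subgroup.closure_mono
    rintro _ ⟨y, hy, rfl⟩
    rcases hy with rfl | rfl
    · left; rfl
    · right; rfl
  · obtain ⟨x, h1, h2, h3⟩ := hex_rho
    refine ⟨φ x, ⟨x, rfl⟩, h1, h2, ?_⟩
    intro h
    apply h3
    apply hφinj
    rw [h, map_one]
  · obtain ⟨x, h1, h2⟩ := hex_theta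
    exact ⟨φ x, ⟨x, rfl⟩, h1, h2⟩

/-- Every simple group of order `168` is isomorphic to `G168`. -/
theorem nonempty_mulEquiv_G168 (hcard : Nat.card G = 168) : Nonempty (G ≃* G168) := by
  obtain ⟨φ, hinj, hgood⟩ := exists_good_hom hcard
  exact ⟨(MonoidHom.ofInjective hinj).trans (MulEquiv.subgroupCongr (eq_G168 hgood))⟩

end Abstract

/-- Any two simple groups of order `168` are isomorphic. -/
theorem nonempty_mulEquiv_of_card_eq_168 {G H : Type*} [Group G] [Finite G] [IsSimpleGroup G]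
    [Group H] [Finite H] [IsSimpleGroup H] (hG : Nat.card G = 168) (hH : Nat.card H = 168) :
    Nonempty (G ≃* H) := by
  obtain ⟨e₁⟩ := nonempty_mulEquiv_G168 hG
  obtain ⟨e₂⟩ := nonempty_mulEquiv_G168 hH
  exact ⟨e₁.trans e₂.symm⟩

end Cfsg.Agent.Lib.helper11.L27
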