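import Mathlib
import Cfsg.Agent.Lib.helper11.D8A6
import Cfsg.Agent.Lib.helper61.Special6
import Cfsg.Agent.Lib.helper26.DihFusion
import Cfsg.Agent.S0495

/-!
# Groups with a dihedral centralizer of order `8`: identification

A finite group in which an involution has a dihedral centralizer of order `8` and all
involutions are conjugate is isomorphic to `A₆` or to `PSL₂(7)`.
-/

set_option autoImplicit false

namespace Cfsg.Agent.Lib.helper11.D8Cent

open Cfsg.Agent.Lib.helper92 Cfsg.Agent.Lib.helper11.FourCent DihedralGroup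
open Cfsg.Agent.Lib.helper11

variable {G : Type*} [Group G]

/-- A simple group of order `360` generated in the `(2, 3, 5)` way contains a subgroup of
index `6` and is isomorphic to `A₆`. -/
theorem nonempty_A6_of_235 [Finite G] [IsSimpleGroup G] (hn : Nat.card G = 360) {t y : G}
    (hy3 : y ^ 3 = 1) (hy1 : y ≠ 1) (ht : t * t = 1) (hty : (t * y) ^ 5 = 1) :
    Nonempty (G ≃* alternatingGroup (Fin 6)) := by
  have hG : ¬ IsCyclic G := by
    intro hc
    have h1 := prime_card_of_simple_of_isCyclic hc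
    rw [hn] at h1
    norm_num at h1
  have hb : (y⁻¹ * t) ^ 5 = 1 := by
    have e : y⁻¹ * t = (t * y)⁻¹ := by rw [mul_inv_rev, inv_eq_self_of_sq ht]
    rw [e, inv_pow, hty, inv_one]
  have hab : (y * (y⁻¹ * t)) ^ 2 = 1 := by
    rw [mul_inv_cancel_left, pow_two, ht]
  obtain ⟨ψ⟩ := Cfsg.Agent.Lib.helper61.CycGen.closure_equiv_A5 y (y⁻¹ * t) hy3 hb hab hy1
  generalize Subgroup.closure ({y, y⁻¹ * t} : Set G) = K at ψ
  have hKcard : Nat.card K = 60 := by
    rw [Nat.card_congr ψ.toEquiv, nat_card_alternatingGroup]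
    simp [Nat.factorial]
  have hidx : K.index = 6 := by
    have h1 := K.card_mul_index
    rw [hKcard, hn] at h1
    omega
  have hker : (MulAction.toPermHom G (G ⧸ K)).ker = ⊥ := by
    rcases (inferInstance : (MulAction.toPermHom G (G ⧸ K)).ker.Normal).eq_bot_or_eq_top
      with h0 | h0
    · exact h0
    · exfalso
      have h1 : (MulAction.toPermHom G (G ⧸ K)).ker ≤ K := by
        rw [← Subgroup.normalCore_eq_ker]; exact Subgroup.normalCore_le K
      rw [h0] at h1
      have h2 : K = ⊤ := top_le_iff.mp h1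
      rw [h2, Subgroup.index_top] at hidx
      omega
  have hcard6 : Nat.card (G ⧸ K) = 6 := hidx
  let e : (G ⧸ K) ≃ Fin 6 := Finite.equivFinOfCardEq hcard6
  let θ : G →* Equiv.Perm (Fin 6) :=
    (e.permCongrHom : Equiv.Perm (G ⧸ K) →* Equiv.Perm (Fin 6)).comp
      (MulAction.toPermHom G (G ⧸ K))
  have hθ : Function.Injective θ := by
    intro x x' hxx
    have h1 := e.permCongrHom.injective hxx
    exact (MonoidHom.ker_eq_bot_iff _).mp hker h1
  have hc : Nat.card G = Nat.card (alternatingGroup (Fin 6)) := by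
    rw [hn, nat_card_alternatingGroup]
    simp [Nat.factorial]
  exact nonempty_mulEquiv_alternatingGroup_of_injective hG 6 θ hθ hc

/-- **Classification.** A finite group in which an involution has a dihedral centralizer of
order `8` and all involutions are conjugate is isomorphic to `A₆` or to `PSL₂(7)`. -/
theorem D8H.classify [Finite G] {a : G} {φ : DihedralGroup 4 →* G} (H : D8H a φ) :
    Nonempty (G ≃* alternatingGroup (Fin 6)) ∨
      (∃ (F : Type) (_ : Field F) (_ : Fintype F), Fintype.card F = 7 ∧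
        Nonempty (G ≃* Matrix.ProjectiveSpecialLinearGroup (Fin 2) F)) := by
  classical
  have := Fintype.ofFinite G
  have hmain := H.main
  have hsimple : IsSimpleGroup G :=
    { exists_pair_ne := ⟨a, 1, H.dc.ne_one⟩
      eq_bot_or_eq_top_of_normal := by
        intro N hN
        apply H.eq_bot_or_eq_top _ N hN
        rcases hmain with h | ⟨hn, g₁, g₂, hg₁, hg₂, h5, -, h9, -, -⟩
        · exact Or.inl h
        · exact Or.inr ⟨hn, g₁, g₂, hg₁, hg₂, h5, h9⟩ }
  rcases hmain with ⟨hn, -⟩ | ⟨hn, g₁, g₂, hg₁, hg₂, h5, hN1, h9, hN2, hd⟩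
  · right
    haveI : Fact (Nat.Prime 7) := ⟨by norm_num⟩
    refine ⟨ZMod 7, inferInstance, inferInstance, ZMod.card 7, ?_⟩
    exact Cfsg.Agent.S0495.result (by rw [Nat.card_eq_fintype_card, hn]) (ZMod.card 7)
  · left
    obtain ⟨y, hy, hy3, hCF, hNy⟩ := H.exists_order_three hg₂ h9 hN2
    have hXF : XF y = XF g₂ := by unfold XF; rw [hCF]
    obtain ⟨t, ht, hty⟩ := H.exists_235 hn hg₁ hy h5 hN1 (by rw [hCF]; exact h9) hNy
      (by rw [hXF]; exact hd)
    have hy3' : y ^ 3 = 1 := by rw [← hy3]; exact pow_orderOf_eq_one y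
    exact nonempty_A6_of_235 (by rw [Nat.card_eq_fintype_card, hn]) hy3' hy.1 ht hty

/-- Transport of `DC` along an isomorphism. -/
theorem DC.map {K : Type*} [Group K] {a : G} {φ : DihedralGroup 4 →* G} (H : DC a φ)
    (θ : G ≃* K) : DC (θ a) (θ.toMonoidHom.comp φ) where
  inj := θ.injective.comp H.inj
  mem := by
    intro x hx
    have h1 : θ.symm x * a = a * θ.symm x := by
      apply θ.injective
      rw [map_mul, map_mul, MulEquiv.apply_symm_apply]
      exact hx
    obtain ⟨d, hd⟩ := H.mem _ h1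
    refine ⟨d, ?_⟩
    simp only [MonoidHom.coe_comp, MulEquiv.coe_toMonoidHom, Function.comp_apply, hd,
      MulEquiv.apply_symm_apply]
  ha := by
    simp only [MonoidHom.coe_comp, MulEquiv.coe_toMonoidHom, Function.comp_apply, H.ha]

/-- Transport of `DC` along an isomorphism of centralizers. -/
theorem DC.transport {K : Type*} [Group K] {a : G} {b : K} {φ : DihedralGroup 4 →* K}
    (H : DC b φ) (ha1 : a ≠ 1)
    (e : Subgroup.centralizer ({a} : Set G) ≃* Subgroup.centralizer ({b} : Set K)) :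
    ∃ ψ : DihedralGroup 4 →* G, DC a ψ := by
  let φ' : DihedralGroup 4 →* Subgroup.centralizer ({b} : Set K) :=
    φ.codRestrict _ (fun d => mem_cent.mpr (H.comm d))
  let ψ : DihedralGroup 4 →* G :=
    (Subgroup.subtype _).comp (e.symm.toMonoidHom.comp φ')
  have hψ : ∀ d, ψ d = ((e.symm (φ' d) : Subgroup.centralizer ({a} : Set G)) : G) :=
    fun d => rfl
  have hφ' : ∀ d, ((φ' d : Subgroup.centralizer ({b} : Set K)) : K) = φ d := fun d => rfl
  refine ⟨ψ, ?_, ?_, ?_⟩
  · intro d d' h
    rw [hψ, hψ] at h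
    have h2 := e.symm.injective (Subtype.ext h)
    exact H.inj (congrArg Subtype.val h2)
  · intro x hx
    obtain ⟨d, hd⟩ := H.mem (e ⟨x, mem_cent.mpr hx⟩ : K) (mem_cent.mp (e ⟨x, mem_cent.mpr hx⟩).2)
    refine ⟨d, ?_⟩
    have h1 : φ' d = e ⟨x, mem_cent.mpr hx⟩ := Subtype.ext hd
    rw [hψ, h1, MulEquiv.symm_apply_apply]
  · obtain ⟨A, hA⟩ : ∃ A : Subgroup.centralizer ({a} : Set G), (A : G) = a :=
      ⟨⟨a, mem_cent.mpr rfl⟩, rfl⟩
    obtain ⟨d, hd⟩ := H.mem (e A : K) (mem_cent.mp (e A).2)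
    have hd' : φ' d = e A := Subtype.ext hd
    have hAc : ∀ z : Subgroup.centralizer ({a} : Set G), A * z = z * A := by
      intro z
      apply Subtype.ext
      rw [Subgroup.coe_mul, Subgroup.coe_mul, hA]
      exact (mem_cent.mp z.2).symm
    have hcen : ∀ d' : DihedralGroup 4, d * d' = d' * d := by
      intro d'
      apply H.inj
      have h3 : e A * φ' d' = φ' d' * e A := by
        have h4 := congrArg e (hAc (e.symm (φ' d')))
        rwa [map_mul, map_mul, MulEquiv.apply_symm_apply] at h4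
      rw [← hd'] at h3
      have h5 := congrArg Subtype.val h3
      rw [Subgroup.coe_mul, Subgroup.coe_mul, hφ', hφ'] at h5
      rw [map_mul, map_mul]; exact h5
    have hd1 : d ≠ 1 := by
      intro h
      rw [h, map_one] at hd'
      have h6 : A = 1 := e.injective (by rw [← hd', map_one])
      apply ha1
      rw [← hA, h6]; rfl
    have key : ∀ d : DihedralGroup 4, (∀ d', d * d' = d' * d) → d ≠ 1 → d = r 2 := by decide
    have hd2 := key d hcen hd1
    rw [hψ, ← hd2, hd', MulEquiv.symm_apply_apply, hA]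

/-- If the group has no subgroup of index `2` and the centralizer of `α` is a Sylow
`2`-subgroup, dihedral of order `8`, then all involutions are conjugate to `α`. -/
theorem DC.conj_of_transfer [Finite G] (hG : ∀ H : Subgroup G, H.index ≠ 2) {α : G}
    {ψ : DihedralGroup 4 →* G} (H : DC α ψ) (S : Sylow 2 G)
    (hαc : ∀ s ∈ (S : Subgroup G), s * α = α * s) :
    ∀ t : G, t ≠ 1 → t * t = 1 → ∃ h : G, h * α * h⁻¹ = t := by
  have hC8 : Nat.card (Subgroup.centralizer ({α} : Set G)) = 8 := by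
    have hbij : Function.Bijective (fun d : DihedralGroup 4 =>
        (⟨ψ d, mem_cent.mpr (H.comm d)⟩ : Subgroup.centralizer ({α} : Set G))) := by
      constructor
      · intro d d' h
        exact H.inj (congrArg Subtype.val h)
      · intro x
        obtain ⟨d, hd⟩ := H.mem (x : G) (mem_cent.mp x.2)
        exact ⟨d, Subtype.ext hd⟩
    rw [← Nat.card_congr (Equiv.ofBijective _ hbij), DihedralGroup.nat_card]
  have hSle : (S : Subgroup G) ≤ Subgroup.centralizer ({α} : Set G) :=
    fun s hs => mem_cent.mpr (hαc s hs)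
  have hSeq : Subgroup.centralizer ({α} : Set G) = (S : Subgroup G) :=
    S.is_maximal' (IsPGroup.of_card (n := 3) (by rw [hC8]; norm_num)) hSle
  have hScard : Nat.card (S : Subgroup G) = 8 := by rw [← hSeq]; exact hC8
  have hρS : Subgroup.zpowers (ψ (r 1)) ≤ (S : Subgroup G) := by
    rw [Subgroup.zpowers_le, ← hSeq]
    exact mem_cent.mpr (H.comm (r 1))
  have hM : ((Subgroup.zpowers (ψ (r 1))).subgroupOf (S : Subgroup G)).index = 2 := by
    have h1 := ((Subgroup.zpowers (ψ (r 1))).subgroupOf (S : Subgroup G)).card_mul_index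
    have h2 : Nat.card ((Subgroup.zpowers (ψ (r 1))).subgroupOf (S : Subgroup G)) = 4 := by
      rw [Nat.card_congr (Subgroup.subgroupOfEquivOfLe hρS).toEquiv, Nat.card_zpowers,
        orderOf_injective ψ H.inj, DihedralGroup.orderOf_r_one]
    rw [h2, hScard] at h1
    omega
  intro t ht1 ht
  have : Fact (Nat.Prime 2) := ⟨Nat.prime_two⟩
  have hot : orderOf t = 2 ^ 1 := by
    rw [pow_one]
    exact orderOf_eq_prime (by rw [pow_two]; exact ht) ht1
  obtain ⟨k, hk⟩ := exists_conj_mem_sylow_of_orderOf S hot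
  have hu : (k⁻¹ * t * k) * (k⁻¹ * t * k) = 1 := by
    calc (k⁻¹ * t * k) * (k⁻¹ * t * k) = k⁻¹ * (t * t) * k := by group
      _ = 1 := by rw [ht]; group
  obtain ⟨g, hgS, hgM⟩ := Cfsg.Agent.Lib.helper26.thompson_transfer S _ hM hG _ hk hu
  rw [Subgroup.mem_subgroupOf] at hgM
  obtain ⟨j, hj⟩ := Subgroup.mem_zpowers_iff.mp hgM
  have hj2 : ψ (r 1) ^ j = g⁻¹ * (k⁻¹ * t * k) * g := hj
  have hj' : ψ (r (j : ZMod 4)) = g⁻¹ * (k⁻¹ * t * k) * g := by
    rw [← hj2, ← map_zpow, DihedralGroup.r_one_zpow]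
  have hw2 : (r (j : ZMod 4) : DihedralGroup 4) * r (j : ZMod 4) = 1 := by
    apply H.inj
    rw [map_mul, hj', map_one]
    calc g⁻¹ * (k⁻¹ * t * k) * g * (g⁻¹ * (k⁻¹ * t * k) * g)
        = g⁻¹ * ((k⁻¹ * t * k) * (k⁻¹ * t * k)) * g := by group
      _ = 1 := by rw [hu]; group
  have hw1 : (r (j : ZMod 4) : DihedralGroup 4) ≠ 1 := by
    intro h
    rw [h, map_one] at hj'
    apply ht1
    have h3 : t = (k * g) * (g⁻¹ * (k⁻¹ * t * k) * g) * (k * g)⁻¹ := by group
    rw [h3, ← hj']; group
  have key : ∀ i : ZMod 4, (r i : DihedralGroup 4) * r i = 1 → (r i : DihedralGroup 4) ≠ 1 →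
      (r i : DihedralGroup 4) = r 2 := by decide
  have hr2 := key _ hw2 hw1
  rw [hr2, H.ha] at hj'
  refine ⟨k * g, ?_⟩
  rw [hj']; group

end Cfsg.Agent.Lib.helper11.D8Cent
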