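import Mathlib
import Cfsg.Agent.Lib.helper67.Frobenius
import Cfsg.Agent.Lib.helper53.Conj

set_option autoImplicit false

namespace Cfsg.Agent.Lib.helper11

open Cfsg.Agent.Lib.helper53

section OddAction

variable {G : Type*} [Group G]

/-- If `x` has odd order, `r = q⁻¹ (x q x⁻¹)` is a `2`-element and commutes with `x`, then
`x` commutes with `q`. -/
theorem commute_of_odd_of_commutator_fixed {x q : G} {k : ℕ} (hx : Odd (orderOf x))
    (hr2 : (q⁻¹ * (x * q * x⁻¹)) ^ 2 ^ k = 1)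
    (hcomm : x * (q⁻¹ * (x * q * x⁻¹)) = q⁻¹ * (x * q * x⁻¹) * x) : x * q = q * x := by
  obtain ⟨r, hr⟩ : ∃ r, r = q⁻¹ * (x * q * x⁻¹) := ⟨_, rfl⟩
  rw [← hr] at hr2 hcomm
  have hxq : x * q = q * r * x := by rw [hr]; group
  have hpow : ∀ m : ℕ, x ^ m * q = q * r ^ m * x ^ m := by
    intro m
    induction m with
    | zero => simp
    | succ m ih =>
      have hc : x * r ^ m = r ^ m * x := (Commute.pow_right (show Commute x r from hcomm) m).eq
      calc x ^ (m + 1) * q = x * (x ^ m * q) := by rw [pow_succ', mul_assoc]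
        _ = x * (q * r ^ m * x ^ m) := by rw [ih]
        _ = (x * q) * r ^ m * x ^ m := by simp only [mul_assoc]
        _ = q * r * x * r ^ m * x ^ m := by rw [hxq]
        _ = q * r * (x * r ^ m) * x ^ m := by simp only [mul_assoc]
        _ = q * r * (r ^ m * x) * x ^ m := by rw [hc]
        _ = q * r ^ (m + 1) * x ^ (m + 1) := by rw [pow_succ', pow_succ']; simp only [mul_assoc]
  have h1 := hpow (orderOf x)
  rw [pow_orderOf_eq_one, one_mul, mul_one] at h1
  have hrm : r ^ orderOf x = 1 := by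
    have : q * 1 = q * r ^ orderOf x := by rw [mul_one]; exact h1
    exact (mul_left_cancel this).symm
  have hr1 : r = 1 := by
    have h2 : orderOf r ∣ orderOf x := orderOf_dvd_of_pow_eq_one hrm
    have h3 : orderOf r ∣ 2 ^ k := orderOf_dvd_of_pow_eq_one hr2
    have hcop : Nat.Coprime (orderOf x) (2 ^ k) :=
      Nat.Coprime.pow_right k (Nat.coprime_two_right.mpr hx)
    have := Nat.eq_one_of_dvd_coprimes hcop h2 h3
    exact orderOf_eq_one_iff.mp this
  rw [hxq, hr1, mul_one]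

/-- An element of odd order normalizing a cyclic `2`-subgroup centralizes it. -/
theorem conj_eq_of_odd_of_isCyclic_two [Finite G] (R : Subgroup G) [hc : IsCyclic R]
    (hR : IsPGroup 2 R) {x : G} (hx : x ∈ Subgroup.normalizer (R : Set G))
    (hodd : Odd (orderOf x)) : ∀ r ∈ R, x * r * x⁻¹ = r := by
  obtain ⟨j, hj⟩ := IsPGroup.iff_card.mp hR
  obtain ⟨φ, hφ⟩ : ∃ φ : MulAut R, φ = R.normalizerMonoidHom ⟨x, hx⟩ := ⟨_, rfl⟩
  have h1 : orderOf φ ∣ orderOf x := by
    have := orderOf_map_dvd R.normalizerMonoidHom (⟨x, hx⟩ : Subgroup.normalizer (R : Set G))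
    rwa [Subgroup.orderOf_mk, ← hφ] at this
  have h2 : orderOf φ ∣ 2 ^ (j - 1) := by
    have h3 : orderOf φ ∣ Nat.card (MulAut R) := orderOf_dvd_natCard φ
    rw [IsCyclic.card_mulAut, hj] at h3
    rcases Nat.eq_zero_or_pos j with h0 | h0
    · rw [h0, pow_zero, Nat.totient_one] at h3
      exact h3.trans (one_dvd _)
    · rw [Nat.totient_prime_pow Nat.prime_two h0] at h3
      simpa using h3
  have hcop : Nat.Coprime (orderOf x) (2 ^ (j - 1)) :=
    Nat.Coprime.pow_right _ (Nat.coprime_two_right.mpr hodd)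
  have h4 : orderOf φ = 1 := Nat.eq_one_of_dvd_coprimes hcop h1 h2
  have h5 : φ = 1 := orderOf_eq_one_iff.mp h4
  intro r hr
  have h6 : φ ⟨r, hr⟩ = ⟨r, hr⟩ := by rw [h5]; rfl
  have h7 := congrArg Subtype.val h6
  rw [hφ] at h7
  exact h7

/-- **Odd automorphisms of "dihedral-like" 2-groups.** Let `Q` be a finite `2`-subgroup, `R` a
cyclic subgroup such that the elements of `Q` outside `R` are involutions, any two of them differ
by an element of `R`, and `R` has at most one involution. If `x` has odd order, normalizes `Q`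
and centralizes some `t ∈ Q`, `t ≠ 1`, then `x` centralizes `Q`. -/
theorem commute_of_odd_of_dihedral_like [Finite G] {Q R : Subgroup G} [IsCyclic R]
    (hQ : IsPGroup 2 Q)
    (F1 : ∀ q ∈ Q, q ∉ R → q * q = 1)
    (F2 : ∀ a ∈ Q, ∀ b ∈ Q, a ∉ R → b ∉ R → a⁻¹ * b ∈ R)
    (F4 : ∀ a ∈ R, ∀ b ∈ R, a * a = 1 → b * b = 1 → a ≠ 1 → b ≠ 1 → a = b)
    {t x : G} (ht : t ∈ Q) (ht1 : t ≠ 1) (hx : x ∈ Subgroup.normalizer (Q : Set G))
    (hodd : Odd (orderOf x)) (hxt : x * t = t * x) : ∀ q ∈ Q, x * q = q * x := by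
  have hconjQ : ∀ q ∈ Q, x * q * x⁻¹ ∈ Q := fun q hq =>
    (Subgroup.mem_normalizer_iff.mp hx q).mp hq
  have h2pow : ∀ q ∈ Q, ∃ k : ℕ, q ^ 2 ^ k = 1 := by
    intro q hq
    obtain ⟨k, hk⟩ := hQ ⟨q, hq⟩
    exact ⟨k, congrArg Subtype.val hk⟩
  -- it suffices to show that `x` commutes with `q⁻¹ (x q x⁻¹)` for all `q ∈ Q`
  suffices hkey : ∀ q ∈ Q, x * (q⁻¹ * (x * q * x⁻¹)) = q⁻¹ * (x * q * x⁻¹) * x by
    intro q hq
    obtain ⟨k, hk⟩ := h2pow _ (Q.mul_mem (Q.inv_mem hq) (hconjQ q hq))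
    exact commute_of_odd_of_commutator_fixed hodd hk (hkey q hq)
  by_cases hA : ∃ q₀ ∈ Q, q₀ * q₀ ≠ 1
  · -- Case A: `Q` contains an element of order `> 2`
    obtain ⟨q₀, hq₀, hq₀2⟩ := hA
    have hq₀R : q₀ ∈ R := by
      by_contra h
      exact hq₀2 (F1 q₀ hq₀ h)
    haveI : IsCyclic (Q ⊓ R : Subgroup G) :=
      isCyclic_of_injective (Subgroup.inclusion (inf_le_right : Q ⊓ R ≤ R))
        (Subgroup.inclusion_injective _)
    obtain ⟨g, hg⟩ := IsCyclic.exists_generator (α := (Q ⊓ R : Subgroup G))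
    have hgen : ∀ y ∈ Q ⊓ R, ∃ k : ℤ, (g : G) ^ k = y := by
      intro y hy
      obtain ⟨k, hk⟩ := Subgroup.mem_zpowers_iff.mp (hg ⟨y, hy⟩)
      exact ⟨k, by simpa using congrArg Subtype.val hk⟩
    have hgQ : (g : G) ∈ Q := (Subgroup.mem_inf.mp g.2).1
    have hgR : (g : G) ∈ R := (Subgroup.mem_inf.mp g.2).2
    have hg2 : (g : G) * (g : G) ≠ 1 := by
      intro h
      apply hq₀2
      obtain ⟨k, hk⟩ := hgen q₀ (Subgroup.mem_inf.mpr ⟨hq₀, hq₀R⟩)
      rw [← hk, ← zpow_add, ← two_mul, zpow_mul, zpow_two, h, one_zpow]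
    have hxg : x * (g : G) * x⁻¹ ∈ Q ⊓ R := by
      refine Subgroup.mem_inf.mpr ⟨hconjQ _ hgQ, ?_⟩
      by_contra h
      apply hg2
      have h1 := F1 _ (hconjQ _ hgQ) h
      have e : (g : G) * (g : G) = x⁻¹ * (x * (g : G) * x⁻¹ * (x * (g : G) * x⁻¹)) * x := by group
      rw [e, h1]; group
    have hxN : x ∈ Subgroup.normalizer ((Q ⊓ R : Subgroup G) : Set G) := by
      apply mem_normalizer_of_conj_le
      rw [conj_le_iff]
      intro y hy
      obtain ⟨k, rfl⟩ := hgen y hy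
      have e : x * (g : G) ^ k * x⁻¹ = (x * (g : G) * x⁻¹) ^ k := by rw [conj_zpow]
      rw [e]
      exact Subgroup.zpow_mem _ hxg k
    have hcent := conj_eq_of_odd_of_isCyclic_two (Q ⊓ R)
      (hQ.to_le inf_le_left) hxN hodd
    intro q hq
    by_cases hqR : q ∈ R
    · have h1 := hcent q (Subgroup.mem_inf.mpr ⟨hq, hqR⟩)
      rw [h1, inv_mul_cancel, mul_one, one_mul]
    · have hq' : x * q * x⁻¹ ∉ R := by
        intro h
        have h1 := hcent _ (Subgroup.mem_inf.mpr ⟨hconjQ q hq, h⟩)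
        have h2 : x * q * x⁻¹ = q := by
          have e2 : x * q * x⁻¹ = x⁻¹ * (x * (x * q * x⁻¹) * x⁻¹) * x := by group
          rw [e2, h1]; group
        rw [h2] at h
        exact hqR h
      have hr := F2 q hq _ (hconjQ q hq) hqR hq'
      have h1 := hcent _ (Subgroup.mem_inf.mpr
        ⟨Q.mul_mem (Q.inv_mem hq) (hconjQ q hq), hr⟩)
      calc x * (q⁻¹ * (x * q * x⁻¹)) = x * (q⁻¹ * (x * q * x⁻¹)) * x⁻¹ * x := by group
        _ = q⁻¹ * (x * q * x⁻¹) * x := by rw [h1]
  · -- Case B: `Q` has exponent `2`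
    push Not at hA
    have hcommQ : ∀ a ∈ Q, ∀ b ∈ Q, a * b = b * a := by
      intro a ha b hb
      have h1 := hA (a * b) (Q.mul_mem ha hb)
      have h2 := hA a ha
      have h3 := hA b hb
      calc a * b = a * (a * b * (a * b)) * b := by rw [h1, mul_one]
        _ = (a * a) * (b * a) * (b * b) := by group
        _ = b * a := by rw [h2, h3, one_mul, mul_one]
    have hinv : ∀ a ∈ Q, a⁻¹ = a := fun a ha => inv_eq_of_mul_eq_one_left (hA a ha)
    have htt : t * t = 1 := hA t ht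
    -- D2: two elements of `Q` outside `{1, t}` differ by an element of `{1, t}`
    have D2 : ∀ a ∈ Q, ∀ b ∈ Q, a ≠ 1 → a ≠ t → b ≠ 1 → b ≠ t → a⁻¹ * b = 1 ∨ a⁻¹ * b = t := by
      intro a ha b hb ha1 hat hb1 hbt
      have hab : a⁻¹ * b ∈ Q := Q.mul_mem (Q.inv_mem ha) hb
      by_cases htR : t ∈ R
      · have haR : a ∉ R := fun h => hat (F4 a h t htR (hA a ha) htt ha1 ht1)
        have hbR : b ∉ R := fun h => hbt (F4 b h t htR (hA b hb) htt hb1 ht1)
        have habR := F2 a ha b hb haR hbR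
        by_cases h1 : a⁻¹ * b = 1
        · exact Or.inl h1
        · exact Or.inr (F4 _ habR t htR (hA _ hab) htt h1 ht1)
      · -- `t ∉ R`: every `a ∉ {1, t}` is `ρ` or `t ρ` for the involution `ρ` of `R`
        have key : ∀ c ∈ Q, c ≠ 1 → c ≠ t → ∃ ρ ∈ R, ρ ∈ Q ∧ ρ ≠ 1 ∧ (c = ρ ∨ c = t * ρ) := by
          intro c hc hc1 hct
          by_cases hcR : c ∈ R
          · exact ⟨c, hcR, hc, hc1, Or.inl rfl⟩
          · refine ⟨t⁻¹ * c, F2 t ht c hc htR hcR, Q.mul_mem (Q.inv_mem ht) hc, ?_, Or.inr ?_⟩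
            · intro h
              apply hct
              have : c = t * (t⁻¹ * c) := by group
              rw [this, h, mul_one]
            · group
        obtain ⟨ρ, hρR, hρQ, hρ1, hρ⟩ := key a ha ha1 hat
        obtain ⟨ρ', hρ'R, hρ'Q, hρ'1, hρ'⟩ := key b hb hb1 hbt
        have hρρ' : ρ = ρ' := F4 ρ hρR ρ' hρ'R (hA ρ hρQ) (hA ρ' hρ'Q) hρ1 hρ'1
        subst hρρ'
        have hρi : ρ⁻¹ = ρ := hinv ρ hρQ
        have hti : t⁻¹ = t := hinv t ht
        have hρt : ρ * t = t * ρ := hcommQ ρ hρQ t ht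
        rcases hρ with h | h <;> rcases hρ' with h' | h'
        · left; rw [h, h']; group
        · right
          rw [h, h']
          calc ρ⁻¹ * (t * ρ) = ρ⁻¹ * (ρ * t) := by rw [hρt]
            _ = t := by group
        · right
          rw [h, h']
          calc (t * ρ)⁻¹ * ρ = (ρ * t)⁻¹ * ρ := by rw [hρt]
            _ = t⁻¹ := by group
            _ = t := hti
        · left; rw [h, h']; group
    intro q hq
    have hr : q⁻¹ * (x * q * x⁻¹) = 1 ∨ q⁻¹ * (x * q * x⁻¹) = t := by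
      by_cases hq1 : q = 1
      · left; rw [hq1]; group
      by_cases hqt : q = t
      · left
        rw [hqt, hxt]; group
      refine D2 q hq _ (hconjQ q hq) hq1 hqt ?_ ?_
      · intro h
        apply hq1
        have e : q = x⁻¹ * (x * q * x⁻¹) * x := by group
        rw [e, h]; group
      · intro h
        apply hqt
        have e : q = x⁻¹ * (x * q * x⁻¹) * x := by group
        rw [e, h]
        calc x⁻¹ * t * x = x⁻¹ * (t * x) := by group
          _ = x⁻¹ * (x * t) := by rw [hxt]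
          _ = t := by group
    rcases hr with h | h
    · rw [h, mul_one, one_mul]
    · rw [h, hxt]

end OddAction

section Dihedral

/-- The rotation subgroup of the dihedral group. -/
def rotSubgroup (n : ℕ) : Subgroup (DihedralGroup n) where
  carrier := {g | ∃ i, g = DihedralGroup.r i}
  one_mem' := ⟨0, rfl⟩
  mul_mem' := by
    rintro _ _ ⟨i, rfl⟩ ⟨j, rfl⟩
    exact ⟨i + j, DihedralGroup.r_mul_r i j⟩
  inv_mem' := by
    rintro _ ⟨i, rfl⟩
    exact ⟨-i, DihedralGroup.inv_r i⟩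

theorem mem_rotSubgroup {n : ℕ} (g : DihedralGroup n) :
    g ∈ rotSubgroup n ↔ ∃ i, g = DihedralGroup.r i := Iff.rfl

theorem not_mem_rotSubgroup {n : ℕ} (g : DihedralGroup n) :
    g ∉ rotSubgroup n ↔ ∃ i, g = DihedralGroup.sr i := by
  rw [mem_rotSubgroup]
  cases g with
  | r i => simp
  | sr i => simp

instance isCyclic_rotSubgroup (n : ℕ) : IsCyclic (rotSubgroup n) := by
  refine ⟨⟨⟨DihedralGroup.r 1, 1, rfl⟩, ?_⟩⟩
  rintro ⟨_, i, rfl⟩
  obtain ⟨k, rfl⟩ := ZMod.intCast_surjective i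
  refine ⟨k, ?_⟩
  apply Subtype.ext
  simp [DihedralGroup.r_one_zpow]

theorem zmod_eq_of_add_self_eq_zero {n : ℕ} {i j : ZMod n} (hi : i + i = 0) (hj : j + j = 0)
    (hi0 : i ≠ 0) (hj0 : j ≠ 0) : i = j := by
  rcases n with _ | n
  · exfalso; apply hi0
    have h : ∀ k : ℤ, k + k = 0 → k = 0 := fun k hk => by omega
    exact h i hi
  · haveI : NeZero (n + 1) := ⟨Nat.succ_ne_zero n⟩
    apply ZMod.val_injective
    have key : ∀ k : ZMod (n + 1), k + k = 0 → k ≠ 0 → k.val + k.val = n + 1 := by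
      intro k hk hk0
      have h1 : (k + k).val = 0 := by rw [hk, ZMod.val_zero]
      rw [ZMod.val_add] at h1
      have hk1 := ZMod.val_lt k
      have hk2 : k.val ≠ 0 := fun h => hk0 ((ZMod.val_eq_zero k).mp h)
      obtain ⟨c, hc⟩ := Nat.dvd_of_mod_eq_zero h1
      have hc0 : 0 < c := by
        by_contra h
        have h0 : c = 0 := by omega
        rw [h0, mul_zero] at hc
        omega
      have hc2 : c < 2 := by
        by_contra h
        have : (n + 1) * 2 ≤ (n + 1) * c := Nat.mul_le_mul_left _ (by omega)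
        omega
      have hc1 : c = 1 := by omega
      rw [hc1, mul_one] at hc
      exact hc
    have h1 := key i hi hi0
    have h2 := key j hj hj0
    omega

variable {X : Type*} [Group X]

/-- The subgroup of a "dihedral" subgroup `S` corresponding to the rotations. -/
def rotOf {n : ℕ} (S : Subgroup X) (e : S ≃* DihedralGroup n) : Subgroup X :=
  ((rotSubgroup n).comap e.toMonoidHom).map S.subtype

theorem mem_rotOf {n : ℕ} (S : Subgroup X) (e : S ≃* DihedralGroup n) (q : X) :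
    q ∈ rotOf S e ↔ ∃ hq : q ∈ S, e ⟨q, hq⟩ ∈ rotSubgroup n := by
  constructor
  · rintro ⟨⟨q, hq⟩, h, rfl⟩
    exact ⟨hq, h⟩
  · rintro ⟨hq, h⟩
    exact ⟨⟨q, hq⟩, h, rfl⟩

instance isCyclic_rotOf {n : ℕ} (S : Subgroup X) (e : S ≃* DihedralGroup n) :
    IsCyclic (rotOf S e) := by
  haveI : IsCyclic ((rotSubgroup n).comap e.toMonoidHom) :=
    isCyclic_of_injective (e.toMonoidHom.subgroupComap (rotSubgroup n)) (by
      intro a b h
      apply Subtype.ext
      apply e.injective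
      exact congrArg Subtype.val h)
  exact isCyclic_of_surjective
    (Subgroup.equivMapOfInjective ((rotSubgroup n).comap e.toMonoidHom) S.subtype
      S.subtype_injective)
    (Subgroup.equivMapOfInjective ((rotSubgroup n).comap e.toMonoidHom) S.subtype
      S.subtype_injective).surjective

theorem mul_self_of_not_mem_rotOf {n : ℕ} (S : Subgroup X) (e : S ≃* DihedralGroup n) {q : X}
    (hq : q ∈ S) (hqR : q ∉ rotOf S e) : q * q = 1 := by
  have h1 : e ⟨q, hq⟩ ∉ rotSubgroup n := fun h => hqR ((mem_rotOf S e q).mpr ⟨hq, h⟩)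
  obtain ⟨i, hi⟩ := (not_mem_rotSubgroup _).mp h1
  have h2 : e (⟨q, hq⟩ * ⟨q, hq⟩) = 1 := by
    rw [map_mul, hi, DihedralGroup.sr_mul_self]
  have h3 : (⟨q, hq⟩ * ⟨q, hq⟩ : S) = 1 := by
    apply e.injective
    rw [h2, map_one]
  exact congrArg Subtype.val h3

theorem inv_mul_mem_rotOf {n : ℕ} (S : Subgroup X) (e : S ≃* DihedralGroup n) {a b : X}
    (ha : a ∈ S) (hb : b ∈ S) (haR : a ∉ rotOf S e) (hbR : b ∉ rotOf S e) :
    a⁻¹ * b ∈ rotOf S e := by
  have h1 : e ⟨a, ha⟩ ∉ rotSubgroup n := fun h => haR ((mem_rotOf S e a).mpr ⟨ha, h⟩)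
  have h2 : e ⟨b, hb⟩ ∉ rotSubgroup n := fun h => hbR ((mem_rotOf S e b).mpr ⟨hb, h⟩)
  obtain ⟨i, hi⟩ := (not_mem_rotSubgroup _).mp h1
  obtain ⟨j, hj⟩ := (not_mem_rotSubgroup _).mp h2
  rw [mem_rotOf]
  refine ⟨S.mul_mem (S.inv_mem ha) hb, ?_⟩
  have h3 : (⟨a⁻¹ * b, S.mul_mem (S.inv_mem ha) hb⟩ : S) = (⟨a, ha⟩ : S)⁻¹ * ⟨b, hb⟩ := rfl
  rw [h3, map_mul, map_inv, hi, hj, DihedralGroup.inv_sr, DihedralGroup.sr_mul_sr]
  exact ⟨j - i, rfl⟩

theorem eq_of_mul_self_of_mem_rotOf {n : ℕ} (S : Subgroup X) (e : S ≃* DihedralGroup n)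
    {a b : X} (ha : a ∈ rotOf S e) (hb : b ∈ rotOf S e) (haa : a * a = 1) (hbb : b * b = 1)
    (ha1 : a ≠ 1) (hb1 : b ≠ 1) : a = b := by
  obtain ⟨haS, i, hi⟩ := (mem_rotOf S e a).mp ha
  obtain ⟨hbS, j, hj⟩ := (mem_rotOf S e b).mp hb
  have key : ∀ (c : X) (hc : c ∈ S) (k : ZMod n), e ⟨c, hc⟩ = DihedralGroup.r k → c * c = 1 →
      c ≠ 1 → k + k = 0 ∧ k ≠ 0 := by
    intro c hc k hk hcc hc1
    constructor
    · have h1 : e (⟨c, hc⟩ * ⟨c, hc⟩) = 1 := by
        have : (⟨c, hc⟩ * ⟨c, hc⟩ : S) = 1 := Subtype.ext hcc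
        rw [this, map_one]
      rw [map_mul, hk, DihedralGroup.r_mul_r, DihedralGroup.one_def] at h1
      exact DihedralGroup.r.inj h1
    · intro h0
      apply hc1
      rw [h0, DihedralGroup.r_zero] at hk
      have : (⟨c, hc⟩ : S) = 1 := e.injective (by rw [hk, map_one])
      exact congrArg Subtype.val this
  obtain ⟨hi2, hi0⟩ := key a haS i hi haa ha1
  obtain ⟨hj2, hj0⟩ := key b hbS j hj hbb hb1
  have hij := zmod_eq_of_add_self_eq_zero hi2 hj2 hi0 hj0
  have : (⟨a, haS⟩ : S) = ⟨b, hbS⟩ := e.injective (by rw [hi, hj, hij])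
  exact congrArg Subtype.val this

/-- In a finite group with dihedral Sylow `2`-subgroups, the centralizer of an involution has a
normal `2`-complement. -/
theorem exists_normal_odd_of_dihedral_sylow [Finite X] (S : Sylow 2 X) (n : ℕ)
    (e : (S : Subgroup X) ≃* DihedralGroup n) (t : X) (ht : orderOf t = 2) :
    ∃ N : Subgroup (Subgroup.centralizer ({t} : Set X)), N.Normal ∧ Odd (Nat.card N) ∧
      ∃ k : ℕ, N.index = 2 ^ k := by
  haveI : Fact (Nat.Prime 2) := ⟨Nat.prime_two⟩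
  have ht1 : t ≠ 1 := by
    intro h
    rw [h, orderOf_one] at ht
    omega
  have hF : Cfsg.Agent.Lib.helper67.FrobCond 2 (Subgroup.centralizer ({t} : Set X)) := by
    intro Q hQ g hg hcop
    have hgt : (g : X) * t = t * (g : X) :=
      (Subgroup.mem_centralizer_iff.mp g.2 t (Set.mem_singleton t)).symm
    have hQ0 : IsPGroup 2 (Q.map (Subgroup.centralizer ({t} : Set X)).subtype) := hQ.map _
    have hT : IsPGroup 2 (Subgroup.zpowers t) := by
      refine IsPGroup.of_card (n := 1) ?_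
      rw [Nat.card_zpowers, ht, pow_one]
    have hgT : ∀ y : X, y * t = t * y → y ∈ Subgroup.normalizer ((Subgroup.zpowers t : Subgroup X) : Set X) := by
      intro y hy
      apply mem_normalizer_of_conj_le
      rw [conj_le_iff]
      intro z hz
      obtain ⟨k, rfl⟩ := Subgroup.mem_zpowers_iff.mp hz
      have hc : y * t ^ k = t ^ k * y := (Commute.zpow_right (show Commute y t from hy) k).eq
      have e1 : y * t ^ k * y⁻¹ = t ^ k := by rw [hc]; group
      rw [e1]
      exact Subgroup.zpow_mem _ (Subgroup.mem_zpowers t) k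
    have hQ' : IsPGroup 2 (Q.map (Subgroup.centralizer ({t} : Set X)).subtype ⊔
        Subgroup.zpowers t : Subgroup X) := by
      refine IsPGroup.to_sup_of_normal_right' hQ0 hT ?_
      rintro _ ⟨q, -, rfl⟩
      exact hgT _ (Subgroup.mem_centralizer_iff.mp q.2 t (Set.mem_singleton t)).symm
    obtain ⟨c, hc⟩ := exists_le_conj_sylow hQ' S
    obtain ⟨e', -⟩ : ∃ e' : ((S : Subgroup X).map (MulAut.conj c).toMonoidHom) ≃* DihedralGroup n,
        True := ⟨((MulAut.conj c).subgroupMap (S : Subgroup X)).symm.trans e, trivial⟩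
    have hgN : (g : X) ∈ Subgroup.normalizer
        ((Q.map (Subgroup.centralizer ({t} : Set X)).subtype ⊔
          Subgroup.zpowers t : Subgroup X) : Set X) := by
      apply mem_normalizer_of_conj_eq_self
      rw [Subgroup.map_sup]
      congr 1
      · apply conj_eq_self_of_mem_normalizer
        apply mem_normalizer_of_conj_le
        rw [conj_le_iff]
        rintro _ ⟨q, hq, rfl⟩
        exact ⟨g * q * g⁻¹, (Subgroup.mem_normalizer_iff.mp hg q).mp hq, by simp⟩
      · exact conj_eq_self_of_mem_normalizer (hgT _ hgt)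
    have hodd : Odd (orderOf (g : X)) := by
      rw [Subgroup.orderOf_coe]
      exact Nat.coprime_two_right.mp hcop
    have hmain := commute_of_odd_of_dihedral_like (R := rotOf _ e') hQ'
      (fun q hq hqR => mul_self_of_not_mem_rotOf _ e' (hc hq) hqR)
      (fun a ha b hb haR hbR => inv_mul_mem_rotOf _ e' (hc ha) (hc hb) haR hbR)
      (fun a ha b hb haa hbb ha1 hb1 => eq_of_mul_self_of_mem_rotOf _ e' ha hb haa hbb ha1 hb1)
      (Subgroup.mem_sup_right (Subgroup.mem_zpowers t)) ht1 hgN hodd hgt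
    rw [Subgroup.mem_centralizer_iff]
    intro h hh
    apply Subtype.ext
    have := hmain (h : X) (Subgroup.mem_sup_left ⟨h, hh, rfl⟩)
    exact this.symm
  obtain ⟨P⟩ : Nonempty (Sylow 2 (Subgroup.centralizer ({t} : Set X))) := inferInstance
  obtain ⟨K, hKn, hKc⟩ := hF.exists_normal_complement P
  refine ⟨K, hKn, ?_, ?_⟩
  · have h1 : (P : Subgroup (Subgroup.centralizer ({t} : Set X))).index = Nat.card K :=
      hKc.index_eq_card
    have h2 := P.not_dvd_index
    rw [h1] at h2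
    exact Nat.odd_iff.mpr (by omega)
  · obtain ⟨k, hk⟩ := IsPGroup.iff_card.mp P.isPGroup'
    exact ⟨k, by rw [← hk]; exact hKc.symm.index_eq_card⟩

end Dihedral

end Cfsg.Agent.Lib.helper11
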