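import Mathlib
import Cfsg.Agent.Lib.helper42.FGDefs
import Cfsg.Agent.Lib.helper10.FGLEMM
import Cfsg.Agent.Lib.helper73.FGCARD
import Cfsg.Agent.Lib.helper73.FGGEN

/-!
S1915 split, piece T2A (helper11): the unique central involution `z` of `S` and the four-subgroups
of `S`.
-/

set_option autoImplicit false

namespace Cfsg.Agent.Lib.helper42.FG

variable {G : Type*} [Group G] [Finite G]

/-- T2A -/
theorem zdata {A S U : Subgroup G} (h : Cfg A S U) {B : Subgroup G} (hB : BData S U B) :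
    ∃ z : G, z ∈ B ∧ ZData S z := by
  classical
  obtain ⟨b, hb⟩ := gen_of_cyclic B hB.hcyc
  have hcardS : 4 < Nat.card S := card_S_gt h
  have hbB : b ∈ B := hb ▸ Subgroup.mem_zpowers b
  have hbS : b ∈ S := hB.hBS hbB
  have h2S : IsPGroup 2 S := IsPGroup.of_card h.hSyl
  have hBcomm : ∀ x ∈ B, ∀ y ∈ B, x * y = y * x := by
    intro x hx y hy
    rw [← hb] at hx hy
    obtain ⟨i, rfl⟩ := Subgroup.mem_zpowers_iff.1 hx
    obtain ⟨j, rfl⟩ := Subgroup.mem_zpowers_iff.1 hy
    exact ((Commute.refl b).zpow_zpow i j).eq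
  have hidx2 : ∀ s ∈ S, ∀ t ∈ S, (s * t ∈ B ↔ (s ∈ B ↔ t ∈ B)) := by
    intro s hs t ht
    have hi : (B.subgroupOf S).index = 2 := hB.hidx
    have h0 := Subgroup.mul_mem_iff_of_index_two hi (a := ⟨s, hs⟩) (b := ⟨t, ht⟩)
    simpa [Subgroup.mem_subgroupOf] using h0
  have hb1 : b ≠ 1 := by
    rintro rfl
    rw [Subgroup.zpowers_one_eq_bot] at hb
    have h0 := hB.hidx
    rw [← hb, Subgroup.relIndex_bot_left] at h0
    omega
  obtain ⟨m, hm⟩ : ∃ m, orderOf b = 2 ^ m := by
    have hdvd : orderOf b ∣ Nat.card S := Subgroup.orderOf_dvd_natCard S hbS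
    rw [h.hSyl] at hdvd
    obtain ⟨m, -, hm⟩ := (Nat.dvd_prime_pow Nat.prime_two).1 hdvd
    exact ⟨m, hm⟩
  have hm1 : 1 ≤ m := by
    rcases Nat.eq_zero_or_pos m with h0 | h0
    · rw [h0, pow_zero, orderOf_eq_one_iff] at hm
      exact absurd hm hb1
    · exact h0
  obtain ⟨m', rfl⟩ : ∃ m', m = m' + 1 := ⟨m - 1, by omega⟩
  obtain ⟨z, hz⟩ : ∃ z : G, z = b ^ (2 ^ m') := ⟨_, rfl⟩
  have hzB : z ∈ B := hz ▸ B.pow_mem hbB _
  have hz2 : orderOf z = 2 := by
    rw [hz, orderOf_pow_of_dvd (by positivity) (by rw [hm, pow_succ]; exact dvd_mul_right _ _),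
      hm, pow_succ, Nat.mul_div_cancel_left _ (by positivity)]
  have hz1 : z ≠ 1 := by
    intro h1
    rw [h1, orderOf_one] at hz2
    omega
  have hzz : z ^ 2 = 1 := by
    rw [← hz2]
    exact pow_orderOf_eq_one z
  have huniq : ∀ x ∈ B, x ^ 2 = 1 → x = 1 ∨ x = z := by
    intro x hx hx2
    rw [← hb] at hx
    obtain ⟨k, rfl⟩ := Subgroup.mem_zpowers_iff.1 hx
    have h1 : (b ^ k) ^ 2 = b ^ (k * 2) := by
      rw [zpow_mul]
      norm_cast
    rw [h1] at hx2
    have h3 : ((orderOf b : ℕ) : ℤ) ∣ k * 2 := orderOf_dvd_iff_zpow_eq_one.2 hx2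
    rw [hm, pow_succ] at h3
    push_cast at h3
    have h4 : ((2 : ℤ) ^ m') ∣ k := (mul_dvd_mul_iff_right (by norm_num : (2 : ℤ) ≠ 0)).1 h3
    obtain ⟨l, rfl⟩ := h4
    have h5 : b ^ ((2 : ℤ) ^ m' * l) = z ^ l := by
      rw [zpow_mul, hz]
      norm_cast
    rw [h5]
    have h6 : z ^ l = z ^ (l % ((orderOf z : ℕ) : ℤ)) := (zpow_mod_orderOf z l).symm
    rw [hz2] at h6
    push_cast at h6
    rcases Int.emod_two_eq_zero_or_one l with hl | hl
    · left
      rw [h6, hl, zpow_zero]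
    · right
      rw [h6, hl, zpow_one]
  have hnormB : ∀ y ∈ S, ∀ x ∈ B, y * x * y⁻¹ ∈ B := fun y hy x hx =>
    (Subgroup.mem_normalizer_iff.1 (hB.hSB hy) x).1 hx
  have hzc : ∀ y ∈ S, y * z = z * y := by
    intro y hy
    have h1 : y * z * y⁻¹ ∈ B := hnormB y hy z hzB
    have h2 : (y * z * y⁻¹) ^ 2 = 1 := by
      rw [conj_pow, hzz, mul_one, mul_inv_cancel]
    rcases huniq _ h1 h2 with h3 | h3
    · exfalso
      apply hz1
      have e : z = y⁻¹ * (y * z * y⁻¹) * y := by group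
      rw [e, h3, mul_one, inv_mul_cancel]
    · calc y * z = (y * z * y⁻¹) * y := by group
        _ = z * y := by rw [h3]
  have hzu : ∀ y ∈ S, (∀ x ∈ S, y * x = x * y) → y = 1 ∨ y = z := by
    intro y hy hyc
    have hyB : y ∈ B := hB.hself y hy (fun x hx => hyc x (hB.hBS hx))
    by_contra hcon
    push Not at hcon
    have hy2 : y ^ 2 ≠ 1 := fun h2 => by
      rcases huniq y hyB h2 with h3 | h3
      · exact hcon.1 h3
      · exact hcon.2 h3
    obtain ⟨j, hj⟩ : ∃ j, orderOf y = 2 ^ j := by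
      have hdvd : orderOf y ∣ Nat.card S := Subgroup.orderOf_dvd_natCard S hy
      rw [h.hSyl] at hdvd
      obtain ⟨j, -, hj⟩ := (Nat.dvd_prime_pow Nat.prime_two).1 hdvd
      exact ⟨j, hj⟩
    have hj2 : 2 ≤ j := by
      by_contra hlt
      push Not at hlt
      apply hy2
      have hd : orderOf y ∣ 2 := by
        rw [hj]
        interval_cases j <;> simp
      exact orderOf_dvd_iff_pow_eq_one.1 hd
    obtain ⟨j', rfl⟩ : ∃ j', j = j' + 2 := ⟨j - 2, by omega⟩
    obtain ⟨b₀, hb₀⟩ : ∃ b₀ : G, b₀ = y ^ (2 ^ j') := ⟨_, rfl⟩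
    have hb₀4 : orderOf b₀ = 4 := by
      rw [hb₀, orderOf_pow_of_dvd (by positivity) (by rw [hj, pow_add]; exact dvd_mul_right _ _),
        hj, pow_add, Nat.mul_div_cancel_left _ (by positivity)]
      norm_num
    have hb₀B : b₀ ∈ B := hb₀ ▸ B.pow_mem hyB _
    have hb₀c : ∀ s ∈ S, s * b₀ = b₀ * s := by
      intro s hs
      have hcm : Commute s y := (hyc s hs).symm
      rw [hb₀]
      exact (hcm.pow_right _).eq
    obtain ⟨X, hXS, hXall, hXEl, hXcard⟩ :=
      modular_omega S B hB.hBS hB.hcyc h2S hB.hidx hB.hself b₀ hb₀B hb₀4 hb₀c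
    have hconjX : ∀ u ∈ U, ∀ x ∈ X, u * x * u⁻¹ ∈ X := by
      intro u hu x hx
      apply hXall
      · exact (Subgroup.mem_normalizer_iff.1 (h.hUS hu) x).1 (hXS hx)
      · rw [conj_pow, hXEl.2 x hx, mul_one, mul_inv_cancel]
    have hUX : U ≤ Subgroup.normalizer (X : Set G) := by
      intro u hu
      rw [Subgroup.mem_normalizer_iff]
      intro x
      constructor
      · exact hconjX u hu x
      · intro hx
        have h0 := hconjX u⁻¹ (U.inv_mem hu) _ hx
        have e : u⁻¹ * (u * x * u⁻¹) * u⁻¹⁻¹ = x := by group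
        rw [e] at h0
        exact h0
    have h0 := h.ha X hXS hUX hXEl
    omega
  refine ⟨z, hzB, ⟨hB.hBS hzB, hz2, hzc, hzu, ?_⟩⟩
  intro V hVS hV
  have hVcard : Nat.card V = 4 := hV.card_four
  have hVsq : ∀ v ∈ V, v ^ 2 = 1 := by
    intro v hv
    have h1 : (⟨v, hv⟩ : V) ^ Monoid.exponent V = 1 := Monoid.pow_exponent_eq_one _
    rw [hV.exponent_two] at h1
    exact congrArg Subtype.val h1
  have hVB : ∃ v ∈ V, v ∉ B := by
    by_contra hcon
    push Not at hcon
    have hle : V ≤ Subgroup.zpowers z := by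
      intro v hv
      rcases huniq v (hcon v hv) (hVsq v hv) with h1 | h1
      · rw [h1]
        exact one_mem _
      · rw [h1]
        exact Subgroup.mem_zpowers z
    have h0 := Subgroup.card_le_of_le hle
    rw [Nat.card_zpowers, hz2, hVcard] at h0
    omega
  obtain ⟨v, hvV, hvB⟩ := hVB
  have hvS : v ∈ S := hVS hvV
  have hv2 : v ^ 2 = 1 := hVsq v hvV
  have hvinv : v⁻¹ = v := by
    rw [inv_eq_iff_mul_eq_one, ← pow_two]
    exact hv2
  have hw : ∃ w ∈ V, w ≠ 1 ∧ w ≠ v := by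
    by_contra hcon
    push Not at hcon
    have hle : V ≤ Subgroup.zpowers v := by
      intro w hw
      by_cases h1 : w = 1
      · rw [h1]
        exact one_mem _
      · rw [hcon w hw h1]
        exact Subgroup.mem_zpowers v
    have h0 := Subgroup.card_le_of_le hle
    rw [Nat.card_zpowers, hVcard] at h0
    have h2 : orderOf v ≤ 2 := Nat.le_of_dvd (by norm_num) (orderOf_dvd_of_pow_eq_one hv2)
    omega
  obtain ⟨w, hwV, hw1, hwv⟩ := hw
  have hzV : z ∈ V := by
    by_cases hwB : w ∈ B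
    · rcases huniq w hwB (hVsq w hwV) with h1 | h1
      · exact absurd h1 hw1
      · rw [← h1]
        exact hwV
    · have h1 : v * w ∈ B :=
        (hidx2 v hvS w (hVS hwV)).2 ⟨fun h => absurd h hvB, fun h => absurd h hwB⟩
      have h2 : v * w ∈ V := V.mul_mem hvV hwV
      rcases huniq _ h1 (hVsq _ h2) with h3 | h3
      · exfalso
        apply hwv
        have e : w = v⁻¹ * (v * w) := by group
        rw [e, h3, mul_one, hvinv]
      · rw [← h3]
        exact h2
  refine ⟨hzV, ?_⟩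
  have hcen : ∀ c ∈ B, c * v = v * c → ∀ s ∈ S, c * s = s * c := by
    intro c hc hcv s hs
    by_cases hsB : s ∈ B
    · exact hBcomm c hc s hsB
    · have h1 : s * v ∈ B :=
        (hidx2 s hs v hvS).2 ⟨fun h => absurd h hsB, fun h => absurd h hvB⟩
      have h3 : Commute c (s * v) := hBcomm c hc _ h1
      have h4 : Commute c v := hcv
      have h5 : Commute c ((s * v) * v⁻¹) := h3.mul_right h4.inv_right
      have e : (s * v) * v⁻¹ = s := by group
      rw [e] at h5
      exact h5.eq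
  intro y hy hyV
  by_cases hyB : y ∈ B
  · have hcentral := hcen y hyB (hyV v hvV)
    rcases hzu y hy hcentral with h1 | h1
    · rw [h1]
      exact one_mem _
    · rw [h1]
      exact hzV
  · have h1 : y * v ∈ B :=
      (hidx2 y hy v hvS).2 ⟨fun h => absurd h hyB, fun h => absurd h hvB⟩
    have h2 : (y * v) * v = v * (y * v) := by
      rw [← mul_assoc, ← hyV v hvV]
    have hcentral := hcen (y * v) h1 h2
    have e : y = (y * v) * v⁻¹ := by group
    rcases hzu (y * v) (S.mul_mem hy hvS) hcentral with h3 | h3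
    · rw [e, h3, one_mul, hvinv]
      exact hvV
    · rw [e, h3, hvinv]
      exact V.mul_mem hzV hvV

end Cfsg.Agent.Lib.helper42.FG
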