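import Mathlib

set_option autoImplicit false

namespace Cfsg.Agent.Lib.helper11

/-- The subgroup `{1, x, y, x * y}` generated by two commuting involutions. -/
def fourSubgroup {P : Type*} [Group P] (x y : P) (hx : x * x = 1) (hy : y * y = 1)
    (hxy : x * y = y * x) : Subgroup P where
  carrier := {1, x, y, x * y}
  one_mem' := by simp
  mul_mem' := by
    have hx' : ∀ z, x * (x * z) = z := fun z => by rw [← mul_assoc, hx, one_mul]
    have hy' : ∀ z, y * (y * z) = z := fun z => by rw [← mul_assoc, hy, one_mul]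
    have hyx : y * x = x * y := hxy.symm
    have hyx' : ∀ z, y * (x * z) = x * (y * z) := fun z => by
      rw [← mul_assoc, hyx, mul_assoc]
    rintro a b (rfl | rfl | rfl | rfl) (rfl | rfl | rfl | rfl) <;>
      simp [mul_assoc, hx, hy, hx', hyx, hyx']
  inv_mem' := by
    have hxi : x⁻¹ = x := inv_eq_of_mul_eq_one_left hx
    have hyi : y⁻¹ = y := inv_eq_of_mul_eq_one_left hy
    rintro a (rfl | rfl | rfl | rfl)
    · simp
    · simp [hxi]
    · simp [hyi]
    · simp [mul_inv_rev, hxi, hyi, hxy.symm]

theorem mem_fourSubgroup {P : Type*} [Group P] (x y : P) (hx : x * x = 1) (hy : y * y = 1)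
    (hxy : x * y = y * x) (a : P) :
    a ∈ fourSubgroup x y hx hy hxy ↔ a = 1 ∨ a = x ∨ a = y ∨ a = x * y := Iff.rfl

theorem left_mem_fourSubgroup {P : Type*} [Group P] (x y : P) (hx : x * x = 1) (hy : y * y = 1)
    (hxy : x * y = y * x) : x ∈ fourSubgroup x y hx hy hxy := Or.inr (Or.inl rfl)

theorem right_mem_fourSubgroup {P : Type*} [Group P] (x y : P) (hx : x * x = 1) (hy : y * y = 1)
    (hxy : x * y = y * x) : y ∈ fourSubgroup x y hx hy hxy := Or.inr (Or.inr (Or.inl rfl))

theorem isKleinFour_fourSubgroup {P : Type*} [Group P] (x y : P) (hx : x * x = 1)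
    (hy : y * y = 1) (hxy : x * y = y * x) (hx1 : x ≠ 1) (hy1 : y ≠ 1) (hne : x ≠ y) :
    IsKleinFour (fourSubgroup x y hx hy hxy) := by
  have hxi : x⁻¹ = x := inv_eq_of_mul_eq_one_left hx
  constructor
  · change Nat.card (({1, x, y, x * y} : Set P)) = 4
    rw [Nat.card_coe_set_eq]
    have h1 : x ≠ x * y := by
      intro h
      apply hy1
      have : x * 1 = x * y := by rw [mul_one]; exact h
      exact (mul_left_cancel this).symm
    have h2 : y ≠ x * y := by
      intro h
      apply hx1
      have : 1 * y = x * y := by rw [one_mul]; exact h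
      exact (mul_right_cancel this).symm
    have h3 : (1 : P) ≠ x * y := by
      intro h
      apply hne
      calc x = x⁻¹ := hxi.symm
        _ = y := by rw [inv_eq_iff_mul_eq_one]; exact h.symm
    rw [Set.ncard_insert_of_notMem, Set.ncard_insert_of_notMem, Set.ncard_pair h2]
    · simp only [Set.mem_insert_iff, Set.mem_singleton_iff, not_or]
      exact ⟨hne, h1⟩
    · simp only [Set.mem_insert_iff, Set.mem_singleton_iff, not_or]
      exact ⟨fun h => hx1 h.symm, fun h => hy1 h.symm, h3⟩
  · have hdvd : Monoid.exponent (fourSubgroup x y hx hy hxy) ∣ 2 := by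
      apply Monoid.exponent_dvd_of_forall_pow_eq_one
      rintro ⟨a, ha⟩
      apply Subtype.ext
      have hx' : ∀ z, x * (x * z) = z := fun z => by rw [← mul_assoc, hx, one_mul]
      have hy' : ∀ z, y * (y * z) = z := fun z => by rw [← mul_assoc, hy, one_mul]
      have hyx' : ∀ z, y * (x * z) = x * (y * z) := fun z => by
        rw [← mul_assoc, hxy.symm, mul_assoc]
      rcases ha with rfl | rfl | rfl | rfl <;>
        simp [pow_two, mul_assoc, hx, hy, hyx']
    rcases (Nat.dvd_prime Nat.prime_two).mp hdvd with h | h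
    · exfalso
      rw [Monoid.exp_eq_one_iff] at h
      apply hx1
      have := h.elim (⟨x, left_mem_fourSubgroup x y hx hy hxy⟩ : fourSubgroup x y hx hy hxy) 1
      exact congrArg Subtype.val this
    · exact h

/-- Elements of a Klein four-subgroup are involutions. -/
theorem mul_self_of_mem_isKleinFour {P : Type*} [Group P] {U : Subgroup P} (hU : IsKleinFour U)
    {a : P} (ha : a ∈ U) : a * a = 1 := by
  have := hU.mul_self (⟨a, ha⟩ : U)
  exact congrArg Subtype.val this

/-- Elements of a Klein four-subgroup commute. -/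
theorem mul_comm_of_mem_isKleinFour {P : Type*} [Group P] {U : Subgroup P} (hU : IsKleinFour U)
    {a b : P} (ha : a ∈ U) (hb : b ∈ U) : a * b = b * a := by
  have := mul_comm_of_exponent_two hU.exponent_two (⟨a, ha⟩ : U) ⟨b, hb⟩
  exact congrArg Subtype.val this

/-- A Klein four-subgroup contains a nonidentity element different from a given element. -/
theorem exists_mem_isKleinFour_ne {P : Type*} [Group P] {U : Subgroup P} (hU : IsKleinFour U)
    (e : P) : ∃ a ∈ U, a ≠ 1 ∧ a ≠ e := by
  by_contra hcon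
  push Not at hcon
  have hsub : (U : Set P) ⊆ {1, e} := by
    intro a ha
    by_cases h1 : a = 1
    · exact Or.inl h1
    · exact Or.inr (hcon a ha h1)
  have hcard : Nat.card ((U : Set P)) = 4 := hU.card_four
  rw [Nat.card_coe_set_eq] at hcard
  have h2 : (U : Set P).ncard ≤ ({1, e} : Set P).ncard := Set.ncard_le_ncard hsub (by toFinite_tac)
  have h3 : ({1, e} : Set P).ncard ≤ 2 := Set.ncard_insert_le 1 {e} |>.trans (by simp)
  omega

/-- A subgroup with at least three elements contains a nonidentity element different from a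
given element. -/
theorem exists_mem_ne_of_three_le_card {P : Type*} [Group P] (H : Subgroup P) [Finite H]
    (h3 : 3 ≤ Nat.card H) (e : P) : ∃ a ∈ H, a ≠ 1 ∧ a ≠ e := by
  by_contra hcon
  push Not at hcon
  have hsub : (H : Set P) ⊆ {1, e} := by
    intro a ha
    by_cases h1 : a = 1
    · exact Or.inl h1
    · exact Or.inr (hcon a ha h1)
  have hcard : 3 ≤ Nat.card ((H : Set P)) := h3
  rw [Nat.card_coe_set_eq] at hcard
  have h2 : (H : Set P).ncard ≤ ({1, e} : Set P).ncard := Set.ncard_le_ncard hsub (by toFinite_tac)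
  have h4 : ({1, e} : Set P).ncard ≤ 2 := Set.ncard_insert_le 1 {e} |>.trans (by simp)
  omega

/-- If an involution `a` normalizes a commutative subgroup `E` of exponent two with at least
eight elements, then `a` centralizes at least three elements of `E`. -/
theorem three_le_card_centralizer_of_involution {P : Type*} [Group P] [Finite P]
    (E : Subgroup P) [hEn : E.Normal] (hEcomm : ∀ x ∈ E, ∀ y ∈ E, x * y = y * x)
    (hEsq : ∀ x ∈ E, x * x = 1) (hE8 : 8 ≤ Nat.card E) (a : P) (haa : a * a = 1) :
    3 ≤ Nat.card ((Subgroup.centralizer {a}).subgroupOf E) := by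
  have hai : a⁻¹ = a := inv_eq_of_mul_eq_one_left haa
  have hconj : ∀ x : E, a * (x : P) * a⁻¹ ∈ E := fun x => hEn.conj_mem x x.2 a
  let f : E →* E := MonoidHom.mk' (fun x => x * ⟨a * (x : P) * a⁻¹, hconj x⟩) (by
    intro x y
    apply Subtype.ext
    simp only [Subgroup.coe_mul]
    have h1 : a * ((x : P) * (y : P)) * a⁻¹ = (a * (x : P) * a⁻¹) * (a * (y : P) * a⁻¹) := by
      group
    have h2 := hEcomm (y : P) y.2 (a * (x : P) * a⁻¹) (hconj x)
    rw [h1]
    calc (x : P) * (y : P) * (a * (x : P) * a⁻¹ * (a * (y : P) * a⁻¹))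
        = (x : P) * ((y : P) * (a * (x : P) * a⁻¹)) * (a * (y : P) * a⁻¹) := by group
      _ = (x : P) * ((a * (x : P) * a⁻¹) * (y : P)) * (a * (y : P) * a⁻¹) := by rw [h2]
      _ = (x : P) * (a * (x : P) * a⁻¹) * ((y : P) * (a * (y : P) * a⁻¹)) := by group)
  have hf : ∀ x : E, ((f x : E) : P) = (x : P) * (a * (x : P) * a⁻¹) := fun x => rfl
  have hker : f.ker ≤ (Subgroup.centralizer {a}).subgroupOf E := by
    intro x hx
    rw [MonoidHom.mem_ker] at hx
    have h1 : (x : P) * (a * (x : P) * a⁻¹) = 1 := by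
      rw [← hf x, hx]; rfl
    rw [Subgroup.mem_subgroupOf, Subgroup.mem_centralizer_iff]
    intro y hy
    rw [Set.mem_singleton_iff] at hy
    rw [hy]
    have hxx := hEsq (x : P) x.2
    have h2 : a * (x : P) * a⁻¹ = (x : P) := by
      have h3 : (x : P) * (a * (x : P) * a⁻¹) = (x : P) * (x : P) := by rw [h1, hxx]
      exact mul_left_cancel h3
    calc a * (x : P) = (a * (x : P) * a⁻¹) * a := by group
      _ = (x : P) * a := by rw [h2]
  have hrange : f.range ≤ (Subgroup.centralizer {a}).subgroupOf E := by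
    rintro _ ⟨x, rfl⟩
    rw [Subgroup.mem_subgroupOf, Subgroup.mem_centralizer_iff]
    intro y hy
    rw [Set.mem_singleton_iff] at hy
    rw [hy, hf x]
    have h2 := hEcomm (x : P) x.2 (a * (x : P) * a⁻¹) (hconj x)
    calc a * ((x : P) * (a * (x : P) * a⁻¹))
        = a * (x : P) * a * (x : P) * a⁻¹ := by group
      _ = a * (x : P) * a⁻¹ * (x : P) * a := by rw [hai]
      _ = (a * (x : P) * a⁻¹ * (x : P)) * a := by group
      _ = ((x : P) * (a * (x : P) * a⁻¹)) * a := by rw [← h2]
  have hc1 := Subgroup.card_le_of_le hker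
  have hc2 := Subgroup.card_le_of_le hrange
  have hc3 := Subgroup.card_mul_index f.ker
  rw [Subgroup.index_ker] at hc3
  by_contra hlt
  have hlt' : Nat.card ((Subgroup.centralizer {a}).subgroupOf E) ≤ 2 := by omega
  have h4 : Nat.card f.ker * Nat.card f.range ≤ 2 * 2 :=
    Nat.mul_le_mul (hc1.trans hlt') (hc2.trans hlt')
  omega

end Cfsg.Agent.Lib.helper11
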