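import Mathlib
import Cfsg.Prelude.Def_CaseTheorems
import Cfsg.Agent.Lib.helper11.FourGroup
import Cfsg.Agent.Lib.helper53.Conj

set_option autoImplicit false

namespace Cfsg.Agent.Lib.helper11

open Cfsg.Agent.Lib.helper53

section Transport

variable {G : Type*} [Group G]

/-- Being a Klein four-group is invariant under isomorphism. -/
theorem isKleinFour_of_mulEquiv {A B : Type*} [Group A] [Group B] (e : A ≃* B)
    (hA : IsKleinFour A) : IsKleinFour B :=
  ⟨(Nat.card_congr e.toEquiv).symm.trans hA.card_four,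
    (Monoid.exponent_eq_of_mulEquiv e).symm.trans hA.exponent_two⟩

theorem isKleinFour_map {H : Type*} [Group H] (φ : G →* H) (hφ : Function.Injective φ)
    {A : Subgroup G} (hA : IsKleinFour A) : IsKleinFour (A.map φ) :=
  isKleinFour_of_mulEquiv (A.equivMapOfInjective φ hφ) hA

/-- The adjacency relation of the commuting graph on Klein four-subgroups. -/
def FourAdj (A B : Subgroup G) : Prop :=
  IsKleinFour A ∧ IsKleinFour B ∧ ∀ a ∈ A, ∀ b ∈ B, a * b = b * a

theorem isFourConnected_iff :
    Cfsg.IsFourConnected G ↔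
      ∀ U V : Subgroup G, IsKleinFour U → IsKleinFour V → Relation.ReflTransGen FourAdj U V :=
  Iff.rfl

theorem fourAdj_symm {A B : Subgroup G} (h : FourAdj A B) : FourAdj B A :=
  ⟨h.2.1, h.1, fun b hb a ha => (h.2.2 a ha b hb).symm⟩

theorem fourConn_symm {A B : Subgroup G} (h : Relation.ReflTransGen FourAdj A B) :
    Relation.ReflTransGen FourAdj B A := by
  induction h with
  | refl => exact Relation.ReflTransGen.refl
  | tail _ hbc ih => exact Relation.ReflTransGen.head (fourAdj_symm hbc) ih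

theorem fourAdj_map {H : Type*} [Group H] (φ : G →* H) (hφ : Function.Injective φ)
    {A B : Subgroup G} (h : FourAdj A B) : FourAdj (A.map φ) (B.map φ) := by
  refine ⟨isKleinFour_map φ hφ h.1, isKleinFour_map φ hφ h.2.1, ?_⟩
  rintro _ ⟨a, ha, rfl⟩ _ ⟨b, hb, rfl⟩
  rw [← map_mul, ← map_mul, h.2.2 a ha b hb]

theorem fourConn_map {H : Type*} [Group H] (φ : G →* H) (hφ : Function.Injective φ)
    {A B : Subgroup G} (h : Relation.ReflTransGen FourAdj A B) :
    Relation.ReflTransGen FourAdj (A.map φ) (B.map φ) :=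
  Relation.ReflTransGen.lift (fun A : Subgroup G => A.map φ) (fun _ _ h => fourAdj_map φ hφ h) _ _ h

theorem fourConn_conj (g : G) {A B : Subgroup G} (h : Relation.ReflTransGen FourAdj A B) :
    Relation.ReflTransGen FourAdj (A.map (MulAut.conj g).toMonoidHom)
      (B.map (MulAut.conj g).toMonoidHom) :=
  fourConn_map _ (MulAut.conj g).injective h

/-- If a subgroup `S` is four-connected (as a group), any two Klein four-subgroups of the
ambient group contained in `S` are connected. -/
theorem fourConn_of_le (S : Subgroup G) (hS : Cfsg.IsFourConnected S) {W₁ W₂ : Subgroup G}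
    (h₁ : IsKleinFour W₁) (h₂ : IsKleinFour W₂) (hW₁ : W₁ ≤ S) (hW₂ : W₂ ≤ S) :
    Relation.ReflTransGen FourAdj W₁ W₂ := by
  have k₁ : IsKleinFour (W₁.subgroupOf S) :=
    isKleinFour_of_mulEquiv (Subgroup.subgroupOfEquivOfLe hW₁).symm h₁
  have k₂ : IsKleinFour (W₂.subgroupOf S) :=
    isKleinFour_of_mulEquiv (Subgroup.subgroupOfEquivOfLe hW₂).symm h₂
  have h := fourConn_map S.subtype S.subtype_injective
    ((isFourConnected_iff.mp hS) _ _ k₁ k₂)
  rwa [Subgroup.subgroupOf_map_subtype, Subgroup.subgroupOf_map_subtype, inf_eq_left.mpr hW₁,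
    inf_eq_left.mpr hW₂] at h

/-- A Klein four-group is a `2`-group. -/
theorem isPGroup_two_of_isKleinFour {A : Subgroup G} (hA : IsKleinFour A) : IsPGroup 2 A :=
  IsPGroup.of_card (n := 2) (by rw [hA.card_four]; norm_num)

/-- `G` has `2`-rank at least two iff it contains a Klein four-subgroup. -/
theorem not_pRankLE_two_one_iff [Finite G] :
    ¬ Cfsg.PRankLE 2 1 G ↔ ∃ W : Subgroup G, IsKleinFour W := by
  constructor
  · intro h
    unfold Cfsg.PRankLE at h
    push Not at h
    obtain ⟨A, hAc, hA2, hAcard⟩ := h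
    have h3 : 3 ≤ Nat.card A := by
      have : (2 : ℕ) ^ 1 = 2 := by norm_num
      omega
    obtain ⟨x, hxA, hx1, -⟩ := exists_mem_ne_of_three_le_card A h3 1
    obtain ⟨y, hyA, hy1, hyx⟩ := exists_mem_ne_of_three_le_card A h3 x
    have hxx : x * x = 1 := by rw [← pow_two]; exact hA2 x hxA
    have hyy : y * y = 1 := by rw [← pow_two]; exact hA2 y hyA
    have hxy : x * y = y * x :=
      congrArg Subtype.val (hAc.is_comm.comm (⟨x, hxA⟩ : A) ⟨y, hyA⟩)
    exact ⟨fourSubgroup x y hxx hyy hxy,
      isKleinFour_fourSubgroup x y hxx hyy hxy hx1 hy1 (Ne.symm hyx)⟩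
  · rintro ⟨W, hW⟩ h
    have h1 := h W ⟨⟨fun a b => mul_comm_of_exponent_two hW.exponent_two a b⟩⟩
      (fun a ha => by rw [pow_two]; exact mul_self_of_mem_isKleinFour hW ha)
    rw [hW.card_four] at h1
    norm_num at h1

/-- A subgroup has `2`-rank at least two iff it contains a Klein four-subgroup of the ambient
group. -/
theorem not_pRankLE_two_one_subgroup_iff [Finite G] (Q : Subgroup G) :
    ¬ Cfsg.PRankLE 2 1 Q ↔ ∃ W : Subgroup G, W ≤ Q ∧ IsKleinFour W := by
  rw [not_pRankLE_two_one_iff]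
  constructor
  · rintro ⟨W, hW⟩
    refine ⟨W.map Q.subtype, ?_, isKleinFour_map Q.subtype Q.subtype_injective hW⟩
    rintro _ ⟨x, -, rfl⟩
    exact x.2
  · rintro ⟨W, hWQ, hW⟩
    exact ⟨W.subgroupOf Q, isKleinFour_of_mulEquiv (Subgroup.subgroupOfEquivOfLe hWQ).symm hW⟩

end Transport

section Core

variable {G : Type*} [Group G] [Finite G]

/-- Sylow's theorem inside a subgroup `H`: two `p`-subgroups `A`, `B` of `H` can be moved into a
common conjugate of a fixed Sylow `p`-subgroup `S` of `G`, moving `B` only by an element of `H`. -/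
theorem exists_conj_into_common_sylow {p : ℕ} [Fact p.Prime] (S : Sylow p G)
    {H A B : Subgroup G} (hA : IsPGroup p A) (hB : IsPGroup p B) (hAH : A ≤ H) (hBH : B ≤ H) :
    ∃ n ∈ H, ∃ y : G, A ≤ (S : Subgroup G).map (MulAut.conj y).toMonoidHom ∧
      B.map (MulAut.conj n).toMonoidHom ≤ (S : Subgroup G).map (MulAut.conj y).toMonoidHom := by
  have hA' : IsPGroup p (A.subgroupOf H) := hA.of_equiv (Subgroup.subgroupOfEquivOfLe hAH).symm
  have hB' : IsPGroup p (B.subgroupOf H) := hB.of_equiv (Subgroup.subgroupOfEquivOfLe hBH).symm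
  obtain ⟨T, hT⟩ := hA'.exists_le_sylow
  obtain ⟨m, hm⟩ := exists_le_conj_sylow hB' T
  have hTp : IsPGroup p ((T : Subgroup H).map H.subtype) := T.isPGroup'.map _
  obtain ⟨y, hy⟩ := exists_le_conj_sylow hTp S
  refine ⟨(m⁻¹ : H), (m⁻¹).2, y, ?_, ?_⟩
  · intro a ha
    apply hy
    exact ⟨⟨a, hAH ha⟩, hT (Subgroup.mem_subgroupOf.mpr ha), rfl⟩
  · rintro _ ⟨b, hb, rfl⟩
    apply hy
    have h1 : (⟨b, hBH hb⟩ : H) ∈ (T : Subgroup H).map (MulAut.conj m).toMonoidHom :=
      hm (Subgroup.mem_subgroupOf.mpr hb)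
    rw [mem_conj_iff] at h1
    refine ⟨m⁻¹ * ⟨b, hBH hb⟩ * m, h1, ?_⟩
    simp

/-- The `2`-generated core `Γ_{S,2}(G)`: generated by the normalizers of the subgroups of `S` of
`2`-rank at least two. -/
def twoGenCore (S : Sylow 2 G) : Subgroup G :=
  ⨆ Q : {Q : Subgroup G // Q ≤ (S : Subgroup G) ∧ ¬ Cfsg.PRankLE 2 1 Q},
    Subgroup.normalizer ((Q : Subgroup G) : Set G)

theorem normalizer_le_twoGenCore (S : Sylow 2 G) {Q : Subgroup G} (hQ : Q ≤ (S : Subgroup G))
    (hW : ∃ W : Subgroup G, W ≤ Q ∧ IsKleinFour W) :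
    Subgroup.normalizer (Q : Set G) ≤ twoGenCore S :=
  le_iSup_of_le (f := fun Q : {Q : Subgroup G // Q ≤ (S : Subgroup G) ∧ ¬ Cfsg.PRankLE 2 1 Q} =>
    Subgroup.normalizer ((Q : Subgroup G) : Set G))
    ⟨Q, hQ, (not_pRankLE_two_one_subgroup_iff Q).mpr hW⟩ le_rfl

theorem twoGenCore_le (S : Sylow 2 G) (M : Subgroup G)
    (h : ∀ Q : Subgroup G, Q ≤ (S : Subgroup G) → (∃ W : Subgroup G, W ≤ Q ∧ IsKleinFour W) →
      Subgroup.normalizer (Q : Set G) ≤ M) : twoGenCore S ≤ M :=
  iSup_le fun Q => h Q.1 Q.2.1 ((not_pRankLE_two_one_subgroup_iff Q.1).mp Q.2.2)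

/-- The `2`-generated core controls fusion of subgroups of `2`-rank at least two. -/
theorem mem_twoGenCore_of_conj_le (S : Sylow 2 G) :
    ∀ (n : ℕ) (Q : Subgroup G), Nat.card (S : Subgroup G) - Nat.card Q = n →
      Q ≤ (S : Subgroup G) → (∃ W : Subgroup G, W ≤ Q ∧ IsKleinFour W) →
      ∀ x : G, Q.map (MulAut.conj x).toMonoidHom ≤ (S : Subgroup G) → x ∈ twoGenCore S := by
  have hp2 : Fact (Nat.Prime 2) := ⟨Nat.prime_two⟩
  intro n
  induction n using Nat.strong_induction_on with
  | _ n ih =>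
    intro Q hn hQS hW x hx
    by_cases hQ : Q = (S : Subgroup G)
    · rw [hQ] at hx
      have hxN := mem_normalizer_of_conj_le hx
      exact normalizer_le_twoGenCore S hQS hW (hQ ▸ hxN)
    · obtain ⟨W, hWQ, hWk⟩ := hW
      have hlt : Q < (S : Subgroup G) := lt_of_le_of_ne hQS hQ
      have hScard : Nat.card Q < Nat.card (S : Subgroup G) := by
        by_contra hge
        exact hQ (Subgroup.eq_of_le_of_card_ge hQS (by omega))
      obtain ⟨y1, hy1S, hy1Q, hy1N⟩ := exists_mem_normalizer_not_mem S.isPGroup' hlt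
      have hQN1 : Q ≤ (S : Subgroup G) ⊓ Subgroup.normalizer (Q : Set G) :=
        le_inf hQS Subgroup.le_normalizer
      have hN1lt : Nat.card Q <
          Nat.card ((S : Subgroup G) ⊓ Subgroup.normalizer (Q : Set G) : Subgroup G) := by
        by_contra hge
        have := Subgroup.eq_of_le_of_card_ge hQN1 (by omega)
        exact hy1Q (this ▸ ⟨hy1S, hy1N⟩)
      have hN1le : Nat.card ((S : Subgroup G) ⊓ Subgroup.normalizer (Q : Set G) : Subgroup G) ≤
          Nat.card (S : Subgroup G) := Subgroup.card_le_of_le inf_le_left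
      have hQS' : Q ≤ (S : Subgroup G).map (MulAut.conj x⁻¹).toMonoidHom := by
        rw [le_conj_iff, inv_inv]
        exact hx
      have hS'p : IsPGroup 2 ((S : Subgroup G).map (MulAut.conj x⁻¹).toMonoidHom) :=
        isPGroup_conj S.isPGroup' _
      have hS'card : Nat.card ((S : Subgroup G).map (MulAut.conj x⁻¹).toMonoidHom) =
          Nat.card (S : Subgroup G) :=
        Subgroup.card_map_of_injective (MulAut.conj x⁻¹).injective
      have hlt' : Q < (S : Subgroup G).map (MulAut.conj x⁻¹).toMonoidHom := by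
        refine lt_of_le_of_ne hQS' (fun h => ?_)
        have : Nat.card Q = Nat.card (S : Subgroup G) := by rw [← hS'card, ← h]
        omega
      obtain ⟨y2, hy2S, hy2Q, hy2N⟩ := exists_mem_normalizer_not_mem hS'p hlt'
      have hQN2 : Q ≤ (S : Subgroup G).map (MulAut.conj x⁻¹).toMonoidHom ⊓
          Subgroup.normalizer (Q : Set G) := le_inf hQS' Subgroup.le_normalizer
      have hN2lt : Nat.card Q <
          Nat.card ((S : Subgroup G).map (MulAut.conj x⁻¹).toMonoidHom ⊓
            Subgroup.normalizer (Q : Set G) : Subgroup G) := by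
        by_contra hge
        have := Subgroup.eq_of_le_of_card_ge hQN2 (by omega)
        exact hy2Q (this ▸ ⟨hy2S, hy2N⟩)
      obtain ⟨m, hmH, y, hA, hB⟩ := exists_conj_into_common_sylow S
        (H := Subgroup.normalizer (Q : Set G))
        (A := (S : Subgroup G) ⊓ Subgroup.normalizer (Q : Set G))
        (B := (S : Subgroup G).map (MulAut.conj x⁻¹).toMonoidHom ⊓
          Subgroup.normalizer (Q : Set G))
        (S.isPGroup'.to_le inf_le_left) (hS'p.to_le inf_le_left) inf_le_right inf_le_right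
      have hyinv : y⁻¹ ∈ twoGenCore S := by
        refine ih (Nat.card (S : Subgroup G) -
          Nat.card ((S : Subgroup G) ⊓ Subgroup.normalizer (Q : Set G) : Subgroup G)) (by omega)
          _ rfl inf_le_left ⟨W, hWQ.trans hQN1, hWk⟩ y⁻¹ ?_
        exact le_conj_iff.mp hA
      have hQ'S : ((S : Subgroup G).map (MulAut.conj x⁻¹).toMonoidHom ⊓
          Subgroup.normalizer (Q : Set G)).map (MulAut.conj x).toMonoidHom ≤ (S : Subgroup G) := by
        have := le_conj_iff.mp (inf_le_left :
          (S : Subgroup G).map (MulAut.conj x⁻¹).toMonoidHom ⊓ Subgroup.normalizer (Q : Set G) ≤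
            (S : Subgroup G).map (MulAut.conj x⁻¹).toMonoidHom)
        rwa [inv_inv] at this
      have hQ'card : Nat.card (((S : Subgroup G).map (MulAut.conj x⁻¹).toMonoidHom ⊓
          Subgroup.normalizer (Q : Set G)).map (MulAut.conj x).toMonoidHom) =
          Nat.card ((S : Subgroup G).map (MulAut.conj x⁻¹).toMonoidHom ⊓
            Subgroup.normalizer (Q : Set G) : Subgroup G) :=
        Subgroup.card_map_of_injective (MulAut.conj x).injective
      have hQ'le := Subgroup.card_le_of_le hQ'S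
      have hz : y⁻¹ * m * x⁻¹ ∈ twoGenCore S := by
        refine ih (Nat.card (S : Subgroup G) -
          Nat.card (((S : Subgroup G).map (MulAut.conj x⁻¹).toMonoidHom ⊓
          Subgroup.normalizer (Q : Set G)).map (MulAut.conj x).toMonoidHom)) (by omega)
          _ rfl hQ'S ⟨W.map (MulAut.conj x).toMonoidHom, conj_mono (hWQ.trans hQN2) x,
            isKleinFour_map _ (MulAut.conj x).injective hWk⟩ (y⁻¹ * m * x⁻¹) ?_
        rw [conj_conj]
        have h1 : y⁻¹ * m * x⁻¹ * x = y⁻¹ * m := by group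
        rw [h1, ← conj_conj]
        exact le_conj_iff.mp hB
      have hmΓ : m ∈ twoGenCore S := normalizer_le_twoGenCore S hQS ⟨W, hWQ, hWk⟩ hmH
      have hy : y ∈ twoGenCore S := by
        have := (twoGenCore S).inv_mem hyinv
        rwa [inv_inv] at this
      have hx' : x⁻¹ ∈ twoGenCore S := by
        have h1 : x⁻¹ = m⁻¹ * y * (y⁻¹ * m * x⁻¹) := by group
        rw [h1]
        exact (twoGenCore S).mul_mem ((twoGenCore S).mul_mem ((twoGenCore S).inv_mem hmΓ) hy) hz
      have := (twoGenCore S).inv_mem hx'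
      rwa [inv_inv] at this

/-- Every Klein four-subgroup connected to one inside `S` can be conjugated into `S` by an
element of the `2`-generated core. -/
theorem exists_mem_twoGenCore_conj_le (S : Sylow 2 G) {U₀ : Subgroup G}
    (hU₀S : U₀ ≤ (S : Subgroup G)) :
    ∀ V : Subgroup G, Relation.ReflTransGen FourAdj U₀ V →
      ∃ h ∈ twoGenCore S, V.map (MulAut.conj h).toMonoidHom ≤ (S : Subgroup G) := by
  have hp2 : Fact (Nat.Prime 2) := ⟨Nat.prime_two⟩
  intro V hV
  induction hV with
  | refl => exact ⟨1, (twoGenCore S).one_mem, by rw [conj_one]; exact hU₀S⟩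
  | @tail V V' _ hadj ih =>
    obtain ⟨h, hh, hVS⟩ := ih
    have hadj' := fourAdj_map (MulAut.conj h).toMonoidHom (MulAut.conj h).injective hadj
    have hWk : IsKleinFour (V.map (MulAut.conj h).toMonoidHom) := hadj'.1
    have hBp : IsPGroup 2 (V'.map (MulAut.conj h).toMonoidHom) :=
      isPGroup_two_of_isKleinFour hadj'.2.1
    have hBN : V'.map (MulAut.conj h).toMonoidHom ≤
        Subgroup.normalizer ((V.map (MulAut.conj h).toMonoidHom : Subgroup G) : Set G) := by
      refine le_trans ?_ (Subgroup.centralizer_le_normalizer _)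
      intro b hb
      rw [Subgroup.mem_centralizer_iff]
      intro w hw
      exact hadj'.2.2 w hw b hb
    have hWA : V.map (MulAut.conj h).toMonoidHom ≤ (S : Subgroup G) ⊓
        Subgroup.normalizer ((V.map (MulAut.conj h).toMonoidHom : Subgroup G) : Set G) :=
      le_inf hVS Subgroup.le_normalizer
    obtain ⟨m, hmH, y, hA, hB⟩ := exists_conj_into_common_sylow S
      (H := Subgroup.normalizer ((V.map (MulAut.conj h).toMonoidHom : Subgroup G) : Set G))
      (A := (S : Subgroup G) ⊓
        Subgroup.normalizer ((V.map (MulAut.conj h).toMonoidHom : Subgroup G) : Set G))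
      (B := V'.map (MulAut.conj h).toMonoidHom)
      (S.isPGroup'.to_le inf_le_left) hBp inf_le_right hBN
    have hyinv : y⁻¹ ∈ twoGenCore S :=
      mem_twoGenCore_of_conj_le S _ _ rfl inf_le_left ⟨_, hWA, hWk⟩ y⁻¹ (le_conj_iff.mp hA)
    have hmΓ : m ∈ twoGenCore S := normalizer_le_twoGenCore S hVS ⟨_, le_rfl, hWk⟩ hmH
    refine ⟨y⁻¹ * m * h, (twoGenCore S).mul_mem ((twoGenCore S).mul_mem hyinv hmΓ) hh, ?_⟩
    rw [← conj_conj, ← conj_conj]
    exact le_conj_iff.mp hB

/-- **The 2-generated core criterion for connectedness.** If `G` has `2`-rank at least two and a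
Sylow `2`-subgroup `S` is four-connected, then `G` is four-connected iff `Γ_{S,2}(G) = G`. -/
theorem isFourConnected_iff_twoGenCore_eq_top (h2 : ¬ Cfsg.PRankLE 2 1 G) (S : Sylow 2 G)
    (hS : Cfsg.IsFourConnected (S : Subgroup G)) :
    Cfsg.IsFourConnected G ↔ twoGenCore S = ⊤ := by
  have hp2 : Fact (Nat.Prime 2) := ⟨Nat.prime_two⟩
  obtain ⟨W₀, hW₀⟩ := not_pRankLE_two_one_iff.mp h2
  obtain ⟨g₀, hg₀⟩ := exists_le_conj_sylow (isPGroup_two_of_isKleinFour hW₀) S
  -- a Klein four-subgroup `U₀` of `S`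
  obtain ⟨U₀, hU₀, hU₀S⟩ : ∃ U₀ : Subgroup G, IsKleinFour U₀ ∧ U₀ ≤ (S : Subgroup G) :=
    ⟨W₀.map (MulAut.conj g₀⁻¹).toMonoidHom, isKleinFour_map _ (MulAut.conj g₀⁻¹).injective hW₀,
      le_conj_iff.mp hg₀⟩
  constructor
  · intro hG
    rw [eq_top_iff]
    intro g _
    have hconn : Relation.ReflTransGen FourAdj U₀ (U₀.map (MulAut.conj g).toMonoidHom) :=
      (isFourConnected_iff.mp hG) _ _ hU₀ (isKleinFour_map _ (MulAut.conj g).injective hU₀)
    obtain ⟨h, hh, hle⟩ := exists_mem_twoGenCore_conj_le S hU₀S _ hconn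
    rw [conj_conj] at hle
    have hhg := mem_twoGenCore_of_conj_le S _ U₀ rfl hU₀S ⟨U₀, le_rfl, hU₀⟩ (h * g) hle
    have h1 : g = h⁻¹ * (h * g) := by group
    rw [h1]
    exact (twoGenCore S).mul_mem ((twoGenCore S).inv_mem hh) hhg
  · intro htop
    -- the stabilizer of the connected component of `U₀`
    let M : Subgroup G :=
      { carrier := {g | Relation.ReflTransGen FourAdj U₀ (U₀.map (MulAut.conj g).toMonoidHom)}
        one_mem' := by
          show Relation.ReflTransGen FourAdj U₀ (U₀.map (MulAut.conj (1 : G)).toMonoidHom)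
          rw [conj_one]
        mul_mem' := by
          intro a b ha hb
          show Relation.ReflTransGen FourAdj U₀ (U₀.map (MulAut.conj (a * b)).toMonoidHom)
          rw [← conj_conj]
          exact Relation.ReflTransGen.trans ha (fourConn_conj a hb)
        inv_mem' := by
          intro a ha
          show Relation.ReflTransGen FourAdj U₀ (U₀.map (MulAut.conj a⁻¹).toMonoidHom)
          have h1 := fourConn_conj a⁻¹ ha
          rw [conj_conj, inv_mul_cancel, conj_one] at h1
          exact fourConn_symm h1 }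
    have hM : twoGenCore S ≤ M := by
      apply twoGenCore_le
      rintro Q hQS ⟨W, hWQ, hWk⟩ g hg
      show Relation.ReflTransGen FourAdj U₀ (U₀.map (MulAut.conj g).toMonoidHom)
      have hgW : W.map (MulAut.conj g).toMonoidHom ≤ (S : Subgroup G) := by
        refine le_trans (conj_mono hWQ g) ?_
        rw [conj_eq_self_of_mem_normalizer hg]
        exact hQS
      have c1 : Relation.ReflTransGen FourAdj U₀ (W.map (MulAut.conj g).toMonoidHom) :=
        fourConn_of_le (S : Subgroup G) hS hU₀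
          (isKleinFour_map _ (MulAut.conj g).injective hWk) hU₀S hgW
      have c2 : Relation.ReflTransGen FourAdj U₀ W :=
        fourConn_of_le (S : Subgroup G) hS hU₀ hWk hU₀S (hWQ.trans hQS)
      exact c1.trans (fourConn_symm (fourConn_conj g c2))
    have hMtop : M = ⊤ := top_le_iff.mp (htop ▸ hM)
    have hall : ∀ V : Subgroup G, IsKleinFour V → Relation.ReflTransGen FourAdj U₀ V := by
      intro V hV
      obtain ⟨g, hg⟩ := exists_le_conj_sylow (isPGroup_two_of_isKleinFour hV) S
      have hgV : V.map (MulAut.conj g⁻¹).toMonoidHom ≤ (S : Subgroup G) := le_conj_iff.mp hg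
      have c1 : Relation.ReflTransGen FourAdj U₀ (V.map (MulAut.conj g⁻¹).toMonoidHom) :=
        fourConn_of_le (S : Subgroup G) hS hU₀
          (isKleinFour_map _ (MulAut.conj g⁻¹).injective hV) hU₀S hgV
      have c2 := fourConn_conj g c1
      rw [conj_conj, mul_inv_cancel, conj_one] at c2
      have hgM : g ∈ M := hMtop ▸ Subgroup.mem_top g
      exact Relation.ReflTransGen.trans hgM c2
    rw [isFourConnected_iff]
    intro U V hU hV
    exact (fourConn_symm (hall U hU)).trans (hall V hV)

end Core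

end Cfsg.Agent.Lib.helper11
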