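import Mathlib
import Cfsg.Agent.Lib.helper32.Dih2

/-!
# An involution normalizing a self-centralizing subgroup of odd prime order (helper11)

`P ≤ G` of odd prime order `p` with `C_G(P) ≤ P`, and `t ∈ N_G(P)` an involution.  Then `t`
inverts `P`, the elements `t z` (`z ∈ P`) are conjugate to `t`, and each `y ∈ P \ {1}` is a
product of two conjugates of `t` in exactly `p` ways (`frob_classProd`).
-/

set_option autoImplicit false

namespace Cfsg.Agent.Lib.helper11

open Cfsg Cfsg.Agent.Lib.helper32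

universe u

section FrobInvGroup

variable {G : Type u} [Group G]

/-- An involution normalizing a self-centralizing subgroup of odd prime order inverts it. -/
theorem frob_inverts {p : ℕ} (hp : p.Prime) (hp2 : p ≠ 2) (P : Subgroup G)
    (hP : Nat.card P = p) (hC : Subgroup.centralizer (P : Set G) ≤ P)
    (t : G) (htN : t ∈ Subgroup.normalizer (P : Set G)) (ht : t * t = 1) (ht1 : t ≠ 1) :
    ∀ q ∈ P, t * q * t⁻¹ = q⁻¹ := by
  have hfin : Finite P := Nat.finite_of_card_ne_zero (by rw [hP]; exact hp.ne_zero)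
  have htinv : t⁻¹ = t := inv_eq_of_mul_eq_one_left ht
  have htP : t ∉ P := by
    intro h
    apply ht1
    have h1 : orderOf t ∣ 2 := orderOf_dvd_of_pow_eq_one (by rw [pow_two]; exact ht)
    have h2 : orderOf t ∣ p := by
      have h3 := orderOf_dvd_natCard (⟨t, h⟩ : P)
      rwa [hP, Subgroup.orderOf_mk] at h3
    have h4 : orderOf t ∣ Nat.gcd 2 p := Nat.dvd_gcd h1 h2
    have h5 : Nat.gcd 2 p = 1 := (Nat.coprime_primes Nat.prime_two hp).mpr (Ne.symm hp2)
    rw [h5, Nat.dvd_one] at h4
    exact orderOf_eq_one_iff.mp h4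
  intro q hq
  have hq' : t * q * t⁻¹ ∈ P := (Subgroup.mem_normalizer_iff.mp htN q).mp hq
  by_contra hne
  have hz : q * (t * q * t⁻¹) ∈ P := mul_mem hq hq'
  have hz1 : q * (t * q * t⁻¹) ≠ 1 := by
    intro h
    apply hne
    exact (inv_eq_of_mul_eq_one_right h).symm
  have hcomm : (t * q * t⁻¹) * q = q * (t * q * t⁻¹) := by
    have := Cfsg.Agent.Lib.helper21.comm_of_prime_card hp hP ⟨t * q * t⁻¹, hq'⟩ ⟨q, hq⟩
    exact congrArg Subtype.val this
  have hza : t * (q * (t * q * t⁻¹)) = (q * (t * q * t⁻¹)) * t := by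
    rw [htinv] at hcomm ⊢
    calc t * (q * (t * q * t)) = (t * q * t) * q * t := by group
      _ = (q * (t * q * t)) * t := by rw [hcomm]
  exact htP (hC (mem_centralizer_of_commute_prime_card hp P hP hz hz1 hza))

/-- The elements `t z`, `z ∈ P`, are conjugate to `t`. -/
theorem frob_conj {p : ℕ} (hp : p.Prime) (hp2 : p ≠ 2) (P : Subgroup G) (hP : Nat.card P = p)
    (t : G) (hinv : ∀ q ∈ P, t * q * t⁻¹ = q⁻¹) (z : G) (hz : z ∈ P) :
    IsConj t (t * z) := by
  have hfin : Finite P := Nat.finite_of_card_ne_zero (by rw [hP]; exact hp.ne_zero)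
  obtain ⟨k, hk⟩ := hp.eq_two_or_odd'.resolve_left hp2
  have hzp : z ^ p = 1 := by
    have h3 := orderOf_dvd_natCard (⟨z, hz⟩ : P)
    rw [hP, Subgroup.orderOf_mk] at h3
    exact orderOf_dvd_iff_pow_eq_one.mp h3
  have hw : z ^ k ∈ P := pow_mem hz k
  have hww : z ^ k * z ^ k = z⁻¹ := by
    apply eq_inv_of_mul_eq_one_left
    rw [← pow_add, ← pow_succ]
    have : k + k + 1 = p := by omega
    rw [this, hzp]
  rw [isConj_iff]
  refine ⟨z ^ k, ?_⟩
  calc z ^ k * t * (z ^ k)⁻¹ = z ^ k * (t * (z ^ k)⁻¹ * t⁻¹) * t := by group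
    _ = z ^ k * z ^ k * t := by rw [hinv _ (inv_mem hw), inv_inv]
    _ = z⁻¹ * t := by rw [hww]
    _ = t * z * t⁻¹ * t := by rw [hinv z hz]
    _ = t * z := by group

end FrobInvGroup

section FrobInvCount

variable {G : Type u} [Group G] [Fintype G]

open Cfsg.Agent.Lib.helper4 in
/-- Every nonidentity element of `P` is a product of two conjugates of `t` in exactly `p`
ways. -/
theorem frob_classProd {p : ℕ} (hp : p.Prime) (hp2 : p ≠ 2) (P : Subgroup G)
    (hP : Nat.card P = p) (hC : Subgroup.centralizer (P : Set G) ≤ P)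
    (t : G) (htN : t ∈ Subgroup.normalizer (P : Set G)) (ht : t * t = 1) (ht1 : t ≠ 1)
    (y : G) (hy : y ∈ P) (hy1 : y ≠ 1) : classProd t y = p := by
  classical
  have : Fintype P := Fintype.ofFinite P
  have hinv := frob_inverts hp hp2 P hP hC t htN ht ht1
  have htinv : t⁻¹ = t := inv_eq_of_mul_eq_one_left ht
  have hiff : ∀ a : G, (IsConj t a ∧ IsConj t (a⁻¹ * y)) ↔ ∃ z : P, t * (z : G) = a := by
    intro a
    constructor
    · rintro ⟨h1, h2⟩
      obtain ⟨c, hc⟩ := isConj_iff.mp h1
      obtain ⟨d, hd⟩ := isConj_iff.mp h2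
      have haa : a * a = 1 := by
        rw [← hc]
        calc c * t * c⁻¹ * (c * t * c⁻¹) = c * (t * t) * c⁻¹ := by group
          _ = 1 := by rw [ht]; group
      have hbb : a⁻¹ * y * (a⁻¹ * y) = 1 := by
        rw [← hd]
        calc d * t * d⁻¹ * (d * t * d⁻¹) = d * (t * t) * d⁻¹ := by group
          _ = 1 := by rw [ht]; group
      have hainv : a⁻¹ = a := inv_eq_of_mul_eq_one_left haa
      have hay : a * y * a⁻¹ = y⁻¹ := by
        calc a * y * a⁻¹ = a * a * (a⁻¹ * y * (a⁻¹ * y)) * y⁻¹ := by group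
          _ = y⁻¹ := by rw [hbb, haa]; group
      have hcomm : (a * t) * y = y * (a * t) := by
        calc a * t * y = a * (t * y * t⁻¹) * t := by group
          _ = a * y⁻¹ * t := by rw [hinv y hy]
          _ = (a * y * a⁻¹)⁻¹ * a * t := by group
          _ = y * (a * t) := by rw [hay, inv_inv, mul_assoc]
      have hatP : a * t ∈ P := hC (mem_centralizer_of_commute_prime_card hp P hP hy hy1 hcomm)
      refine ⟨⟨(a * t)⁻¹, inv_mem hatP⟩, ?_⟩
      show t * (a * t)⁻¹ = a
      rw [mul_inv_rev, ← mul_assoc, mul_inv_cancel, one_mul, hainv]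
    · rintro ⟨z, rfl⟩
      refine ⟨frob_conj hp hp2 P hP t hinv z z.2, ?_⟩
      have h1 : (t * (z : G))⁻¹ * y = t * ((z : G) * y) := by
        calc (t * (z : G))⁻¹ * y = (z : G)⁻¹ * t⁻¹ * y := by group
          _ = (z : G)⁻¹ * t * y := by rw [htinv]
          _ = (t * (z : G) * t⁻¹) * t * y := by rw [hinv z z.2]
          _ = t * ((z : G) * y) := by group
      rw [h1]
      exact frob_conj hp hp2 P hP t hinv _ (mul_mem z.2 hy)
  have hcard : (Finset.univ.filter (fun a : G => IsConj t a ∧ IsConj t (a⁻¹ * y))).card = p := by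
    have e : Finset.univ.filter (fun a : G => IsConj t a ∧ IsConj t (a⁻¹ * y)) =
        (Finset.univ : Finset P).image (fun z : P => t * (z : G)) := by
      ext a
      simp only [Finset.mem_filter, Finset.mem_univ, true_and, Finset.mem_image]
      exact hiff a
    rw [e, Finset.card_image_of_injective _ (by
      intro z z' h
      exact Subtype.ext (mul_left_cancel h)), Finset.card_univ, ← Nat.card_eq_fintype_card, hP]
  unfold classProd
  rw [Finset.sum_boole, hcard]

end FrobInvCount

end Cfsg.Agent.Lib.helper11
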