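import Mathlib
import Cfsg.Agent.Lib.helper19.DetChar

/-!
# Involutions in complex representations: trace and determinant (helper11)

* `multiset_pm_one`: a multiset of `±1` has sum `card - 2 q` and product `(-1) ^ q`.
* `involution_trace_det`: an endomorphism `f` of `ℂ ^ n` with `f * f = 1` has trace `n - 2 q`
  and determinant `(-1) ^ q`.
-/

set_option autoImplicit false

namespace Cfsg.Agent.Lib.helper11

open Module

/-- A multiset of complex numbers all equal to `1` or `-1`. -/
theorem multiset_pm_one (R : Multiset ℂ) (h : ∀ μ ∈ R, μ = 1 ∨ μ = -1) :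
    ∃ q : ℕ, q ≤ Multiset.card R ∧ R.sum = (Multiset.card R : ℂ) - 2 * q ∧
      R.prod = (-1) ^ q := by
  induction R using Multiset.induction_on with
  | empty => exact ⟨0, by simp⟩
  | cons a R ih =>
    obtain ⟨q, hq, hs, hp⟩ := ih (fun μ hμ => h μ (Multiset.mem_cons_of_mem hμ))
    rcases h a (Multiset.mem_cons_self a R) with rfl | rfl
    · refine ⟨q, ?_, ?_, ?_⟩
      · rw [Multiset.card_cons]; omega
      · rw [Multiset.sum_cons, hs, Multiset.card_cons]; push_cast; ring
      · rw [Multiset.prod_cons, hp, one_mul]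
    · refine ⟨q + 1, ?_, ?_, ?_⟩
      · rw [Multiset.card_cons]; omega
      · rw [Multiset.sum_cons, hs, Multiset.card_cons]; push_cast; ring
      · rw [Multiset.prod_cons, hp, pow_succ]; ring

/-- An involutive endomorphism of `ℂ ^ n` has trace `n - 2 q` and determinant `(-1) ^ q`. -/
theorem involution_trace_det {n : ℕ} (f : Module.End ℂ (Fin n → ℂ)) (hf : f * f = 1) :
    ∃ q : ℕ, q ≤ n ∧ LinearMap.trace ℂ (Fin n → ℂ) f = (n : ℂ) - 2 * q ∧
      LinearMap.det f = (-1) ^ q := by
  classical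
  obtain ⟨A, hA⟩ : ∃ A : Matrix (Fin n) (Fin n) ℂ, A = LinearMap.toMatrix' f := ⟨_, rfl⟩
  have hcp : f.charpoly = A.charpoly := by
    rw [hA, ← LinearMap.toMatrix_eq_toMatrix', LinearMap.charpoly_toMatrix]
  have hroots : ∀ μ ∈ A.charpoly.roots, μ = 1 ∨ μ = -1 := by
    intro μ hμ
    have hroot : f.charpoly.IsRoot μ := by
      rw [hcp]
      exact (Polynomial.mem_roots (Matrix.charpoly_monic A).ne_zero).mp hμ
    have hev : f.HasEigenvalue μ := (Module.End.hasEigenvalue_iff_isRoot_charpoly f μ).mpr hroot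
    obtain ⟨v, hv⟩ := hev.exists_hasEigenvector
    have h1 : f v = μ • v := hv.apply_eq_smul
    have h2 : (f * f) v = μ • μ • v := by
      rw [Module.End.mul_apply, h1, map_smul, h1]
    rw [hf, Module.End.one_apply] at h2
    have h3 : (μ * μ - 1) • v = 0 := by
      rw [sub_smul, one_smul, mul_smul, ← h2, sub_self]
    rcases smul_eq_zero.mp h3 with h4 | h4
    · have h5 : (μ - 1) * (μ + 1) = 0 := by linear_combination h4
      rcases mul_eq_zero.mp h5 with h6 | h6
      · left; exact sub_eq_zero.mp h6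
      · right; exact eq_neg_of_add_eq_zero_left h6
    · exact absurd h4 hv.2
  have hcard : Multiset.card A.charpoly.roots = n := by
    have hsp := IsAlgClosed.splits A.charpoly
    rw [Polynomial.splits_iff_card_roots] at hsp
    rw [hsp, Matrix.charpoly_natDegree_eq_dim, Fintype.card_fin]
  obtain ⟨q, hq, hs, hp⟩ := multiset_pm_one _ hroots
  rw [hcard] at hq hs
  refine ⟨q, hq, ?_, ?_⟩
  · rw [← hs, ← Matrix.trace_eq_sum_roots_charpoly, hA,
      LinearMap.trace_eq_matrix_trace ℂ (Pi.basisFun ℂ (Fin n)) f,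
      LinearMap.toMatrix_eq_toMatrix']
  · rw [← hp, ← Matrix.det_eq_prod_roots_charpoly, hA, LinearMap.det_toMatrix']

/-- Facts about an involution `t` normalizing a finite subgroup `P`, in a representation `ρ`
with `det (ρ t) = 1`: the character value `s` at `t` is an integer with `n - s` divisible by 4,
and `(∑_{z ∈ P} χ(z)) ∓ (∑_{z ∈ P} χ(t z))` are `2 |P|` times natural numbers (the
multiplicities of the two extensions of `1_P` to `P⟨t⟩`). -/
theorem rep_involution_facts {G : Type*} [Group G] {n : ℕ}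
    (ρ : Representation ℂ G (Fin n → ℂ)) (t : G) (ht : t * t = 1) (P : Subgroup G) [Fintype P]
    (hN : ∀ z ∈ P, t * z * t⁻¹ ∈ P) (hdet : LinearMap.det (ρ t) = 1) :
    ∃ (s : ℤ) (q q₁ q₂ : ℕ), ρ.character t = s ∧ (n : ℤ) - s = 4 * q ∧
      (∑ z : P, ρ.character (z : G)) - ∑ z : P, ρ.character (t * z) =
        (Fintype.card P : ℂ) * (2 * q₁) ∧
      (∑ z : P, ρ.character (z : G)) + ∑ z : P, ρ.character (t * z) =
        (Fintype.card P : ℂ) * (2 * q₂) := by
  classical
  obtain ⟨T, hT⟩ : ∃ T : Module.End ℂ (Fin n → ℂ), T = ρ t := ⟨_, rfl⟩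
  have hTT : T * T = 1 := by rw [hT, ← map_mul, ht, map_one]
  have htinv : t⁻¹ = t := inv_eq_of_mul_eq_one_left ht
  have hcard0 : (Fintype.card P : ℂ) ≠ 0 := by
    exact_mod_cast Fintype.card_ne_zero
  -- the averaging idempotent
  obtain ⟨S₀, hS₀⟩ : ∃ S₀ : Module.End ℂ (Fin n → ℂ), S₀ = ∑ z : P, ρ (z : G) := ⟨_, rfl⟩
  obtain ⟨E, hE⟩ : ∃ E : Module.End ℂ (Fin n → ℂ), E = (Fintype.card P : ℂ)⁻¹ • S₀ := ⟨_, rfl⟩
  have hw : ∀ w : P, ρ (w : G) * S₀ = S₀ := by
    intro w
    rw [hS₀, Finset.mul_sum]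
    rw [← Fintype.sum_equiv (Equiv.mulLeft w) (fun z : P => ρ (w : G) * ρ (z : G))
      (fun z : P => ρ (z : G))]
    intro z
    rw [Equiv.coe_mulLeft, Subgroup.coe_mul, map_mul]
  have hSS : S₀ * S₀ = (Fintype.card P : ℂ) • S₀ := by
    conv_lhs => rw [hS₀, Finset.sum_mul]
    rw [← hS₀, Finset.sum_congr rfl (fun w _ => hw w), Finset.sum_const, Finset.card_univ,
      ← Nat.cast_smul_eq_nsmul ℂ]
  have hEE : E * E = E := by
    rw [hE, smul_mul_smul_comm, hSS, smul_smul, mul_assoc, inv_mul_cancel₀ hcard0, mul_one]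
  have hTS : T * S₀ = S₀ * T := by
    rw [hS₀, Finset.mul_sum, Finset.sum_mul]
    let σ : P ≃ P :=
      { toFun := fun z => ⟨t * z * t⁻¹, hN z z.2⟩
        invFun := fun z => ⟨t * z * t⁻¹, hN z z.2⟩
        left_inv := fun z => by
          apply Subtype.ext
          show t * (t * (z : G) * t⁻¹) * t⁻¹ = z
          rw [htinv]
          calc t * (t * (z : G) * t) * t = (t * t) * (z : G) * (t * t) := by group
            _ = z := by rw [ht, one_mul, mul_one]
        right_inv := fun z => by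
          apply Subtype.ext
          show t * (t * (z : G) * t⁻¹) * t⁻¹ = z
          rw [htinv]
          calc t * (t * (z : G) * t) * t = (t * t) * (z : G) * (t * t) := by group
            _ = z := by rw [ht, one_mul, mul_one] }
    rw [← Fintype.sum_equiv σ (fun z : P => ρ ((σ z : P) : G) * T) (fun z : P => ρ (z : G) * T)
      (fun z => rfl)]
    apply Finset.sum_congr rfl
    intro z _
    rw [hT, ← map_mul, ← map_mul]
    congr 1
    show t * (z : G) = t * (z : G) * t⁻¹ * t
    group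
  have hTE : T * E = E * T := by
    rw [hE, mul_smul_comm, hTS, smul_mul_assoc]
  have hETE : E * (T * E) = T * E := by
    rw [← mul_assoc, ← hTE, mul_assoc, hEE]
  have hTETE : T * E * (T * E) = E := by
    rw [mul_assoc, hETE, ← mul_assoc, hTT, one_mul]
  have hb : T * E * (1 - E) = 0 := by
    rw [mul_sub, mul_one, mul_assoc, hEE, sub_self]
  have hc : (1 - E) * (T * E) = 0 := by
    rw [sub_mul, one_mul, hETE, sub_self]
  have hd : (1 - E) * (1 - E) = 1 - E := by
    rw [mul_sub, mul_one, sub_mul, one_mul, hEE, sub_self, sub_zero]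
  have key₁ : ∀ a b : Module.End ℂ (Fin n → ℂ),
      (b + a) * (b + a) = b * b + b * a + a * b + a * a := by
    intro a b
    rw [add_mul, mul_add, mul_add]
    abel
  have key₂ : ∀ a b : Module.End ℂ (Fin n → ℂ),
      (a - b) * (a - b) = a * a - a * b - b * a + b * b := by
    intro a b
    rw [sub_mul, mul_sub, mul_sub]
    abel
  have hg₁ : (T * E + (1 - E)) * (T * E + (1 - E)) = 1 := by
    rw [key₁, hTETE, hb, hc, hd]
    abel
  have hg₂ : ((1 - E) - T * E) * ((1 - E) - T * E) = 1 := by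
    rw [key₂, hTETE, hb, hc, hd]
    abel
  -- traces
  have htr1 : LinearMap.trace ℂ (Fin n → ℂ) (1 : Module.End ℂ (Fin n → ℂ)) = n := by
    rw [LinearMap.trace_one]
    simp
  have htrE : LinearMap.trace ℂ (Fin n → ℂ) E =
      (Fintype.card P : ℂ)⁻¹ * ∑ z : P, ρ.character (z : G) := by
    rw [hE, hS₀, map_smul, map_sum, smul_eq_mul]
    rfl
  have htrTE : LinearMap.trace ℂ (Fin n → ℂ) (T * E) =
      (Fintype.card P : ℂ)⁻¹ * ∑ z : P, ρ.character (t * z) := by
    rw [hE, hS₀, mul_smul_comm, Finset.mul_sum, map_smul, map_sum, smul_eq_mul]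
    congr 1
    apply Finset.sum_congr rfl
    intro z _
    rw [hT, ← map_mul]
    rfl
  obtain ⟨q₀, -, hq₀tr, hq₀det⟩ := involution_trace_det T hTT
  obtain ⟨q₁, -, hq₁tr, -⟩ := involution_trace_det _ hg₁
  obtain ⟨q₂, -, hq₂tr, -⟩ := involution_trace_det _ hg₂
  rw [map_add, map_sub, htr1, htrE, htrTE] at hq₁tr
  rw [map_sub, map_sub, htr1, htrE, htrTE] at hq₂tr
  have heven : Even q₀ := by
    rw [hT, hdet] at hq₀det
    by_contra hodd
    rw [Nat.not_even_iff_odd] at hodd
    rw [hodd.neg_one_pow] at hq₀det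
    norm_num at hq₀det
  obtain ⟨q, hq⟩ := heven
  refine ⟨(n : ℤ) - 4 * q, q, q₁, q₂, ?_, by ring, ?_, ?_⟩
  · have h1 : ρ.character t = LinearMap.trace ℂ (Fin n → ℂ) T := by rw [hT]; rfl
    rw [h1, hq₀tr, hq]
    push_cast
    ring
  · field_simp at hq₁tr
    linear_combination -hq₁tr
  · field_simp at hq₂tr
    linear_combination -hq₂tr

end Cfsg.Agent.Lib.helper11
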