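import Mathlib
import Cfsg.Agent.Lib.helper32.Dih2
import Cfsg.Agent.Lib.helper11.InvDet
import Cfsg.Agent.Lib.helper11.FrobInv

/-!
# Characters of a group with a self-centralizing subgroup of prime order `p` whose normalizer
has order `p (p - 1)` (helper11)

`P ≤ G` of prime order `p`, `C_G(P) ≤ P`, `|N_G(P)| = p e` with `p = e + 1`.  For a nontrivial
linear character `λ` of `P`, `β = (1_P - λ)^G` has norm `p`, and for every irreducible `ψ` of `G`
with `c = ⟨β, ψ⟩`: `ψ|_P` contains `1_P` with multiplicity `a` and every nontrivial character with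
multiplicity `b`, where `c = a - b`.
-/

set_option autoImplicit false

namespace Cfsg.Agent.Lib.helper11

open Cfsg Cfsg.Agent.Lib.helper4 Cfsg.Agent.Lib.helper21
open scoped ComplexConjugate

universe u

section FrobChar

variable {G : Type u} [Group G] [Fintype G]

/-- `β = (1_P - λ)^G` has integer coefficients whose squares add up to `e + 1`. -/
theorem frob_beta [Fintype (IrrCharacter G)] {p e : ℕ} (hp : p.Prime) (P : Subgroup G)
    (hP : Nat.card P = p) (hC : Subgroup.centralizer (P : Set G) ≤ P)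
    (hN : Nat.card (Subgroup.normalizer (P : Set G)) = p * e) :
    ∃ (lam : P → ℂ) (c : IrrCharacter G → ℤ), IsIrrCharacter P lam ∧ lam ≠ (fun _ => 1) ∧
      indFun P ((fun _ => (1 : ℂ)) - lam) = ∑ ψ : IrrCharacter G, (c ψ : ℂ) • (ψ : G → ℂ) ∧
      (∀ ψ : IrrCharacter G,
        classInner (indFun P ((fun _ => (1 : ℂ)) - lam)) (ψ : G → ℂ) = c ψ) ∧
      ∑ ψ : IrrCharacter G, c ψ ^ 2 = (e : ℤ) + 1 := by
  classical
  have : Fintype P := Fintype.ofFinite P
  have : Fintype (IrrCharacter P) := Fintype.ofFinite _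
  have hpC : (p : ℂ) ≠ 0 := by exact_mod_cast hp.ne_zero
  have h1P : IsIrrCharacter P (fun _ => (1 : ℂ)) := isIrrCharacter_one
  have hcardIrr : Fintype.card (IrrCharacter P) = p := by
    have h := sum_irr_degree_sq (G := P)
    have h2 : ∀ χ : IrrCharacter P, (χ : P → ℂ) 1 ^ 2 = 1 := fun χ => by
      rw [irr_apply_one_of_prime_card hp hP χ.2, one_pow]
    rw [Finset.sum_congr rfl (fun χ _ => h2 χ), Finset.sum_const, Finset.card_univ, hP] at h
    simpa using h
  obtain ⟨lamI, hlamI⟩ : ∃ l : IrrCharacter P, l ≠ ⟨fun _ => (1 : ℂ), h1P⟩ := by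
    have : Nontrivial (IrrCharacter P) := by
      rw [← Fintype.one_lt_card_iff_nontrivial, hcardIrr]; exact hp.one_lt
    exact exists_ne _
  obtain ⟨lam, hlam⟩ : ∃ lam : P → ℂ, lam = (lamI : P → ℂ) := ⟨_, rfl⟩
  have hlm : IsIrrCharacter P lam := by rw [hlam]; exact lamI.2
  have hlm1 : lam ≠ fun _ => (1 : ℂ) := fun h => hlamI (Subtype.ext (by rw [← hlam, h]))
  obtain ⟨β, hβ⟩ : ∃ β : G → ℂ, β = indFun P ((fun _ => (1 : ℂ)) - lam) := ⟨_, rfl⟩
  have hβeq : β = indFun P (fun _ => (1 : ℂ)) - indFun P lam := by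
    rw [hβ]; exact indFun_sub P _ lam
  have hnorm : classInner β β = (e : ℂ) + 1 := by
    rw [hβeq, classInner_indFun_sub_indFun_sub hp hP h1P hlm,
      tiK_eq_tiCount hp hP h1P h1P, tiK_eq_tiCount hp hP h1P hlm,
      tiK_eq_tiCount hp hP hlm h1P, tiK_eq_tiCount hp hP hlm hlm,
      tiCount_one_one, tiCount_one_right hlm1, tiCount_one_left hlm1,
      tiCount_self hp hP hC hlm hlm1, hN, hP]
    push_cast
    field_simp
    ring
  have hgen : IsGeneralizedCharacter G β := by
    rw [hβeq]
    exact isGeneralizedCharacter_sub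
      (isGeneralizedCharacter_of_isCharacter
        (isCharacter_indFun P (isCharacter_of_isIrrCharacter h1P)))
      (isGeneralizedCharacter_of_isCharacter
        (isCharacter_indFun P (isCharacter_of_isIrrCharacter hlm)))
  obtain ⟨c, hcsum, hcin, hcnorm⟩ := exists_int_coeff hgen
  refine ⟨lam, c, hlm, hlm1, ?_, ?_, ?_⟩
  · rw [← hβ]; exact hcsum
  · rw [← hβ]; exact hcin
  · rw [hnorm] at hcnorm
    exact_mod_cast hcnorm.symm

/-- If `|N_G(P)| = p (p - 1)`, all nontrivial linear characters of `P` induce the same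
function on `G`. -/
theorem frob_indFun_eq {p e : ℕ} (hp : p.Prime) (P : Subgroup G)
    (hP : Nat.card P = p) (hC : Subgroup.centralizer (P : Set G) ≤ P)
    (hN : Nat.card (Subgroup.normalizer (P : Set G)) = p * e) (hpe : p = e + 1)
    {a b : P → ℂ} (ha : IsIrrCharacter P a) (hb : IsIrrCharacter P b)
    (ha1 : a ≠ fun _ => 1) (hb1 : b ≠ fun _ => 1) : indFun P a = indFun P b := by
  classical
  have : Fintype P := Fintype.ofFinite P
  have : Fintype (IrrCharacter P) := Fintype.ofFinite _
  have h1P : IsIrrCharacter P (fun _ => (1 : ℂ)) := isIrrCharacter_one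
  have hcardIrr : Fintype.card (IrrCharacter P) = p := by
    have h := sum_irr_degree_sq (G := P)
    have h2 : ∀ χ : IrrCharacter P, (χ : P → ℂ) 1 ^ 2 = 1 := fun χ => by
      rw [irr_apply_one_of_prime_card hp hP χ.2, one_pow]
    rw [Finset.sum_congr rfl (fun χ _ => h2 χ), Finset.sum_const, Finset.card_univ, hP] at h
    simpa using h
  by_contra hne
  have hsum := sum_tiCount (G := G) hp hP hb
  rw [hN] at hsum
  obtain ⟨triv, htriv⟩ : ∃ t : IrrCharacter P, t = ⟨fun _ => (1 : ℂ), h1P⟩ := ⟨_, rfl⟩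
  obtain ⟨aI, haI⟩ : ∃ t : IrrCharacter P, t = ⟨a, ha⟩ := ⟨_, rfl⟩
  have hne' : aI ≠ triv := by
    rw [haI, htriv]
    intro h
    exact ha1 (congrArg Subtype.val h)
  have h0t : tiCount P (triv : P → ℂ) b = 0 := by
    rw [htriv]; exact tiCount_one_right hb1
  have h0a : tiCount P (aI : P → ℂ) b = 0 := by
    rw [haI]; exact tiCount_eq_zero_of_indFun_ne hne
  have e1 : ∑ x ∈ Finset.univ.erase triv, tiCount P (x : P → ℂ) b =
      ∑ x : IrrCharacter P, tiCount P (x : P → ℂ) b :=
    Finset.sum_erase (f := fun x : IrrCharacter P => tiCount P (x : P → ℂ) b) Finset.univ h0t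
  have e2 : ∑ x ∈ (Finset.univ.erase triv).erase aI, tiCount P (x : P → ℂ) b =
      ∑ x ∈ Finset.univ.erase triv, tiCount P (x : P → ℂ) b :=
    Finset.sum_erase (f := fun x : IrrCharacter P => tiCount P (x : P → ℂ) b) _ h0a
  rw [← e1, ← e2] at hsum
  have hle : ∑ x ∈ (Finset.univ.erase triv).erase aI, tiCount P (x : P → ℂ) b ≤
      ((Finset.univ.erase triv).erase aI).card • p := by
    apply Finset.sum_le_card_nsmul
    intro x hx
    have hx1 : x ≠ triv := Finset.ne_of_mem_erase (Finset.mem_of_mem_erase hx)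
    by_cases hxb : indFun P (x : P → ℂ) = indFun P b
    · rw [tiCount_of_indFun_eq hp hP hC x.2 hb (fun h => hx1 (by
        rw [htriv]; exact Subtype.ext h)) hb1 hxb, hP]
    · rw [tiCount_eq_zero_of_indFun_ne hxb]
      exact Nat.zero_le _
  rw [hsum, Finset.card_erase_of_mem (Finset.mem_erase.mpr ⟨hne', Finset.mem_univ _⟩),
    Finset.card_erase_of_mem (Finset.mem_univ _), Finset.card_univ, hcardIrr, smul_eq_mul] at hle
  have hp2 : 2 ≤ p := hp.two_le
  have : p * e ≤ (p - 1 - 1) * p := hle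
  have h3 : (p - 1 - 1) * p < e * p := by
    apply Nat.mul_lt_mul_of_pos_right _ hp.pos
    omega
  nlinarith

/-- Multiplicities of the linear characters of `P` in the restriction of an irreducible
character `ψ` of `G`: `1_P` occurs `a` times, every nontrivial character `b` times. -/
theorem frob_mult {p e : ℕ} (hp : p.Prime) (P : Subgroup G) [Fintype P]
    (hP : Nat.card P = p) (hC : Subgroup.centralizer (P : Set G) ≤ P)
    (hN : Nat.card (Subgroup.normalizer (P : Set G)) = p * e) (hpe : p = e + 1)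
    {lam : P → ℂ} (hlm : IsIrrCharacter P lam) (hlm1 : lam ≠ fun _ => 1)
    (ψ : IrrCharacter G) :
    ∃ a b : ℕ, ∑ z : P, (ψ : G → ℂ) (z : G) = (p : ℂ) * a ∧
      (ψ : G → ℂ) 1 = (a : ℂ) + e * b ∧
      classInner (indFun P ((fun _ => (1 : ℂ)) - lam)) (ψ : G → ℂ) = (a : ℂ) - b := by
  classical
  have : Fintype (IrrCharacter P) := Fintype.ofFinite _
  have hpC : (p : ℂ) ≠ 0 := by exact_mod_cast hp.ne_zero
  have h1P : IsIrrCharacter P (fun _ => (1 : ℂ)) := isIrrCharacter_one
  have hcardIrr : Fintype.card (IrrCharacter P) = p := by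
    have h := sum_irr_degree_sq (G := P)
    have h2 : ∀ χ : IrrCharacter P, (χ : P → ℂ) 1 ^ 2 = 1 := fun χ => by
      rw [irr_apply_one_of_prime_card hp hP χ.2, one_pow]
    rw [Finset.sum_congr rfl (fun χ _ => h2 χ), Finset.sum_const, Finset.card_univ, hP] at h
    simpa using h
  obtain ⟨res, hres⟩ : ∃ res : P → ℂ, res = fun h : P => (ψ : G → ℂ) h := ⟨_, rfl⟩
  have hresC : IsCharacter P res := by
    rw [hres]
    exact isCharacter_restrict P (isCharacter_of_isIrrCharacter ψ.2)
  have hψcl : IsClassFunction G (ψ : G → ℂ) := isClassFunction_of_isIrrCharacter ψ.2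
  obtain ⟨a, ha⟩ := exists_nat_classInner_irr hresC h1P
  obtain ⟨b, hb⟩ := exists_nat_classInner_irr hresC hlm
  have hla : classInner lam res = b := by
    rw [← classInner_conj_symm res lam, hb, Complex.conj_natCast]
  have h1a : classInner (fun _ : P => (1 : ℂ)) res = a := by
    rw [← classInner_conj_symm res (fun _ => 1), ha, Complex.conj_natCast]
  refine ⟨a, b, ?_, ?_, ?_⟩
  · have h1 := ha
    unfold classInner at h1
    rw [hP] at h1
    have h2 : ∑ g : P, res g * conj ((fun _ : P => (1 : ℂ)) g) = ∑ z : P, (ψ : G → ℂ) (z : G) := by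
      apply Finset.sum_congr rfl
      intro z _
      rw [hres]
      simp
    rw [h2] at h1
    rw [← h1]
    field_simp
  · obtain ⟨c', hc'sum, hc'in, -⟩ := exists_int_coeff (isGeneralizedCharacter_of_isCharacter hresC)
    obtain ⟨triv, htriv⟩ : ∃ t : IrrCharacter P, t = ⟨fun _ => (1 : ℂ), h1P⟩ := ⟨_, rfl⟩
    have hval : ∀ μ : IrrCharacter P, μ ≠ triv → (c' μ : ℂ) = b := by
      intro μ hμ
      have hμ1 : (μ : P → ℂ) ≠ fun _ => 1 := by
        intro h
        apply hμ
        rw [htriv]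
        exact Subtype.ext h
      have e1 := frobenius_reciprocity P (μ : P → ℂ) hψcl
      have e2 := frobenius_reciprocity P lam hψcl
      rw [← hres] at e1 e2
      have hμres : classInner (μ : P → ℂ) res = b := by
        rw [← e1, frob_indFun_eq hp P hP hC hN hpe μ.2 hlm hμ1 hlm1, e2, hla]
      rw [← hc'in μ, ← classInner_conj_symm (μ : P → ℂ) res, hμres, Complex.conj_natCast]
    have hvalt : (c' triv : ℂ) = a := by
      rw [← hc'in triv, htriv]
      exact ha
    have h1 := congrFun hc'sum 1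
    rw [Finset.sum_apply] at h1
    have h2 : res 1 = (ψ : G → ℂ) 1 := by rw [hres]; rfl
    rw [h2] at h1
    rw [h1, ← Finset.add_sum_erase Finset.univ _ (Finset.mem_univ triv)]
    have h3 : ∀ μ : IrrCharacter P, ((c' μ : ℂ) • (μ : P → ℂ)) 1 = c' μ := by
      intro μ
      rw [Pi.smul_apply, irr_apply_one_of_prime_card hp hP μ.2, smul_eq_mul, mul_one]
    rw [h3 triv, hvalt]
    congr 1
    rw [Finset.sum_congr rfl (fun μ hμ => by
      rw [h3 μ, hval μ (Finset.ne_of_mem_erase hμ)]), Finset.sum_const,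
      Finset.card_erase_of_mem (Finset.mem_univ _), Finset.card_univ, hcardIrr, hpe]
    simp
  · have e3 := frobenius_reciprocity P ((fun _ : P => (1 : ℂ)) - lam) hψcl
    rw [← hres] at e3
    rw [e3, classInner_sub_left, h1a, hla]

end FrobChar

end Cfsg.Agent.Lib.helper11
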