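import Mathlib
import Cfsg.Agent.Lib.helper11.FrobChar

/-!
# Numerical character data for a simple group with a Frobenius normalizer `p : (p - 1)`
(helper11)

`G` simple of non-prime order, `P ≤ G` of odd prime order `p`, `C_G(P) ≤ P`,
`|N_G(P)| = p (p - 1)`, `t ∈ N_G(P)` an involution.  `frob_data` collects, for every irreducible
character `ψ` of `G`: the coefficient `c ψ` of `ψ` in `(1_P - λ)^G`, the degree `d ψ`, the value
`s ψ = ψ(t)`, the multiplicities `a ψ`, `b ψ` of the trivial / a nontrivial character of `P`, with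
all the relations between them, and the class equation
`p |C(t)|² = |G| ∑ c ψ s ψ² / d ψ`.
-/

set_option autoImplicit false

namespace Cfsg.Agent.Lib.helper11

open Cfsg Cfsg.Agent.Lib.helper4 Cfsg.Agent.Lib.helper21
open scoped ComplexConjugate

universe u

section FrobData

variable {G : Type u} [Group G] [Fintype G]

/-- In a simple group of non-prime order every representation has determinant one. -/
theorem det_eq_one_of_simple [IsSimpleGroup G] (hnp : ¬ (Nat.card G).Prime) {n : ℕ}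
    (ρ : Representation ℂ G (Fin n → ℂ)) (g : G) : LinearMap.det (ρ g) = 1 := by
  obtain ⟨φ, hφ⟩ : ∃ φ : G →* ℂˣ, φ = Cfsg.Agent.Lib.helper19.detHom ρ := ⟨_, rfl⟩
  rcases φ.normal_ker.eq_bot_or_eq_top with h | h
  · exfalso
    have hinj : Function.Injective φ := (MonoidHom.ker_eq_bot_iff φ).mp h
    have hcomm : ∀ a b : G, a * b = b * a := fun a b => hinj (by
      rw [map_mul, map_mul, mul_comm])
    exact hnp (prime_card_of_simple_of_isCyclic (isCyclic_of_simple_of_comm hcomm))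
  · have h1 : g ∈ φ.ker := by rw [h]; trivial
    have h2 := MonoidHom.mem_ker.mp h1
    have h3 := Cfsg.Agent.Lib.helper19.detHom_apply ρ g
    rw [← hφ, h2] at h3
    simpa using h3.symm

/-- The value at the involution `t` of an irreducible character `ψ`, with its congruences. -/
theorem frob_rep_facts [IsSimpleGroup G] (hnp : ¬ (Nat.card G).Prime) {p : ℕ} (hp : p.Prime)
    (hp2 : p ≠ 2) (P : Subgroup G) [Fintype P] (hP : Nat.card P = p)
    (hC : Subgroup.centralizer (P : Set G) ≤ P) (t : G)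
    (htN : t ∈ Subgroup.normalizer (P : Set G)) (ht : t * t = 1) (ht1 : t ≠ 1)
    (ψ : IrrCharacter G) (a : ℕ) (ha : ∑ z : P, (ψ : G → ℂ) (z : G) = (p : ℂ) * a) :
    ∃ (s : ℤ) (q q₁ q₂ : ℕ), (ψ : G → ℂ) t = s ∧
      (charDegree (ψ : G → ℂ) : ℤ) - s = 4 * q ∧ (a : ℤ) - s = 2 * q₁ ∧
      (a : ℤ) + s = 2 * q₂ := by
  have hpC : (p : ℂ) ≠ 0 := by exact_mod_cast hp.ne_zero
  obtain ⟨n, ρ, hρ, hχ⟩ := ψ.2
  have hn : charDegree (ψ : G → ℂ) = n := by
    have h1 := Cfsg.Agent.Lib.helper82.irr_one_eq ψ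
    have h2 : ρ.character 1 = (n : ℂ) := by simp
    rw [← hχ, h2] at h1
    rw [← hχ]
    exact_mod_cast h1.symm
  have hinv := frob_inverts hp hp2 P hP hC t htN ht ht1
  have hNt : ∀ z ∈ P, t * z * t⁻¹ ∈ P := fun z hz => by
    rw [hinv z hz]; exact inv_mem hz
  obtain ⟨s, q, q₁, q₂, hs, hq, hq₁, hq₂⟩ :=
    rep_involution_facts ρ t ht P hNt (det_eq_one_of_simple hnp ρ t)
  rw [hχ] at hs hq₁ hq₂
  have hcl : IsClassFunction G (ψ : G → ℂ) := isClassFunction_of_isIrrCharacter ψ.2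
  have hsum : ∑ z : P, (ψ : G → ℂ) (t * z) = (p : ℂ) * s := by
    have h1 : ∀ z ∈ (Finset.univ : Finset P), (ψ : G → ℂ) (t * (z : G)) = s := by
      intro z _
      obtain ⟨c, hc⟩ := isConj_iff.mp (frob_conj hp hp2 P hP t hinv z z.2)
      rw [← hc, hcl, hs]
    rw [Finset.sum_congr rfl h1, Finset.sum_const, Finset.card_univ,
      ← Nat.card_eq_fintype_card, hP]
    simp
  rw [ha, hsum, ← Nat.card_eq_fintype_card, hP] at hq₁ hq₂
  refine ⟨s, q, q₁, q₂, hs, by rw [hn]; exact hq, ?_, ?_⟩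
  · have h : (((a : ℤ) - s : ℤ) : ℂ) = ((2 * q₁ : ℤ) : ℂ) := by
      push_cast
      apply mul_left_cancel₀ hpC
      linear_combination hq₁
    exact_mod_cast h
  · have h : (((a : ℤ) + s : ℤ) : ℂ) = ((2 * q₂ : ℤ) : ℂ) := by
      push_cast
      apply mul_left_cancel₀ hpC
      linear_combination hq₂
    exact_mod_cast h

/-- The numerical character data of a simple group with a Frobenius normalizer of order
`p (p - 1)` and an involution `t` in it. -/
theorem frob_data [IsSimpleGroup G] [Fintype (IrrCharacter G)] (hnp : ¬ (Nat.card G).Prime)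
    {p e : ℕ} (hp : p.Prime) (hp2 : p ≠ 2) (P : Subgroup G) (hP : Nat.card P = p)
    (hC : Subgroup.centralizer (P : Set G) ≤ P)
    (hN : Nat.card (Subgroup.normalizer (P : Set G)) = p * e) (hpe : p = e + 1) (t : G)
    (htN : t ∈ Subgroup.normalizer (P : Set G)) (ht : t * t = 1) (ht1 : t ≠ 1) :
    ∃ (c s : IrrCharacter G → ℤ) (d a b : IrrCharacter G → ℕ) (triv : IrrCharacter G),
      c triv = 1 ∧ d triv = 1 ∧ s triv = 1 ∧
      ∑ ψ, c ψ ^ 2 = (e : ℤ) + 1 ∧
      (∀ ψ, d ψ ∣ Nat.card G) ∧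
      ∑ ψ, d ψ ^ 2 = Nat.card G ∧
      (∀ ψ, ψ ≠ triv → 2 ≤ d ψ) ∧
      (∀ ψ, d ψ = a ψ + e * b ψ) ∧ (∀ ψ, c ψ = (a ψ : ℤ) - b ψ) ∧
      (∀ ψ, ∃ q q₁ q₂ : ℕ, (d ψ : ℤ) - s ψ = 4 * q ∧ (a ψ : ℤ) - s ψ = 2 * q₁ ∧
        (a ψ : ℤ) + s ψ = 2 * q₂) ∧
      ∑ ψ, c ψ * d ψ = 0 ∧ ∑ ψ, c ψ * s ψ = 0 ∧
      (p : ℂ) * (Nat.card (Subgroup.centralizer ({t} : Set G)) : ℂ) ^ 2 =
        (Nat.card G : ℂ) * ∑ ψ : IrrCharacter G, (c ψ : ℂ) * (s ψ : ℂ) ^ 2 / (d ψ : ℂ) := by
  classical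
  have : Fintype P := Fintype.ofFinite P
  have hpC : (p : ℂ) ≠ 0 := by exact_mod_cast hp.ne_zero
  obtain ⟨lam, c, hlm, hlm1, hsum, hin, hsq⟩ := frob_beta hp P hP hC hN
  obtain ⟨β, hβ⟩ : ∃ β : G → ℂ, β = indFun P ((fun _ => (1 : ℂ)) - lam) := ⟨_, rfl⟩
  rw [← hβ] at hsum hin
  choose a b hab1 hab2 hab3 using
    fun ψ : IrrCharacter G => frob_mult hp P hP hC hN hpe hlm hlm1 ψ
  choose s q q₁ q₂ hs hq hq₁ hq₂ using fun ψ : IrrCharacter G =>
    frob_rep_facts hnp hp hp2 P hP hC t htN ht ht1 ψ (a ψ) (hab1 ψ)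
  have h1G : IsIrrCharacter G (fun _ => (1 : ℂ)) := isIrrCharacter_one
  have h1P : IsIrrCharacter P (fun _ => (1 : ℂ)) := isIrrCharacter_one
  obtain ⟨triv, htriv⟩ : ∃ t : IrrCharacter G, t = ⟨fun _ => (1 : ℂ), h1G⟩ := ⟨_, rfl⟩
  have htrivval : (triv : G → ℂ) = fun _ => (1 : ℂ) := by rw [htriv]
  have hd : ∀ ψ : IrrCharacter G, (ψ : G → ℂ) 1 = (charDegree (ψ : G → ℂ) : ℂ) :=
    fun ψ => Cfsg.Agent.Lib.helper82.irr_one_eq ψ
  have hlmone : lam 1 = 1 := irr_apply_one_of_prime_card hp hP hlm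
  have hβ1 : β 1 = 0 := by
    rw [hβ, indFun_one, Pi.sub_apply, hlmone, sub_self, mul_zero]
  have htP : ∀ x : G, x⁻¹ * t * x ∉ P := by
    intro x h
    have h1 : (x⁻¹ * t * x) * (x⁻¹ * t * x) = 1 := by
      calc (x⁻¹ * t * x) * (x⁻¹ * t * x) = x⁻¹ * (t * t) * x := by group
        _ = 1 := by rw [ht]; group
    have h2 : orderOf (x⁻¹ * t * x) ∣ 2 :=
      orderOf_dvd_of_pow_eq_one (by rw [pow_two]; exact h1)
    have h3 : orderOf (x⁻¹ * t * x) ∣ p := by
      have h4 := orderOf_dvd_natCard (⟨x⁻¹ * t * x, h⟩ : P)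
      rwa [hP, Subgroup.orderOf_mk] at h4
    have h5 : Nat.gcd 2 p = 1 := (Nat.coprime_primes Nat.prime_two hp).mpr (Ne.symm hp2)
    have h6 := Nat.dvd_gcd h2 h3
    rw [h5, Nat.dvd_one] at h6
    have h7 := orderOf_eq_one_iff.mp h6
    apply ht1
    have h' : t = x * (x⁻¹ * t * x) * x⁻¹ := by group
    rw [h', h7]
    group
  have hβt : β t = 0 := by
    rw [hβ, indFun_apply, Finset.sum_eq_zero, mul_zero]
    intro x _
    exact extendByZero_apply_of_not_mem _ _ (htP x)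
  have hval : ∀ g : G, β g = ∑ ψ : IrrCharacter G, (c ψ : ℂ) * (ψ : G → ℂ) g := by
    intro g
    have h := congrFun hsum g
    rw [Finset.sum_apply] at h
    rw [h]
    apply Finset.sum_congr rfl
    intro ψ _
    rw [Pi.smul_apply, smul_eq_mul]
  have hone : classInner β (triv : G → ℂ) = 1 := by
    rw [hβ, frobenius_reciprocity P _ (isClassFunction_of_isIrrCharacter triv.2),
      classInner_sub_left]
    have e : (fun h : P => (triv : G → ℂ) h) = fun _ => (1 : ℂ) := by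
      funext h; rw [htrivval]
    rw [e, classInner_irr h1P h1P, classInner_irr hlm h1P, if_pos rfl, if_neg hlm1, sub_zero]
  have hctriv : c triv = 1 := by
    have h := hin triv
    rw [hone] at h
    exact_mod_cast h.symm
  have hd0 : ∀ ψ : IrrCharacter G, (charDegree (ψ : G → ℂ) : ℂ) ≠ 0 := by
    intro ψ
    have := Cfsg.Agent.Lib.helper82.irr_charDegree_pos ψ
    exact_mod_cast this.ne'
  refine ⟨c, s, fun ψ => charDegree (ψ : G → ℂ), a, b, triv, hctriv, ?_, ?_, hsq, ?_, ?_, ?_,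
    ?_, ?_, ?_, ?_, ?_, ?_⟩
  · have h : (1 : ℂ) = (charDegree (triv : G → ℂ) : ℂ) := by rw [← hd triv, htrivval]
    show charDegree (triv : G → ℂ) = 1
    exact_mod_cast h.symm
  · have h : (1 : ℂ) = (s triv : ℂ) := by rw [← hs triv, htrivval]
    exact_mod_cast h.symm
  · exact fun ψ => Cfsg.Agent.Lib.helper82.irr_degree_dvd_card ψ
  · have h := sum_irr_degree_sq (G := G)
    rw [Finset.sum_congr rfl (fun ψ _ => by rw [hd ψ])] at h
    exact_mod_cast h
  · intro ψ hψ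
    exact one_lt_charDegree_of_simple hnp ψ (fun h => hψ (by rw [htriv]; exact Subtype.ext h))
  · intro ψ
    have h := hab2 ψ
    rw [hd ψ] at h
    exact_mod_cast h
  · intro ψ
    have h := hin ψ
    rw [hβ, hab3 ψ] at h
    exact_mod_cast h.symm
  · intro ψ
    exact ⟨q ψ, q₁ ψ, q₂ ψ, hq ψ, hq₁ ψ, hq₂ ψ⟩
  · have h := hval 1
    rw [hβ1, Finset.sum_congr rfl (fun ψ _ => by rw [hd ψ])] at h
    exact_mod_cast h.symm
  · have h := hval t
    rw [hβt, Finset.sum_congr rfl (fun ψ _ => by rw [hs ψ])] at h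
    exact_mod_cast h.symm
  · have hF : IsClassFunction G (classProd t) := isClassFunction_classProd t
    have hconj : ∀ g, conj (classProd t g) = classProd t g := by
      intro g
      unfold classProd
      rw [map_sum]
      apply Finset.sum_congr rfl
      intro x _
      split_ifs <;> simp
    have hsumlam : ∑ y : P, lam y = 0 := by
      have h := classInner_irr hlm h1P
      rw [if_neg hlm1] at h
      unfold classInner at h
      rcases mul_eq_zero.mp h with h | h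
      · exact absurd (inv_eq_zero.mp h) (by rw [hP]; exact hpC)
      · simpa using h
    have hQ1 : classInner β (classProd t) = p := by
      rw [hβ, frobenius_reciprocity P _ hF]
      unfold classInner
      rw [hP]
      have hterm : ∀ y : P, ((fun _ : P => (1 : ℂ)) - lam) y * conj (classProd t (y : G)) =
          (1 - lam y) * p := by
        intro y
        by_cases hy : y = 1
        · rw [hy, Pi.sub_apply, hlmone]; simp
        · rw [hconj, frob_classProd hp hp2 P hP hC t htN ht ht1 y y.2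
            (fun h => hy (Subtype.ext h)), Pi.sub_apply]
      rw [Finset.sum_congr rfl (fun y _ => hterm y), ← Finset.sum_mul, Finset.sum_sub_distrib,
        hsumlam, Finset.sum_const, Finset.card_univ, ← Nat.card_eq_fintype_card, hP]
      simp
      field_simp
    have hG0 : (Nat.card G : ℂ) ≠ 0 := by
      have : 0 < Nat.card G := Nat.card_pos
      exact_mod_cast this.ne'
    have hQ2 : classInner β (classProd t) = (Nat.card G : ℂ)⁻¹ *
        ∑ ψ : IrrCharacter G, (c ψ : ℂ) *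
          ((ψ : G → ℂ) 1 * (centralChar (ψ : G → ℂ) t) ^ 2) := by
      unfold classInner
      congr 1
      have h1 : ∀ ψ : IrrCharacter G, (ψ : G → ℂ) 1 * (centralChar (ψ : G → ℂ) t) ^ 2 =
          ∑ g : G, classProd t g * (ψ : G → ℂ) g :=
        fun ψ => (sum_classProd_mul_char t ψ.2).symm
      have h2 : ∑ ψ : IrrCharacter G, (c ψ : ℂ) *
          ((ψ : G → ℂ) 1 * (centralChar (ψ : G → ℂ) t) ^ 2) =
          ∑ ψ : IrrCharacter G, ∑ g : G, (c ψ : ℂ) * (classProd t g * (ψ : G → ℂ) g) :=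
        Finset.sum_congr rfl (fun ψ _ => by rw [h1 ψ, Finset.mul_sum])
      rw [h2, Finset.sum_comm]
      apply Finset.sum_congr rfl
      intro g _
      rw [hconj, hval g, Finset.sum_mul]
      apply Finset.sum_congr rfl
      intro ψ _
      ring
    obtain ⟨I, hI⟩ : ∃ I : ℂ, I = ((Subgroup.centralizer ({t} : Set G)).index : ℂ) := ⟨_, rfl⟩
    obtain ⟨m, hm⟩ : ∃ m : ℂ, m = (Nat.card (Subgroup.centralizer ({t} : Set G)) : ℂ) :=
      ⟨_, rfl⟩
    have hmI : m * I = (Nat.card G : ℂ) := by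
      rw [hm, hI]
      exact_mod_cast Subgroup.card_mul_index (Subgroup.centralizer ({t} : Set G))
    have hterm : ∀ ψ : IrrCharacter G,
        (c ψ : ℂ) * ((ψ : G → ℂ) 1 * (centralChar (ψ : G → ℂ) t) ^ 2) =
          I ^ 2 * ((c ψ : ℂ) * (s ψ : ℂ) ^ 2 / (charDegree (ψ : G → ℂ) : ℂ)) := by
      intro ψ
      unfold centralChar
      rw [hd ψ, hs ψ, ← hI]
      have := hd0 ψ
      field_simp
    rw [Finset.sum_congr rfl (fun ψ _ => hterm ψ), ← Finset.mul_sum, hQ1] at hQ2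
    rw [← hm]
    obtain ⟨S, hS⟩ : ∃ S : ℂ, S = ∑ ψ : IrrCharacter G,
        (c ψ : ℂ) * (s ψ : ℂ) ^ 2 / (charDegree (ψ : G → ℂ) : ℂ) := ⟨_, rfl⟩
    rw [← hS] at hQ2
    show (p : ℂ) * m ^ 2 = (Nat.card G : ℂ) * ∑ ψ : IrrCharacter G,
        (c ψ : ℂ) * (s ψ : ℂ) ^ 2 / (charDegree (ψ : G → ℂ) : ℂ)
    rw [← hS]
    have h1 : (p : ℂ) * (Nat.card G : ℂ) = I ^ 2 * S := by
      rw [hQ2]
      field_simp
    apply mul_left_cancel₀ hG0
    linear_combination m ^ 2 * h1 + S * (m * I + (Nat.card G : ℂ)) * hmI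

end FrobData

end Cfsg.Agent.Lib.helper11
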