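import Mathlib
import Cfsg.Agent.Lib.helper11.FrobData

/-!
# No simple group of order 5040 has a Sylow 7-normalizer of Frobenius type `7 : 6` (helper11)

The numerical data of `frob_data` (for `p = 7`, `e = 6`, `|G| = 5040`) is contradictory: the
coefficients `c ψ` of `(1_P - λ)^G` have `∑ c² = 7`, every `ψ ≠ 1` with `c ψ ≠ 0` has one of
eleven profiles `(c, d)`, the values `s ψ = ψ(t)` at an involution are then almost determined, and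
the class equation `|C(t)|² = 720 ∑ c s² / d` forces `|C(t)|²` to be `2` or `3` modulo `5`.
-/

set_option autoImplicit false

namespace Cfsg.Agent.Lib.helper11

open Cfsg

universe u

/-- The possible profiles of a nontrivial irreducible character, packaged as linear data. -/
theorem frob42_profile (c s : ℤ) (d a b : ℕ) (hc : c * c ≤ 6) (hd : d ∣ 5040) (hd2 : 2 ≤ d)
    (hd70 : d ≤ 70) (hab : d = a + 6 * b) (hcab : c = (a : ℤ) - b) (q q₁ q₂ : ℕ)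
    (h1 : (d : ℤ) - s = 4 * q) (h2 : (a : ℤ) - s = 2 * q₁) (h3 : (a : ℤ) + s = 2 * q₂) :
    ∃ X Y Z Z' U V W T E : ℤ, E * d = 720 * c * (s * s) ∧ c * s = 4 * U - X + 2 * Y ∧
      E = 5 * V + 2 * X + W + T ∧ 0 ≤ W ∧ W ≤ X ∧ 0 ≤ Y ∧ 0 ≤ Z ∧ 0 ≤ Z' ∧ 0 ≤ T ∧
      T ≤ 4 * (Z + Z') ∧ X + 4 * Y + 4 * Z + 4 * Z' ≤ c * c ∧
      63 * X - 48 * (c * c) + 252 * Z ≤ c * d ∧ c * d ≤ 36 * (c * c) - 224 * Z' := by
  have hc1 : -2 ≤ c := by nlinarith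
  have hc2 : c ≤ 2 := by nlinarith
  have hs1 : -13 ≤ s := by omega
  have hs2 : s ≤ 13 := by omega
  refine ⟨if c = 1 ∧ d = 15 then 1 else 0, if c = 2 ∧ d = 9 then 1 else 0,
    if c = 2 ∧ d = 30 then 1 else 0, if c = -2 ∧ d = 40 then 1 else 0,
    (c * s + (if c = 1 ∧ d = 15 then 1 else 0) - 2 * (if c = 2 ∧ d = 9 then 1 else 0)) / 4,
    (720 * c * (s * s) / d - 2 * (if c = 1 ∧ d = 15 then 1 else 0)
      - (if c = 1 ∧ d = 15 then (720 * c * (s * s) / d - 2) % 5 else 0)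
      - (if (c = 2 ∧ d = 30) ∨ (c = -2 ∧ d = 40) then (720 * c * (s * s) / d) % 5 else 0)) / 5,
    if c = 1 ∧ d = 15 then (720 * c * (s * s) / d - 2) % 5 else 0,
    if (c = 2 ∧ d = 30) ∨ (c = -2 ∧ d = 40) then (720 * c * (s * s) / d) % 5 else 0,
    720 * c * (s * s) / d, ?_⟩
  interval_cases d <;> first | (exfalso; omega) | skip
  all_goals interval_cases c <;> first | (exfalso; omega) | skip
  all_goals interval_cases s <;> first | (exfalso; omega) | decide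

/-- A simple group of order `5040` has no subgroup `P` of order `7` with `C_G(P) ≤ P` and
`|N_G(P)| = 42`. -/
theorem no_frobenius_5040 {G : Type u} [Group G] [Finite G] [IsSimpleGroup G]
    (hG : Nat.card G = 5040) (P : Subgroup G) (hP : Nat.card P = 7)
    (hC : Subgroup.centralizer (P : Set G) ≤ P)
    (hN : Nat.card (Subgroup.normalizer (P : Set G)) = 7 * 6) : False := by
  classical
  have : Fintype G := Fintype.ofFinite G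
  have : Fintype (IrrCharacter G) := Fintype.ofFinite _
  have := Fact.mk Nat.prime_two
  have hnp : ¬ (Nat.card G).Prime := by rw [hG]; norm_num
  obtain ⟨J', hJ'⟩ := exists_prime_orderOf_dvd_card' (G := Subgroup.normalizer (P : Set G)) 2
    (by rw [hN]; norm_num)
  obtain ⟨t, htdef⟩ : ∃ t : G, t = (J' : G) := ⟨_, rfl⟩
  have htN : t ∈ Subgroup.normalizer (P : Set G) := by rw [htdef]; exact J'.2
  have hto : orderOf t = 2 := by rw [htdef, Subgroup.orderOf_coe]; exact hJ'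
  have ht : t * t = 1 := by rw [← pow_two, ← hto]; exact pow_orderOf_eq_one t
  have ht1 : t ≠ 1 := by
    rintro rfl
    rw [orderOf_one] at hto
    omega
  obtain ⟨c, s, d, a, b, triv, hct, hdt, hst, hc2, hdvd, hd2, hdge, hab, hcab, hq, hcd, hcs,
    hcls⟩ := frob_data hnp (p := 7) (e := 6) (by norm_num) (by norm_num) P hP hC hN rfl t htN
      ht ht1
  rw [hG] at hdvd hd2 hcls
  obtain ⟨m, hm⟩ : ∃ m : ℕ, m = Nat.card (Subgroup.centralizer ({t} : Set G)) := ⟨_, rfl⟩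
  rw [← hm] at hcls
  obtain ⟨S, hS⟩ : ∃ S : Finset (IrrCharacter G), S = Finset.univ.erase triv := ⟨_, rfl⟩
  have hmem : ∀ ψ, ψ ∈ S → ψ ≠ triv := by
    intro ψ hψ
    rw [hS] at hψ
    exact Finset.ne_of_mem_erase hψ
  have hsplit : ∀ f : IrrCharacter G → ℤ, ∑ ψ, f ψ = f triv + ∑ ψ ∈ S, f ψ := by
    intro f
    rw [hS]
    exact (Finset.add_sum_erase _ f (Finset.mem_univ triv)).symm
  -- the three basic sums over the nontrivial characters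
  have hc6 : ∑ ψ ∈ S, c ψ * c ψ = 6 := by
    have h := hsplit (fun ψ => c ψ ^ 2)
    rw [hc2] at h
    simp only [hct] at h
    have h' : ∑ ψ ∈ S, c ψ ^ 2 = ∑ ψ ∈ S, c ψ * c ψ :=
      Finset.sum_congr rfl (fun ψ _ => pow_two _)
    rw [h'] at h
    push_cast at h
    omega
  have hcd1 : ∑ ψ ∈ S, c ψ * (d ψ : ℤ) = -1 := by
    have h := hsplit (fun ψ => c ψ * (d ψ : ℤ))
    rw [hcd] at h
    simp only [hct, hdt] at h
    push_cast at h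
    omega
  have hcs1 : ∑ ψ ∈ S, c ψ * s ψ = -1 := by
    have h := hsplit (fun ψ => c ψ * s ψ)
    rw [hcs] at h
    simp only [hct, hst] at h
    omega
  -- per-character bounds
  have hcle : ∀ ψ, ψ ∈ S → c ψ * c ψ ≤ 6 := by
    intro ψ hψ
    rw [← hc6]
    exact Finset.single_le_sum (f := fun ψ => c ψ * c ψ) (fun i _ => mul_self_nonneg _) hψ
  have hd70 : ∀ ψ, d ψ ≤ 70 := by
    intro ψ
    have h : d ψ ^ 2 ≤ ∑ ψ, d ψ ^ 2 :=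
      Finset.single_le_sum (f := fun ψ => d ψ ^ 2) (fun i _ => Nat.zero_le _) (Finset.mem_univ ψ)
    rw [hd2] at h
    by_contra hlt
    have h71 : 71 ≤ d ψ := by omega
    nlinarith
  have hprof : ∀ ψ, ∃ X Y Z Z' U V W T E : ℤ, ψ ∈ S →
      (E * (d ψ : ℤ) = 720 * c ψ * (s ψ * s ψ) ∧ c ψ * s ψ = 4 * U - X + 2 * Y ∧
      E = 5 * V + 2 * X + W + T ∧ 0 ≤ W ∧ W ≤ X ∧ 0 ≤ Y ∧ 0 ≤ Z ∧ 0 ≤ Z' ∧ 0 ≤ T ∧
      T ≤ 4 * (Z + Z') ∧ X + 4 * Y + 4 * Z + 4 * Z' ≤ c ψ * c ψ ∧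
      63 * X - 48 * (c ψ * c ψ) + 252 * Z ≤ c ψ * (d ψ : ℤ) ∧
      c ψ * (d ψ : ℤ) ≤ 36 * (c ψ * c ψ) - 224 * Z') := by
    intro ψ
    by_cases hψ : ψ ∈ S
    · obtain ⟨q, q₁, q₂, h1, h2, h3⟩ := hq ψ
      obtain ⟨X, Y, Z, Z', U, V, W, T, E, h⟩ := frob42_profile (c ψ) (s ψ) (d ψ) (a ψ) (b ψ)
        (hcle ψ hψ) (hdvd ψ) (hdge ψ (hmem ψ hψ)) (hd70 ψ) (hab ψ) (hcab ψ) q q₁ q₂ h1 h2 h3
      exact ⟨X, Y, Z, Z', U, V, W, T, E, fun _ => h⟩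
    · exact ⟨0, 0, 0, 0, 0, 0, 0, 0, 0, fun h => absurd h hψ⟩
  choose X Y Z Z' U V W T E hprof using hprof
  -- the class equation in integers
  have hmE : (m : ℤ) * m = 720 + ∑ ψ ∈ S, E ψ := by
    have hsplitC : ∑ ψ : IrrCharacter G, (c ψ : ℂ) * (s ψ : ℂ) ^ 2 / (d ψ : ℂ) =
        (c triv : ℂ) * (s triv : ℂ) ^ 2 / (d triv : ℂ) +
          ∑ ψ ∈ S, (c ψ : ℂ) * (s ψ : ℂ) ^ 2 / (d ψ : ℂ) := by
      rw [hS]
      exact (Finset.add_sum_erase _ (fun ψ : IrrCharacter G =>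
        (c ψ : ℂ) * (s ψ : ℂ) ^ 2 / (d ψ : ℂ)) (Finset.mem_univ triv)).symm
    have hterm : ∀ ψ ∈ S, (c ψ : ℂ) * (s ψ : ℂ) ^ 2 / (d ψ : ℂ) = (E ψ : ℂ) / 720 := by
      intro ψ hψ
      have h := (hprof ψ hψ).1
      have hd0 : (d ψ : ℂ) ≠ 0 := by
        have h2 := hdge ψ (hmem ψ hψ)
        have h3 : d ψ ≠ 0 := by omega
        exact_mod_cast h3
      have hC : (E ψ : ℂ) * (d ψ : ℂ) = 720 * (c ψ : ℂ) * ((s ψ : ℂ) * (s ψ : ℂ)) := by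
        exact_mod_cast h
      field_simp
      linear_combination (-1 : ℂ) * hC
    rw [hsplitC, Finset.sum_congr rfl hterm, ← Finset.sum_div, hct, hdt, hst] at hcls
    have h : (((m : ℤ) * m : ℤ) : ℂ) = ((720 + ∑ ψ ∈ S, E ψ : ℤ) : ℂ) := by
      push_cast
      push_cast at hcls
      linear_combination hcls / 7
    exact_mod_cast h
  -- summing the profile relations
  have e1 : ∑ ψ ∈ S, c ψ * s ψ = 4 * ∑ ψ ∈ S, U ψ - ∑ ψ ∈ S, X ψ + 2 * ∑ ψ ∈ S, Y ψ := by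
    rw [Finset.sum_congr rfl (fun ψ hψ => (hprof ψ hψ).2.1), Finset.sum_add_distrib,
      Finset.sum_sub_distrib, ← Finset.mul_sum, ← Finset.mul_sum]
  have e2 : ∑ ψ ∈ S, E ψ = 5 * ∑ ψ ∈ S, V ψ + 2 * ∑ ψ ∈ S, X ψ + ∑ ψ ∈ S, W ψ +
      ∑ ψ ∈ S, T ψ := by
    rw [Finset.sum_congr rfl (fun ψ hψ => (hprof ψ hψ).2.2.1), Finset.sum_add_distrib,
      Finset.sum_add_distrib, Finset.sum_add_distrib, ← Finset.mul_sum, ← Finset.mul_sum]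
  have e3 : 0 ≤ ∑ ψ ∈ S, W ψ := Finset.sum_nonneg (fun ψ hψ => (hprof ψ hψ).2.2.2.1)
  have e4 : ∑ ψ ∈ S, W ψ ≤ ∑ ψ ∈ S, X ψ :=
    Finset.sum_le_sum (fun ψ hψ => (hprof ψ hψ).2.2.2.2.1)
  have e5 : 0 ≤ ∑ ψ ∈ S, Y ψ := Finset.sum_nonneg (fun ψ hψ => (hprof ψ hψ).2.2.2.2.2.1)
  have e6 : 0 ≤ ∑ ψ ∈ S, Z ψ := Finset.sum_nonneg (fun ψ hψ => (hprof ψ hψ).2.2.2.2.2.2.1)
  have e7 : 0 ≤ ∑ ψ ∈ S, Z' ψ :=
    Finset.sum_nonneg (fun ψ hψ => (hprof ψ hψ).2.2.2.2.2.2.2.1)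
  have e8 : 0 ≤ ∑ ψ ∈ S, T ψ :=
    Finset.sum_nonneg (fun ψ hψ => (hprof ψ hψ).2.2.2.2.2.2.2.2.1)
  have e9 : ∑ ψ ∈ S, T ψ ≤ 4 * (∑ ψ ∈ S, Z ψ + ∑ ψ ∈ S, Z' ψ) := by
    have h := Finset.sum_le_sum (fun ψ hψ => (hprof ψ hψ).2.2.2.2.2.2.2.2.2.1)
    rw [← Finset.mul_sum, Finset.sum_add_distrib] at h
    exact h
  have e10 : ∑ ψ ∈ S, X ψ + 4 * ∑ ψ ∈ S, Y ψ + 4 * ∑ ψ ∈ S, Z ψ + 4 * ∑ ψ ∈ S, Z' ψ ≤ 6 := by
    have h := Finset.sum_le_sum (fun ψ hψ => (hprof ψ hψ).2.2.2.2.2.2.2.2.2.2.1)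
    rw [hc6, Finset.sum_add_distrib, Finset.sum_add_distrib, Finset.sum_add_distrib,
      ← Finset.mul_sum, ← Finset.mul_sum, ← Finset.mul_sum] at h
    exact h
  have e11 : 63 * ∑ ψ ∈ S, X ψ - 48 * 6 + 252 * ∑ ψ ∈ S, Z ψ ≤ -1 := by
    have h := Finset.sum_le_sum (fun ψ hψ => (hprof ψ hψ).2.2.2.2.2.2.2.2.2.2.2.1)
    rw [hcd1, Finset.sum_add_distrib, Finset.sum_sub_distrib, ← Finset.mul_sum,
      ← Finset.mul_sum, ← Finset.mul_sum, hc6] at h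
    exact h
  have e12 : -1 ≤ 36 * 6 - 224 * ∑ ψ ∈ S, Z' ψ := by
    have h := Finset.sum_le_sum (fun ψ hψ => (hprof ψ hψ).2.2.2.2.2.2.2.2.2.2.2.2)
    rw [hcd1, Finset.sum_sub_distrib, ← Finset.mul_sum, ← Finset.mul_sum, hc6] at h
    exact h
  rw [hcs1] at e1
  rw [e2] at hmE
  obtain ⟨M, hM⟩ : ∃ M : ℤ, M = (m : ℤ) * m := ⟨_, rfl⟩
  rw [← hM] at hmE
  have h5 : M % 5 = 0 ∨ M % 5 = 1 ∨ M % 5 = 4 := by
    have h : (m : ℤ) % 5 = 0 ∨ (m : ℤ) % 5 = 1 ∨ (m : ℤ) % 5 = 2 ∨ (m : ℤ) % 5 = 3 ∨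
        (m : ℤ) % 5 = 4 := by omega
    rw [hM, Int.mul_emod]
    rcases h with h | h | h | h | h <;> rw [h] <;> norm_num
  generalize ∑ ψ ∈ S, X ψ = x at *
  generalize ∑ ψ ∈ S, Y ψ = y at *
  generalize ∑ ψ ∈ S, Z ψ = z at *
  generalize ∑ ψ ∈ S, Z' ψ = z' at *
  generalize ∑ ψ ∈ S, U ψ = u at *
  generalize ∑ ψ ∈ S, V ψ = v at *
  generalize ∑ ψ ∈ S, W ψ = w at *
  generalize ∑ ψ ∈ S, T ψ = τ at *
  have hz' : z' = 0 := by omega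
  subst hz'
  have hx0 : 0 ≤ x := by omega
  have hxle : x ≤ 4 := by omega
  have hyle : y ≤ 1 := by omega
  have hzle : z ≤ 1 := by omega
  clear hprof hsplit hcle hmem hS hcs hcd hc2 hcls hd70 hq hcab hab hdge hd2 hdvd hst hdt hct
  interval_cases x <;> interval_cases y <;> interval_cases z <;> omega

end Cfsg.Agent.Lib.helper11
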