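import Mathlib
import Cfsg.Agent.Lib.helper98.DkSmall

/-!
# S4707, piece A5: order 60 with a Sylow 5-normalizer of order 10 is `A₅`
-/

set_option autoImplicit false

namespace Cfsg.Agent.Lib.helper11.Ito

/-- PIECE A5 (order 60 with a Sylow 5-normalizer of order 10). -/
theorem ito_a5 {G : Type*} [Group G] [Finite G] (hG : Nat.card G = 60) (P : Sylow 5 G)
    (hN : Nat.card (Subgroup.normalizer ((P : Subgroup G) : Set G)) = 10) :
    Nonempty (G ≃* alternatingGroup (Fin 5)) := by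
  apply Cfsg.Agent.Lib.helper98.rec60 hG
  intro x y hx hy hxy
  have h5 : Fact (Nat.Prime 5) := ⟨by norm_num⟩
  -- `|P| = 5`
  have hPc : Nat.card P = 5 := by
    have hk : Nat.card P * (P : Subgroup G).index = 60 := by
      rw [Subgroup.card_mul_index, hG]
    obtain ⟨k, hk5⟩ := IsPGroup.iff_card.mp P.isPGroup'
    rw [hk5] at hk
    rcases k with _ | _ | k
    · exfalso
      apply P.not_dvd_index
      rw [pow_zero, one_mul] at hk
      rw [hk]; norm_num
    · simpa using hk5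
    · exfalso
      have : 25 ∣ 60 := ⟨5 ^ k * (P : Subgroup G).index, by rw [← hk]; ring⟩
      omega
  -- conjugate `x` into `P`
  have hxP : IsPGroup 5 (Subgroup.zpowers x) := by
    apply IsPGroup.of_card (n := 1)
    rw [Nat.card_zpowers, hx]; norm_num
  obtain ⟨Q, hQ⟩ := hxP.exists_le_sylow
  obtain ⟨g, hg⟩ := MulAction.exists_smul_eq G P Q
  have hxQ : x ∈ (Q : Subgroup G) := hQ (Subgroup.mem_zpowers x)
  rw [← hg, Sylow.coe_subgroup_smul, Subgroup.mem_pointwise_smul_iff_inv_smul_mem] at hxQ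
  have hx' : g⁻¹ * x * g ∈ (P : Subgroup G) := by
    have : (MulAut.conj g)⁻¹ • x = g⁻¹ * x * g := by
      rw [MulAut.smul_def, MulAut.conj_inv_apply]
    rwa [this] at hxQ
  have hox' : orderOf (g⁻¹ * x * g) = 5 := by
    have : g⁻¹ * x * g = MulAut.conj g⁻¹ x := by simp
    rw [this, MulEquiv.orderOf_eq]
    exact hx
  have hPz : Subgroup.zpowers (g⁻¹ * x * g) = (P : Subgroup G) := by
    apply Subgroup.eq_of_le_of_card_ge
    · rw [Subgroup.zpowers_le]; exact hx'
    · rw [Nat.card_zpowers, hox']; exact hPc.le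
  have hoy' : orderOf (g⁻¹ * y * g) = 3 := by
    have : g⁻¹ * y * g = MulAut.conj g⁻¹ y := by simp
    rw [this, MulEquiv.orderOf_eq]
    exact hy
  have hyN : g⁻¹ * y * g ∈ Subgroup.normalizer ((P : Subgroup G) : Set G) := by
    apply Subgroup.centralizer_le_normalizer
    rw [← hPz, Subgroup.mem_centralizer_iff]
    intro z hz
    have hz' : z ∈ Subgroup.zpowers (g⁻¹ * x * g) := hz
    have hcomm : Commute (g⁻¹ * x * g) (g⁻¹ * y * g) := by
      show g⁻¹ * x * g * (g⁻¹ * y * g) = g⁻¹ * y * g * (g⁻¹ * x * g)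
      calc g⁻¹ * x * g * (g⁻¹ * y * g) = g⁻¹ * (x * y) * g := by group
        _ = g⁻¹ * (y * x) * g := by rw [hxy]
        _ = g⁻¹ * y * g * (g⁻¹ * x * g) := by group
    obtain ⟨n, rfl⟩ := Subgroup.mem_zpowers_iff.mp hz'
    exact (hcomm.zpow_left n).eq
  have hdvd := Subgroup.orderOf_dvd_natCard _ hyN
  rw [hoy', hN] at hdvd
  omega

end Cfsg.Agent.Lib.helper11.Ito
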