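import Mathlib
import Cfsg.Agent.Lib.helper86.IvDefs

/-! helper11: S3928 piece LAB (`iv_layer_ab`), core: SMALL, ORBIT, ABGEN enter as hypotheses. -/

set_option autoImplicit false

namespace Cfsg.Agent.Lib.helper86.IV

/-- LAB core: the abelian layer, with the conclusions of SMALL, ORBIT and the statement of ABGEN as
hypotheses. -/
theorem h11_iv_layer_ab_core {G : Type*} [Group G] [Finite G] (α : MulAut G) (m B : ℕ)
    (hm : Nat.card (ivI α) ≤ m) (N : Subgroup G) [N.Normal]
    (hB : N.index ≤ B)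
    (hab : ∀ a ∈ N, ∀ b ∈ N, a * b = b * a)
    (hSMALL : ∃ v ∈ N, v ≠ 1 ∧ orderOf v ≤ Nat.card (ivI α) + 1)
    (hORBIT : ∀ v : G, v ∈ N → v ≠ 1 →
      ∃ O : Finset G, Subgroup.closure (O : Set G) = N ∧
        O.card ≤ 2 * (Subgroup.centralizer {v}).index ∧
        ∀ o ∈ O, orderOf o = orderOf v ∧
          (Subgroup.centralizer {o}).relIndex N = (Subgroup.centralizer {v}).relIndex N)
    (hABGEN : ∀ (O : Finset G) (e : ℕ), 0 < e → (∀ a ∈ O, ∀ b ∈ O, a * b = b * a) →
      (∀ o ∈ O, o ^ e = 1) → Nat.card (Subgroup.closure (O : Set G)) ≤ e ^ O.card) :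
    Nat.card N ≤ (m + 1) ^ (2 * B) := by
  obtain ⟨v, hv, hv1, hvord⟩ := hSMALL
  obtain ⟨O, hO, hOcard, hOo⟩ := hORBIT v hv hv1
  have hNle : N ≤ Subgroup.centralizer {v} := by
    intro n hn
    rw [Subgroup.mem_centralizer_iff]
    intro x hx
    rw [Set.mem_singleton_iff] at hx
    rw [hx]
    exact hab v hv n hn
  have hidx : (Subgroup.centralizer {v}).index ≤ B := by
    have h1 : (Subgroup.centralizer {v}).index ∣ N.index := Subgroup.index_dvd_of_le hNle
    have h2 : N.index ≠ 0 := Subgroup.index_ne_zero_of_finite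
    exact (Nat.le_of_dvd (Nat.pos_of_ne_zero h2) h1).trans hB
  have hOc : O.card ≤ 2 * B := hOcard.trans (Nat.mul_le_mul_left 2 hidx)
  have hOsub : ∀ o ∈ O, o ∈ N := by
    intro o ho
    rw [← hO]
    exact Subgroup.subset_closure ho
  have he : 0 < orderOf v := orderOf_pos v
  have hcard := hABGEN O (orderOf v) he
    (fun a ha b hb => hab a (hOsub a ha) b (hOsub b hb))
    (fun o ho => by rw [← (hOo o ho).1]; exact pow_orderOf_eq_one o)
  rw [hO] at hcard
  have he1 : orderOf v ≤ m + 1 := hvord.trans (Nat.add_le_add_right hm 1)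
  calc Nat.card N ≤ orderOf v ^ O.card := hcard
    _ ≤ (m + 1) ^ O.card := Nat.pow_le_pow_left he1 _
    _ ≤ (m + 1) ^ (2 * B) := Nat.pow_le_pow_right (Nat.succ_pos m) hOc

end Cfsg.Agent.Lib.helper86.IV
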