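import Mathlib
import Cfsg.Agent.Lib.helper86.IvDefs

/-! helper11: S3928 piece ORBIT (`iv_orbit`), racer copy under a prefixed name. -/

set_option autoImplicit false

namespace Cfsg.Agent.Lib.helper86.IV

/-- an automorphism preserving `N` preserves orders and relative indices of centralizers. -/
theorem h11_equiv_facts {G : Type*} [Group G] (φ : G ≃* G) (N : Subgroup G)
    (hN : N.map (φ : G →* G) = N) (u : G) :
    orderOf (φ u) = orderOf u ∧
      (Subgroup.centralizer {φ u}).relIndex N = (Subgroup.centralizer {u}).relIndex N := by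
  refine ⟨MulEquiv.orderOf_eq φ u, ?_⟩
  have h1 : Subgroup.centralizer {φ u} = (Subgroup.centralizer {u}).map (φ : G →* G) := by
    ext x
    rw [Subgroup.mem_centralizer_iff]
    constructor
    · intro hx
      refine ⟨φ.symm x, ?_, φ.apply_symm_apply x⟩
      rw [SetLike.mem_coe, Subgroup.mem_centralizer_iff]
      intro y hy
      rw [Set.mem_singleton_iff] at hy
      rw [hy]
      apply φ.injective
      rw [map_mul, map_mul, φ.apply_symm_apply]
      exact hx (φ u) (Set.mem_singleton _)
    · rintro ⟨y, hy, rfl⟩ z hz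
      rw [Set.mem_singleton_iff] at hz
      rw [hz]
      rw [SetLike.mem_coe, Subgroup.mem_centralizer_iff] at hy
      have := hy u (Set.mem_singleton u)
      show φ u * φ y = φ y * φ u
      rw [← map_mul, ← map_mul, this]
  rw [h1]
  conv_lhs => rw [← hN]
  exact Subgroup.relIndex_map_map_of_injective _ _ φ.injective

/-- ORBIT (racer copy) : a minimal `α`-invariant normal subgroup is generated by the `(G, α)`-orbit
of any of its nontrivial elements. -/
theorem h11_iv_orbit {G : Type*} [Group G] [Finite G] (α : MulAut G) (h2 : ∀ g, α (α g) = g)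
    (N : Subgroup G) [N.Normal] (hN : ∀ n ∈ N, α n ∈ N)
    (hmin : ∀ L : Subgroup G, L.Normal → (∀ n ∈ L, α n ∈ L) → L ≤ N → L = ⊥ ∨ L = N)
    (v : G) (hv : v ∈ N) (hv1 : v ≠ 1) :
    ∃ O : Finset G, Subgroup.closure (O : Set G) = N ∧
      O.card ≤ 2 * (Subgroup.centralizer {v}).index ∧
      ∀ o ∈ O, orderOf o = orderOf v ∧
        (Subgroup.centralizer {o}).relIndex N = (Subgroup.centralizer {v}).relIndex N := by
  classical
  obtain ⟨Z, hZ⟩ : ∃ Z : Subgroup G, Z = Subgroup.centralizer {v} := ⟨_, rfl⟩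
  have hfin : Fintype (G ⧸ Z) := Fintype.ofFinite _
  obtain ⟨c, hc⟩ : ∃ c : G ⧸ Z → G, c = fun q => q.out * v * q.out⁻¹ := ⟨_, rfl⟩
  obtain ⟨O, hOdef⟩ : ∃ O : Finset G,
      O = Finset.univ.image c ∪ Finset.univ.image (fun q => α (c q)) := ⟨_, rfl⟩
  -- every conjugate is a value of `c`
  have hconj : ∀ g : G, g * v * g⁻¹ = c (QuotientGroup.mk g) := by
    intro g
    obtain ⟨o, ho⟩ : ∃ o : G, o = (QuotientGroup.mk g : G ⧸ Z).out := ⟨_, rfl⟩
    have h1 : (QuotientGroup.mk o : G ⧸ Z) = QuotientGroup.mk g := by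
      rw [ho]; exact QuotientGroup.out_eq' _
    have h3 : g⁻¹ * o ∈ Z := QuotientGroup.eq.mp h1.symm
    rw [hZ, Subgroup.mem_centralizer_iff] at h3
    have h4 := h3 v (Set.mem_singleton v)
    rw [hc]
    show g * v * g⁻¹ = (QuotientGroup.mk g : G ⧸ Z).out * v * ((QuotientGroup.mk g : G ⧸ Z).out)⁻¹
    rw [← ho]
    have h5 : o * v * o⁻¹ = g * (g⁻¹ * o * v) * o⁻¹ := by group
    rw [h5, ← h4]
    group
  have hOmem : ∀ o : G, o ∈ O ↔ (∃ g : G, o = g * v * g⁻¹) ∨ (∃ g : G, o = α (g * v * g⁻¹)) := by
    intro o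
    rw [hOdef, Finset.mem_union, Finset.mem_image, Finset.mem_image]
    constructor
    · rintro (⟨q, _, hq⟩ | ⟨q, _, hq⟩)
      · left
        refine ⟨q.out, ?_⟩
        rw [← hq, hc]
      · right
        refine ⟨q.out, ?_⟩
        rw [← hq, hc]
    · rintro (⟨g, hg⟩ | ⟨g, hg⟩)
      · left
        exact ⟨QuotientGroup.mk g, Finset.mem_univ _, by rw [hg, hconj g]⟩
      · right
        exact ⟨QuotientGroup.mk g, Finset.mem_univ _, by rw [hg, hconj g]⟩
  have hNconj : ∀ g : G, N.map ((MulAut.conj g : G ≃* G) : G →* G) = N := by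
    intro g
    ext x
    constructor
    · rintro ⟨y, hy, rfl⟩
      show (MulAut.conj g) y ∈ N
      rw [MulAut.conj_apply]
      exact Subgroup.Normal.conj_mem inferInstance y hy g
    · intro hx
      refine ⟨g⁻¹ * x * g, ?_, ?_⟩
      · have := Subgroup.Normal.conj_mem (inferInstance : N.Normal) x hx g⁻¹
        rwa [inv_inv] at this
      · show (MulAut.conj g) (g⁻¹ * x * g) = x
        rw [MulAut.conj_apply]
        group
  have hNα : N.map ((α : G ≃* G) : G →* G) = N := iv_map_eq α h2 N hN
  have hfc : ∀ g : G, orderOf (g * v * g⁻¹) = orderOf v ∧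
      (Subgroup.centralizer {g * v * g⁻¹}).relIndex N = (Subgroup.centralizer {v}).relIndex N := by
    intro g
    have := h11_equiv_facts (MulAut.conj g) N (hNconj g) v
    rwa [MulAut.conj_apply] at this
  have hfα : ∀ u : G, orderOf (α u) = orderOf u ∧
      (Subgroup.centralizer {α u}).relIndex N = (Subgroup.centralizer {u}).relIndex N :=
    fun u => h11_equiv_facts α N hNα u
  refine ⟨O, ?_, ?_, ?_⟩
  · -- closure
    have hLN : Subgroup.closure (O : Set G) ≤ N := by
      rw [Subgroup.closure_le]
      intro o ho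
      rcases (hOmem o).mp ho with ⟨g, rfl⟩ | ⟨g, rfl⟩
      · exact Subgroup.Normal.conj_mem inferInstance v hv g
      · exact hN _ (Subgroup.Normal.conj_mem inferInstance v hv g)
    have hvO : v ∈ O := (hOmem v).mpr (Or.inl ⟨1, by group⟩)
    have hLbot : Subgroup.closure (O : Set G) ≠ ⊥ := by
      intro hb
      have : v ∈ Subgroup.closure (O : Set G) := Subgroup.subset_closure hvO
      rw [hb, Subgroup.mem_bot] at this
      exact hv1 this
    have hLα : ∀ n ∈ Subgroup.closure (O : Set G), α n ∈ Subgroup.closure (O : Set G) := by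
      intro n hn
      refine Subgroup.closure_induction (p := fun x _ => α x ∈ Subgroup.closure (O : Set G))
        ?_ ?_ ?_ ?_ hn
      · intro o ho
        apply Subgroup.subset_closure
        rcases (hOmem o).mp ho with ⟨g, rfl⟩ | ⟨g, rfl⟩
        · exact (hOmem _).mpr (Or.inr ⟨g, rfl⟩)
        · rw [h2]
          exact (hOmem _).mpr (Or.inl ⟨g, rfl⟩)
      · rw [map_one]; exact Subgroup.one_mem _
      · intro x y _ _ hx hy
        rw [map_mul]; exact Subgroup.mul_mem _ hx hy
      · intro x _ hx
        rw [map_inv]; exact Subgroup.inv_mem _ hx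
    have hLnormal : (Subgroup.closure (O : Set G)).Normal := by
      constructor
      intro n hn g
      refine Subgroup.closure_induction
        (p := fun x _ => g * x * g⁻¹ ∈ Subgroup.closure (O : Set G)) ?_ ?_ ?_ ?_ hn
      · intro o ho
        apply Subgroup.subset_closure
        rcases (hOmem o).mp ho with ⟨k, rfl⟩ | ⟨k, rfl⟩
        · exact (hOmem _).mpr (Or.inl ⟨g * k, by group⟩)
        · refine (hOmem _).mpr (Or.inr ⟨α g * k, ?_⟩)
          rw [map_mul, map_mul, map_mul, map_mul, map_inv, map_inv, map_mul, h2, mul_inv_rev]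
          group
      · rw [mul_one, mul_inv_cancel]; exact Subgroup.one_mem _
      · intro x y _ _ hx hy
        have : g * (x * y) * g⁻¹ = (g * x * g⁻¹) * (g * y * g⁻¹) := by group
        rw [this]; exact Subgroup.mul_mem _ hx hy
      · intro x _ hx
        have : g * x⁻¹ * g⁻¹ = (g * x * g⁻¹)⁻¹ := by group
        rw [this]; exact Subgroup.inv_mem _ hx
    rcases hmin _ hLnormal hLα hLN with h | h
    · exact absurd h hLbot
    · exact h
  · -- cardinality
    have h1 : O.card ≤ (Finset.univ.image c).card + (Finset.univ.image (fun q => α (c q))).card := by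
      rw [hOdef]; exact Finset.card_union_le _ _
    have h3 : (Finset.univ.image c).card ≤ Fintype.card (G ⧸ Z) := by
      have := Finset.card_image_le (s := (Finset.univ : Finset (G ⧸ Z))) (f := c)
      rwa [Finset.card_univ] at this
    have h4 : (Finset.univ.image (fun q => α (c q))).card ≤ Fintype.card (G ⧸ Z) := by
      have := Finset.card_image_le (s := (Finset.univ : Finset (G ⧸ Z))) (f := fun q => α (c q))
      rwa [Finset.card_univ] at this
    have h5 : (Subgroup.centralizer {v}).index = Fintype.card (G ⧸ Z) := by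
      rw [← hZ, Subgroup.index_eq_card, Nat.card_eq_fintype_card]
    rw [h5]
    omega
  · intro o ho
    rcases (hOmem o).mp ho with ⟨g, rfl⟩ | ⟨g, rfl⟩
    · exact hfc g
    · have ha := hfα (g * v * g⁻¹)
      have hb := hfc g
      exact ⟨ha.1.trans hb.1, ha.2.trans hb.2⟩

end Cfsg.Agent.Lib.helper86.IV
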