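import Mathlib
import Cfsg.Agent.Lib.helper86.IvDefs

/-! helper11: S3928 piece SMALL (`iv_small_elt`), racer copy under a prefixed name
(with an inline prefixed copy of ORD). -/

set_option autoImplicit false

namespace Cfsg.Agent.Lib.helper86.IV

/-- ORD (inline copy): an element of `ivI α` has order at most `|ivI α|`. -/
theorem h11_iv_order_le {G : Type*} [Group G] [Finite G] (α : MulAut G) (x : G) (hx : x ∈ ivI α) :
    orderOf x ≤ Nat.card (ivI α) := by
  have hmem : ∀ i : ℕ, x ^ i ∈ ivI α := by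
    intro i
    refine ⟨Odd.of_dvd_nat hx.1 (orderOf_pow_dvd i), ?_⟩
    rw [map_pow, hx.2, inv_pow]
  have hinj : Function.Injective (fun i : Fin (orderOf x) => (⟨x ^ (i : ℕ), hmem i⟩ : ivI α)) := by
    intro i j hij
    have h1 : x ^ (i : ℕ) = x ^ (j : ℕ) := congrArg Subtype.val hij
    exact Fin.ext (pow_injOn_Iio_orderOf (Set.mem_Iio.mpr i.2) (Set.mem_Iio.mpr j.2) h1)
  have := Nat.card_le_card_of_injective _ hinj
  rwa [Nat.card_fin] at this

/-- SMALL (racer copy) : a nontrivial element of small order in `N`. -/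
theorem h11_iv_small_elt {G : Type*} [Group G] [Finite G] (α : MulAut G) (h2 : ∀ g, α (α g) = g)
    (N : Subgroup G) (hN : ∀ n ∈ N, α n ∈ N)
    (hne : ∃ x ∈ ivI α, ∃ x' ∈ ivI α, x ≠ x' ∧ x⁻¹ * x' ∈ N) :
    ∃ v ∈ N, v ≠ 1 ∧ orderOf v ≤ Nat.card (ivI α) + 1 := by
  classical
  have h1I : (1 : G) ∈ ivI α := ⟨by rw [orderOf_one]; exact odd_one, by rw [map_one, inv_one]⟩
  have hIpos : 1 ≤ Nat.card (ivI α) := by
    have : Nonempty (ivI α) := ⟨⟨1, h1I⟩⟩
    exact Nat.card_pos
  by_cases hcase1 : ∃ y ∈ N, y ∈ ivI α ∧ y ≠ 1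
  · obtain ⟨y, hyN, hyI, hy1⟩ := hcase1
    exact ⟨y, hyN, hy1, (h11_iv_order_le α y hyI).trans (Nat.le_succ _)⟩
  · have hNI : ∀ y ∈ N, y ∈ ivI α → y = 1 := by
      intro y hyN hyI
      by_contra hy1
      exact hcase1 ⟨y, hyN, hyI, hy1⟩
    by_cases h2dvd : 2 ∣ Nat.card N
    · have : Fact (Nat.Prime 2) := ⟨Nat.prime_two⟩
      obtain ⟨v, hv⟩ := exists_prime_orderOf_dvd_card' (G := N) 2 h2dvd
      refine ⟨(v : G), v.2, ?_, ?_⟩
      · intro hv1
        have : v = 1 := Subtype.ext hv1
        rw [this, orderOf_one] at hv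
        omega
      · rw [Subgroup.orderOf_coe, hv]
        omega
    · exfalso
      have hNodd : Odd (Nat.card N) := Nat.not_even_iff_odd.mp (fun he => h2dvd he.two_dvd)
      have hodd : ∀ n ∈ N, Odd (orderOf n) := fun n hn =>
        Odd.of_dvd_nat hNodd (Subgroup.orderOf_dvd_natCard N hn)
      have hfix : ∀ n ∈ N, α n = n := by
        intro n hn
        have hk : n * (α n)⁻¹ ∈ N := N.mul_mem hn (N.inv_mem (hN n hn))
        have hkI : n * (α n)⁻¹ ∈ ivI α := by
          refine ⟨hodd _ hk, ?_⟩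
          rw [map_mul, map_inv, h2, mul_inv_rev, inv_inv]
        have := hNI _ hk hkI
        exact (mul_inv_eq_one.mp this).symm
      obtain ⟨x, hx, x', hx', hxx', hn⟩ := hne
      obtain ⟨n, hndef⟩ : ∃ n : G, n = x⁻¹ * x' := ⟨_, rfl⟩
      rw [← hndef] at hn
      have hx'eq : x' = x * n := by rw [hndef, mul_inv_cancel_left]
      have hinv : x⁻¹ * n = n⁻¹ * x⁻¹ := by
        have h3 := hx'.2
        rw [hx'eq, map_mul, hx.2, hfix n hn, mul_inv_rev] at h3
        exact h3
      -- conjugation by `x⁻¹` inverts `n`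
      have hc : x⁻¹ * n * x = n⁻¹ := by rw [hinv, inv_mul_cancel_right]
      have hc' : x⁻¹ * n⁻¹ * x = n := by
        have := congrArg (fun g => g⁻¹) hc
        simp only [mul_inv_rev, inv_inv] at this
        rw [← mul_assoc] at this
        exact this
      have hsq : Commute (x ^ 2) n := by
        have h4 : x⁻¹ * (x⁻¹ * n * x) * x = n := by rw [hc, hc']
        have h5 : n * x ^ 2 = x ^ 2 * n := by
          have h6 : x ^ 2 * (x⁻¹ * (x⁻¹ * n * x) * x) = n * x ^ 2 := by
            rw [pow_two]; group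
          rw [← h6, h4]
        exact h5.symm
      obtain ⟨t, ht⟩ := hx.1
      have hxpow : (x ^ 2) ^ (t + 1) = x := by
        rw [← pow_mul]
        have : 2 * (t + 1) = orderOf x + 1 := by omega
        rw [this, pow_succ, pow_orderOf_eq_one, one_mul]
      have hcomm : Commute x n := by
        have := hsq.pow_left (t + 1)
        rwa [hxpow] at this
      have hnn : n = n⁻¹ := by
        have h7 : x⁻¹ * n * x = n := by
          rw [mul_assoc, ← hcomm.eq, inv_mul_cancel_left]
        rw [h7] at hc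
        exact hc
      have hn2 : n ^ 2 = 1 := by
        rw [pow_two]
        nth_rewrite 2 [hnn]
        exact mul_inv_cancel n
      have hord : orderOf n ∣ 2 := orderOf_dvd_of_pow_eq_one hn2
      have hord1 : orderOf n = 1 := by
        rcases (Nat.dvd_prime Nat.prime_two).mp hord with h | h
        · exact h
        · have := hodd n hn
          rw [h] at this
          exact absurd this (by decide)
      have hn1 : n = 1 := orderOf_eq_one_iff.mp hord1
      apply hxx'
      rw [hx'eq, hn1, mul_one]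

end Cfsg.Agent.Lib.helper86.IV
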