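import Mathlib
import Cfsg.Agent.Lib.helper86.IvDefs
import Cfsg.Agent.Lib.helper11.IvLABcore
import Cfsg.Agent.Lib.helper11.IvSMALL
import Cfsg.Agent.Lib.helper11.IvORBIT
import Cfsg.Agent.Lib.helper35.IvABGEN

/-! helper11: S3928 piece LAB (`iv_layer_ab`): the abelian layer. -/

set_option autoImplicit false

namespace Cfsg.Agent.Lib.helper86.IV

/-- LAB : the abelian layer (uses SMALL, ORBIT, ABGEN). -/
theorem iv_layer_ab {G : Type*} [Group G] [Finite G] (α : MulAut G) (h : IvHyp α) (m B : ℕ)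
    (hm : Nat.card (ivI α) ≤ m) (N : Subgroup G) [N.Normal] (hN : ∀ n ∈ N, α n ∈ N)
    (hmin : ∀ L : Subgroup G, L.Normal → (∀ n ∈ L, α n ∈ L) → L ≤ N → L = ⊥ ∨ L = N)
    (hB : N.index ≤ B)
    (hne : ∃ x ∈ ivI α, ∃ x' ∈ ivI α, x ≠ x' ∧ x⁻¹ * x' ∈ N)
    (hab : ∀ a ∈ N, ∀ b ∈ N, a * b = b * a) : Nat.card N ≤ (m + 1) ^ (2 * B) :=
  h11_iv_layer_ab_core α m B hm N hB hab (h11_iv_small_elt α h.invol N hN hne)
    (fun v hv hv1 => h11_iv_orbit α h.invol N hN hmin v hv hv1)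
    (fun O e he hcomm hpow => iv_ab_gen_card O e he hcomm hpow)

end Cfsg.Agent.Lib.helper86.IV
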