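import Mathlib
import Cfsg.Prelude.Def_LieTypeChar
import Cfsg.Agent.Lib.helper44.LODefs
import Cfsg.Agent.Lib.helper6.LOARITH
import Cfsg.Agent.S0243

/-!
S2363 split, piece PSL2 (helper11, racer copy; every declaration is prefixed `h11_`).
-/

set_option autoImplicit false

namespace Cfsg.Agent.Lib.helper44.LO

open Cfsg

theorem h11_psl2_arith (p q : ℕ) (hp : p.Prime) (hpq : p ∣ q) (hq2 : 2 ≤ q) (n : ℕ)
    (h : Nat.gcd 2 (q - 1) * ((q - 1) * n) = (q ^ 2 - 1) * (q ^ 2 - q)) :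
    (Nat.gcd 2 (q - 1) * (q - 1)) * n = q ^ 1 * ((q ^ 2 - 1) * (q - 1)) ∧
      ¬ p ∣ Nat.gcd 2 (q - 1) * (q - 1) ∧ ¬ p ∣ (q ^ 2 - 1) * (q - 1) ∧
      (q ^ 2 - 1) * (q - 1) < Nat.gcd 2 (q - 1) * (q - 1) * q ^ 2 := by
  have hq1 : ¬ p ∣ q - 1 := fun h1 => by
    have h3 : p ∣ (q - 1) + 1 := by
      rw [Nat.sub_add_cancel (by omega)]
      exact hpq
    exact hp.one_lt.ne' (Nat.dvd_one.1 ((Nat.dvd_add_right h1).1 h3))
  refine ⟨?_, ?_, ?_, ?_⟩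
  · have e1 : q ^ 2 - q = q * (q - 1) := by
      rw [Nat.mul_sub, mul_one, sq]
    rw [mul_assoc, h, e1, pow_one]
    ring
  · intro h1
    rcases (Nat.Prime.dvd_mul hp).1 h1 with h2 | h2
    · exact hq1 (dvd_trans h2 (Nat.gcd_dvd_right _ _))
    · exact hq1 h2
  · intro h1
    rcases (Nat.Prime.dvd_mul hp).1 h1 with h2 | h2
    · have h3 : p ∣ (q ^ 2 - 1) + 1 := by
        rw [Nat.sub_add_cancel (Nat.one_le_pow _ _ (by omega))]
        exact dvd_pow hpq two_ne_zero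
      exact hp.one_lt.ne' (Nat.dvd_one.1 ((Nat.dvd_add_right h2).1 h3))
    · exact hq1 h2
  · have hg : 1 ≤ Nat.gcd 2 (q - 1) := Nat.gcd_pos_of_pos_left _ (by norm_num)
    have h1 : (q ^ 2 - 1) * (q - 1) < q ^ 2 * (q - 1) :=
      mul_lt_mul_of_pos_right (Nat.sub_lt (by positivity) one_pos) (by omega)
    calc (q ^ 2 - 1) * (q - 1) < q ^ 2 * (q - 1) := h1
      _ = 1 * ((q - 1) * q ^ 2) := by rw [one_mul, mul_comm]
      _ ≤ Nat.gcd 2 (q - 1) * ((q - 1) * q ^ 2) := Nat.mul_le_mul_right _ hg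
      _ = Nat.gcd 2 (q - 1) * (q - 1) * q ^ 2 := by rw [mul_assoc]

/-- PSL2 (racer copy). -/
theorem h11_lo_psl_two {F : Type} [Field F] [Fintype F] (p : ℕ) (hp : p.Prime) [CharP F p] :
    Nat.card (Matrix.ProjectiveSpecialLinearGroup (Fin 2) F) <
        p ^ (3 * (Nat.card (Matrix.ProjectiveSpecialLinearGroup (Fin 2) F)).factorization p) ∧
      Fintype.card F = p ^ (Nat.card (Matrix.ProjectiveSpecialLinearGroup (Fin 2) F)).factorization p := by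
  obtain ⟨a, -, hcard⟩ := FiniteField.card F p
  have hf : 1 ≤ (a : ℕ) := a.pos
  have hformula := Cfsg.Agent.S0243.result (F := F) (q := p ^ (a : ℕ)) hcard 2 (le_refl 2)
  rw [Fin.prod_univ_two] at hformula
  simp only [Fin.val_zero, Fin.val_one, pow_zero, pow_one] at hformula
  have hq2 : 2 ≤ p ^ (a : ℕ) :=
    calc 2 ≤ p := hp.two_le
      _ = p ^ 1 := (pow_one p).symm
      _ ≤ p ^ (a : ℕ) := Nat.pow_le_pow_right hp.pos hf
  have hpq : p ∣ p ^ (a : ℕ) := dvd_pow_self p (by omega)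
  obtain ⟨e1, hc, hM, hlt⟩ := h11_psl2_arith p (p ^ (a : ℕ)) hp hpq hq2 _ hformula
  obtain ⟨hk, hn⟩ := helper6_lo_arith hp (a : ℕ) _ _ 1 _ 2 e1 hc hM hlt
  rw [hk, mul_one]
  refine ⟨?_, hcard⟩
  calc Nat.card (Matrix.ProjectiveSpecialLinearGroup (Fin 2) F) < (p ^ (a : ℕ)) ^ (1 + 2) := hn
    _ = p ^ (3 * (a : ℕ)) := by
        rw [← pow_mul]
        congr 1
        ring

end Cfsg.Agent.Lib.helper44.LO
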