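import Mathlib
import Cfsg.Prelude.Def_LieTypeChar
import Cfsg.Agent.Lib.helper44.LODefs
import Cfsg.Agent.Lib.helper6.LOARITH
import Cfsg.Agent.S0280

/-!
S2363 split, piece PSU (helper11, racer copy; every declaration is prefixed `h11_`).
-/

set_option autoImplicit false

namespace Cfsg.Agent.Lib.helper44.LO

open Cfsg

theorem h11_lo_pair (q a : ℕ) (hq : 2 ≤ q) :
    (q ^ a - 1) * (q ^ (a + 1) + 1) < q ^ (2 * a + 1) := by
  have hx : 1 ≤ q ^ a := Nat.one_le_pow _ _ (by omega)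
  obtain ⟨y, hy⟩ : ∃ y, q ^ a = y + 1 := ⟨q ^ a - 1, by omega⟩
  have e1 : q ^ (a + 1) = (y + 1) * q := by rw [pow_succ, hy]
  have e2 : q ^ (2 * a + 1) = (y + 1) * (y + 1) * q := by rw [pow_succ, two_mul, pow_add, hy]
  rw [e1, e2, hy, Nat.add_sub_cancel]
  nlinarith [Nat.zero_le y, Nat.zero_le (y * y), Nat.zero_le (y * q)]

theorem h11_lo_psu_odd (q : ℕ) (hq : 2 ≤ q) (j : ℕ) :
    (∏ i ∈ Finset.range (2 * j + 1), (if Even i then q ^ (i + 1) + 1 else q ^ (i + 1) - 1)) ≤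
        (q + 1) * q ^ (2 * j ^ 2 + 3 * j) ∧
    (1 ≤ j → (∏ i ∈ Finset.range (2 * j + 1),
        (if Even i then q ^ (i + 1) + 1 else q ^ (i + 1) - 1)) <
        (q + 1) * q ^ (2 * j ^ 2 + 3 * j)) := by
  induction j with
  | zero => simp
  | succ j ih =>
    have hstep : ∏ i ∈ Finset.range (2 * (j + 1) + 1),
        (if Even i then q ^ (i + 1) + 1 else q ^ (i + 1) - 1) =
        (∏ i ∈ Finset.range (2 * j + 1), (if Even i then q ^ (i + 1) + 1 else q ^ (i + 1) - 1)) *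
          ((q ^ (2 * j + 2) - 1) * (q ^ (2 * j + 2 + 1) + 1)) := by
      rw [show 2 * (j + 1) + 1 = (2 * j + 1) + 1 + 1 by ring, Finset.prod_range_succ,
        Finset.prod_range_succ]
      have h1 : ¬ Even (2 * j + 1) := by
        rw [Nat.not_even_iff_odd]
        exact ⟨j, rfl⟩
      have h2 : Even (2 * j + 1 + 1) := ⟨j + 1, by ring⟩
      rw [if_neg h1, if_pos h2, mul_assoc]
    have hpair := h11_lo_pair q (2 * j + 2) hq
    have hpos : 0 < (q + 1) * q ^ (2 * j ^ 2 + 3 * j) := by positivity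
    have hlt : ∏ i ∈ Finset.range (2 * (j + 1) + 1),
        (if Even i then q ^ (i + 1) + 1 else q ^ (i + 1) - 1) <
        (q + 1) * q ^ (2 * (j + 1) ^ 2 + 3 * (j + 1)) := by
      rw [hstep]
      calc (∏ i ∈ Finset.range (2 * j + 1),
            (if Even i then q ^ (i + 1) + 1 else q ^ (i + 1) - 1)) *
              ((q ^ (2 * j + 2) - 1) * (q ^ (2 * j + 2 + 1) + 1))
          ≤ ((q + 1) * q ^ (2 * j ^ 2 + 3 * j)) *
              ((q ^ (2 * j + 2) - 1) * (q ^ (2 * j + 2 + 1) + 1)) :=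
            Nat.mul_le_mul_right _ ih.1
        _ < ((q + 1) * q ^ (2 * j ^ 2 + 3 * j)) * q ^ (2 * (2 * j + 2) + 1) :=
            mul_lt_mul_of_pos_left hpair hpos
        _ = (q + 1) * q ^ (2 * (j + 1) ^ 2 + 3 * (j + 1)) := by
            rw [mul_assoc, ← pow_add]
            congr 2
            ring
    exact ⟨hlt.le, fun _ => hlt⟩

theorem h11_lo_psu_even (q : ℕ) (hq : 2 ≤ q) (j : ℕ) :
    (∏ i ∈ Finset.range (2 * j + 2), (if Even i then q ^ (i + 1) + 1 else q ^ (i + 1) - 1)) <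
        (q + 1) * q ^ (2 * j ^ 2 + 5 * j + 2) := by
  have h1 : ¬ Even (2 * j + 1) := by
    rw [Nat.not_even_iff_odd]
    exact ⟨j, rfl⟩
  rw [show 2 * j + 2 = (2 * j + 1) + 1 by ring, Finset.prod_range_succ, if_neg h1]
  have h0 := (h11_lo_psu_odd q hq j).1
  have hpos : 0 < (q + 1) * q ^ (2 * j ^ 2 + 3 * j) := by positivity
  have hsub : q ^ (2 * j + 1 + 1) - 1 < q ^ (2 * j + 1 + 1) :=
    Nat.sub_lt (by positivity) one_pos
  calc (∏ i ∈ Finset.range (2 * j + 1), (if Even i then q ^ (i + 1) + 1 else q ^ (i + 1) - 1)) *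
          (q ^ (2 * j + 1 + 1) - 1)
      ≤ ((q + 1) * q ^ (2 * j ^ 2 + 3 * j)) * (q ^ (2 * j + 1 + 1) - 1) :=
        Nat.mul_le_mul_right _ h0
    _ < ((q + 1) * q ^ (2 * j ^ 2 + 3 * j)) * q ^ (2 * j + 1 + 1) :=
        mul_lt_mul_of_pos_left hsub hpos
    _ = (q + 1) * q ^ (2 * j ^ 2 + 5 * j + 2) := by
        rw [mul_assoc, ← pow_add]
        congr 2
        ring

/-- PSU (racer copy). -/
theorem h11_lo_psu {F : Type} [Field F] [Fintype F] (p : ℕ) (hp : p.Prime) [CharP F p] (n q : ℕ)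
    (hF : Fintype.card F = q ^ 2) (hn : 3 ≤ n) : LOGood p (Nat.card (Cfsg.PSU n F q)) := by
  obtain ⟨a, -, hcard⟩ := FiniteField.card F p
  have hqdvd : q ∣ p ^ (a : ℕ) := by
    rw [← hcard, hF]
    exact dvd_pow_self q two_ne_zero
  obtain ⟨f, -, rfl⟩ := (Nat.dvd_prime_pow hp).1 hqdvd
  have hf : 1 ≤ f := by
    by_contra h0
    have hf0 : f = 0 := by omega
    subst hf0
    have h1 := Fintype.one_lt_card (α := F)
    rw [hF] at h1
    simp at h1
  have hq2 : 2 ≤ p ^ f :=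
    calc 2 ≤ p := hp.two_le
      _ = p ^ 1 := (pow_one p).symm
      _ ≤ p ^ f := Nat.pow_le_pow_right hp.pos hf
  have hpq : p ∣ p ^ f := dvd_pow_self p (by omega)
  have hformula := Cfsg.Agent.S0280.result hF n (by omega)
  have hq1 : ¬ p ∣ p ^ f + 1 := fun h => by
    have h1 := (Nat.dvd_add_right hpq).1 h
    exact hp.one_lt.ne' (Nat.dvd_one.1 h1)
  have hc : ¬ p ∣ Nat.gcd n (p ^ f + 1) * (p ^ f + 1) := by
    intro h
    rcases (Nat.Prime.dvd_mul hp).1 h with h1 | h1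
    · exact hq1 (dvd_trans h1 (Nat.gcd_dvd_right _ _))
    · exact hq1 h1
  have hM : ¬ p ∣ ∏ i ∈ Finset.range n,
      (if Even i then (p ^ f) ^ (i + 1) + 1 else (p ^ f) ^ (i + 1) - 1) := by
    intro h
    obtain ⟨i, -, hi⟩ := (Prime.dvd_finsetProd_iff hp.prime _).1 h
    have hpi : p ∣ (p ^ f) ^ (i + 1) := dvd_pow hpq (by omega)
    split_ifs at hi with hev
    · have h1 := (Nat.dvd_add_right hpi).1 hi
      exact hp.one_lt.ne' (Nat.dvd_one.1 h1)
    · have h1 : 1 ≤ (p ^ f) ^ (i + 1) := Nat.one_le_pow _ _ (by omega)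
      have h3 : p ∣ ((p ^ f) ^ (i + 1) - 1) + 1 := by
        rw [Nat.sub_add_cancel h1]
        exact hpi
      have h4 := (Nat.dvd_add_right hi).1 h3
      exact hp.one_lt.ne' (Nat.dvd_one.1 h4)
  have hgcd : 1 ≤ Nat.gcd n (p ^ f + 1) := Nat.gcd_pos_of_pos_right _ (by omega)
  rcases Nat.even_or_odd' n with ⟨j, rfl | rfl⟩
  · obtain ⟨j', rfl⟩ : ∃ j', j = j' + 1 := ⟨j - 1, by omega⟩
    have hj' : 1 ≤ j' := by omega
    have hN : 2 * (j' + 1) * (2 * (j' + 1) - 1) / 2 = 2 * j' ^ 2 + 3 * j' + 1 := by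
      rw [show 2 * (j' + 1) - 1 = 2 * j' + 1 by omega,
        show 2 * (j' + 1) * (2 * j' + 1) = 2 * (2 * j' ^ 2 + 3 * j' + 1) by ring,
        Nat.mul_div_cancel_left _ (by norm_num)]
    rw [hN] at hformula
    have hlt := h11_lo_psu_even (p ^ f) hq2 j'
    rw [show 2 * j' + 2 = 2 * (j' + 1) by ring] at hlt
    refine lo_good hp f hf (Nat.gcd (2 * (j' + 1)) (p ^ f + 1) * (p ^ f + 1)) _
      (2 * j' ^ 2 + 3 * j' + 1) _ (2 * j' ^ 2 + 5 * j' + 2) ?_ hc hM ?_ ?_ ?_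
    · rw [mul_assoc]
      exact hformula
    · calc _ < (p ^ f + 1) * (p ^ f) ^ (2 * j' ^ 2 + 5 * j' + 2) := hlt
        _ ≤ Nat.gcd (2 * (j' + 1)) (p ^ f + 1) * (p ^ f + 1) *
            (p ^ f) ^ (2 * j' ^ 2 + 5 * j' + 2) := by
            rw [mul_assoc]
            exact Nat.le_mul_of_pos_left _ hgcd
    · nlinarith
    · nlinarith
  · have hj : 1 ≤ j := by omega
    have hN : (2 * j + 1) * (2 * j + 1 - 1) / 2 = 2 * j ^ 2 + j := by
      rw [show 2 * j + 1 - 1 = 2 * j by omega,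
        show (2 * j + 1) * (2 * j) = 2 * (2 * j ^ 2 + j) by ring,
        Nat.mul_div_cancel_left _ (by norm_num)]
    rw [hN] at hformula
    have hlt := (h11_lo_psu_odd (p ^ f) hq2 j).2 hj
    refine lo_good hp f hf (Nat.gcd (2 * j + 1) (p ^ f + 1) * (p ^ f + 1)) _
      (2 * j ^ 2 + j) _ (2 * j ^ 2 + 3 * j) ?_ hc hM ?_ ?_ ?_
    · rw [mul_assoc]
      exact hformula
    · calc _ < (p ^ f + 1) * (p ^ f) ^ (2 * j ^ 2 + 3 * j) := hlt
        _ ≤ Nat.gcd (2 * j + 1) (p ^ f + 1) * (p ^ f + 1) * (p ^ f) ^ (2 * j ^ 2 + 3 * j) := by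
            rw [mul_assoc]
            exact Nat.le_mul_of_pos_left _ hgcd
    · nlinarith
    · nlinarith

end Cfsg.Agent.Lib.helper44.LO
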