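import Mathlib
import Cfsg.Agent.Lib.helper33.M24BDefs
import Cfsg.Agent.S0364

set_option autoImplicit false
open Cfsg Cfsg.Agent.Lib.helper33.M24B

namespace Cfsg.Agent.Lib.helper11.M24B

/-- S5006 PIECE CNT_11. -/
theorem count_11 (h11 : ∀ z : ↥M24, orderOf z = 11 →
      Nat.card (Subgroup.centralizer ({z} : Set ↥M24)) = 11) :
    22256640 ≤ Set.ncard {y : ↥M24 | orderOf y = 11} := by
  classical
  have : Fact (Nat.Prime 11) := ⟨by norm_num⟩
  have hcard := Cfsg.Agent.S0364.result
  obtain ⟨z, hz⟩ := exists_prime_orderOf_dvd_card' (G := ↥M24) 11 (by rw [hcard]; norm_num)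
  have hC := h11 z hz
  rw [Subgroup.nat_card_centralizer_nat_card_stabilizer] at hC
  have hos : Nat.card (MulAction.orbit (ConjAct ↥M24) z)
      * Nat.card (MulAction.stabilizer (ConjAct ↥M24) z) = Nat.card (ConjAct ↥M24) := by
    have : Fintype (ConjAct ↥M24) := Fintype.ofFinite _
    have : Fintype (MulAction.orbit (ConjAct ↥M24) z) := Fintype.ofFinite _
    have : Fintype (MulAction.stabilizer (ConjAct ↥M24) z) := Fintype.ofFinite _
    rw [Nat.card_eq_fintype_card, Nat.card_eq_fintype_card, Nat.card_eq_fintype_card]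
    exact MulAction.card_orbit_mul_card_stabilizer_eq_card_group (ConjAct ↥M24) z
  have hcA : Nat.card (ConjAct ↥M24) = 244823040 := hcard
  rw [hC, hcA] at hos
  have horb : Nat.card (MulAction.orbit (ConjAct ↥M24) z) = 22256640 := by omega
  have hsub : MulAction.orbit (ConjAct ↥M24) z ⊆ {y : ↥M24 | orderOf y = 11} := by
    rintro y ⟨g, rfl⟩
    show orderOf (g • z) = 11
    rw [ConjAct.smul_def, ← hz]
    exact MulEquiv.orderOf_eq (MulAut.conj (ConjAct.ofConjAct g)) z
  rw [← horb, Nat.card_coe_set_eq]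
  exact Set.ncard_le_ncard hsub (Set.toFinite _)

end Cfsg.Agent.Lib.helper11.M24B
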