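import Mathlib
import Cfsg.Agent.Lib.helper33.M24BDefs
import Cfsg.Agent.S5600
import Cfsg.Agent.S5607
import Cfsg.Agent.S5394
import Cfsg.Agent.S0364

set_option autoImplicit false
open Cfsg Cfsg.Agent.Lib.helper33.M24B

namespace Cfsg.Agent.Lib.helper11.M24B

/-- Fixed-point congruence: a permutation of `p`-power order. -/
theorem h11_fix_modEq_univ {α : Type*} [Fintype α] [DecidableEq α] (σ : Equiv.Perm α)
    (p n : ℕ) [hp : Fact p.Prime] (hσ : σ ^ p ^ n = 1) :
    Fintype.card α ≡ Fintype.card {a : α // σ a = a} [MOD p] := by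
  have h := Equiv.Perm.card_compl_support_modEq hσ
  have e1 : σ.supportᶜ = Finset.univ.filter (fun a : α => σ a = a) := by
    ext x; simp
  rw [e1, ← Fintype.card_subtype] at h
  exact h.symm

/-- Fixed-point congruence for commuting permutations. -/
theorem h11_fix_modEq {α : Type*} [Fintype α] [DecidableEq α] (σ τ : Equiv.Perm α)
    (hc : σ * τ = τ * σ) (p n : ℕ) [hp : Fact p.Prime] (hσ : σ ^ p ^ n = 1) :
    Fintype.card {a : α // τ a = a} ≡ Fintype.card {a : α // τ a = a ∧ σ a = a} [MOD p] := by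
  have hinv : ∀ a : α, τ (σ a) = σ a ↔ τ a = a := by
    intro a
    have h1 : τ (σ a) = σ (τ a) := by
      have := congrArg (fun f : Equiv.Perm α => f a) hc
      simpa [Equiv.Perm.mul_apply] using this.symm
    rw [h1, σ.injective.eq_iff]
  have hσ' : (σ.subtypePerm (p := fun a : α => τ a = a) hinv) ^ p ^ n = 1 := by
    rw [Equiv.Perm.subtypePerm_pow]
    ext x
    simp [hσ]
  have h := h11_fix_modEq_univ (σ.subtypePerm (p := fun a : α => τ a = a) hinv) p n hσ'
  have e : Fintype.card {x : {a : α // τ a = a} //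
      (σ.subtypePerm (p := fun a : α => τ a = a) hinv) x = x}
      = Fintype.card {a : α // τ a = a ∧ σ a = a} := by
    refine Fintype.card_congr ?_
    refine (Equiv.subtypeEquivRight (fun x => ?_)).trans
      (Equiv.subtypeSubtypeEquivSubtypeInter (fun a : α => τ a = a) (fun a : α => σ a = a))
    rw [Subtype.ext_iff, Equiv.Perm.subtypePerm_apply]
  rw [e] at h
  exact h

/-- An element of `M24` fixing six points has order dividing 16 or 3. -/
theorem h11_six_fixed (g : Equiv.Perm GolayPt) (hg : g ∈ M24)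
    (h6 : 6 ≤ Fintype.card {a : GolayPt // g a = a}) : orderOf g ∣ 16 ∨ orderOf g ∣ 3 := by
  classical
  rw [Fintype.card_subtype] at h6
  obtain ⟨E, hEsub, hE⟩ := Finset.exists_subset_card_eq h6
  have hfix : ∀ p ∈ E, g p = p := fun p hp => (Finset.mem_filter.mp (hEsub hp)).2
  obtain ⟨-, h16, h3⟩ := Cfsg.Agent.S5600.result E hE
  let H : Subgroup (Equiv.Perm GolayPt) :=
    { carrier := {g | g ∈ M24 ∧ ∀ p ∈ E, g p = p}
      mul_mem' := by
        rintro a b ⟨ha, ha'⟩ ⟨hb, hb'⟩
        refine ⟨M24.mul_mem ha hb, fun p hp => ?_⟩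
        rw [Equiv.Perm.mul_apply, hb' p hp, ha' p hp]
      one_mem' := ⟨M24.one_mem, fun p _ => rfl⟩
      inv_mem' := by
        rintro a ⟨ha, ha'⟩
        refine ⟨M24.inv_mem ha, fun p hp => ?_⟩
        rw [Equiv.Perm.inv_eq_iff_eq]
        exact (ha' p hp).symm }
  have hgH : g ∈ H := ⟨hg, hfix⟩
  have hdvd : orderOf g ∣ Nat.card H := Subgroup.orderOf_dvd_natCard H hgH
  have hcardH : Nat.card H
      = Nat.card {g : Equiv.Perm GolayPt // g ∈ M24 ∧ ∀ p ∈ E, g p = p} := rfl
  by_cases ho : ∃ o ∈ octads, E ⊆ o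
  · left; rw [hcardH, h16 ho] at hdvd; exact hdvd
  · right; rw [hcardH, (h3 ho).1] at hdvd; exact hdvd

/-- An element of `M24` of order 11 has exactly two fixed points. -/
theorem h11_fix_eleven (z : Equiv.Perm GolayPt) (hzM : z ∈ M24) (hz : orderOf z = 11) :
    Fintype.card {a : GolayPt // z a = a} = 2 := by
  classical
  have : Fact (Nat.Prime 11) := ⟨by norm_num⟩
  have hz11 : z ^ 11 ^ 1 = 1 := by rw [pow_one, ← hz]; exact pow_orderOf_eq_one _
  have h1 := h11_fix_modEq_univ z 11 1 hz11
  have hcardG : Fintype.card GolayPt = 24 := by decide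
  rw [hcardG] at h1
  have hle : Fintype.card {a : GolayPt // z a = a} ≤ 24 := by
    rw [← hcardG]; exact Fintype.card_subtype_le _
  have hne24 : Fintype.card {a : GolayPt // z a = a} ≠ 24 := by
    intro h
    have hall : ∀ a : GolayPt, z a = a := by
      have : Fintype.card {a : GolayPt // z a = a} = Fintype.card GolayPt := by rw [h, hcardG]
      intro a
      by_contra hna
      have hlt : Fintype.card {a : GolayPt // z a = a} < Fintype.card GolayPt :=
        Fintype.card_subtype_lt hna
      omega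
    have : z = 1 := Equiv.ext hall
    rw [this, orderOf_one] at hz
    omega
  have hlt6 : Fintype.card {a : GolayPt // z a = a} < 6 := by
    by_contra hcon
    rw [not_lt] at hcon
    rcases h11_six_fixed z hzM hcon with h | h
    · rw [hz] at h; omega
    · rw [hz] at h; omega
  have h1' : 24 % 11 = Fintype.card {a : GolayPt // z a = a} % 11 := h1
  omega

/-- No element of prime order other than 11 commutes with an element of order 11. -/
theorem h11_prime_cent (z c : Equiv.Perm GolayPt) (hzM : z ∈ M24) (hcM : c ∈ M24)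
    (hz : orderOf z = 11) (hcz : c * z = z * c) (r : ℕ) (hr : r.Prime) (hc : orderOf c = r) :
    r = 11 := by
  classical
  have : Fact (Nat.Prime 11) := ⟨by norm_num⟩
  have : Fact (Nat.Prime r) := ⟨hr⟩
  have hz11 : z ^ 11 ^ 1 = 1 := by rw [pow_one, ← hz]; exact pow_orderOf_eq_one _
  have hcr : c ^ r ^ 1 = 1 := by rw [pow_one, ← hc]; exact pow_orderOf_eq_one _
  have hcardG : Fintype.card GolayPt = 24 := by decide
  have hfz := h11_fix_eleven z hzM hz
  -- the three congruences
  have h1 := h11_fix_modEq_univ c r 1 hcr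
  rw [hcardG] at h1
  have h2 := h11_fix_modEq z c hcz.symm 11 1 hz11
  have h3 := h11_fix_modEq c z hcz r 1 hcr
  rw [hfz] at h3
  have hsw : Fintype.card {a : GolayPt // z a = a ∧ c a = a}
      = Fintype.card {a : GolayPt // c a = a ∧ z a = a} :=
    Fintype.card_congr (Equiv.subtypeEquivRight (fun a => and_comm))
  rw [hsw] at h3
  have hle2 : Fintype.card {a : GolayPt // c a = a ∧ z a = a} ≤ 2 := by
    rw [← hfz]
    exact Fintype.card_subtype_mono _ _ (fun a h => h.2)
  have hle : Fintype.card {a : GolayPt // c a = a} ≤ 24 := by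
    rw [← hcardG]; exact Fintype.card_subtype_le _
  have hne24 : Fintype.card {a : GolayPt // c a = a} ≠ 24 := by
    intro h
    have hall : ∀ a : GolayPt, c a = a := by
      intro a
      by_contra hna
      have hlt : Fintype.card {a : GolayPt // c a = a} < Fintype.card GolayPt :=
        Fintype.card_subtype_lt hna
      omega
    have : c = 1 := Equiv.ext hall
    rw [this, orderOf_one] at hc
    exact hr.ne_one hc.symm
  -- arithmetic
  obtain ⟨fc, hfc⟩ : ∃ fc, fc = Fintype.card {a : GolayPt // c a = a} := ⟨_, rfl⟩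
  obtain ⟨fzc, hfzc⟩ : ∃ fzc, fzc = Fintype.card {a : GolayPt // c a = a ∧ z a = a} := ⟨_, rfl⟩
  rw [← hfc] at h1 h2 hle hne24
  rw [← hfzc] at h2 h3 hle2
  have d1 : r ∣ 24 - fc := (Nat.modEq_iff_dvd' hle).mp h1.symm
  have d3 : r ∣ 2 - fzc := (Nat.modEq_iff_dvd' hle2).mp h3.symm
  have h2' : fc % 11 = fzc % 11 := h2
  have hkey : r = 11 ∨ (r = 2 ∧ (fc = 0 ∨ fc = 2 ∨ fc = 22)) := by
    have hr2 := hr.two_le
    have hrle : r ≤ 24 := by
      by_cases hf : fzc = 2
      · have : 0 < 24 - fc := by omega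
        exact (Nat.le_of_dvd this d1).trans (by omega)
      · have : 0 < 2 - fzc := by omega
        exact (Nat.le_of_dvd this d3).trans (by omega)
    interval_cases fzc <;> interval_cases fc <;> first
      | omega
      | (interval_cases r <;> first
          | omega
          | (exfalso; revert hr; norm_num))
  rcases hkey with h | ⟨hr2, hfc3⟩
  · exact h
  · exfalso
    rw [hr2] at hc
    rcases (Cfsg.Agent.S5394.result).1 c hcM hc with hoct | hfpf
    · have h8 : (Finset.univ.filter fun p => c p = p).card = 8 := hoct.2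
      rw [← Fintype.card_subtype, ← hfc] at h8
      omega
    · have h7680 := (Cfsg.Agent.S5607.result c hcM hc hfpf).1
      let H : Subgroup (Equiv.Perm GolayPt) :=
        { carrier := {d | d ∈ M24 ∧ d * c = c * d}
          mul_mem' := by
            rintro a b ⟨ha, ha'⟩ ⟨hb, hb'⟩
            refine ⟨M24.mul_mem ha hb, ?_⟩
            rw [mul_assoc, hb', ← mul_assoc, ha', mul_assoc]
          one_mem' := ⟨M24.one_mem, by rw [one_mul, mul_one]⟩
          inv_mem' := by
            rintro a ⟨ha, ha'⟩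
            refine ⟨M24.inv_mem ha, ?_⟩
            rw [inv_mul_eq_iff_eq_mul, ← mul_assoc, ha', mul_assoc, mul_inv_cancel, mul_one] }
      have hzH : z ∈ H := ⟨hzM, hcz.symm⟩
      have hdvd : orderOf z ∣ Nat.card H := Subgroup.orderOf_dvd_natCard H hzH
      have hcardH : Nat.card H
          = Nat.card {d : Equiv.Perm GolayPt // d ∈ M24 ∧ d * c = c * d} := rfl
      rw [hcardH, h7680, hz] at hdvd
      omega

/-- S5006 PIECE E11. -/
theorem cent_eleven (z : ↥M24) (hz : orderOf z = 11) :
    Nat.card (Subgroup.centralizer ({z} : Set ↥M24)) = 11 := by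
  classical
  have hzp : orderOf (z : Equiv.Perm GolayPt) = 11 := by rw [Subgroup.orderOf_coe]; exact hz
  have hzC : z ∈ Subgroup.centralizer ({z} : Set ↥M24) := by
    rw [Subgroup.mem_centralizer_iff]
    intro h hh
    rw [Set.mem_singleton_iff] at hh
    rw [hh]
  have h11 : 11 ∣ Nat.card (Subgroup.centralizer ({z} : Set ↥M24)) := by
    rw [← hz]; exact Subgroup.orderOf_dvd_natCard _ hzC
  have hdvd : Nat.card (Subgroup.centralizer ({z} : Set ↥M24)) ∣ 244823040 := by
    rw [← Cfsg.Agent.S0364.result]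
    exact Subgroup.card_subgroup_dvd_card _
  have hprime : ∀ r : ℕ, r.Prime → r ∣ Nat.card (Subgroup.centralizer ({z} : Set ↥M24)) →
      r = 11 := by
    intro r hr hrd
    have : Fact r.Prime := ⟨hr⟩
    obtain ⟨x, hx⟩ := exists_prime_orderOf_dvd_card' (G := Subgroup.centralizer ({z} : Set ↥M24))
      r hrd
    have hxc : z * x.1 = x.1 * z := by
      have := x.2
      rw [Subgroup.mem_centralizer_iff] at this
      exact this z rfl
    have hxo : orderOf ((x.1 : ↥M24) : Equiv.Perm GolayPt) = r := by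
      rw [Subgroup.orderOf_coe, Subgroup.orderOf_coe]; exact hx
    refine h11_prime_cent (z : Equiv.Perm GolayPt) ((x.1 : ↥M24) : Equiv.Perm GolayPt) z.2 x.1.2 hzp
      ?_ r hr hxo
    have := congrArg (Subtype.val) hxc
    simpa using this.symm
  obtain ⟨m, hm⟩ := h11
  have hm1 : m = 1 := by
    by_contra hne
    obtain ⟨q, hq, hqm⟩ := Nat.exists_prime_and_dvd hne
    have hq11 : q = 11 := hprime q hq (by rw [hm]; exact Dvd.dvd.mul_left hqm 11)
    rw [hq11] at hqm
    obtain ⟨k, hk⟩ := hqm
    rw [hm, hk] at hdvd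
    have : 121 ∣ 244823040 := Dvd.dvd.trans ⟨k, by ring⟩ hdvd
    omega
  rw [hm, hm1]

end Cfsg.Agent.Lib.helper11.M24B
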