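import Mathlib

/-!
# S5075 (QUOT, second half): linear-algebra lemmas

`q2_transitive`: in dimension at least 3 the maps of determinant 1 are transitive on the pairs
(vector, linear form) with the form vanishing at the vector.
-/

set_option autoImplicit false

namespace Cfsg.Agent.Lib.helper11.McL

/-- A linear form through a surjection. -/
theorem q2_desc {F W' X : Type*} [Field F] [AddCommGroup W'] [Module F W'] [AddCommGroup X]
    [Module F X] (π : W' →ₗ[F] X) (hπs : Function.Surjective π) (ψ : W' →ₗ[F] F)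
    (hle : ∀ w, π w = 0 → ψ w = 0) : ∃ ψb : X →ₗ[F] F, ∀ w, ψb (π w) = ψ w := by
  have key : ∀ w w', π w = π w' → ψ w = ψ w' := by
    intro w w' h
    have := hle (w - w') (by rw [map_sub, h, sub_self])
    rw [map_sub, sub_eq_zero] at this; exact this
  refine ⟨{ toFun := fun x => ψ (Function.surjInv hπs x), map_add' := ?_, map_smul' := ?_ }, ?_⟩
  · intro x y
    rw [← map_add]
    apply key
    rw [map_add, Function.surjInv_eq hπs, Function.surjInv_eq hπs, Function.surjInv_eq hπs]
  · intro r x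
    simp only [RingHom.id_apply]
    rw [← map_smul]
    apply key
    rw [map_smul, Function.surjInv_eq hπs, Function.surjInv_eq hπs]
  · intro w
    apply key
    exact Function.surjInv_eq hπs (π w)

/-- A linear form taking the value 1 at a nonzero vector. -/
theorem q2_dual_one {F A : Type*} [Field F] [AddCommGroup A] [Module F A] (a : A) (ha : a ≠ 0) :
    ∃ α : Module.Dual F A, α a = 1 := by
  have hn : a ∉ (⊥ : Submodule F A) := by simpa using ha
  obtain ⟨f, hf, -⟩ := Submodule.exists_dual_map_eq_bot_of_notMem hn inferInstance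
  refine ⟨(f a)⁻¹ • f, ?_⟩
  rw [LinearMap.smul_apply, smul_eq_mul, inv_mul_cancel₀ hf]

/-- Extension of an isomorphism of hyperplanes. -/
theorem q2_ext {F A B : Type*} [Field F] [AddCommGroup A] [Module F A] [AddCommGroup B]
    [Module F B] (α : Module.Dual F A) (a : A) (hα : α a = 1) (β : Module.Dual F B) (b : B)
    (hβ : β b = 1) (h : ↥(LinearMap.ker α) ≃ₗ[F] ↥(LinearMap.ker β)) :
    ∃ e : A ≃ₗ[F] B, (∀ v : ↥(LinearMap.ker α), e (v : A) = (h v : B)) ∧ e a = b ∧
      ∀ v, β (e v) = α v := by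
  have hPA : ∀ v : A, v - α v • a ∈ LinearMap.ker α := by
    intro v
    rw [LinearMap.mem_ker, map_sub, map_smul, hα, smul_eq_mul, mul_one, sub_self]
  have hPB : ∀ w : B, w - β w • b ∈ LinearMap.ker β := by
    intro w
    rw [LinearMap.mem_ker, map_sub, map_smul, hβ, smul_eq_mul, mul_one, sub_self]
  let PA : A →ₗ[F] ↥(LinearMap.ker α) :=
    (LinearMap.id - α.smulRight a).codRestrict (LinearMap.ker α) (fun v => by
      simpa using hPA v)
  have hPAv : ∀ v : A, ((PA v : ↥(LinearMap.ker α)) : A) = v - α v • a := by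
    intro v; simp [PA]
  let fwd : A →ₗ[F] B :=
    (LinearMap.ker β).subtype ∘ₗ h.toLinearMap ∘ₗ PA + α.smulRight b
  have hfwd : ∀ v : A, fwd v = (h (PA v) : B) + α v • b := by
    intro v; simp [fwd]
  have hβfwd : ∀ v : A, β (fwd v) = α v := by
    intro v
    rw [hfwd, map_add, map_smul, hβ, smul_eq_mul, mul_one]
    have := (h (PA v)).2
    rw [LinearMap.mem_ker] at this
    rw [this, zero_add]
  have hinj : Function.Injective fwd := by
    rw [← LinearMap.ker_eq_bot, LinearMap.ker_eq_bot']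
    intro v hv
    have hαv : α v = 0 := by rw [← hβfwd v, hv, map_zero]
    rw [hfwd, hαv, zero_smul, add_zero] at hv
    have h1 : h (PA v) = 0 := Subtype.ext hv
    have h2 : PA v = 0 := by simpa using h1
    have h3 := hPAv v
    rw [h2, hαv, zero_smul, sub_zero] at h3
    exact h3.symm
  have hsurj : Function.Surjective fwd := by
    intro w
    refine ⟨(h.symm ⟨w - β w • b, hPB w⟩ : A) + β w • a, ?_⟩
    have hker := (h.symm ⟨w - β w • b, hPB w⟩).2
    rw [LinearMap.mem_ker] at hker
    have hαv : α ((h.symm ⟨w - β w • b, hPB w⟩ : A) + β w • a) = β w := by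
      rw [map_add, map_smul, hα, smul_eq_mul, mul_one, hker, zero_add]
    have hPAeq : PA ((h.symm ⟨w - β w • b, hPB w⟩ : A) + β w • a)
        = h.symm ⟨w - β w • b, hPB w⟩ := by
      apply Subtype.ext
      rw [hPAv, hαv, add_sub_cancel_right]
    rw [hfwd, hαv, hPAeq, LinearEquiv.apply_symm_apply]
    simp
  refine ⟨LinearEquiv.ofBijective fwd ⟨hinj, hsurj⟩, ?_, ?_, ?_⟩
  · intro v
    show fwd (v : A) = _
    rw [hfwd]
    have hv := v.2
    rw [LinearMap.mem_ker] at hv
    have : PA (v : A) = v := by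
      apply Subtype.ext
      rw [hPAv, hv, zero_smul, sub_zero]
    rw [this, hv, zero_smul, add_zero]
  · show fwd a = b
    rw [hfwd, hα, one_smul]
    have : PA a = 0 := by
      apply Subtype.ext
      rw [hPAv, hα, one_smul, sub_self]; rfl
    rw [this, map_zero]
    simp
  · intro v
    exact hβfwd v

/-- Between spaces of equal finite dimension there is an isomorphism taking a given nonzero
vector to a given nonzero vector. -/
theorem q2_equiv_apply {F A B : Type*} [Field F] [AddCommGroup A] [Module F A] [AddCommGroup B]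
    [Module F B] [FiniteDimensional F A] [FiniteDimensional F B]
    (hd : Module.finrank F A = Module.finrank F B) (a : A) (ha : a ≠ 0) (b : B) (hb : b ≠ 0) :
    ∃ e : A ≃ₗ[F] B, e a = b := by
  obtain ⟨α, hα⟩ := q2_dual_one (F := F) a ha
  obtain ⟨β, hβ⟩ := q2_dual_one (F := F) b hb
  have hα0 : α ≠ 0 := by
    intro h; rw [h] at hα; simp at hα
  have hβ0 : β ≠ 0 := by
    intro h; rw [h] at hβ; simp at hβ
  have h1 := Module.Dual.finrank_ker_add_one_of_ne_zero hα0
  have h2 := Module.Dual.finrank_ker_add_one_of_ne_zero hβ0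
  have hk : Module.finrank F ↥(LinearMap.ker α) = Module.finrank F ↥(LinearMap.ker β) := by
    omega
  obtain ⟨e, -, he, -⟩ := q2_ext α a hα β b hβ (LinearEquiv.ofFinrankEq _ _ hk)
  exact ⟨e, he⟩

/-- In dimension at least 3 the maps of determinant 1 are transitive on the pairs
(vector, linear form) with the form vanishing at the vector. -/
theorem q2_transitive {F X : Type*} [Field F] [AddCommGroup X] [Module F X]
    [FiniteDimensional F X] (h3 : 3 ≤ Module.finrank F X) (x0 x : X) (ξ0 ξ : Module.Dual F X)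
    (hx0 : x0 ≠ 0) (hx : x ≠ 0) (hξ0 : ξ0 ≠ 0) (hξ : ξ ≠ 0) (h0 : ξ0 x0 = 0) (h1 : ξ x = 0) :
    ∃ g : X ≃ₗ[F] X, LinearMap.det (g : X →ₗ[F] X) = 1 ∧ g x0 = x ∧ ∀ v, ξ (g v) = ξ0 v := by
  classical
  -- vectors with value 1
  obtain ⟨e0', he0'⟩ : ∃ v, ξ0 v ≠ 0 := by
    by_contra hcon
    simp only [not_exists, not_not] at hcon
    exact hξ0 (LinearMap.ext hcon)
  obtain ⟨e1', he1'⟩ : ∃ v, ξ v ≠ 0 := by
    by_contra hcon
    simp only [not_exists, not_not] at hcon
    exact hξ (LinearMap.ext hcon)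
  have he0 : ξ0 ((ξ0 e0')⁻¹ • e0') = 1 := by
    rw [map_smul, smul_eq_mul, inv_mul_cancel₀ he0']
  have he1 : ξ ((ξ e1')⁻¹ • e1') = 1 := by
    rw [map_smul, smul_eq_mul, inv_mul_cancel₀ he1']
  have hk0 := Module.Dual.finrank_ker_add_one_of_ne_zero hξ0
  have hk1 := Module.Dual.finrank_ker_add_one_of_ne_zero hξ
  have hk : Module.finrank F ↥(LinearMap.ker ξ0) = Module.finrank F ↥(LinearMap.ker ξ) := by
    omega
  have hx0k : (⟨x0, h0⟩ : ↥(LinearMap.ker ξ0)) ≠ 0 := by
    intro h; exact hx0 (congrArg Subtype.val h)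
  have hxk : (⟨x, h1⟩ : ↥(LinearMap.ker ξ)) ≠ 0 := by
    intro h; exact hx (congrArg Subtype.val h)
  obtain ⟨h, hh⟩ := q2_equiv_apply hk (⟨x0, h0⟩ : ↥(LinearMap.ker ξ0)) hx0k
    (⟨x, h1⟩ : ↥(LinearMap.ker ξ)) hxk
  obtain ⟨g0, hg0k, -, hg0ξ⟩ := q2_ext ξ0 _ he0 ξ _ he1 h
  have hg0x : g0 x0 = x := by
    have := hg0k ⟨x0, h0⟩
    rw [hh] at this
    exact this
  -- the determinant of g0
  have hδ : IsUnit (LinearMap.det (g0 : X →ₗ[F] X)) := LinearEquiv.isUnit_det' g0
  have hδ0 : LinearMap.det (g0 : X →ₗ[F] X) ≠ 0 := hδ.ne_zero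
  -- a vector of ker ξ outside the line of x
  obtain ⟨y, hyk, hyx⟩ : ∃ y, ξ y = 0 ∧ y ∉ Submodule.span F {x} := by
    by_contra hcon
    simp only [not_exists, not_and, not_not] at hcon
    have hle : LinearMap.ker ξ ≤ Submodule.span F {x} := fun y hy => hcon y hy
    have h2 := Submodule.finrank_mono hle
    have h4 : Module.finrank F ↥(Submodule.span F {x}) ≤ 1 := by
      have := finrank_span_le_card (R := F) ({x} : Set X)
      simpa using this
    omega
  obtain ⟨η, hηy, hηx⟩ := Submodule.exists_dual_map_eq_bot_of_notMem hyx inferInstance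
  have hηx0 : η x = 0 := by
    have : η x ∈ (Submodule.span F {x}).map η :=
      Submodule.mem_map_of_mem (Submodule.mem_span_singleton_self x)
    rw [hηx] at this
    exact (Submodule.mem_bot F).mp this
  -- the dilation
  set a : F := (LinearMap.det (g0 : X →ₗ[F] X))⁻¹ with ha
  set f : Module.Dual F X := ((a - 1) * (η y)⁻¹) • η with hf
  have hfy : 1 + f y = a := by
    rw [hf, LinearMap.smul_apply, smul_eq_mul, mul_assoc, inv_mul_cancel₀ hηy, mul_one]
    ring
  have hfx : f x = 0 := by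
    rw [hf, LinearMap.smul_apply, hηx0, smul_zero]
  have hunit : IsUnit (1 + f y) := by
    rw [hfy, ha]
    exact (isUnit_iff_ne_zero.mpr (inv_ne_zero hδ0))
  set s : X ≃ₗ[F] X := LinearEquiv.dilatransvection hunit with hs
  have hsapp : ∀ v, s v = v + f v • y := fun v => LinearEquiv.dilatransvection.apply
  have hsdet : LinearMap.det (s : X →ₗ[F] X) = a := by
    rw [hs, LinearEquiv.dilatransvection.coe_toLinearMap, LinearMap.transvection.det, hfy]
  refine ⟨g0.trans s, ?_, ?_, ?_⟩
  · have : ((g0.trans s : X ≃ₗ[F] X) : X →ₗ[F] X) = (s : X →ₗ[F] X) ∘ₗ (g0 : X →ₗ[F] X) := rfl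
    rw [this, LinearMap.det_comp, hsdet, ha, inv_mul_cancel₀ hδ0]
  · rw [LinearEquiv.trans_apply, hg0x, hsapp, hfx, zero_smul, add_zero]
  · intro v
    rw [LinearEquiv.trans_apply, hsapp, map_add, map_smul, hyk, smul_zero, add_zero, hg0ξ]

end Cfsg.Agent.Lib.helper11.McL
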