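import Mathlib
import Cfsg.Agent.Lib.helper85.McLDefs
import Cfsg.Agent.Lib.helper11.McLQ2a

/-!
# S5075 (QUOT, second half)

`quot_neg_or_lift`: if `K` acts on an (abstract) quotient `X` of `[V, K]` by `[V, K] ⊓ C_V(K)` as
`SL(X)` or `Sp(X)`, then some element of `K` acts as `-1` on `X`, or every transvection of `X`
lifts to a transvection of `V` in `K` (and `dim X ≥ 3`).
-/

set_option autoImplicit false

open Cfsg.Agent.Lib.helper85.McL

namespace Cfsg.Agent.Lib.helper11.McL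

universe u

variable {p : ℕ} [Fact p.Prime] {V : Type u} [AddCommGroup V] [Module (ZMod p) V]

/-- `K` preserves `[V, K]`. -/
theorem q2_commSub_inv (K : Subgroup (V ≃ₗ[ZMod p] V)) (k : V ≃ₗ[ZMod p] V) (hk : k ∈ K)
    (w : V) (hw : w ∈ commSub K) : k w ∈ commSub K := by
  have hle : (commSub K).map (k : V →ₗ[ZMod p] V) ≤ commSub K := by
    unfold commSub
    rw [Submodule.map_span_le]
    rintro m ⟨k', hk', v, rfl⟩
    apply Submodule.subset_span
    refine ⟨k * k' * k⁻¹, K.mul_mem (K.mul_mem hk hk') (K.inv_mem hk), k v, ?_⟩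
    simp
  exact hle (Submodule.mem_map_of_mem hw)

/-- S5075, second half of piece QUOT, for an abstract quotient `π : [V, K] → X` with kernel
`radSub K` on which `K` acts through `ρ`. -/
theorem quot_neg_or_lift [Finite V] (K : Subgroup (V ≃ₗ[ZMod p] V)) (hf : Faithful K)
    (ht : ∃ t ∈ K, IsTv t)
    (X : Type u) [AddCommGroup X] [Module (ZMod p) X] [Finite X]
    (π : ↥(commSub K) →ₗ[ZMod p] X) (hπs : Function.Surjective π)
    (hπk : ∀ w : ↥(commSub K), π w = 0 ↔ (w : V) ∈ radSub K)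
    (ρ : ↥K →* (X ≃ₗ[ZMod p] X))
    (hρ : ∀ (k : ↥K) (w : ↥(commSub K)) (hkw : (k : V ≃ₗ[ZMod p] V) (w : V) ∈ commSub K),
      ρ k (π w) = π ⟨(k : V ≃ₗ[ZMod p] V) (w : V), hkw⟩)
    (hsl : IsSLSp ρ.range) : HasNeg K ∨ HasLift K := by
  classical
  -- −1 in the range gives HasNeg
  have hneg : (∃ z : ↥K, ρ z = LinearEquiv.neg (ZMod p)) → HasNeg K := by
    rintro ⟨z, hz⟩
    refine ⟨z.1, z.2, fun w hw => ?_⟩
    have hzw : (z : V ≃ₗ[ZMod p] V) w ∈ commSub K := q2_commSub_inv K z.1 z.2 w hw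
    have h1 := hρ z ⟨w, hw⟩ hzw
    rw [hz] at h1
    have h2 : π (⟨(z : V ≃ₗ[ZMod p] V) w, hzw⟩ + ⟨w, hw⟩) = 0 := by
      rw [map_add, ← h1]
      simp
    exact (hπk _).mp h2
  -- the transvection
  obtain ⟨t0, ht0K, c0, φ0, hc0, hφ0, hφc0, ht0⟩ := ht
  have hc0W : c0 ∈ commSub K := by
    obtain ⟨v, hv⟩ : ∃ v, φ0 v ≠ 0 := by
      by_contra hcon
      simp only [not_exists, not_not] at hcon
      exact hφ0 (LinearMap.ext hcon)
    have h1 : t0 v - v ∈ commSub K := Submodule.subset_span ⟨t0, ht0K, v, rfl⟩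
    have h2 : c0 = (φ0 v)⁻¹ • (t0 v - v) := by
      rw [ht0 v, add_sub_cancel_left, smul_smul, inv_mul_cancel₀ hv, one_smul]
    rw [h2]
    exact Submodule.smul_mem _ _ h1
  have hφW0 : ∀ u ∈ radSub K, φ0 u = 0 := by
    intro u hu
    have hfix : t0 u = u := (Submodule.mem_inf.mp hu).2 t0 ht0K
    rw [ht0 u] at hfix
    have h2 : φ0 u • c0 = 0 := by simpa using hfix
    rcases smul_eq_zero.mp h2 with h | h
    · exact h
    · exact absurd h hc0
  have ht0ne : t0 ≠ 1 := by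
    intro h
    apply hφ0
    ext v
    have h1 := ht0 v
    rw [h] at h1
    have h2 : φ0 v • c0 = 0 := by
      have h3 : v = v + φ0 v • c0 := h1
      simpa using h3.symm
    rcases smul_eq_zero.mp h2 with h3 | h3
    · simpa using h3
    · exact absurd h3 hc0
  have hc0W0 : c0 ∉ radSub K := by
    intro hc
    apply ht0ne
    apply hf t0 ht0K
    intro w _
    rw [ht0 w, add_sub_cancel_left]
    exact Submodule.smul_mem _ _ hc
  obtain ⟨u0, hu0W, hφu0⟩ : ∃ u ∈ commSub K, φ0 u ≠ 0 := by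
    by_contra hcon
    simp only [not_exists, not_and, not_not] at hcon
    apply ht0ne
    apply hf t0 ht0K
    intro w hw
    rw [ht0 w, add_sub_cancel_left, hcon w hw, zero_smul]
    exact Submodule.zero_mem _
  -- images in X
  have hx0 : π ⟨c0, hc0W⟩ ≠ 0 := fun h => hc0W0 ((hπk _).mp h)
  obtain ⟨ξ0, hξ0⟩ := q2_desc π hπs (φ0 ∘ₗ (commSub K).subtype)
    (fun w hw => hφW0 _ ((hπk w).mp hw))
  have hξ0' : ∀ (w : V) (hw : w ∈ commSub K), ξ0 (π ⟨w, hw⟩) = φ0 w := fun w hw => hξ0 ⟨w, hw⟩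
  have hξ0ne : ξ0 ≠ 0 := by
    intro h
    apply hφu0
    rw [← hξ0' u0 hu0W, h, LinearMap.zero_apply]
  have hξ0x0 : ξ0 (π ⟨c0, hc0W⟩) = 0 := by rw [hξ0', hφc0]
  -- dimension of X at least 2
  have hdim2 : 2 ≤ Module.finrank (ZMod p) X := by
    have h1 := Module.Dual.finrank_ker_add_one_of_ne_zero hξ0ne
    have h2 : 0 < Module.finrank (ZMod p) ↥(LinearMap.ker ξ0) := by
      rw [Module.finrank_pos_iff_exists_ne_zero]
      exact ⟨⟨π ⟨c0, hc0W⟩, hξ0x0⟩, fun h => hx0 (congrArg Subtype.val h)⟩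
    omega
  rcases hsl with hSL | ⟨B, hA, hN, hSp⟩
  · -- SL
    by_cases h3 : 3 ≤ Module.finrank (ZMod p) X
    · right
      refine ⟨?_, ?_⟩
      · -- dimension count
        have hker : LinearMap.ker π = Submodule.comap (commSub K).subtype (radSub K) := by
          ext w
          rw [LinearMap.mem_ker, hπk, Submodule.mem_comap]; rfl
        have h1 := LinearMap.finrank_range_add_finrank_ker π
        rw [LinearMap.range_eq_top.mpr hπs, finrank_top, hker] at h1
        have h2 : Module.finrank (ZMod p) ↥(Submodule.comap (commSub K).subtype (radSub K))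
            = Module.finrank (ZMod p) ↥(radSub K) :=
          (Submodule.comapSubtypeEquivOfLe (inf_le_left : radSub K ≤ commSub K)).finrank_eq
        omega
      · intro w hwW hwW0 ξ hξw hξW0 ⟨u, huW, hξu⟩
        have hx : π ⟨w, hwW⟩ ≠ 0 := fun h => hwW0 ((hπk _).mp h)
        obtain ⟨ξb, hξb⟩ := q2_desc π hπs (ξ ∘ₗ (commSub K).subtype)
          (fun w' hw' => hξW0 _ ((hπk w').mp hw'))
        have hξb' : ∀ (w' : V) (hw' : w' ∈ commSub K), ξb (π ⟨w', hw'⟩) = ξ w' :=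
          fun w' hw' => hξb ⟨w', hw'⟩
        have hξbne : ξb ≠ 0 := by
          intro h
          apply hξu
          rw [← hξb' u huW, h, LinearMap.zero_apply]
        have hξbx : ξb (π ⟨w, hwW⟩) = 0 := by rw [hξb', hξw]
        obtain ⟨g, hgdet, hgx, hgξ⟩ := q2_transitive h3 (π ⟨c0, hc0W⟩) (π ⟨w, hwW⟩) ξ0 ξb
          hx0 hx hξ0ne hξbne hξ0x0 hξbx
        have hgmem : g ∈ (ρ.range : Set (X ≃ₗ[ZMod p] X)) := by rw [hSL]; exact hgdet
        obtain ⟨k, hk⟩ := hgmem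
        have hkinvK : (k.1)⁻¹ ∈ K := K.inv_mem k.2
        have hkk : ∀ x : V, k.1 ((k.1)⁻¹ x) = x := fun x => by simp
        refine ⟨k.1 c0, φ0 ∘ₗ ((k.1)⁻¹ : V ≃ₗ[ZMod p] V).toLinearMap, k.1 * t0 * (k.1)⁻¹,
          K.mul_mem (K.mul_mem k.2 ht0K) hkinvK, ?_, ?_, ?_⟩
        · intro x
          show k.1 (t0 ((k.1)⁻¹ x)) = x + φ0 ((k.1)⁻¹ x) • k.1 c0
          rw [ht0, map_add, map_smul, hkk]
        · have hkc : k.1 c0 ∈ commSub K := q2_commSub_inv K k.1 k.2 c0 hc0W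
          have h1 := hρ k ⟨c0, hc0W⟩ hkc
          rw [hk, hgx] at h1
          have h2 : π (⟨k.1 c0, hkc⟩ - ⟨w, hwW⟩) = 0 := by rw [map_sub, ← h1, sub_self]
          exact (hπk _).mp h2
        · intro u' hu'
          have hu'' : (k.1)⁻¹ u' ∈ commSub K := q2_commSub_inv K _ hkinvK u' hu'
          have hmem : k.1 ((k.1)⁻¹ u') ∈ commSub K := by rw [hkk]; exact hu'
          have h1 := hρ k ⟨(k.1)⁻¹ u', hu''⟩ hmem
          have h2 : π ⟨k.1 ((k.1)⁻¹ u'), hmem⟩ = π ⟨u', hu'⟩ := by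
            congr 1; exact Subtype.ext (hkk u')
          rw [hk, h2] at h1
          show φ0 ((k.1)⁻¹ u') = ξ u'
          rw [← hξb' u' hu', ← h1, hgξ, hξ0']
    · left
      apply hneg
      have h2 : Module.finrank (ZMod p) X = 2 := by omega
      have hmem : LinearEquiv.neg (ZMod p) ∈ (ρ.range : Set (X ≃ₗ[ZMod p] X)) := by
        rw [hSL]
        show LinearMap.det ((LinearEquiv.neg (ZMod p) : X ≃ₗ[ZMod p] X) : X →ₗ[ZMod p] X) = 1
        have : ((LinearEquiv.neg (ZMod p) : X ≃ₗ[ZMod p] X) : X →ₗ[ZMod p] X)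
            = (-1 : ZMod p) • LinearMap.id := by
          ext v; simp
        rw [this, LinearMap.det_smul, h2, LinearMap.det_id]
        ring
      exact hmem
  · -- Sp
    left
    apply hneg
    have hmem : LinearEquiv.neg (ZMod p) ∈ (ρ.range : Set (X ≃ₗ[ZMod p] X)) := by
      rw [hSp]
      intro x y
      simp
    exact hmem

end Cfsg.Agent.Lib.helper11.McL
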