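import Mathlib
import Cfsg.Agent.Lib.helper85.McLDefs
import Cfsg.Agent.Lib.helper25.McLQuotIrr
import Cfsg.Agent.Lib.helper11.McLQ2

/-!
# S5075 (QUOT, first half and the assembled piece)

The quotient `X = [V, K] / ([V, K] ⊓ C_V(K))`, the action of `K` on it, faithfulness,
irreducibility, and `quot_struct` (piece QUOT of S5075).
-/

set_option autoImplicit false

open Cfsg.Agent.Lib.helper85.McL

namespace Cfsg.Agent.Lib.helper11.McL

universe u

variable {p : ℕ} [Fact p.Prime] {V : Type u} [AddCommGroup V] [Module (ZMod p) V]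

theorem q1_le (H : Subgroup (V ≃ₗ[ZMod p] V)) (C : Set (V ≃ₗ[ZMod p] V)) (hC : Comp H C) :
    Subgroup.closure C ≤ H :=
  (Subgroup.closure_le H).2 hC.sub

/-- `K` is faithful on `[V, K] / W0` (from the unipotent hypothesis). -/
theorem q1_faithful (H : Subgroup (V ≃ₗ[ZMod p] V)) (hU : UnipHyp H)
    (C : Set (V ≃ₗ[ZMod p] V)) (hC : Comp H C) : Faithful (Subgroup.closure C) := by
  intro k hk hkw
  refine hU (radSub (Subgroup.closure C)) (commSub (Subgroup.closure C)) ?_ ?_ k
    (q1_le H C hC hk) ?_ hkw ?_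
  · intro h hh u hu
    obtain ⟨k', hk', hk'w⟩ := hC.fixW h hh
    have hu' := Submodule.mem_inf.mp hu
    have h1 : h u = u := by
      rw [hk'w u hu'.1]
      exact hu'.2 k' hk'
    rw [h1]
    exact hu
  · intro h hh u hu
    obtain ⟨k', hk', hk'w⟩ := hC.fixW h hh
    rw [hk'w u hu]
    exact q2_commSub_inv _ k' hk' u hu
  · intro v
    exact Submodule.subset_span ⟨k, hk, v, rfl⟩
  · intro u hu
    exact (Submodule.mem_inf.mp hu).2 k hk

/-- The kernel of the quotient map, inside `[V, K]`. -/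
def q1Rad (K : Subgroup (V ≃ₗ[ZMod p] V)) : Submodule (ZMod p) ↥(commSub K) :=
  (radSub K).comap (commSub K).subtype

theorem q1_mem_rad (K : Subgroup (V ≃ₗ[ZMod p] V)) (w : ↥(commSub K)) :
    w ∈ q1Rad K ↔ (w : V) ∈ radSub K := Iff.rfl

/-- The restriction of `k ∈ K` to `[V, K]`. -/
def q1Res (K : Subgroup (V ≃ₗ[ZMod p] V)) (k : ↥K) :
    ↥(commSub K) →ₗ[ZMod p] ↥(commSub K) :=
  ((k : V ≃ₗ[ZMod p] V) : V →ₗ[ZMod p] V).restrict
    (fun w hw => q2_commSub_inv K k.1 k.2 w hw)

theorem q1Res_coe (K : Subgroup (V ≃ₗ[ZMod p] V)) (k : ↥K) (w : ↥(commSub K)) :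
    ((q1Res K k w : ↥(commSub K)) : V) = (k : V ≃ₗ[ZMod p] V) (w : V) := rfl

theorem q1Res_le (K : Subgroup (V ≃ₗ[ZMod p] V)) (k : ↥K) :
    q1Rad K ≤ (q1Rad K).comap (q1Res K k) := by
  intro w hw
  have hw' : (w : V) ∈ radSub K := hw
  show ((q1Res K k w : ↥(commSub K)) : V) ∈ radSub K
  have h1 : ((q1Res K k w : ↥(commSub K)) : V) = (w : V) := by
    rw [q1Res_coe]
    exact (Submodule.mem_inf.mp hw').2 k.1 k.2
  rw [h1]
  exact hw'

/-- The action of `K` on the quotient, as endomorphisms. -/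
def q1End (K : Subgroup (V ≃ₗ[ZMod p] V)) :
    ↥K →* Module.End (ZMod p) (↥(commSub K) ⧸ q1Rad K) where
  toFun k := (q1Rad K).mapQ (q1Rad K) (q1Res K k) (q1Res_le K k)
  map_one' := by
    apply Submodule.linearMap_qext
    apply LinearMap.ext
    intro w
    show (q1Rad K).mkQ (q1Res K 1 w) = (q1Rad K).mkQ w
    congr 1
  map_mul' := by
    intro a b
    apply Submodule.linearMap_qext
    apply LinearMap.ext
    intro w
    show (q1Rad K).mkQ (q1Res K (a * b) w) = (q1Rad K).mkQ (q1Res K a (q1Res K b w))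
    congr 1

/-- The action of `K` on the quotient. -/
def q1Rho (K : Subgroup (V ≃ₗ[ZMod p] V)) :
    ↥K →* ((↥(commSub K) ⧸ q1Rad K) ≃ₗ[ZMod p] (↥(commSub K) ⧸ q1Rad K)) :=
  (LinearMap.GeneralLinearGroup.generalLinearEquiv (ZMod p)
    (↥(commSub K) ⧸ q1Rad K)).toMonoidHom.comp (q1End K).toHomUnits

theorem q1Rho_apply (K : Subgroup (V ≃ₗ[ZMod p] V)) (k : ↥K) (w : ↥(commSub K))
    (hkw : (k : V ≃ₗ[ZMod p] V) (w : V) ∈ commSub K) :
    q1Rho K k ((q1Rad K).mkQ w) = (q1Rad K).mkQ ⟨(k : V ≃ₗ[ZMod p] V) (w : V), hkw⟩ := rfl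

theorem q1_tv_ne_one {X : Type u} [AddCommGroup X] [Module (ZMod p) X]
    (t : X ≃ₗ[ZMod p] X) (ht : IsTv t) : t ≠ 1 := by
  obtain ⟨c, φ, hc, hφ, hφc, htx⟩ := ht
  intro h
  apply hφ
  apply LinearMap.ext
  intro v
  have h1 := htx v
  rw [h] at h1
  have h2 : φ v • c = 0 := by simpa using h1
  rcases smul_eq_zero.mp h2 with h3 | h3
  · simpa using h3
  · exact absurd h3 hc

/-- A transvection of `K` induces a transvection of the quotient (when `K` is faithful). -/
theorem q1_tv (K : Subgroup (V ≃ₗ[ZMod p] V)) (hf : Faithful K) (t : ↥K)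
    (ht : IsTv (t : V ≃ₗ[ZMod p] V)) : IsTv (q1Rho K t) := by
  have htne : (t : V ≃ₗ[ZMod p] V) ≠ 1 := q1_tv_ne_one _ ht
  obtain ⟨c, φ, hc, hφ, hφc, htx⟩ := ht
  have hcW : c ∈ commSub K := by
    obtain ⟨v, hv⟩ : ∃ v, φ v ≠ 0 := by
      by_contra hcon
      simp only [not_exists, not_not] at hcon
      exact hφ (LinearMap.ext hcon)
    have h1 : (t : V ≃ₗ[ZMod p] V) v - v ∈ commSub K :=
      Submodule.subset_span ⟨t.1, t.2, v, rfl⟩
    have h2 : c = (φ v)⁻¹ • ((t : V ≃ₗ[ZMod p] V) v - v) := by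
      rw [htx v, add_sub_cancel_left, smul_smul, inv_mul_cancel₀ hv, one_smul]
    rw [h2]
    exact Submodule.smul_mem _ _ h1
  have hφW0 : ∀ u ∈ radSub K, φ u = 0 := by
    intro u hu
    have hfix : (t : V ≃ₗ[ZMod p] V) u = u := (Submodule.mem_inf.mp hu).2 t.1 t.2
    rw [htx u] at hfix
    have h2 : φ u • c = 0 := by simpa using hfix
    rcases smul_eq_zero.mp h2 with h | h
    · exact h
    · exact absurd h hc
  have hker : q1Rad K ≤ LinearMap.ker (φ.comp (commSub K).subtype) := by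
    intro w hw
    rw [LinearMap.mem_ker]
    exact hφW0 _ hw
  refine ⟨(q1Rad K).mkQ ⟨c, hcW⟩, (q1Rad K).liftQ (φ.comp (commSub K).subtype) hker,
    ?_, ?_, ?_, ?_⟩
  · intro h0
    have hc0 : c ∈ radSub K := by
      have := (Submodule.Quotient.mk_eq_zero (q1Rad K)).mp h0
      exact this
    apply htne
    apply hf t.1 t.2
    intro w _
    rw [htx w, add_sub_cancel_left]
    exact Submodule.smul_mem _ _ hc0
  · intro h0
    apply htne
    apply hf t.1 t.2
    intro w hw
    have h1 : ((q1Rad K).liftQ (φ.comp (commSub K).subtype) hker) ((q1Rad K).mkQ ⟨w, hw⟩) = 0 := by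
      rw [h0]
      rfl
    have h2 : φ w = 0 := h1
    rw [htx w, h2, zero_smul, add_sub_cancel_left]
    exact Submodule.zero_mem _
  · exact hφc
  · intro x
    obtain ⟨w, rfl⟩ := Submodule.mkQ_surjective (q1Rad K) x
    have hkw : (t : V ≃ₗ[ZMod p] V) (w : V) ∈ commSub K := q2_commSub_inv K t.1 t.2 _ w.2
    rw [q1Rho_apply K t w hkw]
    have h1 : ((q1Rad K).liftQ (φ.comp (commSub K).subtype) hker) ((q1Rad K).mkQ w) = φ (w : V) :=
      rfl
    rw [h1, ← map_smul, ← map_add]
    congr 1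
    apply Subtype.ext
    exact htx (w : V)

/-- PIECE QUOT of S5075. -/
theorem quot_struct (hp : p ≠ 2) [Finite V] (hIRR : IrrThm.{u} p)
    (H : Subgroup (V ≃ₗ[ZMod p] V))
    (hU : UnipHyp H) (C : Set (V ≃ₗ[ZMod p] V)) (hC : Comp H C) :
    Faithful (Subgroup.closure C) ∧
      (HasNeg (Subgroup.closure C) ∨ HasLift (Subgroup.closure C)) := by
  have hf := q1_faithful H hU C hC
  refine ⟨hf, ?_⟩
  obtain ⟨t0, ht0⟩ := hC.ne
  have ht0K : t0 ∈ Subgroup.closure C := Subgroup.subset_closure ht0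
  have : Finite (↥(commSub (Subgroup.closure C)) ⧸ q1Rad (Subgroup.closure C)) :=
    Finite.of_surjective _ (Submodule.mkQ_surjective (q1Rad (Subgroup.closure C)))
  refine quot_neg_or_lift (Subgroup.closure C) hf ⟨t0, ht0K, hC.tv t0 ht0⟩
    (↥(commSub (Subgroup.closure C)) ⧸ q1Rad (Subgroup.closure C))
    (q1Rad (Subgroup.closure C)).mkQ (Submodule.mkQ_surjective _) ?_
    (q1Rho (Subgroup.closure C)) ?_ ?_
  · intro w
    exact Submodule.Quotient.mk_eq_zero _
  · intro k w hkw
    rfl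
  · apply hIRR
    · apply le_antisymm
      · rw [MonoidHom.range_eq_map, ← Subgroup.closure_closure_coe_preimage (k := C),
          MonoidHom.map_closure]
        apply Subgroup.closure_mono
        rintro _ ⟨t, ht, rfl⟩
        exact ⟨Subgroup.subset_closure ⟨t, ht, rfl⟩,
          q1_tv (Subgroup.closure C) hf t (hC.tv _ ht)⟩
      · rw [Subgroup.closure_le]
        intro t ht
        exact ht.1
    · intro hbot
      have h1 : q1Rho (Subgroup.closure C) ⟨t0, ht0K⟩ ∈ (q1Rho (Subgroup.closure C)).range :=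
        ⟨_, rfl⟩
      rw [hbot, Subgroup.mem_bot] at h1
      exact q1_tv_ne_one _ (q1_tv (Subgroup.closure C) hf ⟨t0, ht0K⟩ (hC.tv t0 ht0)) h1
    · intro U hUinv
      have key := Cfsg.Agent.Lib.helper25.McL.quot_irr H hU C hC
        ((U.comap (q1Rad (Subgroup.closure C)).mkQ).map
          (commSub (Subgroup.closure C)).subtype) ?_ ?_ ?_
      · rcases key with h | h
        · left
          rw [eq_bot_iff]
          intro x hx
          obtain ⟨w, rfl⟩ := Submodule.mkQ_surjective (q1Rad (Subgroup.closure C)) x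
          have h1 : (w : V) ∈ (U.comap (q1Rad (Subgroup.closure C)).mkQ).map
              (commSub (Subgroup.closure C)).subtype :=
            Submodule.mem_map.mpr ⟨w, hx, rfl⟩
          rw [h] at h1
          rw [Submodule.mem_bot]
          exact (Submodule.Quotient.mk_eq_zero _).mpr h1
        · right
          rw [eq_top_iff]
          intro x _
          obtain ⟨w, rfl⟩ := Submodule.mkQ_surjective (q1Rad (Subgroup.closure C)) x
          have h1 : (w : V) ∈ (U.comap (q1Rad (Subgroup.closure C)).mkQ).map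
              (commSub (Subgroup.closure C)).subtype := by
            rw [h]
            exact w.2
          obtain ⟨w', hw', hww'⟩ := Submodule.mem_map.mp h1
          have h2 : w' = w := Subtype.ext hww'
          rw [← h2]
          exact hw'
      · intro u hu
        have huW : u ∈ commSub (Subgroup.closure C) := (Submodule.mem_inf.mp hu).1
        refine Submodule.mem_map.mpr ⟨⟨u, huW⟩, ?_, rfl⟩
        rw [Submodule.mem_comap]
        have h1 : (q1Rad (Subgroup.closure C)).mkQ ⟨u, huW⟩ = 0 :=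
          (Submodule.Quotient.mk_eq_zero _).mpr hu
        rw [h1]
        exact Submodule.zero_mem _
      · exact Submodule.map_subtype_le _ _
      · intro k hk u hu
        obtain ⟨w, hw, rfl⟩ := Submodule.mem_map.mp hu
        have hkw : k (w : V) ∈ commSub (Subgroup.closure C) :=
          q2_commSub_inv _ k hk _ w.2
        refine Submodule.mem_map.mpr ⟨⟨k (w : V), hkw⟩, ?_, rfl⟩
        rw [Submodule.mem_comap]
        have h1 := hUinv (q1Rho (Subgroup.closure C) ⟨k, hk⟩) ⟨_, rfl⟩ _ hw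
        exact h1

end Cfsg.Agent.Lib.helper11.McL
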