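import Mathlib
import Cfsg.Agent.Lib.helper5.KleinSylow
import Cfsg.Agent.Lib.helper75.SimpleOrd

/-!
# Simple groups whose Sylow 2-subgroups have order 4 (helper11)

If `G` is finite simple and a Sylow 2-subgroup `Q` has order `4` (and `|G| ≠ 4`), then `Q` is
elementary abelian and all involutions of `G` are conjugate.
-/

set_option autoImplicit false

namespace Cfsg.Agent.Lib.helper11

open Cfsg.Agent.Lib.helper5 Cfsg.Agent.Lib.helper75

section SylowFour

variable {G : Type*} [Group G] [Finite G]

/-- A Sylow 2-subgroup of order 4 of a simple group is elementary abelian and its involutions are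
conjugate. -/
theorem sylow_two_four_conj [IsSimpleGroup G] (Q : Sylow 2 G) (hQ4 : Nat.card Q = 4)
    (hG : Nat.card G ≠ 4) :
    (∀ x ∈ (Q : Subgroup G), x * x = 1) ∧
      ∀ x ∈ (Q : Subgroup G), ∀ y ∈ (Q : Subgroup G), x ≠ 1 → y ≠ 1 → IsConj x y := by
  have h2 : Fact (Nat.Prime 2) := ⟨Nat.prime_two⟩
  have hQ1 : Nat.card Q ≠ 1 := by omega
  have hQG : Nat.card Q ≠ Nat.card G := by
    rw [hQ4]
    exact fun h => hG h.symm
  have h2G : 2 ∣ Nat.card G := by
    have h := Subgroup.card_subgroup_dvd_card (Q : Subgroup G)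
    rw [hQ4] at h
    exact Dvd.dvd.trans (by norm_num) h
  have hmin : (Nat.card G).minFac = 2 := (Nat.minFac_eq_two_iff _).2 h2G
  have hncyc : ¬ IsCyclic (Q : Subgroup G) := by
    intro hcyc
    exact not_simple_of_sylow_central 2 Q (hcyc.normalizer_le_centralizer hmin) hQ1 hQG
  have hsq : ∀ x ∈ (Q : Subgroup G), x * x = 1 := by
    intro x hx
    by_contra hne
    apply hncyc
    apply isCyclic_of_orderOf_eq_card (⟨x, hx⟩ : (Q : Subgroup G))
    rw [hQ4, Subgroup.orderOf_mk]
    have hd : orderOf x ∣ 4 := by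
      have h := orderOf_dvd_natCard (⟨x, hx⟩ : (Q : Subgroup G))
      rwa [hQ4, Subgroup.orderOf_mk] at h
    have hle : orderOf x ≤ 4 := Nat.le_of_dvd (by norm_num) hd
    have hpos : 0 < orderOf x := orderOf_pos x
    have h1 : orderOf x ≠ 1 := by
      intro h
      rw [orderOf_eq_one_iff] at h
      apply hne
      rw [h, one_mul]
    have h2' : orderOf x ≠ 2 := by
      intro h
      apply hne
      rw [← pow_two, ← h]
      exact pow_orderOf_eq_one x
    generalize orderOf x = o at hd hle hpos h1 h2'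
    interval_cases o <;> omega
  have hK : IsKleinFour (Q : Subgroup G) := by
    refine ⟨hQ4, ?_⟩
    have hd : Monoid.exponent (Q : Subgroup G) ∣ 2 := by
      rw [Monoid.exponent_dvd_iff_forall_pow_eq_one]
      intro g
      apply Subtype.ext
      rw [Subgroup.coe_pow, Subgroup.coe_one, pow_two]
      exact hsq g g.2
    have h1 : Monoid.exponent (Q : Subgroup G) ≠ 1 := by
      intro h
      rw [Monoid.exp_eq_one_iff] at h
      have h3 := Finite.card_le_one_iff_subsingleton.mpr h
      omega
    have hle := Nat.le_of_dvd (by norm_num) hd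
    have hpos : 0 < Monoid.exponent (Q : Subgroup G) := Nat.pos_of_dvd_of_pos hd (by norm_num)
    omega
  obtain ⟨a, b, ha, hb, hc, ha1, hb1, hc1, hab, hac, hbc, hall, hsq', hcomm, hdich⟩ :=
    klein_classes Q hK
  refine ⟨hsq, ?_⟩
  have hfus : IsConj a b ∧ IsConj a (a * b) := by
    rcases hdich with ⟨n1, n2, n3, -⟩ | ⟨c1, c2, -⟩
    · exfalso
      apply not_simple_of_sylow_central 2 Q _ hQ1 hQG
      intro n hn
      rw [Subgroup.mem_centralizer_iff]
      intro x hx
      by_contra hne
      have hy : n * x * n⁻¹ ∈ (Q : Subgroup G) := (Subgroup.mem_normalizer_iff.mp hn x).mp hx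
      have hconj : IsConj x (n * x * n⁻¹) := isConj_iff.mpr ⟨n, rfl⟩
      have hxy : x ≠ n * x * n⁻¹ := by
        intro h
        apply hne
        calc x * n = (n * x * n⁻¹) * n := by rw [← h]
          _ = n * x := by group
      have hx1 : x ≠ 1 := by
        rintro rfl
        exact hne (by rw [one_mul, mul_one])
      have hy1 : n * x * n⁻¹ ≠ 1 := by
        intro h
        apply hx1
        have e : x = n⁻¹ * (n * x * n⁻¹) * n := by group
        rw [e, h]
        group
      rcases hall x hx with h | h | h | h <;> rcases hall _ hy with h' | h' | h' | h'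
      all_goals first
        | exact hx1 h
        | exact hy1 h'
        | exact hxy (h.trans h'.symm)
        | (rw [h'] at hconj
           rw [h] at hconj
           first
             | exact n1 hconj
             | exact n2 hconj
             | exact n3 hconj
             | exact n1 hconj.symm
             | exact n2 hconj.symm
             | exact n3 hconj.symm)
    · exact ⟨c1, c2⟩
  have hA : ∀ z ∈ (Q : Subgroup G), z ≠ 1 → IsConj a z := by
    intro z hz hz1
    rcases hall z hz with h | h | h | h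
    · exact absurd h hz1
    · rw [h]
    · rw [h]
      exact hfus.1
    · rw [h]
      exact hfus.2
  intro x hx y hy hx1 hy1
  exact (hA x hx hx1).symm.trans (hA y hy hy1)

/-- In a simple group with Sylow 2-subgroups of order 4 all involutions are conjugate. -/
theorem involutions_conj_of_sylow_two_four [IsSimpleGroup G] (Q : Sylow 2 G)
    (hQ4 : Nat.card Q = 4) (hG : Nat.card G ≠ 4) (u v : G) (hu : orderOf u = 2)
    (hv : orderOf v = 2) : IsConj u v := by
  obtain ⟨-, hconj⟩ := sylow_two_four_conj Q hQ4 hG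
  obtain ⟨k, hk, hk1⟩ := involution_conj_mem_sylow Q u hu
  obtain ⟨l, hl, hl1⟩ := involution_conj_mem_sylow Q v hv
  have h1 : IsConj u (k⁻¹ * u * k) := isConj_iff.mpr ⟨k⁻¹, by rw [inv_inv]⟩
  have h2 : IsConj v (l⁻¹ * v * l) := isConj_iff.mpr ⟨l⁻¹, by rw [inv_inv]⟩
  exact (h1.trans (hconj _ hk _ hl hk1 hl1)).trans h2.symm

omit [Finite G] in
/-- The power of a normalizing element by the index `|N(H) : C(H)|` centralizes `H`. -/
theorem pow_relIndex_mem_centralizer (H : Subgroup G) {u : G}
    (hu : u ∈ Subgroup.normalizer (H : Set G)) :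
    u ^ (Subgroup.centralizer (H : Set G)).relIndex (Subgroup.normalizer (H : Set G)) ∈
      Subgroup.centralizer (H : Set G) := by
  have hnorm : ((Subgroup.centralizer (H : Set G)).subgroupOf
      (Subgroup.normalizer (H : Set G))).Normal := by
    rw [← Subgroup.normalizerMonoidHom_ker]
    infer_instance
  have h := Subgroup.pow_index_mem ((Subgroup.centralizer (H : Set G)).subgroupOf
    (Subgroup.normalizer (H : Set G))) (⟨u, hu⟩ : Subgroup.normalizer (H : Set G))
  rw [Subgroup.mem_subgroupOf, Subgroup.coe_pow] at h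
  exact h

omit [Finite G] in
/-- Conjugating a centralizing element by a normalizing element gives a centralizing element. -/
theorem conj_mem_centralizer_of_mem_normalizer (H : Subgroup G) {g t : G}
    (hg : g ∈ Subgroup.normalizer (H : Set G)) (ht : t ∈ Subgroup.centralizer (H : Set G)) :
    g * t * g⁻¹ ∈ Subgroup.centralizer (H : Set G) := by
  rw [Subgroup.mem_centralizer_iff]
  intro z hz
  have hz' : g⁻¹ * z * g ∈ H := (Subgroup.mem_normalizer_iff''.mp hg z).mp hz
  have h := Subgroup.mem_centralizer_iff.mp ht _ hz'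
  calc z * (g * t * g⁻¹) = g * ((g⁻¹ * z * g) * t) * g⁻¹ := by group
    _ = g * (t * (g⁻¹ * z * g)) * g⁻¹ := by rw [h]
    _ = g * t * g⁻¹ * z := by group

/-- Sylow 2-subgroups of order 4 in a simple group: an involution centralizing a Sylow
`p`-subgroup `P` and fixing no other Sylow `p`-subgroup excludes involutions in `N(P) ∖ C(P)`. -/
theorem sylow_four_no_outer_involution [IsSimpleGroup G] (Q : Sylow 2 G) (hQ4 : Nat.card Q = 4)
    (hG : Nat.card G ≠ 4) {p : ℕ} [Fact p.Prime] (P : Sylow p G) (t : G)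
    (ht : orderOf t = 2) (htC : t ∈ Subgroup.centralizer ((P : Subgroup G) : Set G))
    (hf : Nat.card {ω : Sylow p G // t • ω = ω} = 1) (s : G) (hs : orderOf s = 2)
    (hsP : s • P = P) : s ∈ Subgroup.centralizer ((P : Subgroup G) : Set G) := by
  have hconj := involutions_conj_of_sylow_two_four Q hQ4 hG t s ht hs
  obtain ⟨g, hg⟩ := isConj_iff.mp hconj
  have htP : t • P = P :=
    Sylow.smul_eq_iff_mem_normalizer.mpr (Subgroup.centralizer_le_normalizer _ htC)
  have huniq : ∀ ω : Sylow p G, t • ω = ω → ω = P := by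
    intro ω hω
    have hsub := (Nat.card_eq_one_iff_unique.mp hf).1
    have h := hsub.elim (⟨ω, hω⟩ : {ω : Sylow p G // t • ω = ω}) ⟨P, htP⟩
    exact congrArg Subtype.val h
  have hgP : g⁻¹ • P = P := by
    apply huniq
    have e : t = g⁻¹ * s * g := by
      rw [← hg]
      group
    rw [e, mul_smul, mul_smul, smul_inv_smul, hsP]
  have hgN : g ∈ Subgroup.normalizer ((P : Subgroup G) : Set G) := by
    have h := Sylow.smul_eq_iff_mem_normalizer.mp hgP
    have h' := inv_mem h
    rwa [inv_inv] at h'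
  rw [← hg]
  exact conj_mem_centralizer_of_mem_normalizer (P : Subgroup G) hgN htC

/-- A simple group of order `4 m`, `m` odd, has no Sylow `p`-subgroup `P` with `|C(P)|` and
`|N(P) : C(P)|` both even such that the fixed point congruences force every involution of
`C(P)` to fix exactly one Sylow `p`-subgroup. -/
theorem sylow_four_even_kill [IsSimpleGroup G] (m : ℕ) (hm : Odd m) (hG : Nat.card G = 4 * m)
    (hm1 : m ≠ 1) {p : ℕ} [Fact p.Prime] (P : Sylow p G) (hn1 : Nat.card (Sylow p G) ≠ 1)
    (h2C : 2 ∣ Nat.card (Subgroup.centralizer ((P : Subgroup G) : Set G)))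
    (h2R : 2 ∣ (Subgroup.centralizer ((P : Subgroup G) : Set G)).relIndex
      (Subgroup.normalizer ((P : Subgroup G) : Set G)))
    (hfix : ∀ f : ℕ, f % p = 1 → f % 4 = Nat.card (Sylow p G) % 4 →
      f < Nat.card (Sylow p G) → f = 1) : False := by
  have h2 : Fact (Nat.Prime 2) := ⟨Nat.prime_two⟩
  have hG4 : Nat.card G ≠ 4 := by omega
  have hmpos : 0 < m := hm.pos
  obtain ⟨t, htC, ht⟩ := exists_mem_orderOf_prime
    (Subgroup.centralizer ((P : Subgroup G) : Set G)) 2 h2C
  obtain ⟨c1, c2, c3⟩ := sylow_involution_counts P hn1 (by omega) t ht htC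
  have hf := hfix _ c1 c2 c3
  -- an element of the normalizer whose square, but not itself, centralizes `P`
  have hnorm : ((Subgroup.centralizer ((P : Subgroup G) : Set G)).subgroupOf
      (Subgroup.normalizer ((P : Subgroup G) : Set G))).Normal := by
    rw [← Subgroup.normalizerMonoidHom_ker]
    infer_instance
  obtain ⟨ubar, hubar⟩ := exists_prime_orderOf_dvd_card'
    (G := (Subgroup.normalizer ((P : Subgroup G) : Set G)) ⧸
      ((Subgroup.centralizer ((P : Subgroup G) : Set G)).subgroupOf
        (Subgroup.normalizer ((P : Subgroup G) : Set G)))) 2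
    (by rw [← Subgroup.index_eq_card]; exact h2R)
  obtain ⟨u, rfl⟩ := QuotientGroup.mk_surjective ubar
  have huC : (u : G) ∉ Subgroup.centralizer ((P : Subgroup G) : Set G) := by
    intro h
    have h1 : (u : (Subgroup.normalizer ((P : Subgroup G) : Set G)) ⧸
        ((Subgroup.centralizer ((P : Subgroup G) : Set G)).subgroupOf
          (Subgroup.normalizer ((P : Subgroup G) : Set G)))) = 1 := by
      rw [QuotientGroup.eq_one_iff, Subgroup.mem_subgroupOf]
      exact h
    rw [h1, orderOf_one] at hubar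
    omega
  have hu2 : (u : G) ^ 2 ∈ Subgroup.centralizer ((P : Subgroup G) : Set G) := by
    have h1 := pow_orderOf_eq_one (u : (Subgroup.normalizer ((P : Subgroup G) : Set G)) ⧸
        ((Subgroup.centralizer ((P : Subgroup G) : Set G)).subgroupOf
          (Subgroup.normalizer ((P : Subgroup G) : Set G))))
    rw [hubar, ← QuotientGroup.mk_pow, QuotientGroup.eq_one_iff, Subgroup.mem_subgroupOf,
      Subgroup.coe_pow] at h1
    exact h1
  obtain ⟨j, hj⟩ := hm
  obtain ⟨s, hs⟩ : ∃ s : G, s = (u : G) ^ m := ⟨_, rfl⟩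
  have hsN : s ∈ Subgroup.normalizer ((P : Subgroup G) : Set G) := by
    rw [hs]
    exact Subgroup.pow_mem _ u.2 m
  have hsC : s ∉ Subgroup.centralizer ((P : Subgroup G) : Set G) := by
    intro h
    apply huC
    have e1 : (u : G) = (((u : G) ^ 2) ^ j)⁻¹ * s := by
      have e2 : s = ((u : G) ^ 2) ^ j * (u : G) := by
        rw [hs, hj, pow_succ (u : G) (2 * j), pow_mul]
      rw [e2, ← mul_assoc, inv_mul_cancel, one_mul]
    rw [e1]
    exact mul_mem (inv_mem (pow_mem hu2 j)) h
  have hs4 : s ^ 4 = 1 := by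
    rw [hs, ← pow_mul, mul_comm, ← hG]
    exact pow_card_eq_one'
  have hz : IsPGroup 2 (Subgroup.zpowers s) := by
    rintro ⟨y, hy⟩
    obtain ⟨i, rfl⟩ := Subgroup.mem_zpowers_iff.1 hy
    refine ⟨2, Subtype.ext ?_⟩
    rw [Subgroup.coe_pow, Subgroup.coe_one]
    show (s ^ i) ^ (2 ^ 2) = 1
    have e4 : (2 : ℕ) ^ 2 = 4 := by norm_num
    rw [e4, ← zpow_natCast, ← zpow_mul, mul_comm, zpow_mul, zpow_natCast, hs4, one_zpow]
  obtain ⟨Q, hQ⟩ := hz.exists_le_sylow
  have hsQ : s ∈ (Q : Subgroup G) := hQ (Subgroup.mem_zpowers s)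
  have hQ4 : Nat.card Q = 4 := by
    obtain ⟨k, hk⟩ := IsPGroup.iff_card.mp Q.2
    have h4 : 2 ^ 2 ∣ Nat.card Q :=
      Q.pow_dvd_card_of_pow_dvd_card (by rw [hG]; exact Dvd.intro m (by norm_num))
    have hdvd : Nat.card Q ∣ 4 * m := by
      rw [← hG]
      exact Subgroup.card_subgroup_dvd_card _
    rw [hk] at h4 hdvd ⊢
    have hk2 : 2 ≤ k := (Nat.pow_dvd_pow_iff_le_right (by norm_num)).mp h4
    have hk3 : k < 3 := by
      by_contra hcon
      have h8 : 2 ^ 3 ∣ 4 * m := (pow_dvd_pow 2 (by omega)).trans hdvd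
      obtain ⟨c, hc⟩ := h8
      omega
    have hk' : k = 2 := by omega
    rw [hk']
    norm_num
  obtain ⟨hsq, -⟩ := sylow_two_four_conj Q hQ4 hG4
  have hss : s * s = 1 := hsq s hsQ
  have hs1 : s ≠ 1 := fun h => hsC (h ▸ Subgroup.one_mem _)
  have hso : orderOf s = 2 := orderOf_two_of_mul_self hss hs1
  have hsP : s • P = P := Sylow.smul_eq_iff_mem_normalizer.mpr hsN
  exact hsC (sylow_four_no_outer_involution Q hQ4 hG4 P t ht htC hf s hso hsP)

end SylowFour

end Cfsg.Agent.Lib.helper11
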