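import Mathlib
import Cfsg.Agent.Lib.helper75.SimpleOrdA
import Cfsg.Agent.Lib.helper11.SylowFour
import Cfsg.Agent.Lib.helper11.FourGroup
import Cfsg.Agent.Lib.helper26.DihFusion
import Cfsg.Agent.S0016
import Cfsg.Agent.S0201

/-!
# No simple group of order 3960 (helper11)

`3960 = 2^3 * 3^2 * 5 * 11`.  `n_11 ∈ {12, 45}`.  `12`: an element of order 3 centralizes a Sylow
11-subgroup.  `45`: `|N(P)| = 88`, `|C(P)| = 44`; a Sylow 2-subgroup `S` of `G` lies in `N(P)`
and `K = S ∩ C(P)` has index 2 in `S`.  Every involution of `C(P)` fixes exactly one Sylow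
11-subgroup, so no involution of `S ∖ K` is conjugate into `K`; by Thompson's transfer lemma all
involutions of `S` lie in `K`.  If `K` is cyclic, `S` has a unique involution and is cyclic or
quaternion (S0016): Burnside resp. Brauer-Suzuki (S0201).  If `K` is elementary abelian, Thompson
transfer for `⟨x⟩`, `x ∈ S ∖ K` of order 4, fuses an involution `u ≠ x²` of `K` to `x²` by an
element of `N(P)`, but `N(P)` centralizes `x²`.
-/

set_option autoImplicit false

namespace Cfsg.Agent.Lib.helper11

open MulAction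
open Cfsg.Agent.Lib.helper75 Cfsg.Agent.Lib.helper5 Cfsg.Agent.Lib.helper26

section Ord3960

variable {G : Type*} [Group G] [Finite G]

omit [Finite G] in
/-- If `t ∈ C(P)` fixes only the Sylow subgroup `P` and a conjugate `g t g⁻¹` normalizes `P`,
then `g` normalizes `P`. -/
theorem mem_normalizer_of_conj_fixes {p : ℕ} (P : Sylow p G) (t : G)
    (htC : t ∈ Subgroup.centralizer ((P : Subgroup G) : Set G))
    (hf : Nat.card {ω : Sylow p G // t • ω = ω} = 1) (g : G) (hs : (g * t * g⁻¹) • P = P) :
    g ∈ Subgroup.normalizer ((P : Subgroup G) : Set G) := by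
  have htP : t • P = P :=
    Sylow.smul_eq_iff_mem_normalizer.mpr (Subgroup.centralizer_le_normalizer _ htC)
  have huniq : ∀ ω : Sylow p G, t • ω = ω → ω = P := by
    intro ω hω
    have hsub := (Nat.card_eq_one_iff_unique.mp hf).1
    have h := hsub.elim (⟨ω, hω⟩ : {ω : Sylow p G // t • ω = ω}) ⟨P, htP⟩
    exact congrArg Subtype.val h
  have hgP : g⁻¹ • P = P := by
    apply huniq
    have e : t • g⁻¹ • P = g⁻¹ • (g * t * g⁻¹) • P := by
      rw [← mul_smul, ← mul_smul]
      congr 1
      group
    rw [e, hs]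
  have h := Sylow.smul_eq_iff_mem_normalizer.mp hgP
  have h' := inv_mem h
  rwa [inv_inv] at h'

omit [Finite G] in
/-- A subgroup of prime order is contained in its centralizer. -/
theorem le_centralizer_of_prime_card {p : ℕ} [Fact p.Prime] (H : Subgroup G)
    (hH : Nat.card H = p) : H ≤ Subgroup.centralizer (H : Set G) := by
  have hcyc : IsCyclic H := isCyclic_of_prime_card hH
  obtain ⟨gen, hgen⟩ := hcyc.exists_generator
  intro q hq
  rw [Subgroup.mem_centralizer_iff]
  intro r hr
  obtain ⟨i, hi⟩ := Subgroup.mem_zpowers_iff.mp (hgen ⟨r, hr⟩)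
  obtain ⟨j, hj⟩ := Subgroup.mem_zpowers_iff.mp (hgen ⟨q, hq⟩)
  have h : (⟨r, hr⟩ : H) * ⟨q, hq⟩ = ⟨q, hq⟩ * ⟨r, hr⟩ := by
    rw [← hi, ← hj]
    exact zpow_mul_comm gen i j
  exact congrArg Subtype.val h

omit [Finite G] in
/-- An involution in the cyclic group generated by an element of order 4 is its square. -/
theorem involution_of_mem_zpowers_four {x w : G} (hx : orderOf x = 4)
    (hw : w ∈ Subgroup.zpowers x) (hww : w * w = 1) (hw1 : w ≠ 1) : w = x * x := by
  have hfin : IsOfFinOrder x := orderOf_pos_iff.mp (by rw [hx]; norm_num)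
  obtain ⟨n, rfl⟩ := (Submonoid.mem_powers_iff _ _).mp (hfin.mem_powers_iff_mem_zpowers.mpr hw)
  have hx4 : x ^ 4 = 1 := by
    rw [← hx]
    exact pow_orderOf_eq_one x
  have hxx : x * x ≠ 1 := by
    intro h
    have h2 : orderOf x ∣ 2 := orderOf_dvd_of_pow_eq_one (by rw [pow_two]; exact h)
    rw [hx] at h2
    omega
  have hmod := pow_mod_orderOf x n
  rw [hx] at hmod
  have hlt : n % 4 < 4 := Nat.mod_lt _ (by norm_num)
  rw [← hmod] at hww hw1 ⊢
  generalize n % 4 = r at hlt hww hw1
  interval_cases r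
  · exact absurd (pow_zero x) hw1
  · rw [pow_one] at hww
    exact absurd hww hxx
  · rw [pow_two]
  · exfalso
    have e : x ^ 3 * x ^ 3 = x ^ 4 * (x * x) := by
      rw [← pow_add, ← pow_two, ← pow_add]
    rw [e, hx4, one_mul] at hww
    exact hxx hww

/-- The case `n_11 = 45` of order 3960. -/
theorem no_simple_3960_aux [IsSimpleGroup G] (hG : Nat.card G = 3960) (P : Sylow 11 G)
    (hP : Nat.card P = 11) (hn : Nat.card (Sylow 11 G) = 45)
    (hN : Nat.card (stabilizer G P) = 88)
    (hCc : Nat.card (Subgroup.centralizer ((P : Subgroup G) : Set G)) = 44) : False := by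
  have h11 : Fact (Nat.Prime 11) := ⟨by norm_num⟩
  have h2 : Fact (Nat.Prime 2) := ⟨Nat.prime_two⟩
  have hn1 : Nat.card (Sylow 11 G) ≠ 1 := by omega
  have h3G : 2 < Nat.card G := by omega
  obtain ⟨C, hC⟩ : ∃ C : Subgroup G, C = Subgroup.centralizer ((P : Subgroup G) : Set G) :=
    ⟨_, rfl⟩
  rw [← hC] at hCc
  have hCN : C ≤ Subgroup.normalizer ((P : Subgroup G) : Set G) := by
    rw [hC]
    exact Subgroup.centralizer_le_normalizer _
  have hfix : ∀ t ∈ C, t * t = 1 → t ≠ 1 → Nat.card {ω : Sylow 11 G // t • ω = ω} = 1 := by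
    intro t htC htt ht1
    rw [hC] at htC
    obtain ⟨c1, c2, c3⟩ :=
      sylow_involution_counts P hn1 h3G t
        (Cfsg.Agent.Lib.helper5.orderOf_two_of_mul_self htt ht1) htC
    rw [hn] at c2 c3
    omega
  have hrel : (C.subgroupOf (Subgroup.normalizer ((P : Subgroup G) : Set G))).index = 2 := by
    have h := card_centralizer_mul_relIndex P
    rw [← hC, hCc, hN] at h
    have h' : C.relIndex (Subgroup.normalizer ((P : Subgroup G) : Set G)) = 2 := by omega
    exact h'
  have hmul : ∀ a b : G, a ∈ Subgroup.normalizer ((P : Subgroup G) : Set G) →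
      b ∈ Subgroup.normalizer ((P : Subgroup G) : Set G) → (a * b ∈ C ↔ (a ∈ C ↔ b ∈ C)) := by
    intro a b ha hb
    have h := Subgroup.mul_mem_iff_of_index_two hrel
      (a := (⟨a, ha⟩ : Subgroup.normalizer ((P : Subgroup G) : Set G))) (b := ⟨b, hb⟩)
    rw [Subgroup.mem_subgroupOf, Subgroup.mem_subgroupOf, Subgroup.mem_subgroupOf] at h
    exact h
  have hstabN : ∀ x : G, x ∈ stabilizer G P →
      x ∈ Subgroup.normalizer ((P : Subgroup G) : Set G) :=
    fun x hx => Sylow.smul_eq_iff_mem_normalizer.mp (MulAction.mem_stabilizer_iff.mp hx)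
  have hidx : ∀ H : Subgroup G, H.index ≠ 2 := by
    intro H hH
    have hnorm : H.Normal := Subgroup.normal_of_index_eq_two hH
    rcases hnorm.eq_bot_or_eq_top with h | h
    · rw [h, Subgroup.index_bot] at hH
      omega
    · rw [h, Subgroup.index_top] at hH
      omega
  -- a Sylow 2-subgroup of `G` inside the stabilizer of `P`
  obtain ⟨S₀⟩ : Nonempty (Sylow 2 (stabilizer G P)) := inferInstance
  have hS₀8 : Nat.card S₀ = 8 := by
    obtain ⟨k, hk⟩ := IsPGroup.iff_card.mp S₀.2
    have h8 : 2 ^ 3 ∣ Nat.card S₀ := S₀.pow_dvd_card_of_pow_dvd_card (by rw [hN]; norm_num)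
    have hdvd : Nat.card S₀ ∣ 88 := by
      rw [← hN]
      exact Subgroup.card_subgroup_dvd_card _
    rw [hk] at h8 hdvd ⊢
    have hk3 : 3 ≤ k := (Nat.pow_dvd_pow_iff_le_right (by norm_num)).mp h8
    have hk4 : k < 4 := by
      by_contra hcon
      have h16 : 2 ^ 4 ∣ 88 := (pow_dvd_pow 2 (by omega)).trans hdvd
      norm_num at h16
    have hk' : k = 3 := by omega
    rw [hk']
    norm_num
  obtain ⟨V, hV⟩ : ∃ V : Subgroup G,
      V = (S₀ : Subgroup (stabilizer G P)).map (stabilizer G P).subtype := ⟨_, rfl⟩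
  have hVcard : Nat.card V = 8 := by
    rw [hV, Subgroup.card_map_of_injective (Subgroup.subtype_injective _)]
    exact hS₀8
  have hVN : V ≤ stabilizer G P := by
    rw [hV]
    rintro _ ⟨v, -, rfl⟩
    exact v.2
  have hV2 : IsPGroup 2 V := IsPGroup.of_card (n := 3) (by rw [hVcard]; norm_num)
  obtain ⟨S, hVS⟩ := hV2.exists_le_sylow
  have hS8 : Nat.card S = 8 := by
    obtain ⟨k, hk⟩ := IsPGroup.iff_card.mp S.2
    have h8 : 2 ^ 3 ∣ Nat.card S := S.pow_dvd_card_of_pow_dvd_card (by rw [hG]; norm_num)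
    have hdvd : Nat.card S ∣ 3960 := by
      rw [← hG]
      exact Subgroup.card_subgroup_dvd_card _
    rw [hk] at h8 hdvd ⊢
    have hk3 : 3 ≤ k := (Nat.pow_dvd_pow_iff_le_right (by norm_num)).mp h8
    have hk4 : k < 4 := by
      by_contra hcon
      have h16 : 2 ^ 4 ∣ 3960 := (pow_dvd_pow 2 (by omega)).trans hdvd
      norm_num at h16
    have hk' : k = 3 := by omega
    rw [hk']
    norm_num
  have hSV : V = (S : Subgroup G) := Subgroup.eq_of_le_of_card_ge hVS (by rw [hS8, hVcard])
  have hSN : ∀ x ∈ (S : Subgroup G), x ∈ Subgroup.normalizer ((P : Subgroup G) : Set G) := by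
    intro x hx
    rw [← hSV] at hx
    exact hstabN x (hVN hx)
  -- an element of `S` outside `C`
  obtain ⟨x₀, hx₀S, hx₀C⟩ : ∃ x ∈ (S : Subgroup G), x ∉ C := by
    by_contra hcon
    push Not at hcon
    have hle : (S : Subgroup G) ≤ C := hcon
    have h := Subgroup.card_dvd_of_le hle
    rw [hS8, hCc] at h
    omega
  -- `M = S ∩ C` has index 2 in `S`
  obtain ⟨M, hM⟩ : ∃ M : Subgroup (S : Subgroup G), M = C.subgroupOf (S : Subgroup G) :=
    ⟨_, rfl⟩
  have hMidx : M.index = 2 := by
    rw [Subgroup.index_eq_two_iff]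
    refine ⟨⟨x₀, hx₀S⟩, fun b => ?_⟩
    rw [hM, Subgroup.mem_subgroupOf, Subgroup.mem_subgroupOf]
    have h := hmul (b : G) x₀ (hSN b b.2) (hSN x₀ hx₀S)
    by_cases hbC : (b : G) ∈ C
    · exact Or.inr ⟨hbC, fun h' => hx₀C ((h.mp h').mp hbC)⟩
    · exact Or.inl ⟨h.mpr ⟨fun h' => absurd h' hbC, fun h' => absurd h' hx₀C⟩, hbC⟩
  -- all involutions of `S` lie in `C`
  have hinvS : ∀ u ∈ (S : Subgroup G), u * u = 1 → u ∈ C := by
    intro u huS huu
    by_cases hu1 : u = 1
    · rw [hu1]
      exact one_mem _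
    obtain ⟨g, hgS, hgM⟩ := thompson_transfer S M hMidx hidx u huS huu
    rw [hM, Subgroup.mem_subgroupOf] at hgM
    have hgM' : g⁻¹ * u * g ∈ C := hgM
    have htt : (g⁻¹ * u * g) * (g⁻¹ * u * g) = 1 := by
      calc (g⁻¹ * u * g) * (g⁻¹ * u * g) = g⁻¹ * (u * u) * g := by group
        _ = 1 := by rw [huu]; group
    have ht1 : g⁻¹ * u * g ≠ 1 := by
      intro h
      apply hu1
      have e : u = g * (g⁻¹ * u * g) * g⁻¹ := by group
      rw [e, h]
      group
    have hf := hfix _ hgM' htt ht1
    have hu' : u = g * (g⁻¹ * u * g) * g⁻¹ := by group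
    have huP : (g * (g⁻¹ * u * g) * g⁻¹) • P = P := by
      rw [← hu']
      exact Sylow.smul_eq_iff_mem_normalizer.mpr (hSN u huS)
    have hgN := mem_normalizer_of_conj_fixes P _ (hC ▸ hgM') hf g huP
    rw [hu', hC]
    exact conj_mem_centralizer_of_mem_normalizer (P : Subgroup G) hgN (hC ▸ hgM')
  -- `K = C ∩ S` has order 4 and is abelian
  obtain ⟨K, hK⟩ : ∃ K : Subgroup G, K = C ⊓ (S : Subgroup G) := ⟨_, rfl⟩
  have hKcard : Nat.card K = 4 := by
    have h := Subgroup.card_mul_index M
    rw [hMidx, hS8] at h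
    have e : Nat.card M = Nat.card K := by
      rw [hM, hK, ← Subgroup.inf_subgroupOf_right]
      exact Nat.card_congr (Subgroup.subgroupOfEquivOfLe inf_le_right).toEquiv
    omega
  have hKcomm : ∀ a ∈ K, ∀ b ∈ K, a * b = b * a := by
    have hc := IsPGroup.isMulCommutative_of_card_eq_prime_sq (p := 2) (G := K)
      (by rw [hKcard]; norm_num)
    intro a ha b hb
    have h := hc.is_comm.comm ⟨a, ha⟩ ⟨b, hb⟩
    exact congrArg Subtype.val h
  obtain ⟨z, hz⟩ : ∃ z : G, z = x₀ * x₀ := ⟨_, rfl⟩
  have hz1 : z ≠ 1 := by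
    rw [hz]
    exact fun h => hx₀C (hinvS x₀ hx₀S h)
  have hzC : z ∈ C := by
    rw [hz]
    exact (hmul x₀ x₀ (hSN x₀ hx₀S) (hSN x₀ hx₀S)).mpr Iff.rfl
  have hzS : z ∈ (S : Subgroup G) := by
    rw [hz]
    exact mul_mem hx₀S hx₀S
  have hzK : z ∈ K := by
    rw [hK]
    exact ⟨hzC, hzS⟩
  by_cases hel : ∀ x ∈ K, x * x = 1
  · -- `K` elementary abelian
    have hzz : z * z = 1 := hel z hzK
    have hx₀4 : orderOf x₀ = 4 := by
      have h4 : x₀ ^ 4 = 1 := by
        calc x₀ ^ 4 = x₀ ^ (2 * 2) := by norm_num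
          _ = (x₀ ^ 2) ^ 2 := pow_mul x₀ 2 2
          _ = (x₀ * x₀) * (x₀ * x₀) := by rw [pow_two, pow_two]
          _ = 1 := by rw [← hz]; exact hzz
      have hd : orderOf x₀ ∣ 4 := orderOf_dvd_of_pow_eq_one h4
      have h1 : orderOf x₀ ≠ 1 := by
        intro h
        rw [orderOf_eq_one_iff] at h
        exact hx₀C (h ▸ one_mem C)
      have h2' : orderOf x₀ ≠ 2 := by
        intro h
        apply hz1
        rw [hz, ← pow_two, ← h]
        exact pow_orderOf_eq_one x₀
      have hle := Nat.le_of_dvd (by norm_num) hd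
      have hpos := orderOf_pos x₀
      generalize orderOf x₀ = o at hd hle hpos h1 h2'
      interval_cases o <;> omega
    obtain ⟨u, huK, hu1, huz⟩ :=
      exists_mem_ne_of_three_le_card K (by rw [hKcard]; norm_num) z
    have huC : u ∈ C := by
      rw [hK] at huK
      exact huK.1
    have huS : u ∈ (S : Subgroup G) := by
      rw [hK] at huK
      exact huK.2
    have huu : u * u = 1 := hel u huK
    have hM'idx : (Subgroup.zpowers (⟨x₀, hx₀S⟩ : (S : Subgroup G))).index = 2 := by
      have h := Subgroup.card_mul_index (Subgroup.zpowers (⟨x₀, hx₀S⟩ : (S : Subgroup G)))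
      rw [Nat.card_zpowers, Subgroup.orderOf_mk, hx₀4, hS8] at h
      omega
    obtain ⟨g, hgS, hgM⟩ := thompson_transfer S _ hM'idx hidx u huS huu
    have hw : g⁻¹ * u * g ∈ Subgroup.zpowers x₀ := by
      obtain ⟨j, hj⟩ := Subgroup.mem_zpowers_iff.mp hgM
      have h := congrArg Subtype.val hj
      rw [Subgroup.coe_zpow] at h
      exact Subgroup.mem_zpowers_iff.mpr ⟨j, h⟩
    have hww : (g⁻¹ * u * g) * (g⁻¹ * u * g) = 1 := by
      calc (g⁻¹ * u * g) * (g⁻¹ * u * g) = g⁻¹ * (u * u) * g := by group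
        _ = 1 := by rw [huu]; group
    have hw1 : g⁻¹ * u * g ≠ 1 := by
      intro h
      apply hu1
      have e : u = g * (g⁻¹ * u * g) * g⁻¹ := by group
      rw [e, h]
      group
    have hwz : g⁻¹ * u * g = z := by
      rw [hz]
      exact involution_of_mem_zpowers_four hx₀4 hw hww hw1
    have hu' : u = g * z * g⁻¹ := by
      rw [← hwz]
      group
    have hfz := hfix z hzC hzz hz1
    have huP : (g * z * g⁻¹) • P = P := by
      rw [← hu']
      exact Sylow.smul_eq_iff_mem_normalizer.mpr (hCN huC)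
    have hgN := mem_normalizer_of_conj_fixes P z (hC ▸ hzC) hfz g huP
    -- `C` centralizes `z`
    have hCz : ∀ c ∈ C, c * z = z * c := by
      obtain ⟨D, hD⟩ : ∃ D : Subgroup G, D = C ⊓ Subgroup.centralizer ({z} : Set G) :=
        ⟨_, rfl⟩
      have hPD : (P : Subgroup G) ≤ D := by
        rw [hD]
        intro q hq
        have h1 : q ∈ C := by
          rw [hC]
          exact le_centralizer_of_prime_card (P : Subgroup G) hP hq
        have h2' : q ∈ Subgroup.centralizer ({z} : Set G) := by
          rw [Subgroup.mem_centralizer_iff]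
          intro w hw
          rw [Set.mem_singleton_iff] at hw
          rw [hw]
          have h := Subgroup.mem_centralizer_iff.mp (hC ▸ hzC) q hq
          exact h.symm
        exact Subgroup.mem_inf.mpr ⟨h1, h2'⟩
      have hKD : K ≤ D := by
        rw [hD]
        intro a ha
        have h1 : a ∈ C := by
          rw [hK] at ha
          exact ha.1
        have h2' : a ∈ Subgroup.centralizer ({z} : Set G) := by
          rw [Subgroup.mem_centralizer_iff]
          intro w hw
          rw [Set.mem_singleton_iff] at hw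
          rw [hw]
          exact hKcomm z hzK a ha
        exact Subgroup.mem_inf.mpr ⟨h1, h2'⟩
      have h11D : 11 ∣ Nat.card D := by
        have h := Subgroup.card_dvd_of_le hPD
        rwa [hP] at h
      have h4D : 4 ∣ Nat.card D := by
        have h := Subgroup.card_dvd_of_le hKD
        rwa [hKcard] at h
      have h44D : 11 * 4 ∣ Nat.card D :=
        Nat.Coprime.mul_dvd_of_dvd_of_dvd (by norm_num : Nat.Coprime 11 4) h11D h4D
      have hDC : D ≤ C := by
        rw [hD]
        exact inf_le_left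
      have hDeq : D = C := by
        apply Subgroup.eq_of_le_of_card_ge hDC
        rw [hCc]
        exact Nat.le_of_dvd Nat.card_pos h44D
      intro c hc
      rw [← hDeq, hD] at hc
      have h := Subgroup.mem_centralizer_iff.mp hc.2 z rfl
      exact h.symm
    have hgz : g * z * g⁻¹ = z := by
      by_cases hgC : g ∈ C
      · rw [hCz g hgC]
        group
      · have hx₀inv : x₀⁻¹ ∉ C := fun h => hx₀C (by simpa using inv_mem h)
        have hc : g * x₀⁻¹ ∈ C := (hmul g x₀⁻¹ hgN (inv_mem (hSN x₀ hx₀S))).mpr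
          ⟨fun h => absurd h hgC, fun h => absurd h hx₀inv⟩
        have h := hCz _ hc
        have hxz : x₀⁻¹ * z * x₀ = z := by
          rw [hz]
          group
        calc g * z * g⁻¹ = ((g * x₀⁻¹) * z) * (g * x₀⁻¹)⁻¹ := by
              rw [mul_inv_rev, inv_inv]
              calc g * z * g⁻¹ = g * (x₀⁻¹ * z * x₀) * g⁻¹ := by rw [hxz]
                _ = g * x₀⁻¹ * z * (x₀ * g⁻¹) := by group
          _ = (z * (g * x₀⁻¹)) * (g * x₀⁻¹)⁻¹ := by rw [h]
          _ = z := by group
    exact huz (hu'.trans hgz)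
  · -- `K` cyclic
    push Not at hel
    obtain ⟨k, hkK, hkk⟩ := hel
    have hk4 : orderOf k = 4 := by
      have hd : orderOf k ∣ 4 := by
        have h := orderOf_dvd_natCard (⟨k, hkK⟩ : K)
        rwa [hKcard, Subgroup.orderOf_mk] at h
      have h1 : orderOf k ≠ 1 := by
        intro h
        rw [orderOf_eq_one_iff] at h
        apply hkk
        rw [h, one_mul]
      have h2' : orderOf k ≠ 2 := by
        intro h
        apply hkk
        rw [← pow_two, ← h]
        exact pow_orderOf_eq_one k
      have hle := Nat.le_of_dvd (by norm_num) hd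
      have hpos := orderOf_pos k
      generalize orderOf k = o at hd hle hpos h1 h2'
      interval_cases o <;> omega
    have hKz : Subgroup.zpowers k = K := by
      apply Subgroup.eq_of_le_of_card_ge ((Subgroup.zpowers_le).mpr hkK)
      rw [Nat.card_zpowers, hk4, hKcard]
    have hkS : k ∈ (S : Subgroup G) := by
      rw [hK] at hkK
      exact hkK.2
    have huniq : ∀ u ∈ (S : Subgroup G), u * u = 1 → u ≠ 1 → u = k * k := by
      intro u huS huu hu1
      have huK : u ∈ K := by
        rw [hK]
        exact ⟨hinvS u huS huu, huS⟩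
      rw [← hKz] at huK
      exact involution_of_mem_zpowers_four hk4 huK huu hu1
    have hsub : ∀ H K' : Subgroup (S : Subgroup G), Nat.card H = 2 → Nat.card K' = 2 →
        H = K' := by
      have key : ∀ H : Subgroup (S : Subgroup G), Nat.card H = 2 →
          Subgroup.zpowers (⟨k * k, mul_mem hkS hkS⟩ : (S : Subgroup G)) = H := by
        intro H hH
        obtain ⟨h, hh⟩ := exists_prime_orderOf_dvd_card' (G := H) 2 (by rw [hH])
        have hho : orderOf ((h : (S : Subgroup G)) : G) = 2 := by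
          rw [Subgroup.orderOf_coe, Subgroup.orderOf_coe]
          exact hh
        have hhh : ((h : (S : Subgroup G)) : G) * ((h : (S : Subgroup G)) : G) = 1 := by
          have h' := pow_orderOf_eq_one ((h : (S : Subgroup G)) : G)
          rw [hho, pow_two] at h'
          exact h'
        have hh1 : ((h : (S : Subgroup G)) : G) ≠ 1 := by
          intro h'
          rw [h', orderOf_one] at hho
          omega
        have heq := huniq _ (h : (S : Subgroup G)).2 hhh hh1
        have heq' : (⟨k * k, mul_mem hkS hkS⟩ : (S : Subgroup G)) = (h : (S : Subgroup G)) :=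
          Subtype.ext heq.symm
        apply Subgroup.eq_of_le_of_card_ge
        · rw [Subgroup.zpowers_le, heq']
          exact h.2
        · rw [hH, Nat.card_zpowers, heq', Subgroup.orderOf_coe, hh]
      intro H K' hH hK'
      rw [← key H hH, ← key K' hK']
    rcases Cfsg.Agent.S0016.result 2 S.2 hsub with hcyc | ⟨-, n, ⟨e⟩⟩
    · have h2G : 2 ∣ Nat.card G := by
        rw [hG]
        norm_num
      have hmin : (Nat.card G).minFac = 2 := (Nat.minFac_eq_two_iff _).2 h2G
      exact not_simple_of_sylow_central 2 S (hcyc.normalizer_le_centralizer hmin)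
        (by rw [hS8]; norm_num) (by rw [hS8, hG]; norm_num)
    · have hcard := Nat.card_congr e.toEquiv
      rw [hS8, Nat.card_eq_fintype_card, QuaternionGroup.card] at hcard
      have hn1' : n = 1 := by
        have h2n : 2 ^ n = 2 ^ 1 := by omega
        exact Nat.pow_right_injective (le_refl 2) h2n
      subst hn1'
      have hcen := Cfsg.Agent.S0201.result S 0 e (by
        intro N hNn hodd
        rcases hNn.eq_bot_or_eq_top with h | h
        · exact h
        · exfalso
          rw [h, Subgroup.card_top, hG] at hodd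
          exact absurd hodd (by decide))
      rcases (inferInstance : (Subgroup.center G).Normal).eq_bot_or_eq_top with h | h
      · rw [h, Subgroup.card_bot] at hcen
        omega
      · rw [h, Subgroup.card_top, hG] at hcen
        omega

/-- No finite simple group has order 3960. -/
theorem no_simple_3960 [IsSimpleGroup G] : Nat.card G ≠ 3960 := by
  intro hS
  have h11 : Fact (Nat.Prime 11) := ⟨by norm_num⟩
  have h3 : Fact (Nat.Prime 3) := ⟨by norm_num⟩
  obtain ⟨P⟩ : Nonempty (Sylow 11 G) := inferInstance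
  obtain ⟨hP, hn1, hmod, ⟨k, hk, hnk⟩, e, he, he1, hCe⟩ :=
    sylow_setup (p := 11) 360 (by rw [hS]) (by norm_num) (by norm_num) P
  have he' : e = 2 ∨ e = 5 ∨ e = 10 := by
    have hle : e ≤ 10 := Nat.le_of_dvd (by norm_num) he
    have hpos : 0 < e := Nat.pos_of_dvd_of_pos he (by norm_num)
    interval_cases e <;> omega
  obtain ⟨n, hn⟩ : ∃ n, n = Nat.card (Sylow 11 G) := ⟨_, rfl⟩
  rw [← hn] at hmod hnk
  have hnd : n ∣ 360 := Dvd.intro _ hnk
  have hnle : n ≤ 360 := Nat.le_of_dvd (by norm_num) hnd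
  have hn1' : n ≠ 1 := by rw [hn]; exact hn1
  have hcases : n = 12 ∨ n = 45 := by
    clear hnk hn
    interval_cases n <;> omega
  rcases hcases with rfl | rfl
  · -- `n_11 = 12`
    have hk30 : k = 30 := by omega
    rw [hk30] at hk
    rw [hk] at hCe
    have h3C : 3 ∣ Nat.card (Subgroup.centralizer ((P : Subgroup G) : Set G)) := by
      rcases he' with rfl | rfl | rfl
      · exact ⟨55, by omega⟩
      · exact ⟨22, by omega⟩
      · exact ⟨11, by omega⟩
    obtain ⟨x, hxC, hx⟩ := exists_mem_orderOf_prime _ 3 h3C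
    obtain ⟨c1, c2, c3⟩ := sylow_prime_counts P hn1 x 3 hx hxC
    rw [← hn] at c2 c3
    omega
  · -- `n_11 = 45`
    have hk8 : k = 8 := by omega
    rw [hk8] at hk
    rw [hk] at hCe
    have hC44 : Nat.card (Subgroup.centralizer ((P : Subgroup G) : Set G)) = 44 := by
      rcases he' with rfl | rfl | rfl <;> omega
    exact no_simple_3960_aux hS P hP hn.symm hk hC44

end Ord3960

end Cfsg.Agent.Lib.helper11
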