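import Mathlib
import Cfsg.Agent.Lib.helper75.SimpleOrdA

/-!
# No simple group of order 4200 (helper11)

`4200 = 2^3 * 3 * 5^2 * 7`.  `n_7 ∈ {8, 15, 50, 120}`; `n_7 = 8, 15`: an element of order 5
centralizes a Sylow 7-subgroup, contradicting the fixed point congruences; `n_7 = 120`: Burnside;
`n_7 = 50`: an involution centralizing a Sylow 7-subgroup fixes 22 Sylow 7-subgroups and its
centralizer is transitive on them, so `11 ∣ |G|`.
-/

set_option autoImplicit false

namespace Cfsg.Agent.Lib.helper11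

open MulAction
open Cfsg.Agent.Lib.helper75

/-- No finite simple group has order 4200. -/
theorem no_simple_4200 {G : Type*} [Group G] [Finite G] [IsSimpleGroup G] :
    Nat.card G ≠ 4200 := by
  intro hS
  have h7 : Fact (Nat.Prime 7) := ⟨by norm_num⟩
  have h5 : Fact (Nat.Prime 5) := ⟨by norm_num⟩
  obtain ⟨P⟩ : Nonempty (Sylow 7 G) := inferInstance
  obtain ⟨hP, hn1, hmod, ⟨k, hk, hnk⟩, e, he, he1, hCe⟩ :=
    sylow_setup (p := 7) 600 (by rw [hS]) (by norm_num) (by norm_num) P
  have he' : e = 2 ∨ e = 3 ∨ e = 6 := by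
    have hle : e ≤ 6 := Nat.le_of_dvd (by norm_num) he
    have hpos : 0 < e := Nat.pos_of_dvd_of_pos he (by norm_num)
    interval_cases e <;> omega
  obtain ⟨n, hn⟩ : ∃ n, n = Nat.card (Sylow 7 G) := ⟨_, rfl⟩
  rw [← hn] at hmod hnk
  have hnd : n ∣ 600 := Dvd.intro _ hnk
  have hnle : n ≤ 600 := Nat.le_of_dvd (by norm_num) hnd
  have hn1' : n ≠ 1 := by rw [hn]; exact hn1
  have hcases : n = 8 ∨ n = 15 ∨ n = 50 ∨ n = 120 := by
    clear hnk hn
    interval_cases n <;> omega
  rcases hcases with rfl | rfl | rfl | rfl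
  · -- `n_7 = 8`
    have hk75 : k = 75 := by omega
    rw [hk75] at hk
    rw [hk] at hCe
    apply no_sylow_seven_eight P hn.symm 5 (by norm_num)
    rcases he' with rfl | rfl | rfl
    · omega
    · exact ⟨35, by omega⟩
    · omega
  · -- `n_7 = 15`
    have hk40 : k = 40 := by omega
    rw [hk40] at hk
    rw [hk] at hCe
    have h5C : 5 ∣ Nat.card (Subgroup.centralizer ((P : Subgroup G) : Set G)) := by
      rcases he' with rfl | rfl | rfl
      · exact ⟨28, by omega⟩
      · omega
      · omega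
    obtain ⟨x, hxC, hx⟩ := exists_mem_orderOf_prime _ 5 h5C
    obtain ⟨c1, c2, c3⟩ := sylow_prime_counts P hn1 x 5 hx hxC
    rw [← hn] at c2 c3
    omega
  · -- `n_7 = 50`
    have hk12 : k = 12 := by omega
    rw [hk12] at hk
    rw [hk] at hCe
    have h2C : 2 ∣ Nat.card (Subgroup.centralizer ((P : Subgroup G) : Set G)) := by
      rcases he' with rfl | rfl | rfl
      · exact ⟨21, by omega⟩
      · exact ⟨14, by omega⟩
      · exact ⟨7, by omega⟩
    obtain ⟨t, V, ht, htC, hVk, c1, c2, c3, hbig⟩ :=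
      exists_involution_centralizer (by norm_num) P hP hn1 (by omega) h2C
    rw [← hn] at c2 c3 hbig
    have hf : Nat.card {ω : Sylow 7 G // t • ω = ω} = 22 := by omega
    rw [hf] at hbig
    obtain ⟨s, hs1, hs2, hs3, hs4⟩ := hbig (by norm_num)
    have hCt : Nat.card (Subgroup.centralizer ({t} : Set G)) ∣ 4200 := by
      rw [← hS]
      exact Subgroup.card_subgroup_dvd_card _
    rw [hs1] at hCt
    have h11 : 11 ∣ 4200 := Dvd.dvd.trans (Dvd.intro (2 * s) (by ring : 11 * (2 * s) = 22 * s)) hCt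
    norm_num at h11
  · -- `n_7 = 120`
    have hk5 : k = 5 := by omega
    rw [hk5] at hk
    rw [hk] at hCe
    rcases he' with rfl | rfl | rfl <;> omega

end Cfsg.Agent.Lib.helper11
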