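import Mathlib
import Cfsg.Agent.Lib.helper75.SimpleOrdA
import Cfsg.Agent.Lib.helper32.Ord4032
import Cfsg.Agent.Lib.helper32.Dih2

/-!
# Simple groups of order 5040: the Sylow 7 cases with a non-self-centralizing Sylow subgroup
(helper11)

`5040 = 2^4 * 3^2 * 5 * 7`, `P` a Sylow 7-subgroup.
* `no_simple_5040_thirty_six`: `n_7 = 36`, `|C(P)| = 70` is impossible.
* `no_simple_5040_c14`: `n_7 = 120`, `|C(P)| = 14` is impossible.
* `no_simple_5040_c21`: `n_7 = 120`, `|C(P)| = 21` is impossible.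
-/

set_option autoImplicit false

namespace Cfsg.Agent.Lib.helper11

open MulAction
open scoped Pointwise
open Cfsg.Agent.Lib.helper75 Cfsg.Agent.Lib.helper32

section Ord5040

variable {G : Type*} [Group G] [Finite G]

/-- An element conjugating `x` into `⟨x⟩` normalizes `⟨x⟩`. -/
theorem mem_normalizer_zpowers_of_conj {x g : G} (h : g * x * g⁻¹ ∈ Subgroup.zpowers x) :
    g ∈ Subgroup.normalizer ((Subgroup.zpowers x : Subgroup G) : Set G) := by
  have hle : Subgroup.zpowers (g * x * g⁻¹) ≤ Subgroup.zpowers x := (Subgroup.zpowers_le).mpr h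
  have ho : orderOf (g * x * g⁻¹) = orderOf x := (MulAut.conj g).orderOf_eq x
  have heq : Subgroup.zpowers (g * x * g⁻¹) = Subgroup.zpowers x :=
    Subgroup.eq_of_le_of_card_ge hle (by rw [Nat.card_zpowers, Nat.card_zpowers, ho])
  have hconj : ∀ k : ℤ, g * x ^ k * g⁻¹ = (g * x * g⁻¹) ^ k := fun k => by
    rw [conj_zpow]
  rw [Subgroup.mem_normalizer_iff]
  intro h'
  constructor
  · intro hh
    obtain ⟨k, rfl⟩ := Subgroup.mem_zpowers_iff.mp hh
    rw [hconj]
    exact Subgroup.zpow_mem _ h k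
  · intro hh
    rw [← heq] at hh
    obtain ⟨k, hk⟩ := Subgroup.mem_zpowers_iff.mp hh
    have h2 : g * x ^ k * g⁻¹ = g * h' * g⁻¹ := by rw [hconj, hk]
    have h3 : x ^ k = h' := mul_left_cancel (mul_right_cancel h2)
    rw [← h3]
    exact Subgroup.zpow_mem_zpowers x k

/-- In a group of order 5040 the Sylow 3-subgroups are abelian of order 9. -/
theorem sylow_three_5040 (hG : Nat.card G = 5040) (S₀ : Sylow 3 G) :
    Nat.card S₀ = 9 ∧ ∀ a ∈ (S₀ : Subgroup G), ∀ b ∈ (S₀ : Subgroup G), a * b = b * a := by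
  have h3 : Fact (Nat.Prime 3) := ⟨by norm_num⟩
  have hS9 : Nat.card S₀ = 9 := by
    obtain ⟨k, hk⟩ := IsPGroup.iff_card.mp S₀.2
    have h9 : 3 ^ 2 ∣ Nat.card S₀ := S₀.pow_dvd_card_of_pow_dvd_card (by rw [hG]; norm_num)
    have hdvd : Nat.card S₀ ∣ 5040 := by rw [← hG]; exact Subgroup.card_subgroup_dvd_card _
    rw [hk] at h9 hdvd ⊢
    have hk2 : 2 ≤ k := (Nat.pow_dvd_pow_iff_le_right (by norm_num)).mp h9
    have hk3 : k < 3 := by
      by_contra hcon
      have h27 : 3 ^ 3 ∣ 5040 := (pow_dvd_pow 3 (by omega)).trans hdvd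
      norm_num at h27
    have hk' : k = 2 := by omega
    rw [hk']
    norm_num
  refine ⟨hS9, ?_⟩
  have hc := IsPGroup.isMulCommutative_of_card_eq_prime_sq (p := 3) (G := (S₀ : Subgroup G))
    (by rw [hS9]; norm_num)
  intro a ha b hb
  have := hc.is_comm.comm ⟨a, ha⟩ ⟨b, hb⟩
  exact congrArg Subtype.val this

omit [Finite G] in
/-- An element of a subgroup of order 7 whose square is trivial is trivial. -/
theorem eq_one_of_sq_of_card_seven (P : Subgroup G) (hP : Nat.card P = 7) (z : G) (hz : z ∈ P)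
    (hzz : z * z = 1) : z = 1 := by
  have h1 : orderOf z ∣ 2 := orderOf_dvd_of_pow_eq_one (by rw [pow_two]; exact hzz)
  have h2 : orderOf z ∣ 7 := by
    have h3 := orderOf_dvd_natCard (⟨z, hz⟩ : P)
    rwa [hP, Subgroup.orderOf_mk] at h3
  have h4 : orderOf z ∣ Nat.gcd 2 7 := Nat.dvd_gcd h1 h2
  have h5 : Nat.gcd 2 7 = 1 := by norm_num
  rw [h5, Nat.dvd_one] at h4
  exact orderOf_eq_one_iff.mp h4

omit [Finite G] in
/-- An element of a subgroup of order 7 whose cube is trivial is trivial. -/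
theorem eq_one_of_cube_of_card_seven (P : Subgroup G) (hP : Nat.card P = 7) (z : G) (hz : z ∈ P)
    (hzz : z ^ 3 = 1) : z = 1 := by
  have h1 : orderOf z ∣ 3 := orderOf_dvd_of_pow_eq_one hzz
  have h2 : orderOf z ∣ 7 := by
    have h3 := orderOf_dvd_natCard (⟨z, hz⟩ : P)
    rwa [hP, Subgroup.orderOf_mk] at h3
  have h4 : orderOf z ∣ Nat.gcd 3 7 := Nat.dvd_gcd h1 h2
  have h5 : Nat.gcd 3 7 = 1 := by norm_num
  rw [h5, Nat.dvd_one] at h4
  exact orderOf_eq_one_iff.mp h4

/-- No simple group of order 5040 has 36 Sylow 7-subgroups. -/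
theorem no_simple_5040_thirty_six [IsSimpleGroup G] (hG : Nat.card G = 5040) (P : Sylow 7 G)
    (hP : Nat.card P = 7) (hn : Nat.card (Sylow 7 G) = 36)
    (hN : Nat.card (stabilizer G P) = 140)
    (hCc : Nat.card (Subgroup.centralizer ((P : Subgroup G) : Set G)) = 70) : False := by
  have h7 : Fact (Nat.Prime 7) := ⟨by norm_num⟩
  have h2 : Fact (Nat.Prime 2) := ⟨Nat.prime_two⟩
  have hn1 : Nat.card (Sylow 7 G) ≠ 1 := by omega
  obtain ⟨t, htC, ht⟩ := exists_mem_orderOf_prime
    (Subgroup.centralizer ((P : Subgroup G) : Set G)) 2 (by rw [hCc]; norm_num)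
  obtain ⟨N, hNdef⟩ : ∃ N : Subgroup G, N = stabilizer G P := ⟨_, rfl⟩
  have htN : t ∈ N := by rw [hNdef]; exact centralizer_le_stabilizer P htC
  rw [← hNdef] at hN
  have hpg : IsPGroup 2 (Subgroup.zpowers (⟨t, htN⟩ : N)) :=
    IsPGroup.of_card (n := 1) (by rw [Nat.card_zpowers, Subgroup.orderOf_mk, ht, pow_one])
  obtain ⟨Q, hQ⟩ := hpg.exists_le_sylow
  have htQ : (⟨t, htN⟩ : N) ∈ (Q : Subgroup N) := hQ (Subgroup.mem_zpowers _)
  have hQ4 : Nat.card Q = 4 := by
    obtain ⟨k, hk⟩ := IsPGroup.iff_card.mp Q.2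
    have h4 : 2 ^ 2 ∣ Nat.card Q := Q.pow_dvd_card_of_pow_dvd_card (by rw [hN]; norm_num)
    have hdvd : Nat.card Q ∣ 140 := by rw [← hN]; exact Subgroup.card_subgroup_dvd_card _
    rw [hk] at h4 hdvd ⊢
    have hk2 : 2 ≤ k := (Nat.pow_dvd_pow_iff_le_right (by norm_num)).mp h4
    have hk3 : k < 3 := by
      by_contra hcon
      have h8 : 2 ^ 3 ∣ 140 := (pow_dvd_pow 2 (by omega)).trans hdvd
      norm_num at h8
    have hk' : k = 2 := by omega
    rw [hk']
    norm_num
  have hc := IsPGroup.isMulCommutative_of_card_eq_prime_sq (p := 2) (G := (Q : Subgroup N))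
    (by rw [hQ4]; norm_num)
  obtain ⟨V, hV⟩ : ∃ V : Subgroup G, V = (Q : Subgroup N).map N.subtype := ⟨_, rfl⟩
  have hVcard : Nat.card V = 4 := by
    rw [hV, Subgroup.card_map_of_injective (Subgroup.subtype_injective _)]
    exact hQ4
  have hVN : V ≤ stabilizer G P := by
    rw [hV, ← hNdef]
    rintro _ ⟨v, -, rfl⟩
    exact v.2
  have hVt : ∀ v ∈ V, v * t = t * v := by
    rw [hV]
    rintro _ ⟨v, hv, rfl⟩
    have h6 := hc.is_comm.comm (⟨v, hv⟩ : (Q : Subgroup N)) ⟨⟨t, htN⟩, htQ⟩
    have h7 := congrArg (fun a : (Q : Subgroup N) => ((a : N) : G)) h6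
    exact h7
  obtain ⟨c1, c2, c3⟩ := sylow_involution_counts P hn1 (by omega) t ht htC
  rw [hn] at c2 c3
  have hf : Nat.card {ω : Sylow 7 G // t • ω = ω} = 8 := by omega
  obtain ⟨s, hs1, hs2, hs3, hs4⟩ := involution_centralizer_card (by norm_num) P hP t ht htC
    (by rw [hf, hn]; norm_num) V hVN hVt
  rw [hf] at hs1
  rw [hVcard] at hs3
  have hCt : Nat.card (Subgroup.centralizer ({t} : Set G)) ∣ 5040 := by
    rw [← hG]
    exact Subgroup.card_subgroup_dvd_card _
  rw [hs1] at hCt
  obtain ⟨j, hj⟩ := hs3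
  rw [hj] at hCt
  have h32 : 32 ∣ 5040 := Dvd.dvd.trans (Dvd.intro j (by ring : 32 * j = 8 * (4 * j))) hCt
  norm_num at h32

/-- No simple group of order 5040 has 120 Sylow 7-subgroups with `|C(P)| = 14`. -/
theorem no_simple_5040_c14 [IsSimpleGroup G] (hG : Nat.card G = 5040) (P : Sylow 7 G)
    (hP : Nat.card P = 7) (hn : Nat.card (Sylow 7 G) = 120)
    (hN : Nat.card (stabilizer G P) = 42)
    (hCc : Nat.card (Subgroup.centralizer ((P : Subgroup G) : Set G)) = 14) : False := by
  have h7 : Fact (Nat.Prime 7) := ⟨by norm_num⟩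
  have h2 : Fact (Nat.Prime 2) := ⟨Nat.prime_two⟩
  have hn1 : Nat.card (Sylow 7 G) ≠ 1 := by omega
  have h3G : 2 < Nat.card G := by omega
  obtain ⟨t, htC, ht⟩ := exists_mem_orderOf_prime
    (Subgroup.centralizer ((P : Subgroup G) : Set G)) 2 (by rw [hCc]; norm_num)
  have ht2 : t * t = 1 := by
    rw [← pow_two, ← ht]
    exact pow_orderOf_eq_one t
  have ht1 : t ≠ 1 := by
    rintro rfl
    rw [orderOf_one] at ht
    omega
  have htP : t • P = P :=
    Sylow.smul_eq_iff_mem_normalizer.mpr (Subgroup.centralizer_le_normalizer _ htC)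
  obtain ⟨y, hyP, hy⟩ := exists_mem_orderOf_prime (P : Subgroup G) 7 (by rw [hP])
  have hy1 : y ≠ 1 := by
    rintro rfl
    rw [orderOf_one] at hy
    omega
  have hyt : y * t = t * y := Subgroup.mem_centralizer_iff.mp htC y hyP
  -- involutions of the normalizer centralize `P`
  have hrel : (Subgroup.centralizer ((P : Subgroup G) : Set G)).relIndex
      (Subgroup.normalizer ((P : Subgroup G) : Set G)) = 3 := by
    have h := card_centralizer_mul_relIndex P
    rw [hCc, hN] at h
    omega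
  have hinvC : ∀ u : G, u ∈ Subgroup.normalizer ((P : Subgroup G) : Set G) → u * u = 1 →
      u ∈ Subgroup.centralizer ((P : Subgroup G) : Set G) := by
    intro u hu huu
    have hnorm : ((Subgroup.centralizer ((P : Subgroup G) : Set G)).subgroupOf
        (Subgroup.normalizer ((P : Subgroup G) : Set G))).Normal := by
      rw [← Subgroup.normalizerMonoidHom_ker]
      infer_instance
    have h := Subgroup.pow_index_mem ((Subgroup.centralizer ((P : Subgroup G) : Set G)).subgroupOf
      (Subgroup.normalizer ((P : Subgroup G) : Set G)))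
      (⟨u, hu⟩ : Subgroup.normalizer ((P : Subgroup G) : Set G))
    have hidx3 : ((Subgroup.centralizer ((P : Subgroup G) : Set G)).subgroupOf
        (Subgroup.normalizer ((P : Subgroup G) : Set G))).index = 3 := hrel
    rw [hidx3, Subgroup.mem_subgroupOf, Subgroup.coe_pow] at h
    have h3 : u ^ 3 = u := by
      calc u ^ 3 = u * (u * u) := by rw [pow_succ, pow_two, mul_assoc]
        _ = u := by rw [huu, mul_one]
    rw [show ((⟨u, hu⟩ : Subgroup.normalizer ((P : Subgroup G) : Set G)) : G) = u from rfl,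
      h3] at h
    exact h
  -- `t` centralizes every Sylow subgroup it normalizes
  have hcent : ∀ R : Sylow 7 G, t • R = R → ∀ z ∈ (R : Subgroup G), z * t = t * z := by
    intro R hR z hz
    obtain ⟨g, rfl⟩ := MulAction.exists_smul_eq G P R
    have hu : (g⁻¹ * t * g) • P = P := by
      rw [mul_smul, mul_smul, hR, inv_smul_smul]
    have huN : g⁻¹ * t * g ∈ Subgroup.normalizer ((P : Subgroup G) : Set G) :=
      Sylow.smul_eq_iff_mem_normalizer.mp hu
    have huu : (g⁻¹ * t * g) * (g⁻¹ * t * g) = 1 := by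
      calc (g⁻¹ * t * g) * (g⁻¹ * t * g) = g⁻¹ * (t * t) * g := by group
        _ = 1 := by rw [ht2]; group
    have huC := hinvC _ huN huu
    have hz' : g⁻¹ * z * g ∈ (P : Subgroup G) := (sylow_mem_smul_iff g P z).mp hz
    have h := Subgroup.mem_centralizer_iff.mp huC _ hz'
    have e1 : z * t = g * ((g⁻¹ * z * g) * (g⁻¹ * t * g)) * g⁻¹ := by group
    rw [e1, h]
    group
  -- the fixed points of `t` form one orbit of `C(t)`
  have horb := fixed_eq_orbit_centralizer t P htP hcent
  obtain ⟨H, hH⟩ : ∃ H : Subgroup G, H = Subgroup.centralizer ({t} : Set G) := ⟨_, rfl⟩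
  rw [← hH] at horb
  have hmemH : ∀ g : G, g ∈ H ↔ t * g = g * t := by
    intro g
    rw [hH, Subgroup.mem_centralizer_iff]
    constructor
    · intro h; exact h t rfl
    · rintro h _ rfl; exact h
  have htH : t ∈ H := (hmemH t).mpr rfl
  have hyH : y ∈ H := (hmemH y).mpr hyt.symm
  have hPH : (P : Subgroup G) ≤ H := fun q hq =>
    (hmemH q).mpr (Subgroup.mem_centralizer_iff.mp htC q hq).symm
  have hncard : (orbit H P).ncard = Nat.card {ω : Sylow 7 G // t • ω = ω} := by
    rw [horb]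
    exact (Nat.card_coe_set_eq _).symm
  have h1 := Subgroup.card_mul_index (stabilizer H P)
  rw [MulAction.index_stabilizer, hncard] at h1
  have hst : stabilizer H P = (H ⊓ stabilizer G P).subgroupOf H := by
    ext g
    rw [MulAction.mem_stabilizer_iff, Subgroup.mem_subgroupOf, Subgroup.mem_inf,
      MulAction.mem_stabilizer_iff]
    constructor
    · intro h; exact ⟨g.2, h⟩
    · intro h; exact h.2
  have hcard : Nat.card (stabilizer H P) = Nat.card (H ⊓ stabilizer G P : Subgroup G) := by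
    rw [hst]
    exact Nat.card_congr (Subgroup.subgroupOfEquivOfLe inf_le_left).toEquiv
  rw [hcard] at h1
  have hPD : (P : Subgroup G) ≤ H ⊓ stabilizer G P := le_inf hPH (sylow_le_stabilizer' P)
  have htD : t ∈ H ⊓ stabilizer G P := ⟨htH, centralizer_le_stabilizer P htC⟩
  have h7D : 7 ∣ Nat.card (H ⊓ stabilizer G P : Subgroup G) := by
    have h := Subgroup.card_dvd_of_le hPD
    rwa [hP] at h
  have h2D : 2 ∣ Nat.card (H ⊓ stabilizer G P : Subgroup G) := by
    have := orderOf_dvd_natCard (⟨t, htD⟩ : (H ⊓ stabilizer G P : Subgroup G))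
    rwa [Subgroup.orderOf_mk, ht] at this
  have hD42 : Nat.card (H ⊓ stabilizer G P : Subgroup G) ∣ 42 := by
    rw [← hN]
    exact Subgroup.card_dvd_of_le inf_le_right
  obtain ⟨c1, c2, c3⟩ := sylow_involution_counts P hn1 h3G t ht htC
  rw [hn] at c2 c3
  have hidx := Subgroup.card_mul_index H
  rw [hG] at hidx
  obtain ⟨d, hd⟩ : ∃ d, d = Nat.card (H ⊓ stabilizer G P : Subgroup G) := ⟨_, rfl⟩
  obtain ⟨F, hF⟩ : ∃ F, F = Nat.card {ω : Sylow 7 G // t • ω = ω} := ⟨_, rfl⟩
  obtain ⟨i, hi⟩ : ∃ i, i = H.index := ⟨_, rfl⟩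
  rw [← hd] at h7D h2D hD42 h1
  rw [← hF] at c1 c2 c3 h1
  rw [← hi, ← h1] at hidx
  have hd' : d = 14 ∨ d = 42 := by
    have hle : d ≤ 42 := Nat.le_of_dvd (by norm_num) hD42
    have hpos : 0 < d := Nat.pos_of_dvd_of_pos hD42 (by norm_num)
    clear h1 hd hidx
    interval_cases d <;> omega
  have hF' : F = 8 ∨ F = 36 ∨ F = 64 ∨ F = 92 := by omega
  have hi' : i = 45 ∨ i = 15 ∨ i = 10 := by
    rcases hd' with rfl | rfl <;> rcases hF' with rfl | rfl | rfl | rfl <;> omega
  -- the action on the cosets of `H = C(t)`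
  have hinvol : ∀ u : G, u ∈ Subgroup.centralizer ((P : Subgroup G) : Set G) → u * u = 1 →
      u ≠ 1 → u = t := by
    intro u huC huu hu1
    obtain ⟨C, hC⟩ : ∃ C : Subgroup G, C = Subgroup.centralizer ((P : Subgroup G) : Set G) :=
      ⟨_, rfl⟩
    rw [← hC] at huC hCc
    have htC' : t ∈ C := by rw [hC]; exact htC
    have hPC : (P : Subgroup G) ≤ C := by
      rw [hC]
      intro q hq
      rw [Subgroup.mem_centralizer_iff]
      intro r hr
      have h := Cfsg.Agent.Lib.helper21.comm_of_prime_card (P := (P : Subgroup G))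
        (by norm_num : Nat.Prime 7) hP ⟨r, hr⟩ ⟨q, hq⟩
      exact congrArg Subtype.val h
    have hidx2 : ((P : Subgroup G).subgroupOf C).index = 2 := by
      have h := Subgroup.card_mul_index ((P : Subgroup G).subgroupOf C)
      rw [Nat.card_congr (Subgroup.subgroupOfEquivOfLe hPC).toEquiv, hP, hCc] at h
      omega
    have huP : u ∉ (P : Subgroup G) := fun h =>
      hu1 (eq_one_of_sq_of_card_seven (P : Subgroup G) hP u h huu)
    have htP' : t ∉ (P : Subgroup G) := fun h =>
      ht1 (eq_one_of_sq_of_card_seven (P : Subgroup G) hP t h ht2)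
    have hmul := Subgroup.mul_mem_iff_of_index_two hidx2 (a := (⟨u, huC⟩ : C))
      (b := (⟨t, htC'⟩ : C))
    rw [Subgroup.mem_subgroupOf, Subgroup.mem_subgroupOf, Subgroup.mem_subgroupOf] at hmul
    have hz : u * t ∈ (P : Subgroup G) := hmul.mpr ⟨fun h => absurd h huP, fun h => absurd h htP'⟩
    have hzt : (u * t) * t = t * (u * t) := Subgroup.mem_centralizer_iff.mp htC (u * t) hz
    have hut : u * t = t * u := by
      calc u * t = t * (t * (u * t)) := by rw [← mul_assoc, ht2, one_mul]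
        _ = t * ((u * t) * t) := by rw [hzt]
        _ = t * u := by rw [mul_assoc u, ht2, mul_one]
    have hzz : (u * t) * (u * t) = 1 := by
      calc (u * t) * (u * t) = u * (t * u) * t := by group
        _ = u * (u * t) * t := by rw [hut]
        _ = (u * u) * (t * t) := by group
        _ = 1 := by rw [huu, ht2, one_mul]
    have hz1 := eq_one_of_sq_of_card_seven (P : Subgroup G) hP (u * t) hz hzz
    calc u = u * (t * t) := by rw [ht2, mul_one]
      _ = (u * t) * t := by group
      _ = t := by rw [hz1, one_mul]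
  have hfy : Nat.card {ω : G ⧸ H // y • ω = ω} = 1 := by
    have huniq : ∀ ω : G ⧸ H, y • ω = ω → ω = ((1 : G) : G ⧸ H) := by
      intro ω hω
      obtain ⟨g, rfl⟩ := QuotientGroup.mk_surjective ω
      have h2' : y • ((g : G) : G ⧸ H) = ((y * g : G) : G ⧸ H) := rfl
      rw [h2', QuotientGroup.eq] at hω
      have hcomm := (hmemH _).mp hω
      have ht₁y : (g * t * g⁻¹) * y = y * (g * t * g⁻¹) := by
        have e1 : (g * t * g⁻¹) * y = y * (g * (((y * g)⁻¹ * g) * t) * g⁻¹) * y := by group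
        have e2 : y * (g * t * g⁻¹) = y * (g * (t * ((y * g)⁻¹ * g)) * g⁻¹) * y := by group
        rw [e1, e2, hcomm]
      have ht₁C : g * t * g⁻¹ ∈ Subgroup.centralizer ((P : Subgroup G) : Set G) :=
        mem_centralizer_of_commute_prime_card (by norm_num) (P : Subgroup G) hP hyP hy1 ht₁y
      have ht₁sq : (g * t * g⁻¹) * (g * t * g⁻¹) = 1 := by
        calc (g * t * g⁻¹) * (g * t * g⁻¹) = g * (t * t) * g⁻¹ := by group
          _ = 1 := by rw [ht2]; group
      have ht₁ne : g * t * g⁻¹ ≠ 1 := by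
        intro h
        apply ht1
        have e : t = g⁻¹ * (g * t * g⁻¹) * g := by group
        rw [e, h]
        group
      have ht₁t : g * t * g⁻¹ = t := hinvol _ ht₁C ht₁sq ht₁ne
      have hgH : g ∈ H := by
        rw [hmemH]
        calc t * g = (g * t * g⁻¹) * g := by rw [ht₁t]
          _ = g * t := by group
      rw [QuotientGroup.eq, mul_one]
      exact inv_mem hgH
    rw [Nat.card_eq_one_iff_unique]
    exact ⟨⟨fun a b => Subtype.ext ((huniq a.1 a.2).trans (huniq b.1 b.2).symm)⟩,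
      ⟨⟨_, coset_base_fixed H y hyH⟩⟩⟩
  have hcardΩ : Nat.card (G ⧸ H) = i := by
    rw [hi]
    exact (Subgroup.index_eq_card H).symm
  have a1 := card_fixed_modEq (G ⧸ H) y 7 hy
  rw [hfy, hcardΩ] at a1
  unfold Nat.ModEq at a1
  have hi15 : i = 15 := by
    rcases hi' with rfl | rfl | rfl
    · norm_num at a1
    · rfl
    · norm_num at a1
  rw [hi15] at hcardΩ
  have hHtop : H ≠ ⊤ := by
    intro h
    rw [h, Subgroup.index_top] at hi
    omega
  have hfaith := coset_faithful H hHtop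
  have b1 := involution_fixed_modEq_four_of_faithful hfaith h3G t ht
  have b2 := fixed_lt_of_faithful hfaith t ht1
  have b3 := card_fixed_commuting_modEq (Ω := G ⧸ H) t y 7 hy hyt
  have b4 : 1 ≤ Nat.card {ω : G ⧸ H // t • ω = ω ∧ y • ω = ω} :=
    Nat.card_pos_iff.mpr ⟨⟨⟨_, coset_base_fixed H t htH, coset_base_fixed H y hyH⟩⟩, inferInstance⟩
  have b5 : Nat.card {ω : G ⧸ H // t • ω = ω ∧ y • ω = ω} ≤ Nat.card {ω : G ⧸ H // y • ω = ω} :=
    Nat.card_le_card_of_injective
      (fun a : {ω : G ⧸ H // t • ω = ω ∧ y • ω = ω} => (⟨a.1, a.2.2⟩ : {ω : G ⧸ H // y • ω = ω}))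
      (by
        intro a b hab
        have h1 := congrArg (fun z : {ω : G ⧸ H // y • ω = ω} => z.1) hab
        exact Subtype.ext h1)
  rw [hfy] at b5
  rw [hcardΩ] at b1 b2
  unfold Nat.ModEq at b1 b3
  omega

/-- No simple group of order 5040 has 120 Sylow 7-subgroups with `|C(P)| = 21`. -/
theorem no_simple_5040_c21 [IsSimpleGroup G] (hG : Nat.card G = 5040) (P : Sylow 7 G)
    (hP : Nat.card P = 7) (hN : Nat.card (stabilizer G P) = 42)
    (hCc : Nat.card (Subgroup.centralizer ((P : Subgroup G) : Set G)) = 21) : False := by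
  have h7 : Fact (Nat.Prime 7) := ⟨by norm_num⟩
  have h3 : Fact (Nat.Prime 3) := ⟨by norm_num⟩
  obtain ⟨x, hxC, hx⟩ := exists_mem_orderOf_prime
    (Subgroup.centralizer ((P : Subgroup G) : Set G)) 3 (by rw [hCc]; norm_num)
  obtain ⟨y, hyP, hy⟩ := exists_mem_orderOf_prime (P : Subgroup G) 7 (by rw [hP])
  have hyx : y * x = x * y := Subgroup.mem_centralizer_iff.mp hxC y hyP
  have hx3 : x ^ 3 = 1 := by
    rw [← hx]
    exact pow_orderOf_eq_one x
  have hx1 : x ≠ 1 := by
    rintro rfl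
    rw [orderOf_one] at hx
    omega
  -- elements of `C(P)` with trivial cube lie in `⟨x⟩`
  have hcube : ∀ u : G, u ∈ Subgroup.centralizer ((P : Subgroup G) : Set G) → u ^ 3 = 1 →
      u ∈ Subgroup.zpowers x := by
    intro u huC hu3
    obtain ⟨C, hC⟩ : ∃ C : Subgroup G, C = Subgroup.centralizer ((P : Subgroup G) : Set G) :=
      ⟨_, rfl⟩
    rw [← hC] at huC hCc
    have hxC' : x ∈ C := by rw [hC]; exact hxC
    have hPC : (P : Subgroup G) ≤ C := by
      rw [hC]
      intro q hq
      rw [Subgroup.mem_centralizer_iff]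
      intro r hr
      have h := Cfsg.Agent.Lib.helper21.comm_of_prime_card (P := (P : Subgroup G))
        (by norm_num : Nat.Prime 7) hP ⟨r, hr⟩ ⟨q, hq⟩
      exact congrArg Subtype.val h
    have hnorm : ((P : Subgroup G).subgroupOf C).Normal := by
      constructor
      intro n hn g
      rw [Subgroup.mem_subgroupOf] at hn ⊢
      have hg : (g : G) ∈ Subgroup.centralizer ((P : Subgroup G) : Set G) := by
        rw [← hC]
        exact g.2
      have hcomm := Subgroup.mem_centralizer_iff.mp hg (n : G) hn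
      have e : ((g * n * g⁻¹ : C) : G) = (n : G) := by
        show (g : G) * (n : G) * (g : G)⁻¹ = (n : G)
        rw [← hcomm]
        group
      rw [e]
      exact hn
    have hidx3 : ((P : Subgroup G).subgroupOf C).index = 3 := by
      have h := Subgroup.card_mul_index ((P : Subgroup G).subgroupOf C)
      rw [Nat.card_congr (Subgroup.subgroupOfEquivOfLe hPC).toEquiv, hP, hCc] at h
      omega
    have hQcard : Nat.card (C ⧸ (P : Subgroup G).subgroupOf C) = 3 := by
      rw [← Subgroup.index_eq_card]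
      exact hidx3
    have hxQ : ((⟨x, hxC'⟩ : C) : C ⧸ (P : Subgroup G).subgroupOf C) ≠ 1 := by
      intro h
      rw [QuotientGroup.eq_one_iff, Subgroup.mem_subgroupOf] at h
      exact hx1 (eq_one_of_cube_of_card_seven (P : Subgroup G) hP x h hx3)
    have htop := zpowers_eq_top_of_prime_card hQcard hxQ
    have hu : ((⟨u, huC⟩ : C) : C ⧸ (P : Subgroup G).subgroupOf C) ∈
        Subgroup.zpowers ((⟨x, hxC'⟩ : C) : C ⧸ (P : Subgroup G).subgroupOf C) := by
      rw [htop]
      trivial
    obtain ⟨k, hk⟩ := Subgroup.mem_zpowers_iff.mp hu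
    rw [← QuotientGroup.mk_zpow, QuotientGroup.eq, Subgroup.mem_subgroupOf] at hk
    have hz : (x ^ k)⁻¹ * u ∈ (P : Subgroup G) := by
      simpa using hk
    have hcomm : Commute (x ^ k) ((x ^ k)⁻¹ * u) := by
      have h1 : ((x ^ k)⁻¹ * u) * x = x * ((x ^ k)⁻¹ * u) :=
        Subgroup.mem_centralizer_iff.mp hxC _ hz
      exact ((show Commute x ((x ^ k)⁻¹ * u) from h1.symm).zpow_left k)
    have hz3 : ((x ^ k)⁻¹ * u) ^ 3 = 1 := by
      have e : u = x ^ k * ((x ^ k)⁻¹ * u) := by group
      have h1 : u ^ 3 = (x ^ k) ^ 3 * ((x ^ k)⁻¹ * u) ^ 3 := by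
        conv_lhs => rw [e]
        exact hcomm.mul_pow 3
      have h2 : (x ^ k) ^ 3 = 1 := by
        rw [← zpow_natCast, ← zpow_mul, mul_comm, zpow_mul, zpow_natCast, hx3, one_zpow]
      rw [hu3, h2, one_mul] at h1
      exact h1.symm
    have hz1 := eq_one_of_cube_of_card_seven (P : Subgroup G) hP _ hz hz3
    have hux : u = x ^ k := by
      calc u = x ^ k * ((x ^ k)⁻¹ * u) := by group
        _ = x ^ k := by rw [hz1, mul_one]
    rw [hux]
    exact Subgroup.zpow_mem_zpowers x k
  -- the normalizer `M` of `⟨x⟩`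
  obtain ⟨M, hM⟩ : ∃ M : Subgroup G,
      M = Subgroup.normalizer ((Subgroup.zpowers x : Subgroup G) : Set G) := ⟨_, rfl⟩
  have hNM : stabilizer G P ≤ M := by
    intro g hg
    rw [hM]
    apply mem_normalizer_zpowers_of_conj
    apply hcube
    · have hgN : g ∈ Subgroup.normalizer ((P : Subgroup G) : Set G) :=
        Sylow.smul_eq_iff_mem_normalizer.mp (MulAction.mem_stabilizer_iff.mp hg)
      rw [Subgroup.mem_centralizer_iff]
      intro z hz
      have hz' : g⁻¹ * z * g ∈ (P : Subgroup G) :=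
        (Subgroup.mem_normalizer_iff''.mp hgN z).mp hz
      have h := Subgroup.mem_centralizer_iff.mp hxC _ hz'
      calc z * (g * x * g⁻¹) = g * ((g⁻¹ * z * g) * x) * g⁻¹ := by group
        _ = g * (x * (g⁻¹ * z * g)) * g⁻¹ := by rw [h]
        _ = g * x * g⁻¹ * z := by group
    · rw [conj_pow, hx3]
      group
  have hxM : x ∈ M := by
    rw [hM]
    apply mem_normalizer_zpowers_of_conj
    have e : x * x * x⁻¹ = x := by group
    rw [e]
    exact Subgroup.mem_zpowers x
  have hPM : (P : Subgroup G) ≤ M := (sylow_le_stabilizer' P).trans hNM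
  have hyM : y ∈ M := hPM hyP
  -- a Sylow 3-subgroup containing `x`
  have hpg : IsPGroup 3 (Subgroup.zpowers x) :=
    IsPGroup.of_card (n := 1) (by rw [Nat.card_zpowers, hx, pow_one])
  obtain ⟨S₀, hS₀⟩ := hpg.exists_le_sylow
  have hxS : x ∈ (S₀ : Subgroup G) := hS₀ (Subgroup.mem_zpowers x)
  obtain ⟨hS9, hScomm⟩ := sylow_three_5040 hG S₀
  have hSM : (S₀ : Subgroup G) ≤ M := by
    intro s hs
    rw [hM]
    apply mem_normalizer_zpowers_of_conj
    have e : s * x * s⁻¹ = x := by
      rw [hScomm s hs x hxS]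
      group
    rw [e]
    exact Subgroup.mem_zpowers x
  have h9M : 9 ∣ Nat.card M := by
    rw [← hS9]
    exact Subgroup.card_dvd_of_le hSM
  have hMG : Nat.card M ∣ 5040 := by
    rw [← hG]
    exact Subgroup.card_subgroup_dvd_card _
  -- the orbit of `P` under `M`
  have horb := orbit_ncard_modEq_one M P hPM
  have h1 := Subgroup.card_mul_index (stabilizer M P)
  rw [MulAction.index_stabilizer] at h1
  have hst : stabilizer M P = (M ⊓ stabilizer G P).subgroupOf M := by
    ext g
    rw [MulAction.mem_stabilizer_iff, Subgroup.mem_subgroupOf, Subgroup.mem_inf,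
      MulAction.mem_stabilizer_iff]
    constructor
    · intro h; exact ⟨g.2, h⟩
    · intro h; exact h.2
  have hcard : Nat.card (stabilizer M P) = Nat.card (M ⊓ stabilizer G P : Subgroup G) := by
    rw [hst]
    exact Nat.card_congr (Subgroup.subgroupOfEquivOfLe inf_le_left).toEquiv
  have hinf : M ⊓ stabilizer G P = stabilizer G P := inf_eq_right.mpr hNM
  rw [hcard, hinf, hN] at h1
  obtain ⟨o, ho⟩ : ∃ o, o = (orbit M P).ncard := ⟨_, rfl⟩
  obtain ⟨c, hc⟩ : ∃ c, c = Nat.card M := ⟨_, rfl⟩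
  rw [← ho] at horb h1
  rw [← hc] at h9M hMG h1
  unfold Nat.ModEq at horb
  have e5040 : (5040 : ℕ) = 42 * 120 := by norm_num
  have ho120 : o ∣ 120 := by
    rw [← h1, e5040] at hMG
    exact Nat.dvd_of_mul_dvd_mul_left (by norm_num : 0 < 42) hMG
  have hcases : o = 15 ∨ o = 120 := by
    have hle : o ≤ 120 := Nat.le_of_dvd (by norm_num) ho120
    have hpos : 0 < o := Nat.pos_of_dvd_of_pos ho120 (by norm_num)
    rw [← h1] at h9M
    clear ho h1 hMG
    interval_cases o <;> omega
  rcases hcases with ho15 | ho120'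
  · -- index 8
    have hidx := Subgroup.card_mul_index M
    rw [← hc, ← h1, ho15, hG] at hidx
    exact no_index_eight_seven_three M (by omega) y x hy hx hyx hyM hxM
  · -- `⟨x⟩` would be normal
    have htop : M = ⊤ := (Subgroup.card_eq_iff_eq_top M).mp (by rw [← hc, ← h1, ho120', hG])
    rw [hM] at htop
    have hnormal : (Subgroup.zpowers x).Normal := Subgroup.normalizer_eq_top_iff.mp htop
    rcases hnormal.eq_bot_or_eq_top with hb | ht
    · exact hx1 (Subgroup.zpowers_eq_bot.mp hb)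
    · have h3' : Nat.card (Subgroup.zpowers x) = Nat.card G := by
        rw [ht]
        exact Subgroup.card_top
      rw [Nat.card_zpowers, hx, hG] at h3'
      omega

end Ord5040

end Cfsg.Agent.Lib.helper11
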