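import Mathlib
import Cfsg.Agent.Lib.helper75.SimpleOrdA

/-!
# No simple group of order 6160 (helper11)

`6160 = 2^4 * 5 * 7 * 11`.  `n_7 ∈ {8, 22, 176}`; `8`, `22`: an element of order 5 centralizes a
Sylow 7-subgroup, contradicting the fixed point congruences; `176`: Burnside.
-/

set_option autoImplicit false

namespace Cfsg.Agent.Lib.helper11

open MulAction
open Cfsg.Agent.Lib.helper75

/-- No finite simple group has order 6160. -/
theorem no_simple_6160 {G : Type*} [Group G] [Finite G] [IsSimpleGroup G] :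
    Nat.card G ≠ 6160 := by
  intro hS
  have h7 : Fact (Nat.Prime 7) := ⟨by norm_num⟩
  have h5 : Fact (Nat.Prime 5) := ⟨by norm_num⟩
  obtain ⟨P⟩ : Nonempty (Sylow 7 G) := inferInstance
  obtain ⟨hP, hn1, hmod, ⟨k, hk, hnk⟩, e, he, he1, hCe⟩ :=
    sylow_setup (p := 7) 880 (by rw [hS]) (by norm_num) (by norm_num) P
  have he' : e = 2 ∨ e = 3 ∨ e = 6 := by
    have hle : e ≤ 6 := Nat.le_of_dvd (by norm_num) he
    have hpos : 0 < e := Nat.pos_of_dvd_of_pos he (by norm_num)
    interval_cases e <;> omega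
  obtain ⟨n, hn⟩ : ∃ n, n = Nat.card (Sylow 7 G) := ⟨_, rfl⟩
  rw [← hn] at hmod hnk
  have hnd : n ∣ 880 := Dvd.intro _ hnk
  have hnle : n ≤ 880 := Nat.le_of_dvd (by norm_num) hnd
  have hn1' : n ≠ 1 := by rw [hn]; exact hn1
  have hcases : n = 8 ∨ n = 22 ∨ n = 176 := by
    clear hnk hn
    interval_cases n <;> omega
  rcases hcases with rfl | rfl | rfl
  · -- `n_7 = 8`
    have hk110 : k = 110 := by omega
    rw [hk110] at hk
    rw [hk] at hCe
    apply no_sylow_seven_eight P hn.symm 5 (by norm_num)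
    rcases he' with rfl | rfl | rfl
    · exact ⟨77, by omega⟩
    · omega
    · omega
  · -- `n_7 = 22`
    have hk40 : k = 40 := by omega
    rw [hk40] at hk
    rw [hk] at hCe
    have h5C : 5 ∣ Nat.card (Subgroup.centralizer ((P : Subgroup G) : Set G)) := by
      rcases he' with rfl | rfl | rfl
      · exact ⟨28, by omega⟩
      · omega
      · omega
    obtain ⟨x, hxC, hx⟩ := exists_mem_orderOf_prime _ 5 h5C
    obtain ⟨c1, c2, c3⟩ := sylow_prime_counts P hn1 x 5 hx hxC
    rw [← hn] at c2 c3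
    omega
  · -- `n_7 = 176`
    have hk5 : k = 5 := by omega
    rw [hk5] at hk
    rw [hk] at hCe
    rcases he' with rfl | rfl | rfl <;> omega

end Cfsg.Agent.Lib.helper11
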