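import Mathlib
import Cfsg.Prelude.Def_FusionSystem
import Cfsg.Agent.Lib.helper73.PearlFD3

/-! S5238R piece FD (core): `pearl_exp` with FD1 and FD2 as hypotheses (FD3 imported from
helper73.PearlFD3). -/

set_option autoImplicit false

namespace Cfsg.Agent.Lib.helper88.PearlF

open Cfsg Cfsg.FusionSystem

/-- FD (core): FD1 and FD2, specialised to `↥E`, as hypotheses. -/
theorem h11_pearl_exp_core {Ω : Type*} [Group Ω] {S : Subgroup Ω} [Finite S] (p : ℕ) [Fact p.Prime]
    (F : Cfsg.FusionSystem S) (E : Subgroup Ω) (hE : F.IsEssential p E)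
    (hFD1 : ∀ x : ↥E, x ^ p ≠ 1 → ∃ A B : Subgroup ↥E, A.Characteristic ∧ B.Characteristic ∧
      A ≤ B ∧ Nat.card A = p ∧ Nat.card B = p ^ 2)
    (hFD2 : ∀ A B : Subgroup ↥E, A.Characteristic → B.Characteristic → A ≤ B → Nat.card A = p →
      Nat.card B = p ^ 2 → ∀ X : Subgroup (MulAut ↥E), ∃ P : Sylow p X, (P : Subgroup X).Normal) :
    ∀ x ∈ E, x ^ p = 1 := by
  haveI : Finite ↥E :=
    Finite.of_injective (Subgroup.inclusion hE.1.1) (Subgroup.inclusion_injective _)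
  intro x hx
  by_contra hxp
  obtain ⟨A, B, hA, hB, hAB, hAc, hBc⟩ := hFD1 ⟨x, hx⟩ (by
    intro h
    apply hxp
    have := congrArg Subtype.val h
    simpa using this)
  obtain ⟨P, hP⟩ := hFD2 A B hA hB hAB hAc hBc (F.autGroup E)
  obtain ⟨_, _, hN, Y, hY⟩ := hE
  haveI := hN
  exact not_stronglyPEmbedded_of_normal_sylow p P hP _ Y hY

end Cfsg.Agent.Lib.helper88.PearlF
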