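import Mathlib
import Cfsg.Prelude.Def_FusionSystem
import Cfsg.Agent.Lib.helper11.PearlFDcore
import Cfsg.Agent.Lib.helper5.PearlFD1
import Cfsg.Agent.Lib.helper2.PearlFD2

/-! S5238R piece FD: `pearl_exp` (canonical name, statement verbatim from the Skel). -/

set_option autoImplicit false

namespace Cfsg.Agent.Lib.helper88.PearlF

open Cfsg Cfsg.FusionSystem

/-- FD: a nonabelian essential subgroup of order `p³` (`p` odd) has exponent `p`. -/
theorem pearl_exp {Ω : Type*} [Group Ω] {S : Subgroup Ω} [Finite S] (p : ℕ) [Fact p.Prime]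
    (F : Cfsg.FusionSystem S) (hp : p ≠ 2) (E : Subgroup Ω) (hE : F.IsEssential p E)
    (hcard : Nat.card E = p ^ 3) (hna : ¬ IsMulCommutative ↥E) : ∀ x ∈ E, x ^ p = 1 := by
  have hfin : Finite ↥E :=
    Finite.of_injective (Subgroup.inclusion hE.1.1) (Subgroup.inclusion_injective _)
  exact h11_pearl_exp_core p F E hE
    (fun x hx => char_chain_of_not_exp p hp hcard hna x hx)
    (fun A B hA hB hAB hAc hBc X => aut_normal_sylow_of_chain p hcard A B hA hB hAB hAc hBc X)

end Cfsg.Agent.Lib.helper88.PearlF
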