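import Mathlib
import Cfsg.Agent.Lib.helper68.HallPet
import Cfsg.Agent.Lib.helper65.PearlDefs
import Cfsg.Agent.Lib.helper65.PearlBasic

/-! S5238L piece U (core): `u_claim` with pieces D2 (`rel_ph`) and I3 (`rel_ph_mul_const`) taken as
hypotheses. -/

set_option autoImplicit false

namespace Cfsg.Agent.Lib.helper65.PearlPow

open Cfsg.Agent.Lib.helper68

variable {H : Type*} [Group H]

/-- U (core): induction on `j`, with D2 and I3 as hypotheses. -/
theorem h11_u_claim_core
    (hD2 : ∀ (u v : ℕ) (x : H) (s s' : ℕ → H), PolySeq v s → Rel u s s' →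
      Rel (u + 1) (ph x s) (ph x s'))
    (hI3 : ∀ (v j : ℕ) (x : H) (s : ℕ → H) (y : H), PolySeq v s → y ∈ gam H j →
      Rel (v + 1 + j) (fun n => ph x s n * com y x) (ph x (fun n => s n * y)))
    (x g : H) {w : ℕ} (hg : g ∈ gam H w) (j : ℕ) :
    Rel (w + j + 2) (fun n => (ph x)^[j + 1] (tt x g) n * yk x (com x g) j)
      ((ph x)^[j] (dl (tt x g))) := by
  induction j with
  | zero =>
    apply rel_of_eq
    rw [dl_tt]
    rfl
  | succ j ih =>
    -- the sequence `fun n => (ph x)^[j+1] t n * yk j` is polynomial of weight `w + j + 1`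
    have hP : PolySeq (w + (j + 1)) ((ph x)^[j + 1] (tt x g)) :=
      polyseq_ph_iter x (tt_polyseq x g hg) (j + 1)
    have hY : yk x (com x g) j ∈ gam H (w + 1 + j) := yk_mem x g hg j
    have hY' : PolySeq (w + (j + 1)) (fun _ : ℕ => yk x (com x g) j) := by
      have := polyseq_const hY
      have e : w + 1 + j = w + (j + 1) := by omega
      rw [e] at this
      exact this
    have hS : PolySeq (w + (j + 1))
        (fun n => (ph x)^[j + 1] (tt x g) n * yk x (com x g) j) := PolySeq.mul hP hY'
    -- D2 on the induction hypothesis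
    have h1 := hD2 (w + j + 2) (w + (j + 1)) x _ _ hS ih
    -- I3
    have h2 := hI3 (w + (j + 1)) (w + 1 + j) x ((ph x)^[j + 1] (tt x g)) (yk x (com x g) j) hP hY
    have h2' : Rel (w + (j + 1) + 2)
        (fun n => ph x ((ph x)^[j + 1] (tt x g)) n * com (yk x (com x g) j) x)
        (ph x (fun n => (ph x)^[j + 1] (tt x g) n * yk x (com x g) j)) :=
      rel_mono (by omega) h2
    have h1' : Rel (w + (j + 1) + 2)
        (ph x (fun n => (ph x)^[j + 1] (tt x g) n * yk x (com x g) j))
        (ph x ((ph x)^[j] (dl (tt x g)))) := by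
      have e : w + j + 2 + 1 = w + (j + 1) + 2 := by omega
      rw [e] at h1
      exact h1
    have h3 := rel_trans h2' h1'
    have e1 : (fun n => (ph x)^[j + 1 + 1] (tt x g) n * yk x (com x g) (j + 1)) =
        (fun n => ph x ((ph x)^[j + 1] (tt x g)) n * com (yk x (com x g) j) x) := by
      funext n
      rw [Function.iterate_succ_apply']
      rfl
    have e2 : (ph x)^[j + 1] (dl (tt x g)) = ph x ((ph x)^[j] (dl (tt x g))) := by
      rw [Function.iterate_succ_apply']
    rw [e1, e2]
    exact h3

end Cfsg.Agent.Lib.helper65.PearlPow
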