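import Mathlib
import Cfsg.Agent.Lib.helper68.HallPet
import Cfsg.Agent.Lib.helper65.PearlDefs
import Cfsg.Agent.Lib.helper65.PearlBasic

/-! S5238L: racer copies (prefix `h11_`) of pieces D2 (`rel_ph`) and I3 (`rel_ph_mul_const`),
used by helper11's piece U wrapper. -/

set_option autoImplicit false

namespace Cfsg.Agent.Lib.helper65.PearlPow

open Cfsg.Agent.Lib.helper68

variable {H : Type*} [Group H]

/-- D2 (racer copy). -/
theorem h11_rel_ph {u v : ℕ} (x : H) {s s' : ℕ → H} (hs : PolySeq v s) (h : Rel u s s') :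
    Rel (u + 1) (ph x s) (ph x s') := by
  unfold Rel at h ⊢
  have e1 : (fun n => (ph x s n)⁻¹ * ph x s' n) =
      fun n => com (com (s n) x) ((s n)⁻¹ * s' n) * com ((s n)⁻¹ * s' n) x := by
    funext n
    unfold ph com
    group
  rw [e1]
  have h1 : PolySeq (v + 1 + u) (fun n => com (com (s n) x) ((s n)⁻¹ * s' n)) :=
    PolySeq.comm (polyseq_ph x hs) h
  have h2 : PolySeq (u + 1) (fun n => com ((s n)⁻¹ * s' n) x) := polyseq_ph x h
  exact PolySeq.mul (PolySeq.mono (by omega) h1) h2

/-- I3 (racer copy). -/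
theorem h11_rel_ph_mul_const {v j : ℕ} (x : H) {s : ℕ → H} {y : H} (hs : PolySeq v s)
    (hy : y ∈ gam H j) :
    Rel (v + 1 + j) (fun n => ph x s n * com y x) (ph x (fun n => s n * y)) := by
  unfold Rel
  have e1 : (fun n => (ph x s n * com y x)⁻¹ * ph x (fun n => s n * y) n) =
      fun n => (com y x)⁻¹ * com (ph x s n) y * com y x := by
    funext n
    unfold ph com
    group
  rw [e1]
  have hx : x ∈ gam H 1 := by
    unfold gam
    simp
  have h1 : PolySeq (v + 1 + j) (fun n => com (ph x s n) y) :=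
    PolySeq.comm (polyseq_ph x hs) (polyseq_const hy)
  exact polyseq_conj h1 (polyseq_const (com_mem hy hx))

end Cfsg.Agent.Lib.helper65.PearlPow
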