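import Mathlib
import Cfsg.Agent.Lib.helper68.HallPet
import Cfsg.Agent.Lib.helper65.PearlDefs
import Cfsg.Agent.Lib.helper65.PearlBasic
import Cfsg.Agent.Lib.helper11.PearlUcore
import Cfsg.Agent.Lib.helper11.PearlUdeps

/-! S5238L piece U: `u_claim` (canonical name, statement verbatim from the Skel). -/

set_option autoImplicit false

namespace Cfsg.Agent.Lib.helper65.PearlPow

open Cfsg.Agent.Lib.helper68

variable {H : Type*} [Group H]

/-- U (M). Induction on `j`: `j = 0` is `dl_tt`; step: `rel_ph` on the induction hypothesis and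
`rel_ph_mul_const` for `(ph x)^[j+1] t` (weight `w + j + 1`) and `yk j ∈ gam (w + 1 + j)`. -/
theorem u_claim (x g : H) {w : ℕ} (hw : 1 ≤ w) (hg : g ∈ gam H w) (j : ℕ) :
    Rel (w + j + 2) (fun n => (ph x)^[j + 1] (tt x g) n * yk x (com x g) j)
      ((ph x)^[j] (dl (tt x g))) :=
  h11_u_claim_core (fun _ _ x _ _ hs h => h11_rel_ph x hs h)
    (fun _ _ x _ _ hs hy => h11_rel_ph_mul_const x hs hy) x g hg j

end Cfsg.Agent.Lib.helper65.PearlPow
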