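import Mathlib
import Cfsg.Agent.Lib.helper11.QuadSection
import Cfsg.Agent.Lib.helper30.QuadSection

/-!
# Quadratic pairs on a section `U / W` involve `SL₂(p)`
-/

namespace Cfsg.Agent.Lib.helper11.QuadPair

open Cfsg.Agent.Lib.helper46

universe u

/-- Abstract form: `Γ = ⟨a, b⟩` acting (via `ρ : Γ →* MulAut V`) on a finite commutative group `V`
of exponent `p` (`p` odd), `a` and `b` quadratic, the image of `Γ` not of bounded `p`-power
exponent.  Then there is an injective `SL₂(𝔽_p) →* SL₂(E)` into the range of a homomorphism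
`f : Γ →* SL₂(E)` killing `ker ρ`. -/
theorem exists_sl2_hom_of_mulAut {p : ℕ} [Fact p.Prime] {Γ : Type u} [Group Γ] (a b : Γ)
    (hgen : Subgroup.closure {a, b} = ⊤) {V : Type u} [Group V] [Finite V]
    (hcomm : ∀ s t : V, s * t = t * s) (hexp : ∀ s : V, s ^ p = 1) (ρ : Γ →* MulAut V)
    (hqa : ∀ s, ρ a (ρ a s * s⁻¹) = ρ a s * s⁻¹) (hqb : ∀ s, ρ b (ρ b s * s⁻¹) = ρ b s * s⁻¹)
    (hnp : ¬ ∃ k : ℕ, ∀ g : Γ, ρ g ^ (p ^ k) = 1) :
    ∃ (E : Type u) (_ : Field E) (_ : Fintype E) (_ : CharP E p) (t : E)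
      (f : Γ →* Matrix.SpecialLinearGroup (Fin 2) E),
      t ≠ 0 ∧ (f a : Matrix (Fin 2) (Fin 2) E) = !![1, t; 0, 1] ∧
      (f b : Matrix (Fin 2) (Fin 2) E) = !![1, 0; 1, 1] ∧ ρ.ker ≤ f.ker := by
  classical
  letI : AddCommGroup (Additive V) :=
    { (inferInstance : AddGroup (Additive V)) with
      add_comm := fun x y => Additive.toMul.injective (hcomm _ _) }
  have hp : ∀ w : Additive V, p • w = 0 := fun x => Additive.toMul.injective (hexp _)
  let c : Γ → Additive V → Additive V := fun g s => Additive.ofMul (ρ g (Additive.toMul s))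
  have hc : ∀ g s, Additive.toMul (c g s) = ρ g (Additive.toMul s) := fun g s => rfl
  have hsub : ∀ x y : Additive V, Additive.toMul (x - y) = Additive.toMul x * (Additive.toMul y)⁻¹ :=
    fun x y => by
      show Additive.toMul x / Additive.toMul y = _
      rw [div_eq_mul_inv]
  have hnp' : ∃ g : Γ, ∀ k : ℕ, ∃ w, c (g ^ (p ^ k)) w ≠ w := by
    by_contra hcon
    push Not at hcon
    apply hnp
    have hpg : IsPGroup p ρ.range := by
      rintro ⟨_, g, rfl⟩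
      obtain ⟨k, hk⟩ := hcon g
      refine ⟨k, Subtype.ext ?_⟩
      show ρ g ^ (p ^ k) = 1
      rw [← map_pow]
      ext s
      exact congrArg Additive.toMul (hk (Additive.ofMul s))
    obtain ⟨n, hn⟩ := hpg.exists_card_eq
    refine ⟨n, fun g => ?_⟩
    have h1 : (⟨ρ g, g, rfl⟩ : ρ.range) ^ (p ^ n) = 1 := by
      rw [← hn]; exact pow_card_eq_one'
    exact congrArg Subtype.val h1
  obtain ⟨E, i1, i2, i3, t, f, ht, hfa, hfb, hker⟩ :=
    exists_sl2_hom_of_action (p := p) a b hgen hp c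
      (fun g w w' => Additive.toMul.injective (by
        show ρ g (Additive.toMul w * Additive.toMul w') = ρ g (Additive.toMul w) * ρ g (Additive.toMul w')
        rw [map_mul]))
      (fun w => Additive.toMul.injective (by rw [hc, map_one]; rfl))
      (fun g h w => Additive.toMul.injective (by rw [hc, hc, hc, map_mul]; rfl))
      (fun w => Additive.toMul.injective (by rw [hc, hsub, hc, hqa]))
      (fun w => Additive.toMul.injective (by rw [hc, hsub, hc, hqb]))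
      hnp'
  refine ⟨E, i1, i2, i3, t, f, ht, hfa, hfb, ?_⟩
  intro g hg
  rw [MonoidHom.mem_ker] at hg ⊢
  apply hker
  intro w
  apply Additive.toMul.injective
  rw [hc, hg]; rfl

/-- **Quadratic pairs on a section involve `SL₂(p)`**: `W ≤ U`, `U / W` elementary abelian
`p`-group (`p` odd), `a`, `b` normalize `U` and `W` and act quadratically on `U / W`, and
`⟨a, b⟩` does not induce a `p`-group on `U / W`.  Then `⟨a, b⟩` has a section `≅ SL₂(𝔽_p)`. -/
theorem exists_sl2_section_of_quad_pair {G : Type u} [Group G] [Finite G] (p : ℕ) [Fact p.Prime]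
    (hp : p ≠ 2) (U W : Subgroup G) (hWU : W ≤ U) (hUW : U ≤ Subgroup.normalizer (W : Set G))
    (hcomm : ∀ u ∈ U, ∀ v ∈ U, u * v * u⁻¹ * v⁻¹ ∈ W) (hexp : ∀ u ∈ U, u ^ p ∈ W)
    (a b : G) (haU : a ∈ Subgroup.normalizer (U : Set G)) (haW : a ∈ Subgroup.normalizer (W : Set G))
    (hbU : b ∈ Subgroup.normalizer (U : Set G)) (hbW : b ∈ Subgroup.normalizer (W : Set G))
    (hqa : ∀ u ∈ U, a * (a * u * a⁻¹ * u⁻¹) * a⁻¹ * (a * u * a⁻¹ * u⁻¹)⁻¹ ∈ W)
    (hqb : ∀ u ∈ U, b * (b * u * b⁻¹ * u⁻¹) * b⁻¹ * (b * u * b⁻¹ * u⁻¹)⁻¹ ∈ W)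
    (hnp : ¬ ∃ k : ℕ, ∀ g ∈ Subgroup.closure ({a, b} : Set G), ∀ u ∈ U,
      g ^ (p ^ k) * u * (g ^ (p ^ k))⁻¹ * u⁻¹ ∈ W) :
    ∃ (K L : Subgroup G) (_ : (L.subgroupOf K).Normal),
      K ≤ Subgroup.closure ({a, b} : Set G) ∧
      Nonempty ((↥K ⧸ L.subgroupOf K) ≃* Matrix.SpecialLinearGroup (Fin 2) (ZMod p)) := by
  obtain ⟨V, iG, iF, ρ, x, y, hVc, hVp, hx, hy, hρa, hρb, -, hρ1⟩ :=
    Cfsg.Agent.Lib.helper30.exists_quad_section p U W hWU hUW hcomm hexp a b haU haW hbU hbW hqa hqb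
  have hgen := Cfsg.Agent.Lib.helper30.closure_pair_subtype_eq_top a b
  have hnp' : ¬ ∃ k : ℕ, ∀ g : ↥(Subgroup.closure ({a, b} : Set G)), ρ g ^ (p ^ k) = 1 := by
    rintro ⟨k, hk⟩
    apply hnp
    refine ⟨k, fun g hg u hu => ?_⟩
    have h1 := hk ⟨g, hg⟩
    rw [← map_pow] at h1
    exact (hρ1 _).mp h1 u hu
  obtain ⟨E, i1, i2, i3, t, f, ht, hfa, hfb, -⟩ :=
    exists_sl2_hom_of_mulAut (p := p) _ _ hgen hVc hVp ρ (by rw [hρa]; exact hx)
      (by rw [hρb]; exact hy) hnp'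
  obtain ⟨φ, hφ, hr⟩ := exists_sl2p_hom_of_mem hp f.range t ht
    ⟨_, ⟨_, rfl⟩, hfa⟩ ⟨_, ⟨_, rfl⟩, hfb⟩
  exact exists_section_of_hom _ f φ hφ hr

end Cfsg.Agent.Lib.helper11.QuadPair
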