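import Mathlib

/-!
# Arithmetic for the tori of the Ree groups (helper11, piece C for S1158 / S1159)

`q = 3^(2m+1) ≥ 27`, `P = q^2 - q + 1`, `G0 = q^3 (q^3 + 1) (q - 1)`,
`3 X = q^4 (q^2 - 1) (q - 2)`, and class counts `c_j = G0 (m_j - 1) / (e_j m_j)` with
`m_j ∣ P`, `m_j > 1`, `e_j ∣ 6`.
-/

set_option autoImplicit false

namespace Cfsg.Agent.Lib.helper11

/-- `P = q^2 - q + 1` in subtraction-free form, with its residues mod 2 and 3. -/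
theorem ree_arith_P (q : ℕ) (h3 : 3 ∣ q) (hodd : Odd q) :
    (q ^ 2 - q + 1) + q = q ^ 2 + 1 ∧ (q ^ 2 - q + 1) % 2 = 1 ∧ (q ^ 2 - q + 1) % 3 = 1 := by
  have hle : q ≤ q ^ 2 := Nat.le_self_pow (by norm_num) q
  have h22 : q ^ 2 % 2 = 1 := Nat.odd_iff.mp hodd.pow
  have h21 : q % 2 = 1 := Nat.odd_iff.mp hodd
  have h32 : q ^ 2 % 3 = 0 := Nat.mod_eq_zero_of_dvd (dvd_pow h3 (by norm_num))
  have h31 : q % 3 = 0 := Nat.mod_eq_zero_of_dvd h3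
  refine ⟨by omega, by omega, by omega⟩

/-- A divisor `> 1` of `q^2 - q + 1` is at least `5`. -/
theorem ree_arith_five_le (q m : ℕ) (h3 : 3 ∣ q) (hodd : Odd q) (hm : m ∣ q ^ 2 - q + 1)
    (h1 : 1 < m) : 5 ≤ m := by
  obtain ⟨-, hP2, hP3⟩ := ree_arith_P q h3 hodd
  have h2 : ¬ 2 ∣ m := fun h => by have := dvd_trans h hm; omega
  have h3' : ¬ 3 ∣ m := fun h => by have := dvd_trans h hm; omega
  omega

/-- Bounds on `c` from `c * (e * m) = G0 * (m - 1)`. -/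
theorem ree_arith_bounds (G0 m e c : ℕ) (hG : 0 < G0) (hm : 5 ≤ m) (he : e ∣ 6)
    (hc : c * (e * m) = G0 * (m - 1)) :
    2 * G0 ≤ 15 * c ∧ (e ≤ 3 → 4 * G0 ≤ 15 * c) ∧ (e ≤ 2 → 2 * G0 ≤ 5 * c) ∧
      (e = 6 → 6 * c < G0) := by
  obtain ⟨n, rfl⟩ : ∃ n, m = n + 1 := ⟨m - 1, by omega⟩
  have hn : 4 ≤ n := by omega
  rw [Nat.add_sub_cancel] at hc
  have he6 : e ≤ 6 := Nat.le_of_dvd (by norm_num) he
  have hB : G0 * 4 ≤ G0 * n := Nat.mul_le_mul_left G0 hn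
  have hn1 : 0 < n + 1 := by omega
  refine ⟨?_, ?_, ?_, ?_⟩
  · have h1 : G0 * n ≤ 6 * c * (n + 1) := by
      calc G0 * n = c * (e * (n + 1)) := hc.symm
        _ ≤ c * (6 * (n + 1)) := Nat.mul_le_mul_left _ (Nat.mul_le_mul_right _ he6)
        _ = 6 * c * (n + 1) := by ring
    by_contra hlt
    rw [not_le] at hlt
    have hC := Nat.mul_lt_mul_of_pos_right hlt hn1
    nlinarith [h1, hB, hC]
  · intro he3
    have h1 : G0 * n ≤ 3 * c * (n + 1) := by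
      calc G0 * n = c * (e * (n + 1)) := hc.symm
        _ ≤ c * (3 * (n + 1)) := Nat.mul_le_mul_left _ (Nat.mul_le_mul_right _ he3)
        _ = 3 * c * (n + 1) := by ring
    by_contra hlt
    rw [not_le] at hlt
    have hC := Nat.mul_lt_mul_of_pos_right hlt hn1
    nlinarith [h1, hB, hC]
  · intro he2
    have h1 : G0 * n ≤ 2 * c * (n + 1) := by
      calc G0 * n = c * (e * (n + 1)) := hc.symm
        _ ≤ c * (2 * (n + 1)) := Nat.mul_le_mul_left _ (Nat.mul_le_mul_right _ he2)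
        _ = 2 * c * (n + 1) := by ring
    by_contra hlt
    rw [not_le] at hlt
    have hC := Nat.mul_lt_mul_of_pos_right hlt hn1
    nlinarith [h1, hB, hC]
  · rintro rfl
    by_contra hlt
    rw [not_lt] at hlt
    have hC := Nat.mul_le_mul_right (n + 1) hlt
    nlinarith [hc, hC]

/-- Facts on `X` and `G0`, in the variable `b = q - 5`. -/
theorem ree_arith_X (b X : ℕ) (hX : 3 * X = (b + 5) ^ 4 * ((b + 4) * (b + 6)) * (b + 3)) :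
    0 < (b + 5) ^ 3 * ((b + 5) ^ 3 + 1) * (b + 4) ∧
    3 * X < (b + 5) ^ 3 * ((b + 5) ^ 3 + 1) * (b + 4) ∧
    (b + 5) ^ 3 * ((b + 5) ^ 3 + 1) * (b + 4) < 6 * X ∧
    3 * X * (b ^ 2 + 9 * b + 21) =
      (b + 5) * (b + 3) * ((b + 5) ^ 3 * ((b + 5) ^ 3 + 1) * (b + 4)) := by
  refine ⟨by positivity, ?_, ?_, ?_⟩
  · have h : (b + 5) ^ 3 * ((b + 5) ^ 3 + 1) * (b + 4) =
        (b + 5) ^ 4 * ((b + 4) * (b + 6)) * (b + 3) +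
          (b + 5) ^ 3 * (b + 4) * (b + 6) * (b + 6) := by ring
    rw [hX, h]
    exact Nat.lt_add_of_pos_right (by positivity)
  · have h : 2 * ((b + 5) ^ 4 * ((b + 4) * (b + 6)) * (b + 3)) =
        (b + 5) ^ 3 * ((b + 5) ^ 3 + 1) * (b + 4) +
          (b + 5) ^ 3 * (b + 4) * (b + 6) * ((b + 3) ^ 2 + b) := by ring
    have h6 : 6 * X = 2 * (3 * X) := by ring
    rw [h6, hX, h]
    exact Nat.lt_add_of_pos_right (by positivity)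
  · rw [hX]
    ring

/-- Rewriting of the hypotheses in the variable `b = q - 5`. -/
theorem ree_arith_subst (b : ℕ) :
    b + 5 - 1 = b + 4 ∧ b + 5 - 2 = b + 3 ∧ (b + 5) ^ 2 - 1 = (b + 4) * (b + 6) ∧
      (b + 5) ^ 2 - (b + 5) + 1 = b ^ 2 + 9 * b + 21 := by
  refine ⟨by omega, by omega, ?_, ?_⟩
  · apply Nat.sub_eq_of_eq_add
    ring
  · have h : (b + 5) ^ 2 = b ^ 2 + 9 * b + 20 + (b + 5) := by ring
    rw [h]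
    omega

theorem ree_tori_arith_three (q m₁ m₂ m₃ e₁ e₂ e₃ c₁ c₂ c₃ X : ℕ) (hq : 27 ≤ q) (h3 : 3 ∣ q) (hodd : Odd q) (hm₁ : m₁ ∣ q ^ 2 - q + 1) (hm₂ : m₂ ∣ q ^ 2 - q + 1) (hm₃ : m₃ ∣ q ^ 2 - q + 1) (h1 : 1 < m₁) (h2 : 1 < m₂) (h3' : 1 < m₃) (he₁ : e₁ ∣ 6) (he₂ : e₂ ∣ 6) (he₃ : e₃ ∣ 6) (hc₁ : c₁ * (e₁ * m₁) = q ^ 3 * (q ^ 3 + 1) * (q - 1) * (m₁ - 1)) (hc₂ : c₂ * (e₂ * m₂) = q ^ 3 * (q ^ 3 + 1) * (q - 1) * (m₂ - 1)) (hc₃ : c₃ * (e₃ * m₃) = q ^ 3 * (q ^ 3 + 1) * (q - 1) * (m₃ - 1)) (hX : 3 * X = q ^ 4 * (q ^ 2 - 1) * (q - 2)) : X < c₁ + c₂ + c₃ := by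
  have hm1 := ree_arith_five_le q m₁ h3 hodd hm₁ h1
  have hm2 := ree_arith_five_le q m₂ h3 hodd hm₂ h2
  have hm3 := ree_arith_five_le q m₃ h3 hodd hm₃ h3'
  obtain ⟨b, rfl⟩ : ∃ b, q = b + 5 := ⟨q - 5, by omega⟩
  obtain ⟨s1, s2, s3, s4⟩ := ree_arith_subst b
  rw [s1] at hc₁ hc₂ hc₃
  rw [s2, s3] at hX
  obtain ⟨hG, hXlt, -, -⟩ := ree_arith_X b X hX
  obtain ⟨b1, -, -, -⟩ := ree_arith_bounds _ m₁ e₁ c₁ hG hm1 he₁ hc₁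
  obtain ⟨b2, -, -, -⟩ := ree_arith_bounds _ m₂ e₂ c₂ hG hm2 he₂ hc₂
  obtain ⟨b3, -, -, -⟩ := ree_arith_bounds _ m₃ e₃ c₃ hG hm3 he₃ hc₃
  omega

theorem ree_tori_arith_one (q m₁ e₁ c₁ X : ℕ) (hq : 27 ≤ q) (h3 : 3 ∣ q) (hodd : Odd q) (hm₁ : m₁ ∣ q ^ 2 - q + 1) (h1 : 1 < m₁) (he₁ : e₁ ∣ 6) (hc₁ : c₁ * (e₁ * m₁) = q ^ 3 * (q ^ 3 + 1) * (q - 1) * (m₁ - 1)) (hX : 3 * X = q ^ 4 * (q ^ 2 - 1) * (q - 2)) : c₁ ≠ X := by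
  have hm1 := ree_arith_five_le q m₁ h3 hodd hm₁ h1
  obtain ⟨b, rfl⟩ : ∃ b, q = b + 5 := ⟨q - 5, by omega⟩
  obtain ⟨s1, s2, s3, s4⟩ := ree_arith_subst b
  rw [s1] at hc₁
  rw [s2, s3] at hX
  obtain ⟨hG, hXlt, hXgt, hXP⟩ := ree_arith_X b X hX
  obtain ⟨-, -, b2, b6⟩ := ree_arith_bounds _ m₁ e₁ c₁ hG hm1 he₁ hc₁
  rintro rfl
  have he6 : e₁ ≤ 6 := Nat.le_of_dvd (by norm_num) he₁
  have he0 : 0 < e₁ := Nat.pos_of_dvd_of_pos he₁ (by norm_num)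
  obtain ⟨G0, hG0⟩ : ∃ G0, G0 = (b + 5) ^ 3 * ((b + 5) ^ 3 + 1) * (b + 4) := ⟨_, rfl⟩
  rw [← hG0] at hG hXlt hXgt hXP hc₁ b2 b6
  have hcases : e₁ ≤ 2 ∨ e₁ = 3 ∨ e₁ = 6 := by
    interval_cases e₁ <;> omega
  rcases hcases with h | rfl | rfl
  · have := b2 h
    omega
  · obtain ⟨n, rfl⟩ : ∃ n, m₁ = n + 1 := ⟨m₁ - 1, by omega⟩
    rw [Nat.add_sub_cancel] at hc₁
    have key : G0 * ((b + 5) * (b + 3) * (n + 1)) = G0 * (n * (b ^ 2 + 9 * b + 21)) := by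
      calc G0 * ((b + 5) * (b + 3) * (n + 1)) = ((b + 5) * (b + 3) * G0) * (n + 1) := by ring
        _ = (3 * c₁ * (b ^ 2 + 9 * b + 21)) * (n + 1) := by rw [hXP]
        _ = (c₁ * (3 * (n + 1))) * (b ^ 2 + 9 * b + 21) := by ring
        _ = (G0 * n) * (b ^ 2 + 9 * b + 21) := by rw [hc₁]
        _ = G0 * (n * (b ^ 2 + 9 * b + 21)) := by ring
    have key2 := Nat.eq_of_mul_eq_mul_left hG key
    have key3 : n * (b + 6) = (b + 6) * (b + 2) + 3 := by nlinarith [key2]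
    have hdvd : (b + 6) ∣ 3 :=
      (Nat.dvd_add_right (Dvd.intro _ rfl)).mp ⟨n, by rw [← key3]; ring⟩
    have := Nat.le_of_dvd (by norm_num) hdvd
    omega
  · have := b6 rfl
    omega

theorem ree_tori_arith_two (q r m₁ m₂ e₁ e₂ c₁ c₂ X : ℕ) (hq : 27 ≤ q) (h3 : 3 ∣ q) (hodd : Odd q) (hr : r * r = 3 * q) (hm₁ : m₁ ∣ q ^ 2 - q + 1) (hm₂ : m₂ ∣ q ^ 2 - q + 1) (h1 : 1 < m₁) (h2 : 1 < m₂) (he₁ : e₁ ∣ 6) (he₂ : e₂ ∣ 6) (hc₁ : c₁ * (e₁ * m₁) = q ^ 3 * (q ^ 3 + 1) * (q - 1) * (m₁ - 1)) (hc₂ : c₂ * (e₂ * m₂) = q ^ 3 * (q ^ 3 + 1) * (q - 1) * (m₂ - 1)) (hX : 3 * X = q ^ 4 * (q ^ 2 - 1) * (q - 2)) (hsum : c₁ + c₂ = X) (hcop : Nat.Coprime m₁ m₂) : e₁ = 6 ∧ e₂ = 6 ∧ ((m₁ = q + 1 - r ∧ m₂ = q + 1 + r) ∨ (m₁ = q + 1 + r ∧ m₂ = q + 1 - r)) := by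
  have hm1 := ree_arith_five_le q m₁ h3 hodd hm₁ h1
  have hm2 := ree_arith_five_le q m₂ h3 hodd hm₂ h2
  obtain ⟨-, hP2, hP3⟩ := ree_arith_P q h3 hodd
  obtain ⟨b, rfl⟩ : ∃ b, q = b + 5 := ⟨q - 5, by omega⟩
  obtain ⟨s1, s2, s3, s4⟩ := ree_arith_subst b
  rw [s1] at hc₁ hc₂
  rw [s2, s3] at hX
  rw [s4] at hm₁ hm₂ hP2 hP3
  obtain ⟨hG, hXlt, hXgt, hXP⟩ := ree_arith_X b X hX
  obtain ⟨b11, b13, -, -⟩ := ree_arith_bounds _ m₁ e₁ c₁ hG hm1 he₁ hc₁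
  obtain ⟨b21, b23, -, -⟩ := ree_arith_bounds _ m₂ e₂ c₂ hG hm2 he₂ hc₂
  obtain ⟨G0, hG0⟩ : ∃ G0, G0 = (b + 5) ^ 3 * ((b + 5) ^ 3 + 1) * (b + 4) := ⟨_, rfl⟩
  rw [← hG0] at hG hXlt hXgt hXP hc₁ hc₂ b11 b13 b21 b23
  have he1 : e₁ = 6 := by
    have he6 : e₁ ≤ 6 := Nat.le_of_dvd (by norm_num) he₁
    have h3 : ¬ e₁ ≤ 3 := fun h => by have := b13 h; omega
    interval_cases e₁ <;> omega
  have he2 : e₂ = 6 := by
    have he6 : e₂ ≤ 6 := Nat.le_of_dvd (by norm_num) he₂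
    have h3 : ¬ e₂ ≤ 3 := fun h => by have := b23 h; omega
    interval_cases e₂ <;> omega
  subst he1 he2
  refine ⟨rfl, rfl, ?_⟩
  obtain ⟨n₁, rfl⟩ : ∃ n, m₁ = n + 1 := ⟨m₁ - 1, by omega⟩
  obtain ⟨n₂, rfl⟩ : ∃ n, m₂ = n + 1 := ⟨m₂ - 1, by omega⟩
  rw [Nat.add_sub_cancel] at hc₁ hc₂
  -- `P (m₂ n₁ + m₁ n₂) = 2 m₁ m₂ q (q - 2)`
  have key : G0 * ((b ^ 2 + 9 * b + 21) * ((n₂ + 1) * n₁ + (n₁ + 1) * n₂)) =
      G0 * (2 * (n₁ + 1) * (n₂ + 1) * ((b + 5) * (b + 3))) := by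
    calc G0 * ((b ^ 2 + 9 * b + 21) * ((n₂ + 1) * n₁ + (n₁ + 1) * n₂))
        = (b ^ 2 + 9 * b + 21) * ((n₂ + 1) * (G0 * n₁) + (n₁ + 1) * (G0 * n₂)) := by ring
      _ = (b ^ 2 + 9 * b + 21) *
            ((n₂ + 1) * (c₁ * (6 * (n₁ + 1))) + (n₁ + 1) * (c₂ * (6 * (n₂ + 1)))) := by
          rw [hc₁, hc₂]
      _ = 2 * (n₁ + 1) * (n₂ + 1) * (3 * (c₁ + c₂) * (b ^ 2 + 9 * b + 21)) := by ring
      _ = 2 * (n₁ + 1) * (n₂ + 1) * ((b + 5) * (b + 3) * G0) := by rw [hsum, hXP]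
      _ = G0 * (2 * (n₁ + 1) * (n₂ + 1) * ((b + 5) * (b + 3))) := by ring
  have key2 := Nat.eq_of_mul_eq_mul_left hG key
  have key3 : 2 * ((n₁ + 1) * (n₂ + 1)) * (b + 6) =
      (b ^ 2 + 9 * b + 21) * ((n₁ + 1) + (n₂ + 1)) := by nlinarith [key2]
  obtain ⟨k, hk⟩ := Nat.Coprime.mul_dvd_of_dvd_of_dvd hcop hm₁ hm₂
  have hpos : 0 < (n₁ + 1) * (n₂ + 1) := by positivity
  have key4 : 2 * (b + 6) = k * ((n₁ + 1) + (n₂ + 1)) := by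
    apply Nat.eq_of_mul_eq_mul_left hpos
    calc (n₁ + 1) * (n₂ + 1) * (2 * (b + 6)) = 2 * ((n₁ + 1) * (n₂ + 1)) * (b + 6) := by ring
      _ = (b ^ 2 + 9 * b + 21) * ((n₁ + 1) + (n₂ + 1)) := key3
      _ = (n₁ + 1) * (n₂ + 1) * (k * ((n₁ + 1) + (n₂ + 1))) := by rw [hk]; ring
  have hkP : k ∣ b ^ 2 + 9 * b + 21 := ⟨(n₁ + 1) * (n₂ + 1), by rw [hk]; ring⟩
  have hk2 : ¬ 2 ∣ k := fun h => by have := dvd_trans h hkP; omega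
  have hk3 : ¬ 3 ∣ k := fun h => by have := dvd_trans h hkP; omega
  have hkq : k ∣ b + 6 := by
    have hc2 : Nat.Coprime k 2 := by
      rw [Nat.coprime_comm, Nat.Prime.coprime_iff_not_dvd Nat.prime_two]
      exact hk2
    exact hc2.dvd_of_dvd_mul_left ⟨_, key4⟩
  have hk1 : k = 1 := by
    have h3k : k ∣ 3 := by
      have h : b ^ 2 + 9 * b + 21 = (b + 6) * (b + 3) + 3 := by ring
      rw [h] at hkP
      exact (Nat.dvd_add_right (dvd_mul_of_dvd_left hkq _)).mp hkP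
    have hle := Nat.le_of_dvd (by norm_num) h3k
    have hk0 : 0 < k := Nat.pos_of_dvd_of_pos h3k (by norm_num)
    interval_cases k
    · rfl
    · omega
    · exact absurd (dvd_refl 3) hk3
  subst hk1
  rw [mul_one] at hk
  rw [one_mul] at key4
  -- now `m₁ m₂ = P`, `m₁ + m₂ = 2 (q + 1)`
  rcases Nat.le_total (n₁ + 1) (b + 6) with hle | hle
  · obtain ⟨d, hd⟩ : ∃ d, n₁ + 1 + d = b + 6 := ⟨b + 6 - (n₁ + 1), by omega⟩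
    have hm2' : n₂ + 1 = b + 6 + d := by omega
    have hdd : d * d = r * r := by
      rw [hr]
      have h1 : ((n₁ : ℤ) + 1 + d) = b + 6 := by exact_mod_cast hd
      have h2 : ((n₂ : ℤ) + 1) = b + 6 + d := by exact_mod_cast hm2'
      have h3 : ((b : ℤ) ^ 2 + 9 * b + 21) = (n₁ + 1) * (n₂ + 1) := by exact_mod_cast hk
      have hZ : (d : ℤ) * d = 3 * (b + 5) := by
        linear_combination h3 + ((n₂ : ℤ) + 1) * h1 + ((b : ℤ) + 6 - d) * h2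
      exact_mod_cast hZ
    have hdr : d = r := Nat.mul_self_inj.mp hdd
    left
    constructor <;> omega
  · obtain ⟨d, hd⟩ : ∃ d, n₂ + 1 + d = b + 6 := ⟨b + 6 - (n₂ + 1), by omega⟩
    have hm1' : n₁ + 1 = b + 6 + d := by omega
    have hdd : d * d = r * r := by
      rw [hr]
      have h1 : ((n₂ : ℤ) + 1 + d) = b + 6 := by exact_mod_cast hd
      have h2 : ((n₁ : ℤ) + 1) = b + 6 + d := by exact_mod_cast hm1'
      have h3 : ((b : ℤ) ^ 2 + 9 * b + 21) = (n₁ + 1) * (n₂ + 1) := by exact_mod_cast hk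
      have hZ : (d : ℤ) * d = 3 * (b + 5) := by
        linear_combination h3 + ((n₁ : ℤ) + 1) * h1 + ((b : ℤ) + 6 - d) * h2
      exact_mod_cast hZ
    have hdr : d = r := Nat.mul_self_inj.mp hdd
    right
    constructor <;> omega

end Cfsg.Agent.Lib.helper11
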