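import Mathlib

set_option autoImplicit false

namespace Cfsg.Agent.Lib.helper11.S1237

/-- S1237 piece C2 (COUNT), with piece A taken as the hypothesis `Nat.card T ≤ 64`. -/
theorem count_contra_of {T : Type*} [Group T] [Finite T] (hT : IsPGroup 2 T) (V : Subgroup T)
    (hV : ∀ x : T, x ∈ V ↔ x * x = 1) (hV4 : Nat.card V = 4) (hVc : V ≤ Subgroup.center T)
    (hsq : ∀ x : T, x * x ∈ V) (ψ τ : MulAut T) (hψ : ∀ y : T, ψ y = y → y = 1)
    (hτ3 : ∀ y : T, τ (τ (τ y)) = y) (hτV : ∀ v ∈ V, τ v = v)
    (hτ : ∀ x : T, x⁻¹ * τ x ∈ V → x ∈ V) (hne : ∃ x : T, x ∉ V)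
    (h64 : Nat.card T ≤ 64) : False := by
  classical
  have : Fintype T := Fintype.ofFinite T
  set X : T → Finset T := fun v => Finset.univ.filter (fun x => x * x = v) with hX
  have hXmem : ∀ v x, x ∈ X v ↔ x * x = v := by
    intro v x; simp [hX]
  -- ψ transports fibres
  have hXψ : ∀ v, (X (ψ v)).card = (X v).card := by
    intro v
    refine (Finset.card_equiv ψ.toEquiv (s := X v) (t := X (ψ v)) ?_).symm
    intro x
    rw [hXmem, hXmem]
    change x * x = v ↔ ψ x * ψ x = ψ v
    rw [← map_mul, ψ.injective.eq_iff]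
  -- an involution
  obtain ⟨a, haV, ha1⟩ : ∃ a, a ∈ V ∧ a ≠ 1 := by
    by_contra hcon
    simp only [not_exists, not_and, not_not] at hcon
    have : V = ⊥ := (Subgroup.eq_bot_iff_forall V).mpr hcon
    rw [this] at hV4
    simp at hV4
  have hψV : ∀ v, v ∈ V → ψ v ∈ V := by
    intro v hv
    rw [hV] at hv ⊢
    rw [← map_mul, hv, map_one]
  have hψne1 : ∀ v, v ≠ 1 → ψ v ≠ 1 := by
    intro v hv h
    exact hv (by simpa using h)
  have hψne : ∀ v, v ≠ 1 → ψ v ≠ v := fun v hv h => hv (hψ v h)
  set b := ψ a with hb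
  set c := ψ b with hc
  have hbV : b ∈ V := hψV a haV
  have hcV : c ∈ V := hψV b hbV
  have hb1 : b ≠ 1 := hψne1 a ha1
  have hc1 : c ≠ 1 := hψne1 b hb1
  have hba : b ≠ a := hψne a ha1
  have hcb : c ≠ b := hψne b hb1
  have hca : c ≠ a := by
    intro h
    have hcomm : a * b = b * a := (Subgroup.mem_center_iff.mp (hVc hbV)) a
    have hfix : ψ (a * b) = a * b := by
      rw [map_mul, ← hb, ← hc, h, hcomm]
    have h1 : a * b = 1 := hψ _ hfix
    have haa : a * a = 1 := (hV a).mp haV
    have : b = a := by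
      have : a * b = a * a := by rw [h1, haa]
      exact mul_left_cancel this
    exact hba this
  -- V = {1, a, b, c}
  set Vf : Finset T := Finset.univ.filter (fun x => x ∈ V) with hVf
  have hVfcard : Vf.card = 4 := by
    rw [← hV4, Nat.card_eq_fintype_card, Fintype.card_subtype]
  have hS : ({1, a, b, c} : Finset T) = Vf := by
    apply Finset.eq_of_subset_of_card_le
    · intro x hx
      simp only [Finset.mem_insert, Finset.mem_singleton] at hx
      rw [hVf, Finset.mem_filter]
      refine ⟨Finset.mem_univ _, ?_⟩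
      rcases hx with rfl | rfl | rfl | rfl
      · exact V.one_mem
      · exact haV
      · exact hbV
      · exact hcV
    · rw [hVfcard]
      rw [Finset.card_insert_of_notMem, Finset.card_insert_of_notMem, Finset.card_insert_of_notMem,
        Finset.card_singleton]
      · simp only [Finset.mem_singleton]; exact fun h => hcb h.symm
      · simp only [Finset.mem_insert, Finset.mem_singleton]
        rintro (h | h)
        · exact hba h.symm
        · exact hca h.symm
      · simp only [Finset.mem_insert, Finset.mem_singleton]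
        rintro (h | h | h)
        · exact ha1 h.symm
        · exact hb1 h.symm
        · exact hc1 h.symm
  -- partition of T
  have hpart : (Finset.univ : Finset T).card = ∑ v ∈ Vf, (X v).card := by
    apply Finset.card_eq_sum_card_fiberwise
    intro x _
    show x * x ∈ Vf
    rw [hVf, Finset.mem_filter]
    exact ⟨Finset.mem_univ _, hsq x⟩
  have hX1 : X 1 = Vf := by
    ext x
    rw [hXmem, hVf, Finset.mem_filter, hV]
    simp
  have hsum : ∑ v ∈ Vf, (X v).card = 4 + (X a).card + (X b).card + (X c).card := by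
    rw [← hS]
    rw [Finset.sum_insert, Finset.sum_insert, Finset.sum_insert, Finset.sum_singleton, hX1, hVfcard]
    · ring
    · simp only [Finset.mem_singleton]; exact fun h => hcb h.symm
    · simp only [Finset.mem_insert, Finset.mem_singleton]
      rintro (h | h)
      · exact hba h.symm
      · exact hca h.symm
    · simp only [Finset.mem_insert, Finset.mem_singleton]
      rintro (h | h | h)
      · exact ha1 h.symm
      · exact hb1 h.symm
      · exact hc1 h.symm
  have hNb : (X b).card = (X a).card := hXψ a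
  have hNc : (X c).card = (X a).card := (hXψ b).trans hNb
  have hcardT : Nat.card T = 4 + 3 * (X a).card := by
    rw [Nat.card_eq_fintype_card, ← Finset.card_univ, hpart, hsum, hNb, hNc]
    ring
  -- 3 ∣ |X a|
  have h3 : 3 ∣ (X a).card := by
    by_contra h3
    have : Fact (Nat.Prime 3) := ⟨by norm_num⟩
    have hτmem : ∀ x : {x : T // x ∈ X a}, τ x.1 ∈ X a := by
      intro x
      have hx := (hXmem a x.1).mp x.2
      rw [hXmem, ← map_mul, hx]
      exact hτV a haV
    let σ : Equiv.Perm {x : T // x ∈ X a} :=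
      { toFun := fun x => ⟨τ x.1, hτmem x⟩
        invFun := fun x => ⟨τ (τ x.1), hτmem ⟨τ x.1, hτmem x⟩⟩
        left_inv := fun x => Subtype.ext (hτ3 x.1)
        right_inv := fun x => Subtype.ext (hτ3 x.1) }
    have hσ3 : σ ^ 3 ^ 1 = 1 := by
      ext x
      simp only [pow_one, Equiv.Perm.coe_one, id_eq]
      change τ (τ (τ x.1)) = x.1
      exact hτ3 x.1
    have hcard : ¬ 3 ∣ Fintype.card {x : T // x ∈ X a} := by
      rw [Fintype.card_coe]; exact h3
    obtain ⟨x, hx⟩ := Equiv.Perm.exists_fixed_point_of_prime hcard hσ3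
    have hx' : τ x.1 = x.1 := congrArg Subtype.val hx
    have hxV : x.1 ∈ V := hτ x.1 (by rw [hx', inv_mul_cancel]; exact V.one_mem)
    have hxa := (hXmem a x.1).mp x.2
    rw [(hV x.1).mp hxV] at hxa
    exact ha1 hxa.symm
  -- 4 ∣ |T|
  have h4 : 4 ∣ Nat.card T := hV4 ▸ Subgroup.card_subgroup_dvd_card V
  obtain ⟨n, hn⟩ := IsPGroup.iff_card.mp hT
  have hn6 : n ≤ 6 := by
    by_contra hcon
    rw [not_le] at hcon
    have : 2 ^ 7 ≤ 2 ^ n := Nat.pow_le_pow_right (by norm_num) hcon
    omega
  have hT4 : Nat.card T ≠ 4 := by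
    intro h
    obtain ⟨x, hx⟩ := hne
    have : V = ⊤ := Subgroup.eq_top_of_card_eq V (by rw [hV4, h])
    exact hx (this ▸ Subgroup.mem_top x)
  interval_cases n <;> omega

end Cfsg.Agent.Lib.helper11.S1237
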