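import Mathlib
import Cfsg.Agent.Lib.helper11.S1237C2a
import Cfsg.Agent.Lib.helper88.S1237A

set_option autoImplicit false

namespace Cfsg.Agent.Lib.helper11.S1237

/-- S1237 PIECE C2 (COUNT), verbatim skeleton statement. -/
theorem count_contra {T : Type*} [Group T] [Finite T] (hT : IsPGroup 2 T) (V : Subgroup T)
    (hV : ∀ x : T, x ∈ V ↔ x * x = 1) (hV4 : Nat.card V = 4) (hVc : V ≤ Subgroup.center T)
    (hsq : ∀ x : T, x * x ∈ V) (ψ τ : MulAut T) (hψ : ∀ y : T, ψ y = y → y = 1)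
    (hτ3 : ∀ y : T, τ (τ (τ y)) = y) (hτV : ∀ v ∈ V, τ v = v)
    (hτ : ∀ x : T, x⁻¹ * τ x ∈ V → x ∈ V) (hne : ∃ x : T, x ∉ V) : False :=
  count_contra_of hT V hV hV4 hVc hsq ψ τ hψ hτ3 hτV hτ hne
    (Cfsg.Agent.Lib.helper88.S1237.card_le_64_of_anisotropic V hVc hV4
      (fun v hv => (hV v).mp hv) hsq (fun x hx => (hV x).mpr hx))

end Cfsg.Agent.Lib.helper11.S1237
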