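import Mathlib
import Cfsg.Agent.Lib.helper81.S4484Defs

/-!
# S4484, piece AN2: unitarization with an explicit similarity
-/

set_option autoImplicit false

namespace Cfsg.Agent.Lib.helper11.S4484

open Cfsg Cfsg.Agent.Lib.helper83 Cfsg.Agent.Lib.helper79 Cfsg.Agent.Lib.helper81
  Cfsg.Agent.Lib.helper81.S4484
open scoped Matrix

universe u

open scoped ComplexOrder in
/-- A positive definite matrix is `Cᴴ * C` for an invertible `C`. -/
theorem exists_sqrt_of_posDef {n : ℕ} (H0 : Matrix (Fin n) (Fin n) ℂ) (hPD : H0.PosDef) :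
    ∃ B B' : Matrix (Fin n) (Fin n) ℂ, B * B' = 1 ∧ B' * B = 1 ∧ Bᴴ * B = H0 := by
  have hH : H0.IsHermitian := hPD.isHermitian
  have hVV : (hH.eigenvectorUnitary : Matrix (Fin n) (Fin n) ℂ)
      * star (hH.eigenvectorUnitary : Matrix (Fin n) (Fin n) ℂ) = 1 := Unitary.coe_mul_star_self _
  have hVV' : star (hH.eigenvectorUnitary : Matrix (Fin n) (Fin n) ℂ)
      * (hH.eigenvectorUnitary : Matrix (Fin n) (Fin n) ℂ) = 1 := Unitary.coe_star_mul_self _
  have hspec : H0 = (hH.eigenvectorUnitary : Matrix (Fin n) (Fin n) ℂ)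
      * Matrix.diagonal (fun i => ((hH.eigenvalues i : ℝ) : ℂ))
      * star (hH.eigenvectorUnitary : Matrix (Fin n) (Fin n) ℂ) := by
    have := hH.spectral_theorem
    rw [Unitary.conjStarAlgAut_apply] at this
    exact this
  have hpos : ∀ i, 0 < hH.eigenvalues i := hPD.eigenvalues_pos
  generalize (hH.eigenvectorUnitary : Matrix (Fin n) (Fin n) ℂ) = V at hVV hVV' hspec
  generalize hH.eigenvalues = ev at hspec hpos
  have hBB' : (Matrix.diagonal (fun i => ((Real.sqrt (ev i) : ℝ) : ℂ)) * star V)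
      * (V * Matrix.diagonal (fun i => (((Real.sqrt (ev i) : ℝ) : ℂ))⁻¹)) = 1 := by
    rw [Matrix.mul_assoc, ← Matrix.mul_assoc (star V), hVV', Matrix.one_mul,
      Matrix.diagonal_mul_diagonal, ← Matrix.diagonal_one]
    congr 1
    funext i
    apply mul_inv_cancel₀
    exact_mod_cast (Real.sqrt_pos.mpr (hpos i)).ne'
  have hBHB : (Matrix.diagonal (fun i => ((Real.sqrt (ev i) : ℝ) : ℂ)) * star V)ᴴ
      * (Matrix.diagonal (fun i => ((Real.sqrt (ev i) : ℝ) : ℂ)) * star V) = H0 := by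
    rw [hspec, Matrix.conjTranspose_mul, Matrix.diagonal_conjTranspose,
      ← Matrix.star_eq_conjTranspose (star V), star_star, Matrix.mul_assoc,
      ← Matrix.mul_assoc (Matrix.diagonal _), Matrix.diagonal_mul_diagonal, ← Matrix.mul_assoc]
    congr 2
    congr 1
    funext i
    simp only [Pi.star_apply, RCLike.star_def, Complex.conj_ofReal]
    rw [← Complex.ofReal_mul, Real.mul_self_sqrt (hpos i).le]
  exact ⟨_, _, hBB', mul_eq_one_comm.mp hBB', hBHB⟩

/-- AN2 (unitarization with an explicit similarity) -/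
theorem exists_unitarizer {G : Type u} [Group G] [Finite G] {n : ℕ}
    (ρ : Representation ℂ G (Fin n → ℂ)) :
    ∃ C C' : Matrix (Fin n) (Fin n) ℂ, C * C' = 1 ∧ C' * C = 1 ∧
      ∀ g : G, (C * repMat ρ g * C')ᴴ * (C * repMat ρ g * C') = 1 := by
  classical
  have : Fintype G := Fintype.ofFinite G
  obtain ⟨B, B', hBB', hB'B, hBHB⟩ := exists_sqrt_of_posDef (invForm ρ) (invForm_posDef ρ)
  refine ⟨B, B', hBB', hB'B, ?_⟩
  intro a
  have hH0inv := invForm_invariant ρ a
  rw [Matrix.conjTranspose_mul, Matrix.conjTranspose_mul]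
  have e1 : B'ᴴ * ((repMat ρ a)ᴴ * Bᴴ) * (B * repMat ρ a * B')
      = B'ᴴ * ((repMat ρ a)ᴴ * (Bᴴ * B) * repMat ρ a) * B' := by
    simp only [Matrix.mul_assoc]
  rw [e1, hBHB, hH0inv, ← hBHB]
  have e2 : B'ᴴ * (Bᴴ * B) * B' = (B * B')ᴴ * (B * B') := by
    rw [Matrix.conjTranspose_mul]
    simp only [Matrix.mul_assoc]
  rw [e2, hBB', Matrix.conjTranspose_one, Matrix.mul_one]

end Cfsg.Agent.Lib.helper11.S4484
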