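import Mathlib
import Cfsg.Agent.Lib.helper81.S4484Defs
import Cfsg.Agent.Lib.helper11.S4484AN2

/-!
# S4484, piece AN3 (core): the analytic bound from SP1, SP5, SP6, AN1 (as hypotheses) and AN2
-/

set_option autoImplicit false

namespace Cfsg.Agent.Lib.helper11.S4484

open Cfsg Cfsg.Agent.Lib.helper83 Cfsg.Agent.Lib.helper79 Cfsg.Agent.Lib.helper81
  Cfsg.Agent.Lib.helper81.S4484
open scoped Matrix

universe u

theorem repMat_pow {G : Type u} [Group G] {n : ℕ} (ρ : Representation ℂ G (Fin n → ℂ)) (g : G)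
    (k : ℕ) : repMat ρ (g ^ k) = repMat ρ g ^ k := by
  induction k with
  | zero => rw [pow_zero, pow_zero, repMat_one]
  | succ k ih => rw [pow_succ, pow_succ, repMat_mul, ih]

theorem conj_pow_eq {n : ℕ} (C C' M : Matrix (Fin n) (Fin n) ℂ) (hC : C' * C = 1) (k : ℕ) :
    (C * M * C') ^ k * C = C * M ^ k := by
  induction k with
  | zero => rw [pow_zero, pow_zero, Matrix.one_mul, Matrix.mul_one]
  | succ k ih =>
    rw [pow_succ, pow_succ]
    calc (C * M * C') ^ k * (C * M * C') * C = (C * M * C') ^ k * C * M * (C' * C) := by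
          simp only [Matrix.mul_assoc]
      _ = C * (M ^ k * M) := by rw [ih, hC, Matrix.mul_one, Matrix.mul_assoc]

/-- AN3, with the pieces SP1, SP5, SP6, AN1 as hypotheses. -/
theorem ana_bound_core {G : Type u} [Group G] [Finite G] {n : ℕ}
    (hSP1 : ∀ (M : Matrix (Fin n) (Fin n) ℂ) (p : ℕ), 0 < p → M ^ p = 1 → ∀ lam : ℂ,
      lam ^ p = 1 → proj M p lam * proj M p lam = proj M p lam)
    (hSP5 : ∀ (M C C' : Matrix (Fin n) (Fin n) ℂ), C' * C = 1 → ∀ (p : ℕ) (lam : ℂ),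
      proj (C * M * C') p lam = C * proj M p lam * C')
    (hSP6 : ∀ (U : Matrix (Fin n) (Fin n) ℂ) (p : ℕ), 0 < p → Uᴴ * U = 1 → U ^ p = 1 →
      ∀ lam : ℂ, lam ^ p = 1 → (proj U p lam)ᴴ = proj U p lam)
    (hAN1 : ∀ (P Q : Matrix (Fin n) (Fin n) ℂ), Pᴴ = P → P * P = P → Qᴴ = Q → Q * Q = Q →
      ∀ k : ℕ, 0 < k → ∃ r : ℝ, 0 ≤ r ∧ r ≤ (n : ℝ) / 4 ^ k ∧
        ((P * Q * P * (1 - Q)) ^ k).trace = (r : ℂ) ∧ (r = 0 → P * Q = Q * P))
    (ρ : Representation ℂ G (Fin n → ℂ)) (p : ℕ) (hp : p.Prime) (S S' : G)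
    (hS : S ^ p = 1) (hS' : S' ^ p = 1) (lam lam' : ℂ) (hl : lam ^ p = 1) (hl' : lam' ^ p = 1)
    (k : ℕ) (hk : 0 < k) :
    ∃ r : ℝ, 0 ≤ r ∧ r ≤ (n : ℝ) / 4 ^ k ∧
      ((proj (repMat ρ S) p lam * proj (repMat ρ S') p lam' * proj (repMat ρ S) p lam *
          (1 - proj (repMat ρ S') p lam')) ^ k).trace = (r : ℂ) ∧
      (r = 0 → proj (repMat ρ S) p lam * proj (repMat ρ S') p lam' =
        proj (repMat ρ S') p lam' * proj (repMat ρ S) p lam) := by
  obtain ⟨C, C', hCC', hC'C, hU⟩ := exists_unitarizer ρ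
  have hp0 : 0 < p := hp.pos
  -- the unitary matrices
  have hUp : ∀ g : G, g ^ p = 1 → (C * repMat ρ g * C') ^ p = 1 := by
    intro g hg
    have h1 := conj_pow_eq C C' (repMat ρ g) hC'C p
    rw [← repMat_pow, hg, repMat_one, Matrix.mul_one] at h1
    calc (C * repMat ρ g * C') ^ p = (C * repMat ρ g * C') ^ p * (C * C') := by
          rw [hCC', Matrix.mul_one]
      _ = ((C * repMat ρ g * C') ^ p * C) * C' := (Matrix.mul_assoc _ _ _).symm
      _ = 1 := by rw [h1, hCC']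
  set P := proj (repMat ρ S) p lam with hP
  set P' := proj (repMat ρ S') p lam' with hP'
  have hQ : proj (C * repMat ρ S * C') p lam = C * P * C' := hSP5 _ C C' hC'C p lam
  have hQ' : proj (C * repMat ρ S' * C') p lam' = C * P' * C' := hSP5 _ C C' hC'C p lam'
  have hQh : (C * P * C')ᴴ = C * P * C' := by
    rw [← hQ]; exact hSP6 _ p hp0 (hU S) (hUp S hS) lam hl
  have hQ'h : (C * P' * C')ᴴ = C * P' * C' := by
    rw [← hQ']; exact hSP6 _ p hp0 (hU S') (hUp S' hS') lam' hl'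
  have hQQ : (C * P * C') * (C * P * C') = C * P * C' := by
    rw [← hQ]; exact hSP1 _ p hp0 (hUp S hS) lam hl
  have hQ'Q' : (C * P' * C') * (C * P' * C') = C * P' * C' := by
    rw [← hQ']; exact hSP1 _ p hp0 (hUp S' hS') lam' hl'
  obtain ⟨r, hr0, hr1, hr2, hr3⟩ := hAN1 _ _ hQh hQQ hQ'h hQ'Q' k hk
  refine ⟨r, hr0, hr1, ?_, ?_⟩
  · rw [← hr2]
    have e1 : C * P * C' * (C * P' * C') * (C * P * C') * (1 - C * P' * C')
        = C * (P * P' * P * (1 - P')) * C' := by
      have e0 : (1 : Matrix (Fin n) (Fin n) ℂ) - C * P' * C' = C * (1 - P') * C' := by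
        rw [Matrix.mul_sub, Matrix.sub_mul, Matrix.mul_one, hCC']
      rw [e0]
      calc C * P * C' * (C * P' * C') * (C * P * C') * (C * (1 - P') * C')
          = C * (P * ((C' * C) * (P' * ((C' * C) * (P * ((C' * C) * (1 - P'))))))) * C' := by
            simp only [Matrix.mul_assoc]
        _ = C * (P * P' * P * (1 - P')) * C' := by
            rw [hC'C]; simp only [Matrix.one_mul, Matrix.mul_assoc]
    rw [e1]
    have e2 : (C * (P * P' * P * (1 - P')) * C') ^ k
        = C * (P * P' * P * (1 - P')) ^ k * C' := by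
      have h1 := conj_pow_eq C C' (P * P' * P * (1 - P')) hC'C k
      calc (C * (P * P' * P * (1 - P')) * C') ^ k
          = (C * (P * P' * P * (1 - P')) * C') ^ k * (C * C') := by rw [hCC', Matrix.mul_one]
        _ = ((C * (P * P' * P * (1 - P')) * C') ^ k * C) * C' := (Matrix.mul_assoc _ _ _).symm
        _ = C * (P * P' * P * (1 - P')) ^ k * C' := by rw [h1]
    rw [e2, Matrix.trace_mul_comm, ← Matrix.mul_assoc, hC'C, Matrix.one_mul]
  · intro hr
    have h1 := hr3 hr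
    have e3 : ∀ A B : Matrix (Fin n) (Fin n) ℂ, C * A * C' * (C * B * C') = C * (A * B) * C' := by
      intro A B
      calc C * A * C' * (C * B * C') = C * (A * ((C' * C) * B)) * C' := by
            simp only [Matrix.mul_assoc]
        _ = C * (A * B) * C' := by rw [hC'C, Matrix.one_mul]
    rw [e3, e3] at h1
    have h2 : C' * (C * (P * P') * C') * C = C' * (C * (P' * P) * C') * C := by rw [h1]
    have e4 : ∀ A : Matrix (Fin n) (Fin n) ℂ, C' * (C * A * C') * C = A := by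
      intro A
      calc C' * (C * A * C') * C = (C' * C) * A * (C' * C) := by simp only [Matrix.mul_assoc]
        _ = A := by rw [hC'C, Matrix.one_mul, Matrix.mul_one]
    rw [e4, e4] at h2
    exact h2

end Cfsg.Agent.Lib.helper11.S4484
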