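import Mathlib
import Cfsg.Agent.Lib.helper81.S4484Defs
import Cfsg.Agent.Lib.helper11.S4484AN3Core
import Cfsg.Agent.Lib.helper7.S4484SP1
import Cfsg.Agent.Lib.helper43.S4484SP5
import Cfsg.Agent.Lib.helper43.S4484SP6
import Cfsg.Agent.Lib.helper50.S4484AN1

/-!
# S4484, piece AN3: the analytic bound
-/

set_option autoImplicit false

namespace Cfsg.Agent.Lib.helper11.S4484

open Cfsg Cfsg.Agent.Lib.helper83 Cfsg.Agent.Lib.helper79 Cfsg.Agent.Lib.helper81
  Cfsg.Agent.Lib.helper81.S4484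
open scoped Matrix

universe u

/-- AN3 (uses SP1, SP5, SP6, AN1, AN2) -/
theorem ana_bound {G : Type u} [Group G] [Finite G] {n : ℕ}
    (ρ : Representation ℂ G (Fin n → ℂ)) (p : ℕ) (hp : p.Prime) (S S' : G)
    (hS : S ^ p = 1) (hS' : S' ^ p = 1) (lam lam' : ℂ) (hl : lam ^ p = 1) (hl' : lam' ^ p = 1)
    (k : ℕ) (hk : 0 < k) :
    ∃ r : ℝ, 0 ≤ r ∧ r ≤ (n : ℝ) / 4 ^ k ∧
      ((proj (repMat ρ S) p lam * proj (repMat ρ S') p lam' * proj (repMat ρ S) p lam *
          (1 - proj (repMat ρ S') p lam')) ^ k).trace = (r : ℂ) ∧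
      (r = 0 → proj (repMat ρ S) p lam * proj (repMat ρ S') p lam' =
        proj (repMat ρ S') p lam' * proj (repMat ρ S) p lam) :=
  ana_bound_core
    (fun M p hp hM lam hl => Cfsg.Agent.Lib.helper7.S4484.proj_mul_self M p hp hM lam hl)
    (fun M C C' hC p lam => Cfsg.Agent.Lib.helper43.S4484.proj_conj M C C' hC p lam)
    (fun U p hp hU hUp lam hl =>
      Cfsg.Agent.Lib.helper43.S4484.proj_conjTranspose U p hp hU hUp lam hl)
    (fun P Q hP hPP hQ hQQ k hk =>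
      Cfsg.Agent.Lib.helper50.S4484.psd_trace_bound P Q hP hPP hQ hQQ k hk)
    ρ p hp S S' hS hS' lam lam' hl hl' k hk

end Cfsg.Agent.Lib.helper11.S4484
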