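import Mathlib
import Cfsg.Agent.Lib.helper89.S60Defs

/-! S6000 piece S3 (core): `s60_suff_three` with pieces CONJ3 and EX3 as hypotheses. -/

set_option autoImplicit false

namespace Cfsg.Agent.Lib.helper89.S60

open Matrix Cfsg Cfsg.Geo

/-- The scalar matrix `c • 1` as an element of `GL_4`. -/
def h11_sc {F : Type*} [Field F] (c : F) (hc : c ≠ 0) : GL (Fin 4) F :=
  ⟨c • (1 : Matrix (Fin 4) (Fin 4) F), c⁻¹ • (1 : Matrix (Fin 4) (Fin 4) F),
    by rw [Matrix.smul_mul, Matrix.one_mul, smul_smul, mul_inv_cancel₀ hc, one_smul],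
    by rw [Matrix.smul_mul, Matrix.one_mul, smul_smul, inv_mul_cancel₀ hc, one_smul]⟩

theorem h11_sc_val {F : Type*} [Field F] (c : F) (hc : c ≠ 0) :
    ((h11_sc c hc : GL (Fin 4) F) : Matrix (Fin 4) (Fin 4) F) = c • (1 : Matrix (Fin 4) (Fin 4) F) := rfl

theorem h11_sc_comm {F : Type*} [Field F] (c : F) (hc : c ≠ 0) (g : GL (Fin 4) F) :
    g * h11_sc c hc = h11_sc c hc * g := by
  apply Units.ext
  rw [Units.val_mul, Units.val_mul, h11_sc_val, Matrix.mul_smul, Matrix.smul_mul, Matrix.mul_one,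
    Matrix.one_mul]

theorem h11_sc_mem_normalizer {F : Type*} [Field F] (c : F) (hc : c ≠ 0)
    (R : Subgroup (GL (Fin 4) F)) : h11_sc c hc ∈ subgroupNormalizer R := by
  unfold subgroupNormalizer
  rw [Subgroup.mem_normalizer_iff]
  intro h
  have e : h11_sc c hc * h * (h11_sc c hc)⁻¹ = h := by
    rw [← h11_sc_comm, mul_assoc, mul_inv_cancel, mul_one]
  rw [e]

theorem h11_trace_conj {F : Type*} [Field F] (g h : GL (Fin 4) F) :
    Matrix.trace ((g⁻¹ * h * g : GL (Fin 4) F) : Matrix (Fin 4) (Fin 4) F) =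
      Matrix.trace (h : Matrix (Fin 4) (Fin 4) F) := by
  rw [Units.val_mul, Matrix.trace_mul_comm, ← Units.val_mul, ← mul_assoc, mul_inv_cancel, one_mul]

theorem h11_trace_MA {F : Type*} [Field F] : Matrix.trace (MA F) = 1 := by
  simp [MA, Matrix.trace, Fin.sum_univ_four]

theorem h11_trace_MB {F : Type*} [Field F] : Matrix.trace (MB F) = -2 := by
  simp [MB, Matrix.trace, Fin.sum_univ_four]
  norm_num

/-- Arithmetic of a finite field with `q % 3 = 2`. -/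
theorem h11_three_ne {F : Type*} [Field F] [Fintype F] (h2 : (2 : F) ≠ 0)
    (hq : Fintype.card F % 3 = 2) : (3 : F) ≠ 0 := by
  intro h3
  have hc : ((Fintype.card F : ℕ) : F) = 0 := FiniteField.cast_card_eq_zero F
  have e : Fintype.card F = 3 * (Fintype.card F / 3) + 2 := by omega
  rw [e] at hc
  push_cast at hc
  rw [h3, zero_mul, zero_add] at hc
  exact h2 hc

theorem h11_pow_eq_self {F : Type*} [Field F] [Fintype F] (hq : Fintype.card F % 3 = 2)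
    (c : F) (hc : c ≠ 0) : c ^ (3 * (Fintype.card F / 3) + 1) = 1 := by
  have h := FiniteField.pow_card_sub_one_eq_one c hc
  have e : Fintype.card F - 1 = 3 * (Fintype.card F / 3) + 1 := by omega
  rw [e] at h
  exact h

theorem h11_no_omega {F : Type*} [Field F] [Fintype F] (h2 : (2 : F) ≠ 0)
    (hq : Fintype.card F % 3 = 2) : ∀ c : F, c * c + c + 1 ≠ 0 := by
  intro c hc
  have h3 := h11_three_ne h2 hq
  have hc0 : c ≠ 0 := by
    rintro rfl
    simp at hc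
  have hc3 : c ^ 3 = 1 := by linear_combination (c - 1) * hc
  have h := h11_pow_eq_self hq c hc0
  rw [pow_succ, pow_mul, hc3, one_pow, one_mul] at h
  rw [h] at hc
  apply h3
  linear_combination hc

theorem h11_cube_root {F : Type*} [Field F] [Fintype F] (hq : Fintype.card F % 3 = 2)
    (z : F) (hz : z ≠ 0) : ∃ c : F, c ≠ 0 ∧ c ^ 3 = z := by
  refine ⟨z ^ (2 * (Fintype.card F / 3) + 1), pow_ne_zero _ hz, ?_⟩
  have h := h11_pow_eq_self hq z hz
  rw [← pow_mul]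
  have e : (2 * (Fintype.card F / 3) + 1) * 3 = (3 * (Fintype.card F / 3) + 1) * 2 + 1 := by ring
  rw [e, pow_succ, pow_mul, h, one_pow, one_mul]

/-- S3 (core), with CONJ3 and EX3 as hypotheses. -/
theorem h11_s60_suff_three_core {F : Type*} [Field F] [Fintype F] (h2 : (2 : F) ≠ 0)
    (R : Subgroup (GL (Fin 4) F))
    (hCONJ : ∀ x : GL (Fin 4) F, x ^ 3 = 1 → x ≠ 1 →
      ∃ g ∈ specialLinear (Fin 4) F,
        ((g⁻¹ * x * g : GL (Fin 4) F) : Matrix (Fin 4) (Fin 4) F) = MA F ∨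
        ((g⁻¹ * x * g : GL (Fin 4) F) : Matrix (Fin 4) (Fin 4) F) = MB F)
    (hEX : ∃ hA hB : GL (Fin 4) F, hA ∈ subgroupNormalizer R ∧ hB ∈ subgroupNormalizer R ∧
      hA ^ 3 = 1 ∧ hB ^ 3 = 1 ∧
      Matrix.trace (hA : Matrix (Fin 4) (Fin 4) F) = 1 ∧
      Matrix.trace (hB : Matrix (Fin 4) (Fin 4) F) = -2)
    (hq : Fintype.card F % 3 = 2) (x : GL (Fin 4) F) (z : F)
    (hz : (x : Matrix (Fin 4) (Fin 4) F) ^ 3 = z • (1 : Matrix (Fin 4) (Fin 4) F))
    (hns : ∀ z : F, (x : Matrix (Fin 4) (Fin 4) F) ≠ z • (1 : Matrix (Fin 4) (Fin 4) F)) :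
    ∃ g ∈ specialLinear (Fin 4) F, g⁻¹ * x * g ∈ subgroupNormalizer R := by
  have h3 := h11_three_ne h2 hq
  obtain ⟨hA, hB, hAN, hBN, hA3, hB3, hAt, hBt⟩ := hEX
  -- z ≠ 0
  have hz0 : z ≠ 0 := by
    rintro rfl
    rw [zero_smul, ← Units.val_pow_eq_pow_val] at hz
    exact Units.ne_zero _ hz
  obtain ⟨c, hc0, hc3⟩ := h11_cube_root hq z hz0
  -- x' := c⁻¹ • x
  obtain ⟨x', hx'⟩ : ∃ x' : GL (Fin 4) F, x' = (h11_sc c hc0)⁻¹ * x := ⟨_, rfl⟩
  have hxx' : x = h11_sc c hc0 * x' := by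
    rw [hx', ← mul_assoc, mul_inv_cancel, one_mul]
  have hx'v : (x' : Matrix (Fin 4) (Fin 4) F) = c⁻¹ • (x : Matrix (Fin 4) (Fin 4) F) := by
    rw [hx', Units.val_mul]
    have e : (((h11_sc c hc0)⁻¹ : GL (Fin 4) F) : Matrix (Fin 4) (Fin 4) F) =
        c⁻¹ • (1 : Matrix (Fin 4) (Fin 4) F) := rfl
    rw [e, Matrix.smul_mul, Matrix.one_mul]
  have hx'3 : x' ^ 3 = 1 := by
    apply Units.ext
    rw [Units.val_pow_eq_pow_val, hx'v, smul_pow, hz, smul_smul, inv_pow, hc3,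
      inv_mul_cancel₀ hz0, one_smul]
    rfl
  have hx'1 : x' ≠ 1 := by
    intro h
    rw [h, mul_one] at hxx'
    apply hns c
    rw [hxx']
    rfl
  have hA1 : hA ≠ 1 := by
    rintro rfl
    rw [Units.val_one, Matrix.trace_one] at hAt
    apply h3
    simp at hAt
    linear_combination hAt
  have hB1 : hB ≠ 1 := by
    rintro rfl
    rw [Units.val_one, Matrix.trace_one] at hBt
    simp at hBt
    have : (2 : F) * 3 = 0 := by linear_combination hBt
    rcases mul_eq_zero.1 this with h | h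
    · exact h2 h
    · exact h3 h
  have h12 : (1 : F) ≠ -2 := by
    intro h
    apply h3
    linear_combination h
  obtain ⟨g₁, hg₁, hx1⟩ := hCONJ x' hx'3 hx'1
  obtain ⟨g₂, hg₂, hA2⟩ := hCONJ hA hA3 hA1
  obtain ⟨g₃, hg₃, hB2⟩ := hCONJ hB hB3 hB1
  have hA2' : ((g₂⁻¹ * hA * g₂ : GL (Fin 4) F) : Matrix (Fin 4) (Fin 4) F) = MA F := by
    rcases hA2 with h | h
    · exact h
    · exfalso
      have := h11_trace_conj g₂ hA
      rw [h, h11_trace_MB, hAt] at this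
      exact h12 this.symm
  have hB2' : ((g₃⁻¹ * hB * g₃ : GL (Fin 4) F) : Matrix (Fin 4) (Fin 4) F) = MB F := by
    rcases hB2 with h | h
    · exfalso
      have := h11_trace_conj g₃ hB
      rw [h, h11_trace_MA, hBt] at this
      exact h12 this
    · exact h
  -- the common finish
  have fin : ∀ (g' h : GL (Fin 4) F), g' ∈ specialLinear (Fin 4) F → h ∈ subgroupNormalizer R →
      g₁⁻¹ * x' * g₁ = g'⁻¹ * h * g' →
      ∃ g ∈ specialLinear (Fin 4) F, g⁻¹ * x * g ∈ subgroupNormalizer R := by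
    intro g' h hg' hh heq
    refine ⟨g₁ * g'⁻¹, Subgroup.mul_mem _ hg₁ (Subgroup.inv_mem _ hg'), ?_⟩
    have e1 : (g₁ * g'⁻¹)⁻¹ * x' * (g₁ * g'⁻¹) = h := by
      have : (g₁ * g'⁻¹)⁻¹ * x' * (g₁ * g'⁻¹) = g' * (g₁⁻¹ * x' * g₁) * g'⁻¹ := by group
      rw [this, heq]
      group
    have e2 : (g₁ * g'⁻¹)⁻¹ * x * (g₁ * g'⁻¹) = h11_sc c hc0 * h := by
      have hcm := h11_sc_comm c hc0 ((g₁ * g'⁻¹)⁻¹)
      calc (g₁ * g'⁻¹)⁻¹ * x * (g₁ * g'⁻¹)
          = ((g₁ * g'⁻¹)⁻¹ * h11_sc c hc0) * x' * (g₁ * g'⁻¹) := by rw [hxx', mul_assoc _ _ x']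
        _ = (h11_sc c hc0 * (g₁ * g'⁻¹)⁻¹) * x' * (g₁ * g'⁻¹) := by rw [hcm]
        _ = h11_sc c hc0 * ((g₁ * g'⁻¹)⁻¹ * x' * (g₁ * g'⁻¹)) := by
          simp only [mul_assoc]
        _ = h11_sc c hc0 * h := by rw [e1]
    rw [e2]
    exact Subgroup.mul_mem _ (h11_sc_mem_normalizer c hc0 R) hh
  rcases hx1 with h | h
  · exact fin g₂ hA hg₂ hAN (Units.ext (h.trans hA2'.symm))
  · exact fin g₃ hB hg₃ hBN (Units.ext (h.trans hB2'.symm))

end Cfsg.Agent.Lib.helper89.S60
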