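import Mathlib
import Cfsg.Agent.Lib.helper89.S60Defs
import Cfsg.Agent.Lib.helper11.S60S3core

/-! S6000 piece EX3 (racer copy, prefix `h11_`): elements of order 3 of `N(R)` with traces `1` and `-2`,
built as products `(-1/2)(1 + w a)(1 + w b)` for anticommuting involutions `a, b ∈ R`. -/

set_option autoImplicit false
set_option linter.unusedSimpArgs false

namespace Cfsg.Agent.Lib.helper89.S60

open Matrix Cfsg Cfsg.Geo

section ringlemmas

variable {M : Type*} [Ring M]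

theorem h11_as_sq {a : M} (h : a * a = 1) (y : M) : a * (a * y) = y := by
  rw [← mul_assoc, h, one_mul]

theorem h11_as_nsq {W : M} (h : W * W = -1) (y : M) : W * (W * y) = -y := by
  rw [← mul_assoc, h, neg_mul, one_mul]

theorem h11_as_comm {x W : M} (h : x * W = W * x) (y : M) : x * (W * y) = W * (x * y) := by
  rw [← mul_assoc, h, mul_assoc]

theorem h11_as_anti {y x : M} (h : y * x = -(x * y)) (t : M) : y * (x * t) = -(x * (y * t)) := by
  rw [← mul_assoc, h, neg_mul, mul_assoc]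

theorem h11_r_inv1 (W a : M) (hW : W * W = -1) (hWa : a * W = W * a) (ha : a * a = 1) :
    (1 + W * a) * (1 - W * a) = 1 + 1 := by
  simp only [mul_add, add_mul, mul_sub, sub_mul, mul_one, one_mul, mul_assoc, hW, h11_as_nsq hW,
    hWa, h11_as_comm hWa, ha, h11_as_sq ha, mul_neg, neg_mul, neg_neg]
  abel

theorem h11_r_inv2 (W a : M) (hW : W * W = -1) (hWa : a * W = W * a) (ha : a * a = 1) :
    (1 - W * a) * (1 + W * a) = 1 + 1 := by
  simp only [mul_add, add_mul, mul_sub, sub_mul, mul_one, one_mul, mul_assoc, hW, h11_as_nsq hW,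
    hWa, h11_as_comm hWa, ha, h11_as_sq ha, mul_neg, neg_mul, neg_neg]
  abel

theorem h11_r_conjc (W a s : M) (hWs : s * W = W * s) (hsa : s * a = a * s) :
    (1 + W * a) * s = s * (1 + W * a) := by
  simp only [mul_add, add_mul, mul_one, one_mul, mul_assoc, hWs, h11_as_comm hWs, hsa]

theorem h11_r_conj (W a s : M) (hW : W * W = -1) (hWa : a * W = W * a) (hWs : s * W = W * s)
    (ha : a * a = 1) (hsa : s * a = -(a * s)) :
    (1 + W * a) * s = (W * a * s) * (1 + W * a) := by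
  simp only [mul_add, add_mul, mul_one, one_mul, mul_assoc, hW, h11_as_nsq hW,
    hWa, h11_as_comm hWa, hWs, h11_as_comm hWs, ha, h11_as_sq ha, hsa, h11_as_anti hsa,
    mul_neg, neg_mul, neg_neg]
  abel

theorem h11_r_qsq (W a b : M) (hW : W * W = -1) (hWa : a * W = W * a) (hWb : b * W = W * b)
    (ha : a * a = 1) (hb : b * b = 1) (hba : b * a = -(a * b)) :
    ((1 + W * a) * (1 + W * b)) * ((1 + W * a) * (1 + W * b)) =
      (1 + W * a) * (1 + W * b) + (1 + W * a) * (1 + W * b) - (1 + 1 + 1 + 1) := by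
  simp only [mul_add, add_mul, mul_one, one_mul, mul_assoc, hW, h11_as_nsq hW,
    hWa, h11_as_comm hWa, hWb, h11_as_comm hWb, ha, h11_as_sq ha, hb, h11_as_sq hb,
    hba, h11_as_anti hba, mul_neg, neg_mul, neg_neg]
  abel

theorem h11_r_prim (W a b c d : M) (hW : W * W = -1)
    (hWa : a * W = W * a) (hWb : b * W = W * b) (hWc : c * W = W * c) (hWd : d * W = W * d)
    (ha : a * a = 1) (hb : b * b = 1) (hc : c * c = 1) (hd : d * d = 1)
    (hba : b * a = -(a * b)) (hca : c * a = -(a * c)) (hda : d * a = -(a * d))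
    (hcb : c * b = -(b * c)) (hdb : d * b = -(b * d)) (hdc : d * c = -(c * d)) :
    (W * a * b * c) * (W * a * b * c) = 1 ∧ (W * a * b * d) * (W * a * b * d) = 1 ∧
    (W * a * b * d) * (W * a * b * c) = -((W * a * b * c) * (W * a * b * d)) ∧
    (W * a * b * c) * a = a * (W * a * b * c) ∧ (W * a * b * c) * b = b * (W * a * b * c) ∧
    (W * a * b * d) * a = a * (W * a * b * d) ∧ (W * a * b * d) * b = b * (W * a * b * d) := by
  refine ⟨?_, ?_, ?_, ?_, ?_, ?_, ?_⟩ <;>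
  simp only [mul_assoc, hW, h11_as_nsq hW,
    hWa, h11_as_comm hWa, hWb, h11_as_comm hWb, hWc, h11_as_comm hWc, hWd, h11_as_comm hWd,
    ha, h11_as_sq ha, hb, h11_as_sq hb, hc, h11_as_sq hc, hd, h11_as_sq hd,
    hba, h11_as_anti hba, hca, h11_as_anti hca, hda, h11_as_anti hda,
    hcb, h11_as_anti hcb, hdb, h11_as_anti hdb, hdc, h11_as_anti hdc,
    mul_neg, neg_mul, neg_neg, mul_one]

theorem h11_r_qa (W a c d : M) (hWa : a * W = W * a) (hWc : c * W = W * c) (hWd : d * W = W * d)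
    (hca : c * a = a * c) (hda : d * a = a * d) :
    ((1 + W * c) * (1 + W * d)) * a = a * ((1 + W * c) * (1 + W * d)) := by
  simp only [mul_add, add_mul, mul_one, one_mul, mul_assoc,
    hWa, h11_as_comm hWa, hWc, h11_as_comm hWc, hWd, h11_as_comm hWd,
    hca, h11_as_comm hca, hda, h11_as_comm hda]

end ringlemmas

theorem h11_tr0 {F : Type*} [Field F] (h2 : (2 : F) ≠ 0) (T X : Matrix (Fin 4) (Fin 4) F)
    (hT : T * T = 1) (hTX : T * X = -(X * T)) : Matrix.trace X = 0 := by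
  have h : Matrix.trace X = -Matrix.trace X := by
    calc Matrix.trace X = Matrix.trace (X * (T * T)) := by rw [hT, mul_one]
      _ = Matrix.trace ((X * T) * T) := by rw [mul_assoc]
      _ = Matrix.trace (T * (X * T)) := Matrix.trace_mul_comm _ _
      _ = Matrix.trace ((T * X) * T) := by rw [mul_assoc]
      _ = Matrix.trace (-(X * T) * T) := by rw [hTX]
      _ = -Matrix.trace X := by rw [neg_mul, Matrix.trace_neg, mul_assoc, hT, mul_one]
  have h' : (2 : F) * Matrix.trace X = 0 := by linear_combination h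
  rcases mul_eq_zero.1 h' with h'' | h''
  · exact absurd h'' h2
  · exact h''

theorem h11_trQ {F : Type*} [Field F] (h2 : (2 : F) ≠ 0) (W a b Y : Matrix (Fin 4) (Fin 4) F)
    (hWa : a * W = W * a) (hWb : b * W = W * b)
    (ha : a * a = 1) (hb : b * b = 1) (hba : b * a = -(a * b))
    (hYa : Y * a = a * Y) (hYb : Y * b = b * Y) :
    Matrix.trace (((1 + W * a) * (1 + W * b)) * Y) = Matrix.trace Y := by
  have e : ((1 + W * a) * (1 + W * b)) * Y =
      Y + W * (b * Y) + W * (a * Y) + W * (a * (W * (b * Y))) := by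
    noncomm_ring
  have t1 : Matrix.trace (W * (b * Y)) = 0 := by
    apply h11_tr0 h2 a _ ha
    simp only [mul_assoc, hWa, h11_as_comm hWa, hWb, h11_as_comm hWb, hba, h11_as_anti hba,
      hYa, h11_as_comm hYa, hYb, h11_as_comm hYb, mul_neg, neg_mul, neg_neg]
  have t2 : Matrix.trace (W * (a * Y)) = 0 := by
    apply h11_tr0 h2 b _ hb
    simp only [mul_assoc, hWa, h11_as_comm hWa, hWb, h11_as_comm hWb, hba, h11_as_anti hba,
      hYa, h11_as_comm hYa, hYb, h11_as_comm hYb, mul_neg, neg_mul, neg_neg]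
  have t3 : Matrix.trace (W * (a * (W * (b * Y)))) = 0 := by
    apply h11_tr0 h2 a _ ha
    simp only [mul_assoc, hWa, h11_as_comm hWa, hWb, h11_as_comm hWb, hba, h11_as_anti hba,
      ha, h11_as_sq ha, hYa, h11_as_comm hYa, hYb, h11_as_comm hYb, mul_neg, neg_mul, neg_neg]
  rw [e, Matrix.trace_add, Matrix.trace_add, Matrix.trace_add, t1, t2, t3, add_zero, add_zero,
    add_zero]

/-- A finite subgroup stable under conjugation by `g` is normalized by `g`. -/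
theorem h11_mem_normalizer_of_conj_mem {G : Type*} [Group G] (R : Subgroup G) [Finite R] (g : G)
    (h : ∀ s ∈ R, g * s * g⁻¹ ∈ R) : g ∈ Subgroup.normalizer (R : Set G) := by
  rw [Subgroup.mem_normalizer_iff]
  intro s
  constructor
  · exact h s
  · intro hs
    let f : R → R := fun r => ⟨g * r * g⁻¹, h r r.2⟩
    have hf : Function.Injective f := by
      intro r1 r2 e
      have e' : g * (r1 : G) * g⁻¹ = g * (r2 : G) * g⁻¹ := congrArg Subtype.val e
      apply Subtype.ext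
      have := mul_right_cancel e'
      exact mul_left_cancel this
    obtain ⟨r, hr⟩ := (Finite.injective_iff_surjective.1 hf) ⟨g * s * g⁻¹, hs⟩
    have e' : g * (r : G) * g⁻¹ = g * s * g⁻¹ := congrArg Subtype.val hr
    have e : (r : G) = s := mul_left_cancel (mul_right_cancel e')
    rw [← e]
    exact r.2

/-- `1 + w a` normalizes `R` for an involution `a ∈ R`. -/
theorem h11_P_exists {F : Type*} [Field F] [Fintype F] (h2 : (2 : F) ≠ 0)
    (R : Subgroup (GL (Fin 4) F)) (w : F) (hG : Good R w)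
    (z a : GL (Fin 4) F) (hz : z ∈ R)
    (hzv : (z : Matrix (Fin 4) (Fin 4) F) = w • (1 : Matrix (Fin 4) (Fin 4) F)) (ha : a ∈ R)
    (haa : (a : Matrix (Fin 4) (Fin 4) F) * (a : Matrix (Fin 4) (Fin 4) F) = 1) :
    ∃ P : GL (Fin 4) F, (P : Matrix (Fin 4) (Fin 4) F) =
        1 + (z : Matrix (Fin 4) (Fin 4) F) * (a : Matrix (Fin 4) (Fin 4) F) ∧
      P ∈ subgroupNormalizer R := by
  have hcen : ∀ X : Matrix (Fin 4) (Fin 4) F,
      X * (z : Matrix (Fin 4) (Fin 4) F) = (z : Matrix (Fin 4) (Fin 4) F) * X := by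
    intro X
    rw [hzv, Matrix.mul_smul, Matrix.smul_mul, Matrix.mul_one, Matrix.one_mul]
  have hZZ : (z : Matrix (Fin 4) (Fin 4) F) * (z : Matrix (Fin 4) (Fin 4) F) = -1 := by
    rw [hzv, Matrix.smul_mul, Matrix.one_mul, smul_smul, hG.wsq, neg_smul, one_smul]
  have i1 : (1 + (z : Matrix (Fin 4) (Fin 4) F) * (a : Matrix (Fin 4) (Fin 4) F)) *
      ((2 : F)⁻¹ • (1 - (z : Matrix (Fin 4) (Fin 4) F) * (a : Matrix (Fin 4) (Fin 4) F))) = 1 := by
    rw [Matrix.mul_smul, h11_r_inv1 _ _ hZZ (hcen _) haa, ← two_smul F (1 : Matrix (Fin 4) (Fin 4) F),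
      smul_smul, inv_mul_cancel₀ h2, one_smul]
  have i2 : ((2 : F)⁻¹ • (1 - (z : Matrix (Fin 4) (Fin 4) F) * (a : Matrix (Fin 4) (Fin 4) F))) *
      (1 + (z : Matrix (Fin 4) (Fin 4) F) * (a : Matrix (Fin 4) (Fin 4) F)) = 1 := by
    rw [Matrix.smul_mul, h11_r_inv2 _ _ hZZ (hcen _) haa, ← two_smul F (1 : Matrix (Fin 4) (Fin 4) F),
      smul_smul, inv_mul_cancel₀ h2, one_smul]
  obtain ⟨P, hP⟩ : ∃ P : GL (Fin 4) F, (P : Matrix (Fin 4) (Fin 4) F) =
      1 + (z : Matrix (Fin 4) (Fin 4) F) * (a : Matrix (Fin 4) (Fin 4) F) := ⟨⟨_, _, i1, i2⟩, rfl⟩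
  refine ⟨P, hP, ?_⟩
  have hfin : Finite R := Nat.finite_of_card_ne_zero (by rw [hG.card]; norm_num)
  unfold subgroupNormalizer
  apply h11_mem_normalizer_of_conj_mem
  intro s hs
  rcases hG.comm s hs a ha with hc | hc
  · have e : P * s = s * P := by
      apply Units.ext
      rw [Units.val_mul, Units.val_mul, hP]
      exact h11_r_conjc _ _ _ (hcen _) hc
    rw [e, mul_assoc, mul_inv_cancel, mul_one]
    exact hs
  · have e : P * s = (z * a * s) * P := by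
      apply Units.ext
      rw [Units.val_mul, Units.val_mul, Units.val_mul, Units.val_mul, hP]
      exact h11_r_conj _ _ _ hZZ (hcen _) (hcen _) haa hc
    rw [e, mul_assoc, mul_inv_cancel, mul_one]
    exact R.mul_mem (R.mul_mem hz ha) hs

/-- The element `(-1/2)(1 + w a)(1 + w b)` for anticommuting involutions `a, b ∈ R`. -/
theorem h11_pkg {F : Type*} [Field F] [Fintype F] (h2 : (2 : F) ≠ 0)
    (R : Subgroup (GL (Fin 4) F)) (w : F) (hG : Good R w)
    (z a b : GL (Fin 4) F) (hz : z ∈ R)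
    (hzv : (z : Matrix (Fin 4) (Fin 4) F) = w • (1 : Matrix (Fin 4) (Fin 4) F))
    (ha : a ∈ R) (hb : b ∈ R)
    (haa : (a : Matrix (Fin 4) (Fin 4) F) * (a : Matrix (Fin 4) (Fin 4) F) = 1)
    (hbb : (b : Matrix (Fin 4) (Fin 4) F) * (b : Matrix (Fin 4) (Fin 4) F) = 1)
    (hba : (b : Matrix (Fin 4) (Fin 4) F) * (a : Matrix (Fin 4) (Fin 4) F) =
      -((a : Matrix (Fin 4) (Fin 4) F) * (b : Matrix (Fin 4) (Fin 4) F))) :
    ∃ h : GL (Fin 4) F, h ∈ subgroupNormalizer R ∧ h ^ 3 = 1 ∧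
      (h : Matrix (Fin 4) (Fin 4) F) = (-(2 : F)⁻¹) •
        ((1 + (z : Matrix (Fin 4) (Fin 4) F) * (a : Matrix (Fin 4) (Fin 4) F)) *
          (1 + (z : Matrix (Fin 4) (Fin 4) F) * (b : Matrix (Fin 4) (Fin 4) F))) := by
  have hcen : ∀ X : Matrix (Fin 4) (Fin 4) F,
      X * (z : Matrix (Fin 4) (Fin 4) F) = (z : Matrix (Fin 4) (Fin 4) F) * X := by
    intro X
    rw [hzv, Matrix.mul_smul, Matrix.smul_mul, Matrix.mul_one, Matrix.one_mul]
  have hZZ : (z : Matrix (Fin 4) (Fin 4) F) * (z : Matrix (Fin 4) (Fin 4) F) = -1 := by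
    rw [hzv, Matrix.smul_mul, Matrix.one_mul, smul_smul, hG.wsq, neg_smul, one_smul]
  obtain ⟨Pa, hPa, hPaN⟩ := h11_P_exists h2 R w hG z a hz hzv ha haa
  obtain ⟨Pb, hPb, hPbN⟩ := h11_P_exists h2 R w hG z b hz hzv hb hbb
  have hc0 : (-(2 : F)⁻¹) ≠ 0 := neg_ne_zero.2 (inv_ne_zero h2)
  have hc : (2 : F) * (-(2 : F)⁻¹) = -1 := by
    rw [mul_neg, mul_inv_cancel₀ h2]
  generalize (-(2 : F)⁻¹) = c at hc0 hc ⊢
  have hval : ((h11_sc c hc0 * Pa * Pb : GL (Fin 4) F) : Matrix (Fin 4) (Fin 4) F) = c •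
        ((1 + (z : Matrix (Fin 4) (Fin 4) F) * (a : Matrix (Fin 4) (Fin 4) F)) *
          (1 + (z : Matrix (Fin 4) (Fin 4) F) * (b : Matrix (Fin 4) (Fin 4) F))) := by
    rw [Units.val_mul, Units.val_mul, h11_sc_val, hPa, hPb, Matrix.smul_mul, Matrix.one_mul,
      Matrix.smul_mul]
  refine ⟨h11_sc c hc0 * Pa * Pb, ?_, ?_, hval⟩
  · exact Subgroup.mul_mem _ (Subgroup.mul_mem _ (h11_sc_mem_normalizer c hc0 R) hPaN) hPbN
  · apply Units.ext
    rw [Units.val_pow_eq_pow_val, hval]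
    have hQ := h11_r_qsq _ _ _ hZZ (hcen (a : Matrix (Fin 4) (Fin 4) F))
      (hcen (b : Matrix (Fin 4) (Fin 4) F)) haa hbb hba
    generalize ((1 + (z : Matrix (Fin 4) (Fin 4) F) * (a : Matrix (Fin 4) (Fin 4) F)) *
          (1 + (z : Matrix (Fin 4) (Fin 4) F) * (b : Matrix (Fin 4) (Fin 4) F))) = Q at hQ ⊢
    have e1 : c * c + c * c = -c := by linear_combination c * hc
    have e2 : c * c + c * c + c * c + c * c = 1 := by linear_combination (2 * c - 1) * hc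
    have e1' : (c * c + c * c) • Q = -(c • Q) := by rw [e1, neg_smul]
    have e2' : (c * c + c * c + c * c + c * c) • (1 : Matrix (Fin 4) (Fin 4) F) = 1 := by
      rw [e2, one_smul]
    have hH2 : (c • Q) * (c • Q) = -(c • Q) - 1 := by
      rw [smul_mul_smul_comm, hQ]
      calc (c * c) • (Q + Q - (1 + 1 + 1 + 1))
          = (c * c + c * c) • Q - (c * c + c * c + c * c + c * c) • (1 : Matrix (Fin 4) (Fin 4) F) := by
            simp only [smul_sub, smul_add, add_smul]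
        _ = -(c • Q) - 1 := by rw [e2', e1']
    generalize c • Q = Hm at hH2 ⊢
    rw [Units.val_one, pow_succ, pow_two, hH2]
    calc (-Hm - 1) * Hm = -(Hm * Hm) - Hm := by noncomm_ring
      _ = -(-Hm - 1) - Hm := by rw [hH2]
      _ = 1 := by abel

/-- EX3 (racer copy): elements of order 3 of `N(R)` with traces `1` and `-2`. -/
theorem h11_s60_exists_three {F : Type*} [Field F] [Fintype F] (h2 : (2 : F) ≠ 0) (R : Subgroup (GL (Fin 4) F)) (w : F) (hG : Good R w) :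
    ∃ hA hB : GL (Fin 4) F, hA ∈ subgroupNormalizer R ∧ hB ∈ subgroupNormalizer R ∧ hA ^ 3 = 1 ∧ hB ^ 3 = 1 ∧
      Matrix.trace (hA : Matrix (Fin 4) (Fin 4) F) = 1 ∧ Matrix.trace (hB : Matrix (Fin 4) (Fin 4) F) = -2 := by
  obtain ⟨t, ht, ht2, hta, _⟩ := hG.frame
  obtain ⟨z, hz, hzv⟩ := hG.wmem
  have hcen : ∀ X : Matrix (Fin 4) (Fin 4) F,
      X * (z : Matrix (Fin 4) (Fin 4) F) = (z : Matrix (Fin 4) (Fin 4) F) * X := by
    intro X
    rw [hzv, Matrix.mul_smul, Matrix.smul_mul, Matrix.mul_one, Matrix.one_mul]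
  have hZZ : (z : Matrix (Fin 4) (Fin 4) F) * (z : Matrix (Fin 4) (Fin 4) F) = -1 := by
    rw [hzv, Matrix.smul_mul, Matrix.one_mul, smul_smul, hG.wsq, neg_smul, one_smul]
  have hba := hta 1 0 (by decide)
  -- first pair
  obtain ⟨h1, h1N, h13, h1v⟩ := h11_pkg h2 R w hG z (t 0) (t 1) hz hzv (ht 0) (ht 1) (ht2 0) (ht2 1) hba
  -- second pair
  obtain ⟨hcc, hdd, hdc, hca, hcb, hda, hdb⟩ := h11_r_prim (z : Matrix (Fin 4) (Fin 4) F)
    (t 0 : Matrix (Fin 4) (Fin 4) F) (t 1 : Matrix (Fin 4) (Fin 4) F)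
    (t 2 : Matrix (Fin 4) (Fin 4) F) (t 3 : Matrix (Fin 4) (Fin 4) F) hZZ (hcen _) (hcen _) (hcen _)
    (hcen _) (ht2 0) (ht2 1) (ht2 2) (ht2 3) hba (hta 2 0 (by decide)) (hta 3 0 (by decide))
    (hta 2 1 (by decide)) (hta 3 1 (by decide)) (hta 3 2 (by decide))
  have hcm : ((z * t 0 * t 1 * t 2 : GL (Fin 4) F) : Matrix (Fin 4) (Fin 4) F) =
      (z : Matrix (Fin 4) (Fin 4) F) * (t 0 : Matrix (Fin 4) (Fin 4) F) *
        (t 1 : Matrix (Fin 4) (Fin 4) F) * (t 2 : Matrix (Fin 4) (Fin 4) F) := by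
    simp only [Units.val_mul]
  have hdm : ((z * t 0 * t 1 * t 3 : GL (Fin 4) F) : Matrix (Fin 4) (Fin 4) F) =
      (z : Matrix (Fin 4) (Fin 4) F) * (t 0 : Matrix (Fin 4) (Fin 4) F) *
        (t 1 : Matrix (Fin 4) (Fin 4) F) * (t 3 : Matrix (Fin 4) (Fin 4) F) := by
    simp only [Units.val_mul]
  rw [← hcm] at hcc hca hcb hdc
  rw [← hdm] at hdd hda hdb hdc
  have hcR : z * t 0 * t 1 * t 2 ∈ R := R.mul_mem (R.mul_mem (R.mul_mem hz (ht 0)) (ht 1)) (ht 2)
  have hdR : z * t 0 * t 1 * t 3 ∈ R := R.mul_mem (R.mul_mem (R.mul_mem hz (ht 0)) (ht 1)) (ht 3)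
  obtain ⟨h2', h2N, h23, h2v⟩ := h11_pkg h2 R w hG z (z * t 0 * t 1 * t 2) (z * t 0 * t 1 * t 3)
    hz hzv hcR hdR hcc hdd hdc
  generalize (z * t 0 * t 1 * t 2 : GL (Fin 4) F) = c' at hcc hca hcb hdc h2v
  generalize (z * t 0 * t 1 * t 3 : GL (Fin 4) F) = d' at hdd hda hdb hdc h2v
  -- Q2 commutes with `t 0`, `t 1`
  have hQA := h11_r_qa (z : Matrix (Fin 4) (Fin 4) F) (t 0 : Matrix (Fin 4) (Fin 4) F)
    (c' : Matrix (Fin 4) (Fin 4) F) (d' : Matrix (Fin 4) (Fin 4) F) (hcen _) (hcen _) (hcen _) hca hda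
  have hQB := h11_r_qa (z : Matrix (Fin 4) (Fin 4) F) (t 1 : Matrix (Fin 4) (Fin 4) F)
    (c' : Matrix (Fin 4) (Fin 4) F) (d' : Matrix (Fin 4) (Fin 4) F) (hcen _) (hcen _) (hcen _) hcb hdb
  have hQQ := h11_r_qa (z : Matrix (Fin 4) (Fin 4) F)
    ((1 + (z : Matrix (Fin 4) (Fin 4) F) * (c' : Matrix (Fin 4) (Fin 4) F)) *
      (1 + (z : Matrix (Fin 4) (Fin 4) F) * (d' : Matrix (Fin 4) (Fin 4) F)))
    (t 0 : Matrix (Fin 4) (Fin 4) F) (t 1 : Matrix (Fin 4) (Fin 4) F) (hcen _) (hcen _) (hcen _)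
    hQA.symm hQB.symm
  have htr2 : Matrix.trace ((1 + (z : Matrix (Fin 4) (Fin 4) F) * (c' : Matrix (Fin 4) (Fin 4) F)) *
      (1 + (z : Matrix (Fin 4) (Fin 4) F) * (d' : Matrix (Fin 4) (Fin 4) F))) = 4 := by
    have := h11_trQ h2 (z : Matrix (Fin 4) (Fin 4) F) (c' : Matrix (Fin 4) (Fin 4) F)
      (d' : Matrix (Fin 4) (Fin 4) F) 1 (hcen _) (hcen _) hcc hdd hdc (by rw [one_mul, mul_one])
      (by rw [one_mul, mul_one])
    rw [mul_one] at this
    rw [this, Matrix.trace_one]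
    simp
  have htr1 : Matrix.trace ((1 + (z : Matrix (Fin 4) (Fin 4) F) * (t 0 : Matrix (Fin 4) (Fin 4) F)) *
      (1 + (z : Matrix (Fin 4) (Fin 4) F) * (t 1 : Matrix (Fin 4) (Fin 4) F))) = 4 := by
    have := h11_trQ h2 (z : Matrix (Fin 4) (Fin 4) F) (t 0 : Matrix (Fin 4) (Fin 4) F)
      (t 1 : Matrix (Fin 4) (Fin 4) F) 1 (hcen _) (hcen _) (ht2 0) (ht2 1) hba
      (by rw [one_mul, mul_one]) (by rw [one_mul, mul_one])
    rw [mul_one] at this
    rw [this, Matrix.trace_one]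
    simp
  have htr12 : Matrix.trace (((1 + (z : Matrix (Fin 4) (Fin 4) F) * (t 0 : Matrix (Fin 4) (Fin 4) F)) *
      (1 + (z : Matrix (Fin 4) (Fin 4) F) * (t 1 : Matrix (Fin 4) (Fin 4) F))) *
      ((1 + (z : Matrix (Fin 4) (Fin 4) F) * (c' : Matrix (Fin 4) (Fin 4) F)) *
      (1 + (z : Matrix (Fin 4) (Fin 4) F) * (d' : Matrix (Fin 4) (Fin 4) F)))) = 4 := by
    rw [h11_trQ h2 (z : Matrix (Fin 4) (Fin 4) F) (t 0 : Matrix (Fin 4) (Fin 4) F)
      (t 1 : Matrix (Fin 4) (Fin 4) F) _ (hcen _) (hcen _) (ht2 0) (ht2 1) hba hQA hQB, htr2]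
  refine ⟨h1 * h2', h1, Subgroup.mul_mem _ h1N h2N, h1N, ?_, h13, ?_, ?_⟩
  · have hcomm : Commute h1 h2' := by
      show h1 * h2' = h2' * h1
      apply Units.ext
      rw [Units.val_mul, Units.val_mul, h1v, h2v, smul_mul_smul_comm, smul_mul_smul_comm, hQQ]
    rw [hcomm.mul_pow, h13, h23, one_mul]
  · rw [Units.val_mul, h1v, h2v, smul_mul_smul_comm, Matrix.trace_smul, htr12, smul_eq_mul]
    field_simp
    norm_num
  · rw [h1v, Matrix.trace_smul, htr1, smul_eq_mul]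
    field_simp
    norm_num

end Cfsg.Agent.Lib.helper89.S60
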