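import Mathlib
import Cfsg.Agent.Lib.helper89.S60Defs
import Cfsg.Agent.Lib.helper11.S60S3core
import Cfsg.Agent.Lib.helper11.S60EX3
import Cfsg.Agent.Lib.helper53.S60CONJ3

/-! S6000 piece S3: `s60_suff_three` (canonical name, statement verbatim from the Skel). -/

set_option autoImplicit false

namespace Cfsg.Agent.Lib.helper89.S60

open Matrix Cfsg Cfsg.Geo

/-- S3 (L; uses CONJ3 EX3). q = 2 mod 3: cubing is a bijection of F, no primitive cube root of unity (c² + c + 1 = 0 gives c³ = 1,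
c ≠ 1), 3 ≠ 0. x³ = z•1: c with c³ = z, x' := c⁻¹ • x has x'³ = 1, x' ≠ 1, (det x')³ = 1 so det x' = 1. CONJ3: x' ~ MA or MB
(SL_4); hA ~ MA (trace 1 ≠ -2 = tr MB), hB ~ MB; so x' is SL_4-conjugate to hA or hB ∈ N, and x = c • x' too (scalars normalize R). -/
theorem s60_suff_three {F : Type*} [Field F] [Fintype F] (h2 : (2 : F) ≠ 0) (R : Subgroup (GL (Fin 4) F)) (w : F) (hG : Good R w)
    (hq : Fintype.card F % 3 = 2) (x : GL (Fin 4) F) (hx : x ∈ specialLinear (Fin 4) F) (z : F)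
    (hz : (x : Matrix (Fin 4) (Fin 4) F) ^ 3 = z • (1 : Matrix (Fin 4) (Fin 4) F)) (hns : ∀ z : F, (x : Matrix (Fin 4) (Fin 4) F) ≠ z • (1 : Matrix (Fin 4) (Fin 4) F)) :
    ∃ g ∈ specialLinear (Fin 4) F, g⁻¹ * x * g ∈ subgroupNormalizer R :=
  h11_s60_suff_three_core h2 R
    (fun y hy hy1 => s60_three_class h2 (h11_three_ne h2 hq) (h11_no_omega h2 hq) y hy hy1)
    (h11_s60_exists_three h2 R w hG) hq x z hz hns

end Cfsg.Agent.Lib.helper89.S60
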