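import Mathlib
import Cfsg.Agent.Lib.helper24.S6eDefs

/-!
S6002 split, piece BTV (helper11, racer copy; every declaration is prefixed `h11_`):
a transvection-like element `1 + u wᵀ` of odd order normalizing `R` centralizes `R`.
-/

set_option autoImplicit false

namespace Cfsg.Agent.Lib.helper24

open Matrix Cfsg Cfsg.Geo

theorem h11_s6_rk {F : Type*} [Field F] (u w : S6I → F) (Y S S' : Matrix S6I S6I F)
    (hY : Y = 1 + Matrix.vecMulVec u w) (h : Y * S = S' * Y) : ¬ IsUnit (S - S').det := by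
  classical
  intro hU
  have hU' : IsUnit (S - S') := (Matrix.isUnit_iff_isUnit_det _).2 hU
  have hrank := Matrix.rank_of_isUnit _ hU'
  have hcard : Fintype.card S6I = 4 := by simp [S6I]
  have hdiff : S - S' = Matrix.vecMulVec (S' *ᵥ u) w - Matrix.vecMulVec u (w ᵥ* S) := by
    rw [hY] at h
    rw [Matrix.add_mul, Matrix.mul_add, Matrix.one_mul, Matrix.mul_one, Matrix.mul_vecMulVec,
      Matrix.vecMulVec_mul] at h
    rw [sub_eq_sub_iff_add_eq_add, h, add_comm]
  obtain ⟨P, hP⟩ : ∃ P : Matrix S6I (Fin 2) F,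
      P = Matrix.of fun i (k : Fin 2) => if k = 0 then (S' *ᵥ u) i else -(u i) := ⟨_, rfl⟩
  obtain ⟨Q, hQ⟩ : ∃ Q : Matrix (Fin 2) S6I F,
      Q = Matrix.of fun (k : Fin 2) j => if k = 0 then w j else (w ᵥ* S) j := ⟨_, rfl⟩
  have hPQ : S - S' = P * Q := by
    rw [hdiff, hP, hQ]
    ext i j
    simp [Matrix.mul_apply, Fin.sum_univ_two, Matrix.vecMulVec_apply]
    ring
  have hle : (P * Q).rank ≤ 2 :=
    (Matrix.rank_mul_le_left P Q).trans ((Matrix.rank_le_card_width P).trans (by simp))
  rw [hPQ] at hrank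
  omega

/-- BTV (L), racer copy. -/
theorem h11_s6_transv_central {F : Type*} [Field F] [Fintype F] (h2 : (2 : F) ≠ 0)
    (R : Subgroup (GL S6I F)) (hG : S6Good R)
    (y : GL S6I F) (hy : y ∈ subgroupNormalizer R) (k : ℕ) (hk : Odd k) (hyk : y ^ k = 1)
    (u w : S6I → F) (hyu : (y : Matrix S6I S6I F) = 1 + Matrix.vecMulVec u w) :
    ∀ s ∈ R, y * s = s * y := by
  classical
  obtain ⟨z, hzR, hz⟩ := hG.neg
  have hzc : ∀ g : GL S6I F, z * g = g * z := by
    intro g
    apply Units.ext
    rw [Units.val_mul, Units.val_mul, hz]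
    simp
  have hzz : z * z = 1 := by
    apply Units.ext
    rw [Units.val_mul, hz]
    simp
  have hz1 : z ≠ 1 := by
    intro h
    have h3 : (z : Matrix S6I S6I F) = 1 := by rw [h]; rfl
    rw [hz] at h3
    have h4 := congrFun (congrFun h3 (Sum.inl 0)) (Sum.inl 0)
    simp at h4
    apply h2
    linear_combination -h4
  have teq : ∀ g h : GL S6I F, (g : Matrix S6I S6I F) = (h : Matrix S6I S6I F) → g = h :=
    fun g h hgh => Units.ext hgh
  have t1 : ∀ g : GL S6I F, (g : Matrix S6I S6I F) = 1 → g = 1 := fun g hg => Units.ext hg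
  have tneg : ∀ g h : GL S6I F, (g : Matrix S6I S6I F) = -(h : Matrix S6I S6I F) → g = z * h := by
    intro g h hgh
    apply Units.ext
    rw [Units.val_mul, hz, hgh]
    simp
  have zl : ∀ a b : GL S6I F, a * (z * b) = z * (a * b) := fun a b => by
    rw [← mul_assoc, ← hzc a, mul_assoc]
  have zr : ∀ a b : GL S6I F, (z * a) * b = z * (a * b) := fun a b => mul_assoc z a b
  have zz' : ∀ a : GL S6I F, z * (z * a) = a := fun a => by rw [← mul_assoc, hzz, one_mul]
  have commG : ∀ s ∈ R, ∀ t ∈ R, s * t = t * s ∨ s * t = z * (t * s) := by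
    intro s hs t ht
    rcases hG.comm s hs t ht with h | h
    · left
      exact teq _ _ (by rw [Units.val_mul, Units.val_mul]; exact h)
    · right
      exact tneg _ _ (by rw [Units.val_mul, Units.val_mul]; exact h)
  have antiG : ∀ s ∈ R, ∀ t ∈ R, s * s = 1 → t * t = 1 → s ≠ 1 → s ≠ z → t ≠ 1 → t ≠ z →
      s * t = t * s → t = s ∨ t = z * s := by
    intro s hs t ht hss htt hs1 hsz ht1 htz hst
    have m1 : ∀ g : GL S6I F, g * g = 1 →
        (g : Matrix S6I S6I F) * (g : Matrix S6I S6I F) = 1 := by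
      intro g hg
      rw [← Units.val_mul, hg]
      rfl
    have n1 : ∀ g : GL S6I F, g ≠ 1 → (g : Matrix S6I S6I F) ≠ 1 := fun g hg h => hg (t1 g h)
    have nz : ∀ g : GL S6I F, g ≠ z → (g : Matrix S6I S6I F) ≠ -1 :=
      fun g hg h => hg (teq g z (by rw [h, hz]))
    rcases hG.anti s hs t ht (m1 s hss) (m1 t htt) (n1 s hs1) (nz s hsz) (n1 t ht1) (nz t htz)
      (by rw [← Units.val_mul, ← Units.val_mul, hst]) with h | h
    · left
      exact teq _ _ h
    · right
      exact tneg _ _ h
  have hnorm : ∀ s ∈ R, y * s * y⁻¹ ∈ R := fun s hs => (Subgroup.mem_normalizer_iff.1 hy s).1 hs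
  obtain ⟨c, hcdef⟩ : ∃ c : GL S6I F → GL S6I F, c = fun s => y * s * y⁻¹ * s⁻¹ := ⟨_, rfl⟩
  have hc : ∀ s, c s = y * s * y⁻¹ * s⁻¹ := fun s => by rw [hcdef]
  have hcR : ∀ s ∈ R, c s ∈ R := fun s hs => by
    rw [hc]
    exact R.mul_mem (hnorm s hs) (R.inv_mem hs)
  have h2' : IsUnit ((2 : F) • (1 : Matrix S6I S6I F)).det := by
    rw [Matrix.det_smul, Matrix.det_one, mul_one]
    exact (pow_ne_zero _ h2).isUnit
  have hA : ∀ s ∈ R, c s = 1 ∨ (c s * c s = 1 ∧ c s ≠ 1 ∧ c s ≠ z) := by
    intro s hs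
    have hcR' : c s ∈ R := hcR s hs
    have hrel : (y : Matrix S6I S6I F) * (s : Matrix S6I S6I F) =
        ((c s : Matrix S6I S6I F) * (s : Matrix S6I S6I F)) * (y : Matrix S6I S6I F) := by
      rw [← Units.val_mul, ← Units.val_mul, ← Units.val_mul]
      congr 1
      rw [hc]
      group
    have hnu := h11_s6_rk u w _ _ _ hyu hrel
    have hfac : (s : Matrix S6I S6I F) - (c s : Matrix S6I S6I F) * (s : Matrix S6I S6I F) =
        (1 - (c s : Matrix S6I S6I F)) * (s : Matrix S6I S6I F) := by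
      rw [Matrix.sub_mul, Matrix.one_mul]
    rw [hfac, Matrix.det_mul] at hnu
    have hsdet : IsUnit (s : Matrix S6I S6I F).det :=
      (Matrix.isUnit_iff_isUnit_det _).1 s.isUnit
    have hnu' : ¬ IsUnit (1 - (c s : Matrix S6I S6I F)).det := fun h => hnu (h.mul hsdet)
    rcases hG.sq (c s) hcR' with hsq | hsq
    · by_cases hc1 : c s = 1
      · left
        exact hc1
      · right
        refine ⟨t1 _ (by rw [Units.val_mul]; exact hsq), hc1, ?_⟩
        intro hcz
        apply hnu'
        have h6 : (1 : Matrix S6I S6I F) - -1 = (2 : F) • (1 : Matrix S6I S6I F) := by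
          rw [sub_neg_eq_add, two_smul]
        rw [hcz, hz, h6]
        exact h2'
    · exfalso
      apply hnu'
      have hprod : (1 - (c s : Matrix S6I S6I F)) * (1 + (c s : Matrix S6I S6I F)) =
          (2 : F) • (1 : Matrix S6I S6I F) := by
        have h7 : (1 - (c s : Matrix S6I S6I F)) * (1 + (c s : Matrix S6I S6I F)) =
            1 - (c s : Matrix S6I S6I F) * (c s : Matrix S6I S6I F) := by noncomm_ring
        rw [h7, hsq, sub_neg_eq_add, two_smul]
      have hdet := congrArg Matrix.det hprod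
      rw [Matrix.det_mul] at hdet
      have h8 := h2'
      rw [← hdet] at h8
      exact isUnit_of_mul_isUnit_left h8
  have hB : ∀ s ∈ R, ∀ t ∈ R, c s ≠ 1 → c t ≠ 1 → c t = c s ∨ c t = z * c s := by
    intro s hs t ht hs1 ht1
    have As := (hA s hs).resolve_left hs1
    have At := (hA t ht).resolve_left ht1
    by_contra hcon
    push Not at hcon
    have hnc : ¬ (c s * c t = c t * c s) := fun hcm => by
      rcases antiG (c s) (hcR s hs) (c t) (hcR t ht) As.1 At.1 As.2.1 As.2.2 At.2.1 At.2.2 hcm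
        with h | h
      · exact hcon.1 h
      · exact hcon.2 h
    have hac : c s * c t = z * (c t * c s) :=
      (commG _ (hcR s hs) _ (hcR t ht)).resolve_left hnc
    have hmul : c (s * t) = c s * (s * c t * s⁻¹) := by
      rw [hc, hc, hc]
      group
    have hconj : s * c t * s⁻¹ = c t ∨ s * c t * s⁻¹ = z * c t := by
      rcases commG s hs (c t) (hcR t ht) with h | h
      · left
        rw [h, mul_assoc, mul_inv_cancel, mul_one]
      · right
        rw [h, mul_assoc, mul_assoc, mul_inv_cancel, mul_one]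
    have h' : c t * c s = z * (c s * c t) := by rw [hac, zz']
    have hsq1 : (c s * c t) * (c s * c t) = z := by
      calc (c s * c t) * (c s * c t) = c s * ((c t * c s) * c t) := by simp only [mul_assoc]
        _ = c s * ((z * (c s * c t)) * c t) := by rw [h']
        _ = z * ((c s * c s) * (c t * c t)) := by simp only [zl, zr, mul_assoc]
        _ = z := by rw [As.1, At.1, mul_one, mul_one]
    have hsq2 : c (s * t) * c (s * t) = z := by
      rcases hconj with h | h
      · rw [hmul, h]
        exact hsq1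
      · rw [hmul, h]
        have h9 : (c s * (z * c t)) * (c s * (z * c t)) = (c s * c t) * (c s * c t) := by
          simp only [zl, zr, mul_assoc, zz']
        rw [h9]
        exact hsq1
    rcases hA (s * t) (R.mul_mem hs ht) with h | h
    · rw [h, one_mul] at hsq2
      exact hz1 hsq2.symm
    · rw [h.1] at hsq2
      exact hz1 hsq2.symm
  by_cases hall : ∀ s ∈ R, c s = 1
  · intro s hs
    have h0 := hall s hs
    rw [hc] at h0
    have h5 : y * s = (y * s * y⁻¹ * s⁻¹) * (s * y) := by group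
    rw [h5, h0, one_mul]
  · push Not at hall
    obtain ⟨s₀, hs₀, hs₀1⟩ := hall
    obtain ⟨c₀, hc₀⟩ : ∃ c₀ : GL S6I F, c₀ = c s₀ := ⟨_, rfl⟩
    have A0 := (hA s₀ hs₀).resolve_left hs₀1
    rw [← hc₀] at A0 hs₀1
    have hc₀R : c₀ ∈ R := hc₀ ▸ hcR s₀ hs₀
    have hC : c c₀ = 1 := by
      by_contra hne
      have hB0 := hB s₀ hs₀ c₀ hc₀R (hc₀ ▸ hs₀1) hne
      rw [← hc₀] at hB0
      rcases hB0 with h | h
      · rw [hc] at h
        have e1 : y * c₀ * y⁻¹ = c₀ * c₀ := by
          calc y * c₀ * y⁻¹ = (y * c₀ * y⁻¹ * c₀⁻¹) * c₀ := by group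
            _ = c₀ * c₀ := by rw [h]
        rw [A0.1] at e1
        have e2 : c₀ = y⁻¹ * (y * c₀ * y⁻¹) * y := by group
        rw [e1, mul_one, inv_mul_cancel] at e2
        exact A0.2.1 e2
      · rw [hc] at h
        have e1 : y * c₀ * y⁻¹ = z * (c₀ * c₀) := by
          calc y * c₀ * y⁻¹ = (y * c₀ * y⁻¹ * c₀⁻¹) * c₀ := by group
            _ = z * (c₀ * c₀) := by rw [h, mul_assoc]
        rw [A0.1, mul_one] at e1
        have e2 : c₀ = y⁻¹ * (y * c₀ * y⁻¹) * y := by group
        rw [e1, mul_assoc, hzc y, ← mul_assoc, inv_mul_cancel, one_mul] at e2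
        exact A0.2.2 e2
    have hyc₀ : y * c₀ = c₀ * y := by
      rw [hc] at hC
      calc y * c₀ = (y * c₀ * y⁻¹ * c₀⁻¹) * (c₀ * y) := by group
        _ = c₀ * y := by rw [hC, one_mul]
    have hD : ∀ s ∈ R, (c s * c s = 1 ∧ y * c s = c s * y) := by
      intro s hs
      by_cases h1 : c s = 1
      · rw [h1]
        simp
      · have As := (hA s hs).resolve_left h1
        have hB1 := hB s₀ hs₀ s hs (hc₀ ▸ hs₀1) h1
        rw [← hc₀] at hB1
        rcases hB1 with h | h
        · rw [h]
          exact ⟨A0.1, hyc₀⟩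
        · refine ⟨As.1, ?_⟩
          rw [h, zl, hyc₀, zr]
    have hyy : ∀ s ∈ R, (y * y) * s = s * (y * y) := by
      intro s hs
      obtain ⟨hcc, hyc⟩ := hD s hs
      have e1 : y * s = c s * (s * y) := by
        rw [hc]
        group
      calc (y * y) * s = y * (y * s) := by rw [mul_assoc]
        _ = y * (c s * (s * y)) := by rw [e1]
        _ = (y * c s) * (s * y) := by rw [mul_assoc]
        _ = (c s * y) * (s * y) := by rw [hyc]
        _ = c s * ((y * s) * y) := by simp only [mul_assoc]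
        _ = c s * ((c s * (s * y)) * y) := by rw [e1]
        _ = (c s * c s) * (s * (y * y)) := by simp only [mul_assoc]
        _ = s * (y * y) := by rw [hcc, one_mul]
    intro s hs
    obtain ⟨j, rfl⟩ := hk
    have hy2 : y = (y * y) ^ (j + 1) := by
      have e3 : (y * y) ^ (j + 1) = y ^ (2 * j + 1) * y := by
        rw [← pow_two, ← pow_mul, ← pow_succ]
        congr 1
      rw [e3, hyk, one_mul]
    have hcomm : Commute (y * y) s := hyy s hs
    have e4 := (hcomm.pow_left (j + 1)).eq
    rw [← hy2] at e4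
    exact e4

end Cfsg.Agent.Lib.helper24
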