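import Cfsg.Agent.Lib.helper11.S6eNCHARcore
import Cfsg.Agent.Lib.helper11.S6eBTV
import Cfsg.Agent.Lib.helper85.S6eBTE

/-!
S6002 split, piece NCHAR (helper11), canonical statement.
-/

set_option autoImplicit false

namespace Cfsg.Agent.Lib.helper24

open Matrix Cfsg Cfsg.Geo

/-- NCHAR (M; uses BTE BTV). -/
theorem s6_nec_char {F : Type*} [Field F] [Fintype F] (h2 : (2 : F) ≠ 0) (R : Subgroup (GL S6I F)) (hG : S6Good R)
    (p : ℕ) [Fact p.Prime] [CharP F p] (hp2 : p ≠ 2) : S6Derang R p :=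
  h11_s6_nec_char_core h2 R hG p hp2 (s6_transv_exists p)
    (fun y hy k hk hyk u w hyu => h11_s6_transv_central h2 R hG y hy k hk hyk u w hyu)

end Cfsg.Agent.Lib.helper24
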