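import Mathlib
import Cfsg.Agent.Lib.helper24.S6eDefs

/-!
S6002 split, piece NCHAR (helper11), core: the statements of BTE and BTV are hypotheses.
-/

set_option autoImplicit false

namespace Cfsg.Agent.Lib.helper24

open Matrix Cfsg Cfsg.Geo

theorem h11_s6_nec_char_core {F : Type*} [Field F] [Fintype F] (h2 : (2 : F) ≠ 0)
    (R : Subgroup (GL S6I F)) (hG : S6Good R)
    (p : ℕ) [Fact p.Prime] [CharP F p] (hp2 : p ≠ 2)
    (hBTE : ∃ x : GL S6I F, x ∈ spGL 2 F ∧ x ^ p = 1 ∧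
      (∃ u w : S6I → F, (x : Matrix S6I S6I F) = 1 + Matrix.vecMulVec u w) ∧
      ∀ z : F, (x : Matrix S6I S6I F) ≠ z • (1 : Matrix S6I S6I F))
    (hBTV : ∀ (y : GL S6I F), y ∈ subgroupNormalizer R → ∀ (k : ℕ), Odd k → y ^ k = 1 →
      ∀ (u w : S6I → F), (y : Matrix S6I S6I F) = 1 + Matrix.vecMulVec u w →
        ∀ s ∈ R, y * s = s * y) :
    S6Derang R p := by
  obtain ⟨x, hx, hxp, ⟨u, w, hxu⟩, hns⟩ := hBTE
  refine ⟨x, hx, hxp, hns, ?_⟩
  intro g hmem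
  have hodd : Odd p := (Fact.out : p.Prime).odd_of_ne_two hp2
  have hyp : (g⁻¹ * x * g) ^ p = 1 := by
    have h0 : (g⁻¹ * x * g) ^ p = g⁻¹ * x ^ p * g := by
      have h1 := conj_pow (a := g⁻¹) (b := x) (i := p)
      rw [inv_inv] at h1
      exact h1
    rw [h0, hxp, mul_one, inv_mul_cancel]
  have hgg : ((g⁻¹ : GL S6I F) : Matrix S6I S6I F) * (g : Matrix S6I S6I F) = 1 := by
    rw [← Units.val_mul, inv_mul_cancel, Units.val_one]
  have hgg' : (g : Matrix S6I S6I F) * ((g⁻¹ : GL S6I F) : Matrix S6I S6I F) = 1 := by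
    rw [← Units.val_mul, mul_inv_cancel, Units.val_one]
  have hyu : ((g⁻¹ * x * g : GL S6I F) : Matrix S6I S6I F) =
      1 + Matrix.vecMulVec (((g⁻¹ : GL S6I F) : Matrix S6I S6I F) *ᵥ u)
        (w ᵥ* (g : Matrix S6I S6I F)) := by
    rw [Units.val_mul, Units.val_mul, hxu, Matrix.mul_add, Matrix.add_mul, Matrix.mul_one, hgg,
      Matrix.mul_vecMulVec, Matrix.vecMulVec_mul]
  have hcomm := hBTV (g⁻¹ * x * g) hmem p hodd hyp _ _ hyu
  obtain ⟨c, hc⟩ := hG.schur ((g⁻¹ * x * g : GL S6I F) : Matrix S6I S6I F) (fun s hs => by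
    have h3 := congrArg (fun z : GL S6I F => (z : Matrix S6I S6I F)) (hcomm s hs)
    simp only [Units.val_mul] at h3 ⊢
    exact h3)
  apply hns c
  have hx' : (x : Matrix S6I S6I F) = (g : Matrix S6I S6I F) *
      ((g⁻¹ * x * g : GL S6I F) : Matrix S6I S6I F) * ((g⁻¹ : GL S6I F) : Matrix S6I S6I F) := by
    rw [← Units.val_mul, ← Units.val_mul]
    congr 1
    group
  rw [hx', hc, Matrix.mul_smul, Matrix.mul_one, Matrix.smul_mul, hgg']

end Cfsg.Agent.Lib.helper24
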