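import Mathlib
import Cfsg.Agent.Lib.helper44.SL3Defs

/-!
helper11: S2287 piece MODP (`base_of_rels_prime`): the base configuration over a prime field,
`x a = u ^ (a : ZMod p).val`, `h = 1`, `ω = 1`.
-/

set_option autoImplicit false

namespace Cfsg.Agent.Lib.helper44.SL3

open Polynomial

/-- a product of powers of `u` along a list -/
theorem h11_prod_map_pow {G : Type*} [Group G] (u : G) (g : ℕ → ℕ) (l : List ℕ) :
    (l.map fun n => u ^ g n).prod = u ^ (l.map g).sum := by
  induction l with
  | nil => simp
  | cons a l ih => simp [ih, pow_add]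

/-- the sum of the values of the coefficients, cast back -/
theorem h11_sum_val_cast {p : ℕ} [Fact p.Prime] (f : (ZMod p)[X]) (m : ℕ) :
    ((((List.range m).map fun n => (f.coeff n).val).sum : ℕ) : ZMod p)
      = ∑ i ∈ Finset.range m, f.coeff i := by
  induction m with
  | zero => simp
  | succ m ih =>
    rw [List.range_succ, List.map_append, List.sum_append, Nat.cast_add, ih,
      Finset.sum_range_succ]
    simp

-- MODP
theorem base_of_rels_prime {G : Type*} [Group G] {F : Type*} [Field F] [Fintype F] {p : ℕ}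
    [Fact p.Prime] [Algebra (ZMod p) F] (hcard : Fintype.card F = p) (u c : G)
    (hup : u ^ p = 1) (c3 : c * c * c = 1) :
    ∃ x : F → G, x 1 = u ∧ IsBase x 1 c 1 ∧ Algebra.adjoin (ZMod p) {((1 : F)) ^ 3} = ⊤ ∧
      ∀ f : (ZMod p)[X], x (aeval (1 : F) f) = Pres.polyWord (1 : G) u f := by
  classical
  have hinj : Function.Injective (algebraMap (ZMod p) F) := (algebraMap (ZMod p) F).injective
  have hbij : Function.Bijective (algebraMap (ZMod p) F) := by
    rw [Fintype.bijective_iff_injective_and_card]
    exact ⟨hinj, by rw [ZMod.card, hcard]⟩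
  let E : ZMod p ≃+* F := RingEquiv.ofBijective (algebraMap (ZMod p) F) hbij
  have hE : ∀ r : ZMod p, E r = algebraMap (ZMod p) F r := fun r => rfl
  have hmod : ∀ m : ℕ, u ^ (m % p) = u ^ m := fun m => (pow_eq_pow_mod m hup).symm
  refine ⟨fun a => u ^ (E.symm a).val, ?_, ?_, ?_, ?_⟩
  · show u ^ (E.symm 1).val = u
    rw [map_one, ZMod.val_one, pow_one]
  · refine ⟨?_, c3, ?_, ?_, ?_, ?_, one_ne_zero⟩
    · intro a b
      show u ^ (E.symm (a + b)).val = u ^ (E.symm a).val * u ^ (E.symm b).val
      rw [map_add, ZMod.val_add, hmod, pow_add]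
    · intro a
      simp
    · intro a
      simp
    · simp [Commute, SemiconjBy]
    · simp
  · rw [eq_top_iff]
    intro a _
    obtain ⟨r, rfl⟩ := hbij.2 a
    exact Subalgebra.algebraMap_mem _ r
  · intro f
    show u ^ (E.symm (aeval (1 : F) f)).val = Pres.polyWord (1 : G) u f
    have h1 : aeval (1 : F) f = E (f.eval 1) := by
      rw [hE, ← Polynomial.aeval_algebraMap_apply_eq_algebraMap_eval, map_one]
    rw [h1, RingEquiv.symm_apply_apply]
    unfold Pres.polyWord
    simp only [one_pow, one_mul, inv_one, mul_one]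
    rw [h11_prod_map_pow u (fun n => (f.coeff n).val)]
    have h2 : f.eval 1 = ((((List.range (f.natDegree + 1)).map fun n => (f.coeff n).val).sum : ℕ) :
        ZMod p) := by
      rw [h11_sum_val_cast, Polynomial.eval_eq_sum_range]
      simp
    rw [h2, ZMod.val_natCast, hmod]

end Cfsg.Agent.Lib.helper44.SL3
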