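import Mathlib
import Cfsg.Agent.Lib.helper69.SNDefs
import Cfsg.Agent.Lib.helper32.SNG_CT_DATA
import Cfsg.Agent.Lib.helper30.SNG_CTA
import Cfsg.Agent.Lib.helper31.SNG_CTB
import Cfsg.Agent.Lib.helper26.SNG_DIH
import Cfsg.Agent.Lib.helper61.SNG_A4
import Cfsg.Agent.Lib.helper48.SNG_TRANSPORT
import Cfsg.Agent.Lib.helper90.SNG_DICKSON

/-!
helper11: S4073 piece CONV (`sn_of_psl2`): in `PSL₂(2ⁿ)`, `2ⁿ - 1` prime, every non-abelian
subgroup is self-normalizing.  Assembly of DICKSON, CT-DATA, CT-A, CT-B, DIH, A4, TRANSPORT.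
-/

set_option autoImplicit false

namespace Cfsg.Agent.Lib.helper11.SNG

open Cfsg.Agent.Lib.helper69.SNG

universe u v

/-- the bottom subgroup is commutative -/
theorem h11_bot_comm {G : Type u} [Group G] : IsMulCommutative (⊥ : Subgroup G) := by
  rw [comm_iff]
  intro a ha b hb
  rw [Subgroup.mem_bot] at ha hb
  rw [ha, hb]

/-- **[CONV]** (assembly: DICKSON, CT-DATA, CT-A, CT-B, DIH, A4, TRANSPORT) -/
theorem sn_of_psl2 {G : Type u} [Group G] [Finite G] [IsSimpleGroup G]
    (hna : ¬ IsMulCommutative G) {n : ℕ} (hn : 2 ≤ n) (hp : (2 ^ n - 1).Prime)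
    (e : G ≃* Matrix.ProjectiveSpecialLinearGroup (Fin 2) (GaloisField 2 n)) : SN G := by
  classical
  intro H hH
  by_contra hne
  have hHK : H ≤ Subgroup.normalizer (H : Set G) := Subgroup.le_normalizer
  have hKna : ¬ IsMulCommutative (Subgroup.normalizer (H : Set G)) := by
    intro hc
    apply hH
    rw [comm_iff] at hc ⊢
    intro a ha b hb
    exact hc a (hHK ha) b (hHK hb)
  obtain ⟨hCT, hcard⟩ := Cfsg.Agent.Lib.helper32.SNG.psl2_ct_card hn e
  have key : ∀ P : Sylow 2 G,
      (∀ K' : Subgroup G, K' ≤ Subgroup.normalizer ((P : Subgroup G) : Set G) →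
        ¬ IsMulCommutative K' → K' = Subgroup.normalizer ((P : Subgroup G) : Set G)) ∧
      (∀ x : G, x ^ 4 = 1 → x ^ 2 = 1) := by
    intro P
    obtain ⟨hN, hPc, hcent⟩ :=
      Cfsg.Agent.Lib.helper30.SNG.ct_sylow2_normalizer hna hCT hn hp hcard P
    have hP : Nat.card P = 2 ^ n := by
      have h1 : 2 ^ n - 1 ≠ 0 := hp.ne_zero
      have hdvd : 2 ∣ 2 ^ n := dvd_pow_self 2 (by omega)
      have hodd1 : ¬ 2 ∣ 2 ^ n - 1 := by omega
      have hodd2 : ¬ 2 ∣ 2 ^ n + 1 := by omega
      have hf : (2 ^ n * (2 ^ n - 1) * (2 ^ n + 1)).factorization 2 = n := by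
        rw [Nat.factorization_mul (Nat.mul_ne_zero (by positivity) h1) (by omega),
          Nat.factorization_mul (by positivity) h1]
        simp only [Finsupp.coe_add, Pi.add_apply]
        rw [Nat.factorization_eq_zero_of_not_dvd hodd1,
          Nat.factorization_eq_zero_of_not_dvd hodd2,
          Nat.Prime.factorization_pow Nat.prime_two]
        simp
      rw [Sylow.card_eq_multiplicity, hcard, hf]
    exact Cfsg.Agent.Lib.helper31.SNG.ct_sylow2_borel hn hp P hP hN hPc hcent
  obtain ⟨P0⟩ : Nonempty (Sylow 2 G) := inferInstance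
  rcases Cfsg.Agent.Lib.helper90.SNG.psl2_subgroup_types hn hp e (Subgroup.normalizer (H : Set G)) hKna with
    ⟨k, hk, ⟨φ⟩⟩ | ⟨P, K', hK'N, ⟨φ⟩⟩ | hφ | hφ | hφ | h6 | htop
  · -- dihedral
    exact hne (Cfsg.Agent.Lib.helper48.SNG.normal_sub_transport _ H hHK le_rfl hH φ
      (fun M hM hMc => by
        have := hM
        exact Cfsg.Agent.Lib.helper26.SNG.dihedral_odd_normal k hk M hMc)).symm
  · -- inside the normalizer of a Sylow 2-subgroup
    obtain ⟨hB, -⟩ := key P
    have hK'na : ¬ IsMulCommutative K' := fun hc => hKna (comm_of_mulEquiv φ.symm hc)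
    have hK'eq := hB K' hK'N hK'na
    refine hne (Cfsg.Agent.Lib.helper48.SNG.normal_sub_transport _ H hHK le_rfl hH φ ?_).symm
    intro M hM hMc
    have hMna : ¬ IsMulCommutative (M.map K'.subtype) := by
      intro hc
      apply hMc
      rw [comm_iff] at hc ⊢
      intro a ha b hb
      have := hc (a : G) (Subgroup.mem_map_of_mem K'.subtype ha) (b : G)
        (Subgroup.mem_map_of_mem K'.subtype hb)
      exact Subtype.ext this
    have hle : M.map K'.subtype ≤ Subgroup.normalizer ((P : Subgroup G) : Set G) := by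
      rintro _ ⟨y, -, rfl⟩
      exact hK'N y.2
    have hMeq := hB _ hle hMna
    rw [eq_top_iff]
    intro y _
    have hy : (y : G) ∈ M.map K'.subtype := by
      rw [hMeq, ← hK'eq]; exact y.2
    obtain ⟨z, hz, hzy⟩ := hy
    have hzy' : z = y := Subtype.ext hzy
    rw [← hzy']; exact hz
  · -- A4
    obtain ⟨φ⟩ := hφ
    exact hne (Cfsg.Agent.Lib.helper48.SNG.normal_sub_transport _ H hHK le_rfl hH φ
      (fun M hM hMc => by
        have := hM
        exact Cfsg.Agent.Lib.helper61.SNG.a4_normal M hMc)).symm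
  · -- S4 has an element of order 4
    obtain ⟨φ⟩ := hφ
    obtain ⟨-, h4⟩ := key P0
    have hc4 : (finRotate 4 : Equiv.Perm (Fin 4)) ^ 4 = 1 := by decide
    have hc2 : (finRotate 4 : Equiv.Perm (Fin 4)) ^ 2 ≠ 1 := by decide
    have hy4' : (φ.symm (finRotate 4)) ^ 4 = 1 := by rw [← map_pow, hc4, map_one]
    have hy4 : ((φ.symm (finRotate 4) : Subgroup.normalizer (H : Set G)) : G) ^ 4 = 1 := by
      have := congrArg Subtype.val hy4'
      simpa using this
    have hy2 := h4 _ hy4
    apply hc2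
    have hy2' : (φ.symm (finRotate 4)) ^ 2 = 1 := Subtype.ext (by simpa using hy2)
    have := congrArg φ hy2'
    simpa using this
  · -- A5 is simple
    obtain ⟨φ⟩ := hφ
    refine hne (Cfsg.Agent.Lib.helper48.SNG.normal_sub_transport _ H hHK le_rfl hH φ ?_).symm
    intro M hM hMc
    rcases IsSimpleGroup.eq_bot_or_eq_top_of_normal M hM with hb | ht
    · exfalso
      apply hMc
      rw [hb]
      exact h11_bot_comm
    · exact ht
  · -- order 6
    have hdvd : Nat.card H ∣ 6 := h6 ▸ Subgroup.card_dvd_of_le hHK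
    have hlt : Nat.card H ≠ 6 := by
      intro h
      exact hne (Subgroup.eq_of_le_of_card_ge hHK (by rw [h, h6])).symm
    have hpos : 0 < Nat.card H := Nat.card_pos
    have hle : Nat.card H ≤ 6 := Nat.le_of_dvd (by norm_num) hdvd
    have hcases : Nat.card H = 1 ∨ Nat.card H = 2 ∨ Nat.card H = 3 ∨ Nat.card H = 4 := by
      have h5 : Nat.card H ≠ 5 := by
        intro h; rw [h] at hdvd; norm_num at hdvd
      have h4 : Nat.card H ≠ 4 := by
        intro h; rw [h] at hdvd; norm_num at hdvd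
      omega
    apply hH
    rw [comm_iff]
    intro a ha b hb
    have := Cfsg.Agent.Lib.helper61.SNG.h61_comm_of_card_le_four (K := H) hcases ⟨a, ha⟩ ⟨b, hb⟩
    exact congrArg Subtype.val this
  · -- the normalizer is everything
    have hHn : H.Normal := Subgroup.normalizer_eq_top_iff.mp htop
    rcases IsSimpleGroup.eq_bot_or_eq_top_of_normal H hHn with hb | ht
    · apply hH
      rw [hb]
      exact h11_bot_comm
    · exact hne (by rw [htop, ht])

end Cfsg.Agent.Lib.helper11.SNG
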