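import Cfsg.Agent.Lib.helper11.SPEEISOcore
import Cfsg.Agent.Lib.helper46.SPEENORM

/-!
S2333 split, piece EISO (helper11, racer copy `h11_card_iso_le`, statement verbatim).
-/

set_option autoImplicit false

namespace Cfsg.Agent.Lib.helper49.SPE

/-- EISO (L): from ENORM (racer copy) -/
theorem h11_card_iso_le {F : Type*} [Field F] [Fintype F] (h2 : (2 : F) = 0) (a b c : F)
    (hb : b ≠ 0) (haniso : ∀ s t : F, bq a b c s t = 0 → s = 0 ∧ t = 0) :
    Nat.card {g : (F × F) × (F × F) // ∀ S T : F,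
        bq a b c (g.1.1 * S + g.1.2 * T) (g.2.1 * S + g.2.2 * T) = bq a b c S T} ≤
      2 * (Fintype.card F + 1) :=
  h11_card_iso_le_core h2 a b c hb haniso (card_norm_le h2 a b c haniso)

end Cfsg.Agent.Lib.helper49.SPE
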