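import Mathlib
import Cfsg.Agent.Lib.helper49.SPEDefs

/-!
S2333 split, piece EISO (helper11, racer copy, every declaration prefixed `h11_`): the isometry
group of an anisotropic binary quadratic form in characteristic two has at most `2 (q + 1)`
elements.  Core: the bound of ENORM is a hypothesis.
-/

set_option autoImplicit false

namespace Cfsg.Agent.Lib.helper49.SPE

theorem h11_iso_key {F : Type*} [Field F] (h2 : (2 : F) = 0) (a b c : F) (ha : a ≠ 0)
    (p s r t r' t' : F)
    (hps : bq a b c p s = a) (hrt : bq a b c r t = c) (h1 : p * t + r * s = 1)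
    (hrt' : bq a b c r' t' = c) (h1' : p * t' + r' * s = 1) :
    (r' = r ∧ t' = t) ∨ (r' = r + (-b / a) * p ∧ t' = t + (-b / a) * s) := by
  have hlin : p * (t' - t) = s * (r' - r) := by
    have h0 : p * (t' - t) + s * (r' - r) = 0 := by linear_combination h1' - h1
    linear_combination h0 - (s * (r' - r)) * h2
  have hk : ∃ κ : F, r' = r + κ * p ∧ t' = t + κ * s := by
    by_cases hp : p = 0
    · have hs : s ≠ 0 := by
        rintro rfl
        rw [hp] at h1
        simp at h1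
      refine ⟨(t' - t) / s, ?_, ?_⟩
      · have h3 : s * (r' - r) = 0 := by rw [← hlin, hp, zero_mul]
        have h4 : r' - r = 0 := by
          rcases mul_eq_zero.1 h3 with h | h
          · exact absurd h hs
          · exact h
        rw [hp, mul_zero, add_zero]
        exact sub_eq_zero.1 h4
      · field_simp
        ring
    · refine ⟨(r' - r) / p, ?_, ?_⟩
      · field_simp
        ring
      · have h5 : t' - t = (r' - r) / p * s := by
          field_simp
          linear_combination hlin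
        linear_combination h5
  obtain ⟨κ, hr', ht'⟩ := hk
  rw [hr', ht'] at hrt'
  unfold bq at hps hrt hrt'
  have hκ : κ * (κ * a + b) = 0 := by
    linear_combination hrt' - hrt - κ ^ 2 * hps - κ * b * h1 - κ * (a * r * p + c * t * s) * h2
  rcases mul_eq_zero.1 hκ with h | h
  · left
    rw [hr', ht', h]
    simp
  · right
    have hκ' : κ = -b / a := by
      field_simp
      linear_combination h
    rw [hr', ht', hκ']
    exact ⟨rfl, rfl⟩

theorem h11_card_iso_le_core {F : Type*} [Field F] [Fintype F] (h2 : (2 : F) = 0) (a b c : F)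
    (hb : b ≠ 0) (haniso : ∀ s t : F, bq a b c s t = 0 → s = 0 ∧ t = 0)
    (hnorm : Nat.card {p : F × F // bq a b c p.1 p.2 = a} ≤ Fintype.card F + 1) :
    Nat.card {g : (F × F) × (F × F) // ∀ S T : F,
        bq a b c (g.1.1 * S + g.1.2 * T) (g.2.1 * S + g.2.2 * T) = bq a b c S T} ≤
      2 * (Fintype.card F + 1) := by
  classical
  have ha : a ≠ 0 := by
    intro ha0
    have := haniso 1 0 (by simp [bq, ha0])
    exact one_ne_zero this.1
  rw [Nat.card_eq_fintype_card, Fintype.card_subtype]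
  rw [Nat.card_eq_fintype_card, Fintype.card_subtype] at hnorm
  obtain ⟨Gs, hGs⟩ : ∃ Gs : Finset ((F × F) × (F × F)), Gs = Finset.univ.filter
      (fun g : (F × F) × (F × F) => ∀ S T : F,
        bq a b c (g.1.1 * S + g.1.2 * T) (g.2.1 * S + g.2.2 * T) = bq a b c S T) := ⟨_, rfl⟩
  obtain ⟨Es, hEs⟩ : ∃ Es : Finset (F × F), Es = Finset.univ.filter
      (fun p : F × F => bq a b c p.1 p.2 = a) := ⟨_, rfl⟩
  rw [← hGs]
  rw [← hEs] at hnorm
  have hmem : ∀ g ∈ Gs, bq a b c g.1.1 g.2.1 = a ∧ bq a b c g.1.2 g.2.2 = c ∧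
      g.1.1 * g.2.2 + g.1.2 * g.2.1 = 1 := by
    intro g hg
    rw [hGs, Finset.mem_filter] at hg
    have hg := hg.2
    have e10 := hg 1 0
    have e01 := hg 0 1
    have e11 := hg 1 1
    simp only [mul_one, mul_zero, add_zero, zero_add] at e10 e01 e11
    have e10' : bq a b c g.1.1 g.2.1 = a := by rw [e10]; simp [bq]
    have e01' : bq a b c g.1.2 g.2.2 = c := by rw [e01]; simp [bq]
    refine ⟨e10', e01', ?_⟩
    unfold bq at e10' e01' e11
    have h0 : b * (g.1.1 * g.2.2 + g.1.2 * g.2.1 - 1) = 0 := by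
      linear_combination e11 - e10' - e01' - (a * g.1.1 * g.1.2 + c * g.2.1 * g.2.2) * h2
    rcases mul_eq_zero.1 h0 with h | h
    · exact absurd h hb
    · exact sub_eq_zero.1 h
  obtain ⟨f, hf⟩ : ∃ f : (F × F) × (F × F) → F × F, f = fun g => (g.1.1, g.2.1) := ⟨_, rfl⟩
  have himg : Gs.image f ⊆ Es := by
    intro e he
    obtain ⟨g, hg, rfl⟩ := Finset.mem_image.1 he
    rw [hEs, Finset.mem_filter, hf]
    exact ⟨Finset.mem_univ _, (hmem g hg).1⟩
  have key : ∀ g ∈ Gs, ∀ g' ∈ Gs, f g = f g' →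
      g' = g ∨ (g'.1.2 = g.1.2 + (-b / a) * g.1.1 ∧ g'.2.2 = g.2.2 + (-b / a) * g.2.1) := by
    intro g hg g' hg' hff
    obtain ⟨hps, hrt, h1⟩ := hmem g hg
    obtain ⟨hps', hrt', h1'⟩ := hmem g' hg'
    rw [hf] at hff
    have hff' : (g.1.1, g.2.1) = (g'.1.1, g'.2.1) := hff
    have hp : g'.1.1 = g.1.1 := (Prod.mk.inj hff').1.symm
    have hs : g'.2.1 = g.2.1 := (Prod.mk.inj hff').2.symm
    rw [hp, hs] at h1'
    rcases h11_iso_key h2 a b c ha g.1.1 g.2.1 g.1.2 g.2.2 g'.1.2 g'.2.2 hps hrt h1 hrt' h1'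
      with ⟨e1, e2⟩ | ⟨e1, e2⟩
    · left
      exact Prod.ext (Prod.ext hp e1) (Prod.ext hs e2)
    · right
      exact ⟨e1, e2⟩
  have hfib : ∀ e ∈ Gs.image f, (Gs.filter fun g => f g = e).card ≤ 2 := by
    intro e _
    by_contra hcon
    push Not at hcon
    obtain ⟨g₁, g₂, g₃, m1, m2, m3, h12, h13, h23⟩ := Finset.two_lt_card_iff.1 hcon
    rw [Finset.mem_filter] at m1 m2 m3
    have k2 := key g₁ m1.1 g₂ m2.1 (m1.2.trans m2.2.symm)
    have k3 := key g₁ m1.1 g₃ m3.1 (m1.2.trans m3.2.symm)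
    rcases k2 with k2 | ⟨k2a, k2b⟩
    · exact h12 k2.symm
    rcases k3 with k3 | ⟨k3a, k3b⟩
    · exact h13 k3.symm
    apply h23
    have hff : f g₂ = f g₃ := m2.2.trans m3.2.symm
    rw [hf] at hff
    have hff' : (g₂.1.1, g₂.2.1) = (g₃.1.1, g₃.2.1) := hff
    have hp : g₂.1.1 = g₃.1.1 := (Prod.mk.inj hff').1
    have hs : g₂.2.1 = g₃.2.1 := (Prod.mk.inj hff').2
    exact Prod.ext (Prod.ext hp (k2a.trans k3a.symm)) (Prod.ext hs (k2b.trans k3b.symm))
  calc Gs.card ≤ 2 * (Gs.image f).card := Finset.card_le_mul_card_image Gs 2 hfib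
    _ ≤ 2 * Es.card := Nat.mul_le_mul_left 2 (Finset.card_le_card himg)
    _ ≤ 2 * (Fintype.card F + 1) := Nat.mul_le_mul_left 2 hnorm

end Cfsg.Agent.Lib.helper49.SPE
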