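import Mathlib

/-!
S2333 split, piece SQRT (helper11): in a finite field of characteristic two every element is a
square.
-/

set_option autoImplicit false

namespace Cfsg.Agent.Lib.helper49.SPE

/-- SQRT (S) -/
theorem exists_sqrt {F : Type*} [Field F] [Finite F] (h2 : (2 : F) = 0) (d : F) :
    ∃ s : F, s ^ 2 = d := by
  have hinj : Function.Injective (fun x : F => x ^ 2) := by
    intro x y hxy
    have hxy' : x ^ 2 = y ^ 2 := hxy
    have h : (x - y) ^ 2 = 0 := by
      have e : (x - y) ^ 2 = x ^ 2 - y ^ 2 + 2 * (y ^ 2 - x * y) := by ring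
      rw [e, h2, hxy']
      ring
    exact sub_eq_zero.1 (pow_eq_zero_iff (two_ne_zero)|>.1 h)
  exact (Finite.injective_iff_surjective.1 hinj) d

end Cfsg.Agent.Lib.helper49.SPE
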