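import Mathlib
import Cfsg.Prelude.Def_Classical
import Cfsg.Agent.Lib.helper99.UGen1
import Cfsg.Agent.Lib.helper17.Herm
import Cfsg.Agent.Lib.helper44.SUWDefs

/-!
S2335 split, piece LEVI (helper11): the Levi element `g_B = F B F'† + F' B⁻† F†` of `SU_{2m}(q)`,
which conjugates the Siegel element `uMat C` to `uMat (B C B†)`.
-/

set_option autoImplicit false

namespace Cfsg.Agent.Lib.helper44.SUW

open Matrix Cfsg Cfsg.Agent.Lib.helper99

section abs
variable {K : Type*} [Field K] {ι κ : Type*} [Fintype ι] [DecidableEq ι] [Fintype κ]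
  [DecidableEq κ]

theorem h11_levi_conj (F F' : Matrix κ ι K) (Ft F't : Matrix ι κ K)
    (h1 : Ft * F = 0) (h3 : Ft * F' = 1) (h4 : F't * F = 1)
    (B D E C : Matrix ι ι K) (hED : E * D = 1) :
    (F * B * F't + F' * D * Ft) * (1 + F * C * Ft) =
      (1 + F * (B * C * E) * Ft) * (F * B * F't + F' * D * Ft) := by
  have ha : (F * B * F't + F' * D * Ft) * F = F * B := by
    rw [Matrix.add_mul, Matrix.mul_assoc (F * B), h4, Matrix.mul_one, Matrix.mul_assoc (F' * D),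
      h1, Matrix.mul_zero, add_zero]
  have hb : Ft * (F * B * F't + F' * D * Ft) = D * Ft := by
    have e1 : Ft * (F * B * F't) = (Ft * F) * B * F't := by simp only [Matrix.mul_assoc]
    have e2 : Ft * (F' * D * Ft) = (Ft * F') * D * Ft := by simp only [Matrix.mul_assoc]
    rw [Matrix.mul_add, e1, e2, h1, h3, Matrix.zero_mul, Matrix.zero_mul, zero_add,
      Matrix.one_mul]
  rw [Matrix.mul_add (F * B * F't + F' * D * Ft) 1, Matrix.add_mul 1, Matrix.mul_one,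
    Matrix.one_mul]
  congr 1
  have e3 : (F * B * F't + F' * D * Ft) * (F * C * Ft) =
      ((F * B * F't + F' * D * Ft) * F) * C * Ft := by simp only [Matrix.mul_assoc]
  have e4 : F * (B * C * E) * Ft * (F * B * F't + F' * D * Ft) =
      F * (B * C * E) * (Ft * (F * B * F't + F' * D * Ft)) := by
    simp only [Matrix.mul_assoc]
  rw [e3, e4, ha, hb]
  have e5 : F * (B * C * E) * (D * Ft) = F * B * C * (E * D) * Ft := by
    simp only [Matrix.mul_assoc]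
  rw [e5, hED, Matrix.mul_one]

theorem h11_levi_unitary (σ : K →+* K) (F F' : Matrix κ ι K) (Ft F't : Matrix ι κ K)
    (h1 : Ft * F = 0) (h2 : F't * F' = 0) (h3 : Ft * F' = 1) (h4 : F't * F = 1)
    (h5 : F * F't + F' * Ft = 1)
    (hF : F.map σ = Ftᵀ) (hFt : Ft.map σ = Fᵀ) (hF' : F'.map σ = F'tᵀ) (hF't : F't.map σ = F'ᵀ)
    (B D : Matrix ι ι K) (hBD : Bᵀ * D.map σ = 1) (hDB : Dᵀ * B.map σ = 1) :
    (F * B * F't + F' * D * Ft)ᵀ * (F * B * F't + F' * D * Ft).map σ = 1 := by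
  have e1 : (F * B * F't + F' * D * Ft)ᵀ = F'tᵀ * Bᵀ * Fᵀ + Ftᵀ * Dᵀ * F'ᵀ := by
    simp only [Matrix.transpose_add, Matrix.transpose_mul, Matrix.mul_assoc]
  have e2 : (F * B * F't + F' * D * Ft).map σ =
      Ftᵀ * B.map σ * F'ᵀ + F'tᵀ * D.map σ * Fᵀ := by
    rw [Matrix.map_add σ (map_add σ), Matrix.map_mul, Matrix.map_mul, Matrix.map_mul,
      Matrix.map_mul, hF, hFt, hF', hF't]
  have t1 : Fᵀ * Ftᵀ = 0 := by rw [← Matrix.transpose_mul, h1, Matrix.transpose_zero]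
  have t2 : Fᵀ * F'tᵀ = 1 := by rw [← Matrix.transpose_mul, h4, Matrix.transpose_one]
  have t3 : F'ᵀ * Ftᵀ = 1 := by rw [← Matrix.transpose_mul, h3, Matrix.transpose_one]
  have t4 : F'ᵀ * F'tᵀ = 0 := by rw [← Matrix.transpose_mul, h2, Matrix.transpose_zero]
  have t5 : F'tᵀ * Fᵀ + Ftᵀ * F'ᵀ = 1 := by
    rw [← Matrix.transpose_mul, ← Matrix.transpose_mul, ← Matrix.transpose_add, h5,
      Matrix.transpose_one]
  have p1 : (F'tᵀ * Bᵀ * Fᵀ) * (Ftᵀ * B.map σ * F'ᵀ) = 0 := by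
    have : (F'tᵀ * Bᵀ * Fᵀ) * (Ftᵀ * B.map σ * F'ᵀ) =
        F'tᵀ * Bᵀ * (Fᵀ * Ftᵀ) * (B.map σ * F'ᵀ) := by simp only [Matrix.mul_assoc]
    rw [this, t1, Matrix.mul_zero, Matrix.zero_mul]
  have p2 : (F'tᵀ * Bᵀ * Fᵀ) * (F'tᵀ * D.map σ * Fᵀ) = F'tᵀ * Fᵀ := by
    have : (F'tᵀ * Bᵀ * Fᵀ) * (F'tᵀ * D.map σ * Fᵀ) =
        F'tᵀ * (Bᵀ * ((Fᵀ * F'tᵀ) * D.map σ)) * Fᵀ := by simp only [Matrix.mul_assoc]
    rw [this, t2, Matrix.one_mul, hBD, Matrix.mul_one]
  have p3 : (Ftᵀ * Dᵀ * F'ᵀ) * (Ftᵀ * B.map σ * F'ᵀ) = Ftᵀ * F'ᵀ := by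
    have : (Ftᵀ * Dᵀ * F'ᵀ) * (Ftᵀ * B.map σ * F'ᵀ) =
        Ftᵀ * (Dᵀ * ((F'ᵀ * Ftᵀ) * B.map σ)) * F'ᵀ := by simp only [Matrix.mul_assoc]
    rw [this, t3, Matrix.one_mul, hDB, Matrix.mul_one]
  have p4 : (Ftᵀ * Dᵀ * F'ᵀ) * (F'tᵀ * D.map σ * Fᵀ) = 0 := by
    have : (Ftᵀ * Dᵀ * F'ᵀ) * (F'tᵀ * D.map σ * Fᵀ) =
        Ftᵀ * Dᵀ * (F'ᵀ * F'tᵀ) * (D.map σ * Fᵀ) := by simp only [Matrix.mul_assoc]
    rw [this, t4, Matrix.mul_zero, Matrix.zero_mul]
  rw [e1, e2, Matrix.add_mul, Matrix.mul_add, Matrix.mul_add, p1, p2, p3, p4, zero_add,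
    add_zero, t5]

theorem h11_levi_det (F F' : Matrix κ ι K) (Ft F't : Matrix ι κ K)
    (h1 : Ft * F = 0) (h2 : F't * F' = 0) (h3 : Ft * F' = 1) (h4 : F't * F = 1)
    (h5 : F * F't + F' * Ft = 1) (B D : Matrix ι ι K) (hB : B.det = 1) (hD : D.det = 1) :
    (F * B * F't + F' * D * Ft).det = 1 := by
  have hPQ : Matrix.fromCols F F' * Matrix.fromRows F't Ft = 1 := by
    rw [Matrix.fromCols_mul_fromRows, h5]
  have hQP : Matrix.fromRows F't Ft * Matrix.fromCols F F' = 1 := by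
    rw [Matrix.fromRows_mul_fromCols, h4, h2, h1, h3, Matrix.fromBlocks_one]
  have hg : F * B * F't + F' * D * Ft =
      Matrix.fromCols F F' * Matrix.fromBlocks B 0 0 D * Matrix.fromRows F't Ft := by
    rw [Matrix.fromCols_mul_fromBlocks, Matrix.fromCols_mul_fromRows]
    simp
  rw [hg, Matrix.det_conj_of_mul_eq_one hPQ hQP, Matrix.det_fromBlocks_zero₂₁, hB, hD, one_mul]

end abs

theorem h11_herm_pres {K : Type*} [Field K] {n q : ℕ} (σ : K →+* K) (hσ : ∀ x, σ x = x ^ q)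
    (M : Matrix (Fin n) (Fin n) K) (hM : Mᵀ * M.map σ = 1) (u v : Fin n → K) :
    Cfsg.hermForm n K q (M *ᵥ u) (M *ᵥ v) = Cfsg.hermForm n K q u v := by
  have key : ∀ x y : Fin n → K, Cfsg.hermForm n K q x y = x ⬝ᵥ (fun i => σ (y i)) := by
    intro x y
    unfold Cfsg.hermForm
    simp only [dotProduct, hσ]
  have hmap : (fun i => σ ((M *ᵥ v) i)) = M.map σ *ᵥ (fun i => σ (v i)) := by
    funext i
    simp only [Matrix.mulVec, dotProduct, map_sum, map_mul, Matrix.map_apply]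
  rw [key, key, hmap, Matrix.dotProduct_mulVec, ← Matrix.vecMul_transpose, Matrix.vecMul_vecMul,
    hM, Matrix.vecMul_one]

theorem h11_exists_not_fixed {K : Type*} [Field K] [Fintype K] {q : ℕ}
    (hK : Fintype.card K = q ^ 2) : ∃ θ : K, θ ^ q ≠ θ := by
  classical
  by_contra hcon
  push Not at hcon
  have hq : 2 ≤ q := Cfsg.Agent.Lib.helper17.two_le_of_card_eq_sq hK
  have hp : (Polynomial.X ^ q - Polynomial.X : Polynomial K) ≠ 0 :=
    FiniteField.X_pow_card_sub_X_ne_zero K (by omega)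
  have hroots : (Finset.univ : Finset K) ⊆
      (Polynomial.X ^ q - Polynomial.X : Polynomial K).roots.toFinset := by
    intro x _
    rw [Multiset.mem_toFinset, Polynomial.mem_roots hp]
    simp [hcon x]
  have h1 := Finset.card_le_card hroots
  have h2 : (Polynomial.X ^ q - Polynomial.X : Polynomial K).roots.toFinset.card ≤ q := by
    calc (Polynomial.X ^ q - Polynomial.X : Polynomial K).roots.toFinset.card
        ≤ Multiset.card (Polynomial.X ^ q - Polynomial.X : Polynomial K).roots :=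
          Multiset.toFinset_card_le _
      _ ≤ (Polynomial.X ^ q - Polynomial.X : Polynomial K).natDegree := Polynomial.card_roots' _
      _ = q := FiniteField.X_pow_card_sub_X_natDegree_eq K (by omega)
  rw [Finset.card_univ, hK] at h1
  nlinarith

end Cfsg.Agent.Lib.helper44.SUW
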