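import Cfsg.Agent.Lib.helper11.SUOXX
import Cfsg.Agent.Lib.helper11.SUWLEVIcore

/-!
S2334 split, piece OXMEM (helper11, racer copy: every declaration is prefixed `h11_`):
`xtMat` has determinant one and preserves the Hermitian form.
-/

set_option autoImplicit false
set_option linter.unusedSimpArgs false
set_option linter.unusedSectionVars false

namespace Cfsg.Agent.Lib.helper44.SUW

open Matrix Cfsg

section absm
variable {K : Type*} [Field K] {ι κ ω : Type*} [Fintype ι] [DecidableEq ι] [Fintype κ]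
  [DecidableEq κ] [Fintype ω] [DecidableEq ω]

theorem h11_xm_det (Fo : Matrix κ ι K) (Fot : Matrix ι κ K) (d : Matrix κ ω K)
    (dt : Matrix ω κ K)
    (r1 : Fot * Fo = 0) (r2 : dt * Fo = 0) (r3 : Fot * d = 0) (r4 : dt * d = 1)
    (C : Matrix ι ι K) (tc : Matrix ι ω K) (tr : Matrix ω ι K) :
    (1 + (Fo * C * Fot + Fo * tc * dt - d * tr * Fot)).det = 1 := by
  have hPQ : Fo * C * Fot + Fo * tc * dt - d * tr * Fot =
      Matrix.fromCols Fo d * Matrix.fromRows (C * Fot + tc * dt) (-(tr * Fot)) := by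
    rw [Matrix.fromCols_mul_fromRows, Matrix.mul_add, Matrix.mul_neg, ← sub_eq_add_neg]
    simp only [Matrix.mul_assoc]
  have hQP : Matrix.fromRows (C * Fot + tc * dt) (-(tr * Fot)) * Matrix.fromCols Fo d =
      Matrix.fromBlocks 0 tc 0 0 := by
    rw [Matrix.fromRows_mul_fromCols]
    congr 1
    · rw [Matrix.add_mul, Matrix.mul_assoc, r1, Matrix.mul_assoc, r2, Matrix.mul_zero,
        Matrix.mul_zero, add_zero]
    · rw [Matrix.add_mul, Matrix.mul_assoc, r3, Matrix.mul_assoc, r4, Matrix.mul_zero,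
        Matrix.mul_one, zero_add]
    · rw [Matrix.neg_mul, Matrix.mul_assoc, r1, Matrix.mul_zero, neg_zero]
    · rw [Matrix.neg_mul, Matrix.mul_assoc, r3, Matrix.mul_zero, neg_zero]
  rw [hPQ, Matrix.det_one_add_mul_comm, hQP, ← Matrix.fromBlocks_one, Matrix.fromBlocks_add]
  simp only [add_zero, zero_add]
  rw [Matrix.det_fromBlocks_zero₂₁, Matrix.det_one, Matrix.det_one, mul_one]

theorem h11_xm_unit (σ : K →+* K) (Fo : Matrix κ ι K) (Fot : Matrix ι κ K) (d : Matrix κ ω K)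
    (dt : Matrix ω κ K)
    (r1 : Fot * Fo = 0) (r2 : dt * Fo = 0) (r3 : Fot * d = 0) (r4 : dt * d = 1)
    (hFo : Fo.map σ = Fotᵀ) (hFot : Fot.map σ = Foᵀ) (hd : d.map σ = dtᵀ) (hdt : dt.map σ = dᵀ)
    (C C2 : Matrix ι ι K) (tc : Matrix ι ω K) (tr : Matrix ω ι K)
    (htc : tc.map σ = trᵀ) (htr : tr.map σ = tcᵀ) (hC : C.map σ = C2ᵀ)
    (hCC : C2 + C = -(tc * tr)) :
    (1 + (Fo * C * Fot + Fo * tc * dt - d * tr * Fot))ᵀ *
      (1 + (Fo * C * Fot + Fo * tc * dt - d * tr * Fot)).map σ = 1 := by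
  have hmap : (1 + (Fo * C * Fot + Fo * tc * dt - d * tr * Fot)).map σ =
      (1 + (Fo * C2 * Fot + Fo * (-tc) * dt - d * (-tr) * Fot))ᵀ := by
    rw [Matrix.map_add σ (map_add σ), Matrix.map_one σ (map_zero σ) (map_one σ),
      Matrix.map_sub σ (map_sub σ), Matrix.map_add σ (map_add σ), Matrix.map_mul, Matrix.map_mul,
      Matrix.map_mul, Matrix.map_mul, Matrix.map_mul, Matrix.map_mul, hFo, hFot, hd, hdt, htc,
      htr, hC]
    simp only [Matrix.transpose_add, Matrix.transpose_sub, Matrix.transpose_mul,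
      Matrix.transpose_one, Matrix.transpose_neg, Matrix.mul_assoc, Matrix.neg_mul,
      Matrix.mul_neg, sub_neg_eq_add]
    abel
  rw [hmap, ← Matrix.transpose_mul]
  have hYX : (1 + (Fo * C2 * Fot + Fo * (-tc) * dt - d * (-tr) * Fot)) *
      (1 + (Fo * C * Fot + Fo * tc * dt - d * tr * Fot)) = 1 := by
    have hNN := h11_xx_NN Fo Fot d dt r1 r2 r3 r4 C2 C (-tc) tc (-tr) tr
    have hsum : (Fo * C2 * Fot + Fo * (-tc) * dt - d * (-tr) * Fot) +
        (Fo * C * Fot + Fo * tc * dt - d * tr * Fot) = -(Fo * (tc * tr) * Fot) := by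
      have hC2 : C2 = -(tc * tr) - C := eq_sub_of_add_eq hCC
      rw [hC2]
      simp only [Matrix.mul_neg, Matrix.neg_mul, Matrix.mul_sub, Matrix.sub_mul, sub_neg_eq_add]
      abel
    obtain ⟨NY, hNY⟩ : ∃ NY : Matrix κ κ K,
        NY = Fo * C2 * Fot + Fo * (-tc) * dt - d * (-tr) * Fot := ⟨_, rfl⟩
    obtain ⟨NX, hNX⟩ : ∃ NX : Matrix κ κ K,
        NX = Fo * C * Fot + Fo * tc * dt - d * tr * Fot := ⟨_, rfl⟩
    rw [← hNY, ← hNX] at hNN hsum ⊢
    have e0 : (1 + NY) * (1 + NX) = 1 + ((NY + NX) + NY * NX) := by noncomm_ring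
    rw [e0, hsum, hNN]
    simp only [Matrix.neg_mul, Matrix.mul_neg, neg_neg]
    abel
  rw [hYX, Matrix.transpose_one]

end absm

/-- OXMEM (L), racer copy. -/
theorem h11_xtMat_mem {K : Type*} [Field K] [Fintype K] {q m : ℕ} (hK : Fintype.card K = q ^ 2)
    (σ : K →+* K) (hσ : ∀ x, σ x = x ^ q) (ε η : K) (hε : ε * σ ε = -1) (hη : η + σ η = 1)
    (t : Fin m → K) :
    (xtMat σ ε η t).det = 1 ∧ ∀ u v : Fin (m + m + 1) → K,
      Cfsg.hermForm (m + m + 1) K q (xtMat σ ε η t *ᵥ u) (xtMat σ ε η t *ᵥ v) =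
        Cfsg.hermForm (m + m + 1) K q u v := by
  classical
  have hσσ : ∀ x, σ (σ x) = x := fun x => by
    rw [hσ, hσ]; exact Cfsg.Agent.Lib.helper17.pow_q_pow_q hK x
  have hε' : σ ε * ε = -1 := by rw [mul_comm]; exact hε
  obtain ⟨F, hFdef⟩ : ∃ F : Matrix (Fin m ⊕ Fin m) (Fin m) K,
      F = Matrix.fromRows 1 (ε • 1) := ⟨_, rfl⟩
  obtain ⟨Ft, hFtdef⟩ : ∃ Ft : Matrix (Fin m) (Fin m ⊕ Fin m) K,
      Ft = Matrix.fromCols 1 (σ ε • 1) := ⟨_, rfl⟩
  have hFF : Ft * F = 0 := by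
    rw [hFtdef, hFdef, Matrix.fromCols_mul_fromRows]
    simp only [Matrix.smul_mul, Matrix.mul_smul, Matrix.one_mul, smul_smul]
    first
    | rw [hε', neg_smul, one_smul, add_neg_cancel]
    | rw [hε, neg_smul, one_smul, add_neg_cancel]
  have h11 : ∀ C : Matrix (Fin m) (Fin m) K,
      F * C * Ft = Matrix.fromBlocks C (σ ε • C) (ε • C) (-C) := by
    intro C
    rw [hFdef, hFtdef, Matrix.fromRows_mul, Matrix.fromRows_mul_fromCols]
    simp only [Matrix.smul_mul, Matrix.mul_smul, Matrix.one_mul, Matrix.mul_one, smul_smul]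
    first
    | rw [hε', neg_smul, one_smul]
    | rw [hε, neg_smul, one_smul]
  have hb : ∀ C : Matrix (Fin m) (Fin m) K,
      Matrix.fromBlocks (1 + C) (σ ε • C) (ε • C) (1 - C) = 1 + F * C * Ft := by
    intro C
    rw [h11, ← Matrix.fromBlocks_one, Matrix.fromBlocks_add]
    congr 1
    · rw [zero_add]
    · rw [zero_add]
    · rw [sub_eq_add_neg]
  obtain ⟨Fo, hFo⟩ : ∃ Fo : Matrix ((Fin m ⊕ Fin m) ⊕ Fin 1) (Fin m) K,
      Fo = Matrix.fromRows F 0 := ⟨_, rfl⟩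
  obtain ⟨Fot, hFot⟩ : ∃ Fot : Matrix (Fin m) ((Fin m ⊕ Fin m) ⊕ Fin 1) K,
      Fot = Matrix.fromCols Ft 0 := ⟨_, rfl⟩
  obtain ⟨d, hd⟩ : ∃ d : Matrix ((Fin m ⊕ Fin m) ⊕ Fin 1) (Fin 1) K,
      d = Matrix.fromRows 0 1 := ⟨_, rfl⟩
  obtain ⟨dt, hdt⟩ : ∃ dt : Matrix (Fin 1) ((Fin m ⊕ Fin m) ⊕ Fin 1) K,
      dt = Matrix.fromCols 0 1 := ⟨_, rfl⟩
  have r1 : Fot * Fo = 0 := by
    rw [hFot, hFo, Matrix.fromCols_mul_fromRows, hFF, Matrix.mul_zero, add_zero]
  have r2 : dt * Fo = 0 := by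
    rw [hdt, hFo, Matrix.fromCols_mul_fromRows, Matrix.zero_mul, Matrix.mul_zero, add_zero]
  have r3 : Fot * d = 0 := by
    rw [hFot, hd, Matrix.fromCols_mul_fromRows, Matrix.mul_zero, Matrix.zero_mul, add_zero]
  have r4 : dt * d = 1 := by
    rw [hdt, hd, Matrix.fromCols_mul_fromRows, Matrix.zero_mul, Matrix.one_mul, zero_add]
  have a1 : ∀ C : Matrix (Fin m) (Fin m) K,
      Fo * C * Fot = Matrix.fromBlocks (F * C * Ft) 0 0 0 := by
    intro C
    rw [hFo, hFot, Matrix.fromRows_mul, Matrix.fromRows_mul_fromCols]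
    simp
  have a2 : ∀ tc : Matrix (Fin m) (Fin 1) K,
      Fo * tc * dt = Matrix.fromBlocks 0 (F * tc) 0 0 := by
    intro tc
    rw [hFo, hdt, Matrix.fromRows_mul, Matrix.fromRows_mul_fromCols]
    simp
  have a3 : ∀ tr : Matrix (Fin 1) (Fin m) K,
      d * tr * Fot = Matrix.fromBlocks 0 0 (tr * Ft) 0 := by
    intro tr
    rw [hd, hFot, Matrix.fromRows_mul, Matrix.fromRows_mul_fromCols]
    simp
  have e1 : (1 : Matrix ((Fin m ⊕ Fin m) ⊕ Fin 1) ((Fin m ⊕ Fin m) ⊕ Fin 1) K) =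
      Matrix.fromBlocks 1 0 0 1 := Matrix.fromBlocks_one.symm
  obtain ⟨tc, htcdef⟩ : ∃ tc : Matrix (Fin m) (Fin 1) K,
      tc = Matrix.of fun i (_ : Fin 1) => t i := ⟨_, rfl⟩
  obtain ⟨tr, htrdef⟩ : ∃ tr : Matrix (Fin 1) (Fin m) K,
      tr = Matrix.of fun (_ : Fin 1) j => σ (t j) := ⟨_, rfl⟩
  have hx :
      Matrix.fromBlocks
        (Matrix.fromBlocks (1 + (-η) • Matrix.vecMulVec t (fun j => σ (t j)))
          (σ ε • ((-η) • Matrix.vecMulVec t (fun j => σ (t j))))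
          (ε • ((-η) • Matrix.vecMulVec t (fun j => σ (t j))))
          (1 - (-η) • Matrix.vecMulVec t (fun j => σ (t j))))
        (fun i _ => Sum.elim t (fun j => ε * t j) i)
        (fun _ j => Sum.elim (fun j => - σ (t j)) (fun j => - (σ ε * σ (t j))) j)
        (1 : Matrix (Fin 1) (Fin 1) K) =
      1 + (Fo * ((-η) • Matrix.vecMulVec t (fun j => σ (t j))) * Fot
        + Fo * tc * dt - d * tr * Fot) := by
    rw [a1, a2, a3, e1, Matrix.fromBlocks_add, h11_fromBlocks_sub, Matrix.fromBlocks_add]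
    congr 1
    · rw [add_zero, sub_zero, hb]
    · ext (i | i) k
      · simp [hFdef, htcdef, Matrix.fromRows_mul]
      · simp [hFdef, htcdef, Matrix.fromRows_mul]
    · ext k (j | j)
      · simp [hFtdef, htrdef, Matrix.mul_fromCols]
      · simp [hFtdef, htrdef, Matrix.mul_fromCols]
    · simp
  -- compatibility with `σ`
  have hFσ : F.map σ = Ftᵀ := by
    rw [hFdef, hFtdef]
    ext (i | i) j <;> rcases eq_or_ne i j with rfl | hij <;>
      first
      | (simp [Matrix.one_apply, hij, hij.symm, hσσ]; done)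
      | (simp [hσσ]; done)
  have hFtσ : Ft.map σ = Fᵀ := by
    rw [hFdef, hFtdef]
    ext i (j | j) <;> rcases eq_or_ne i j with rfl | hij <;>
      first
      | (simp [Matrix.one_apply, hij, hij.symm, hσσ]; done)
      | (simp [hσσ]; done)
  have hFoσ : Fo.map σ = Fotᵀ := by
    rw [hFo, hFot, Matrix.transpose_fromCols, ← hFσ]
    ext (i | i) j <;> simp
  have hFotσ : Fot.map σ = Foᵀ := by
    rw [hFo, hFot, Matrix.transpose_fromRows, ← hFtσ]
    ext i (j | j) <;> simp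
  have hdσ : d.map σ = dtᵀ := by
    rw [hd, hdt]
    ext (i | i) j
    · simp
    · have hij : i = j := Subsingleton.elim _ _
      subst hij
      simp
  have hdtσ : dt.map σ = dᵀ := by
    rw [hd, hdt]
    ext i (j | j)
    · simp
    · have hij : i = j := Subsingleton.elim _ _
      subst hij
      simp
  have htcσ : tc.map σ = trᵀ := by
    rw [htcdef, htrdef]
    ext i k
    simp
  have htrσ : tr.map σ = tcᵀ := by
    rw [htcdef, htrdef]
    ext k j
    simp [hσσ]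
  have hvm : Matrix.vecMulVec t (fun j => σ (t j)) = tc * tr := by
    rw [htcdef, htrdef]
    ext i j
    simp [Matrix.mul_apply, Matrix.vecMulVec_apply]
  have hCσ : ((-η) • Matrix.vecMulVec t (fun j => σ (t j))).map σ =
      ((-σ η) • Matrix.vecMulVec t (fun j => σ (t j)))ᵀ := by
    ext i j
    simp only [Matrix.map_apply, Matrix.smul_apply, Matrix.vecMulVec_apply,
      Matrix.transpose_apply, smul_eq_mul, map_mul, map_neg, hσσ]
    ring
  have hCC : (-σ η) • Matrix.vecMulVec t (fun j => σ (t j)) +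
      (-η) • Matrix.vecMulVec t (fun j => σ (t j)) = -(tc * tr) := by
    rw [← add_smul, ← hvm, show -σ η + -η = -1 by linear_combination -hη, neg_smul, one_smul]
  have hdetX := h11_xm_det Fo Fot d dt r1 r2 r3 r4
    ((-η) • Matrix.vecMulVec t (fun j => σ (t j))) tc tr
  have hunitX := h11_xm_unit σ Fo Fot d dt r1 r2 r3 r4 hFoσ hFotσ hdσ hdtσ
    ((-η) • Matrix.vecMulVec t (fun j => σ (t j)))
    ((-σ η) • Matrix.vecMulVec t (fun j => σ (t j))) tc tr htcσ htrσ hCσ hCC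
  have hxt : xtMat σ ε η t = (1 + (Fo * ((-η) • Matrix.vecMulVec t (fun j => σ (t j))) * Fot
        + Fo * tc * dt - d * tr * Fot)).submatrix (e3 m) (e3 m) := by
    unfold xtMat
    rw [hx]
  rw [hxt]
  refine ⟨?_, ?_⟩
  · rw [Matrix.det_submatrix_equiv_self]
    exact hdetX
  · apply h11_herm_pres σ hσ
    rw [Matrix.transpose_submatrix, ← Matrix.submatrix_map, Matrix.submatrix_mul_equiv, hunitX,
      Matrix.submatrix_one_equiv]

end Cfsg.Agent.Lib.helper44.SUW
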