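import Cfsg.Agent.Lib.helper11.SUOXXcore

/-!
S2334 split, piece OXX (helper11), canonical statement.
-/

set_option autoImplicit false
set_option linter.unusedSimpArgs false

namespace Cfsg.Agent.Lib.helper44.SUW

open Matrix

theorem h11_fromBlocks_sub {K : Type*} [Field K] {l m n o : Type*}
    (A : Matrix n l K) (B : Matrix n m K) (C : Matrix o l K) (D : Matrix o m K)
    (A' : Matrix n l K) (B' : Matrix n m K) (C' : Matrix o l K) (D' : Matrix o m K) :
    Matrix.fromBlocks A B C D - Matrix.fromBlocks A' B' C' D' =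
      Matrix.fromBlocks (A - A') (B - B') (C - C') (D - D') := by
  rw [sub_eq_add_neg, Matrix.fromBlocks_neg, Matrix.fromBlocks_add]
  simp only [sub_eq_add_neg]

/-- OXX (L) -/
theorem xt_mul_xt {K : Type*} [Field K] (σ : K →+* K) (hσσ : ∀ x, σ (σ x) = x) (ε η : K)
    (hε : ε * σ ε = -1) {m : ℕ} (t t' : Fin m → K) :
    xtMat σ ε η t * xtMat σ ε η t' =
      xtMat σ ε η t' * xtMat σ ε η t * uoMat σ ε (cmat σ t' t) := by
  classical
  have hε' : σ ε * ε = -1 := by rw [mul_comm]; exact hε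
  obtain ⟨F, hFdef⟩ : ∃ F : Matrix (Fin m ⊕ Fin m) (Fin m) K,
      F = Matrix.fromRows 1 (ε • 1) := ⟨_, rfl⟩
  obtain ⟨Ft, hFtdef⟩ : ∃ Ft : Matrix (Fin m) (Fin m ⊕ Fin m) K,
      Ft = Matrix.fromCols 1 (σ ε • 1) := ⟨_, rfl⟩
  have hFF : Ft * F = 0 := by
    rw [hFtdef, hFdef, Matrix.fromCols_mul_fromRows]
    simp only [Matrix.smul_mul, Matrix.mul_smul, Matrix.one_mul, smul_smul]
    first
    | rw [hε', neg_smul, one_smul, add_neg_cancel]
    | rw [hε, neg_smul, one_smul, add_neg_cancel]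
  have h11 : ∀ C : Matrix (Fin m) (Fin m) K,
      F * C * Ft = Matrix.fromBlocks C (σ ε • C) (ε • C) (-C) := by
    intro C
    rw [hFdef, hFtdef, Matrix.fromRows_mul, Matrix.fromRows_mul_fromCols]
    simp only [Matrix.smul_mul, Matrix.mul_smul, Matrix.one_mul, Matrix.mul_one, smul_smul]
    first
    | rw [hε', neg_smul, one_smul]
    | rw [hε, neg_smul, one_smul]
  have hb : ∀ C : Matrix (Fin m) (Fin m) K,
      Matrix.fromBlocks (1 + C) (σ ε • C) (ε • C) (1 - C) = 1 + F * C * Ft := by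
    intro C
    rw [h11, ← Matrix.fromBlocks_one, Matrix.fromBlocks_add]
    congr 1
    · rw [zero_add]
    · rw [zero_add]
    · rw [sub_eq_add_neg]
  obtain ⟨Fo, hFo⟩ : ∃ Fo : Matrix ((Fin m ⊕ Fin m) ⊕ Fin 1) (Fin m) K,
      Fo = Matrix.fromRows F 0 := ⟨_, rfl⟩
  obtain ⟨Fot, hFot⟩ : ∃ Fot : Matrix (Fin m) ((Fin m ⊕ Fin m) ⊕ Fin 1) K,
      Fot = Matrix.fromCols Ft 0 := ⟨_, rfl⟩
  obtain ⟨d, hd⟩ : ∃ d : Matrix ((Fin m ⊕ Fin m) ⊕ Fin 1) (Fin 1) K,
      d = Matrix.fromRows 0 1 := ⟨_, rfl⟩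
  obtain ⟨dt, hdt⟩ : ∃ dt : Matrix (Fin 1) ((Fin m ⊕ Fin m) ⊕ Fin 1) K,
      dt = Matrix.fromCols 0 1 := ⟨_, rfl⟩
  have r1 : Fot * Fo = 0 := by
    rw [hFot, hFo, Matrix.fromCols_mul_fromRows, hFF, Matrix.mul_zero, add_zero]
  have r2 : dt * Fo = 0 := by
    rw [hdt, hFo, Matrix.fromCols_mul_fromRows, Matrix.zero_mul, Matrix.mul_zero, add_zero]
  have r3 : Fot * d = 0 := by
    rw [hFot, hd, Matrix.fromCols_mul_fromRows, Matrix.mul_zero, Matrix.zero_mul, add_zero]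
  have r4 : dt * d = 1 := by
    rw [hdt, hd, Matrix.fromCols_mul_fromRows, Matrix.zero_mul, Matrix.one_mul, zero_add]
  have a1 : ∀ C : Matrix (Fin m) (Fin m) K,
      Fo * C * Fot = Matrix.fromBlocks (F * C * Ft) 0 0 0 := by
    intro C
    rw [hFo, hFot, Matrix.fromRows_mul, Matrix.fromRows_mul_fromCols]
    simp
  have a2 : ∀ tc : Matrix (Fin m) (Fin 1) K,
      Fo * tc * dt = Matrix.fromBlocks 0 (F * tc) 0 0 := by
    intro tc
    rw [hFo, hdt, Matrix.fromRows_mul, Matrix.fromRows_mul_fromCols]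
    simp
  have a3 : ∀ tr : Matrix (Fin 1) (Fin m) K,
      d * tr * Fot = Matrix.fromBlocks 0 0 (tr * Ft) 0 := by
    intro tr
    rw [hd, hFot, Matrix.fromRows_mul, Matrix.fromRows_mul_fromCols]
    simp
  have e1 : (1 : Matrix ((Fin m ⊕ Fin m) ⊕ Fin 1) ((Fin m ⊕ Fin m) ⊕ Fin 1) K) =
      Matrix.fromBlocks 1 0 0 1 := Matrix.fromBlocks_one.symm
  -- the structured forms
  have hx : ∀ s : Fin m → K,
      Matrix.fromBlocks
        (Matrix.fromBlocks (1 + (-η) • Matrix.vecMulVec s (fun j => σ (s j)))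
          (σ ε • ((-η) • Matrix.vecMulVec s (fun j => σ (s j))))
          (ε • ((-η) • Matrix.vecMulVec s (fun j => σ (s j))))
          (1 - (-η) • Matrix.vecMulVec s (fun j => σ (s j))))
        (fun i _ => Sum.elim s (fun j => ε * s j) i)
        (fun _ j => Sum.elim (fun j => - σ (s j)) (fun j => - (σ ε * σ (s j))) j)
        (1 : Matrix (Fin 1) (Fin 1) K) =
      1 + (Fo * ((-η) • Matrix.vecMulVec s (fun j => σ (s j))) * Fot
        + Fo * (Matrix.of fun i (_ : Fin 1) => s i) * dt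
        - d * (Matrix.of fun (_ : Fin 1) j => σ (s j)) * Fot) := by
    intro s
    rw [a1, a2, a3, e1, Matrix.fromBlocks_add, h11_fromBlocks_sub, Matrix.fromBlocks_add]
    congr 1
    · rw [add_zero, sub_zero, hb]
    · ext (i | i) k
      · simp [hFdef, Matrix.fromRows_mul]
      · simp [hFdef, Matrix.fromRows_mul]
    · ext k (j | j)
      · simp [hFtdef, Matrix.mul_fromCols]
      · simp [hFtdef, Matrix.mul_fromCols]
    · simp
  have hu : ∀ C : Matrix (Fin m) (Fin m) K,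
      Matrix.fromBlocks (Matrix.fromBlocks (1 + C) (σ ε • C) (ε • C) (1 - C)) 0 0
        (1 : Matrix (Fin 1) (Fin 1) K) = 1 + Fo * C * Fot := by
    intro C
    rw [a1, e1, Matrix.fromBlocks_add, hb]
    congr 1 <;> simp
  have hc : cmat σ t' t =
      (Matrix.of fun i (_ : Fin 1) => t' i) * (Matrix.of fun (_ : Fin 1) j => σ (t j)) -
        (Matrix.of fun i (_ : Fin 1) => t i) * (Matrix.of fun (_ : Fin 1) j => σ (t' j)) := by
    unfold cmat
    ext i j
    simp [Matrix.mul_apply, Matrix.vecMulVec_apply]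
  unfold xtMat uoMat
  rw [hx, hx, hu, Matrix.submatrix_mul_equiv, Matrix.submatrix_mul_equiv,
    Matrix.submatrix_mul_equiv, hc]
  congr 1
  exact h11_xx_abs Fo Fot d dt r1 r2 r3 r4 _ _ _ _ _ _

end Cfsg.Agent.Lib.helper44.SUW
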