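import Mathlib
import Cfsg.Prelude.Def_Classical
import Cfsg.Agent.Lib.helper44.SUWDefs
import Cfsg.Agent.Lib.helper44.SUODefs

/-!
S2334 split, piece OXX (helper11): abstract core.  With rectangular matrices `Fo, Fot, d, dt`
satisfying `Fot * Fo = 0`, `dt * Fo = 0`, `Fot * d = 0`, `dt * d = 1`, the elements
`1 + (Fo C Fot + Fo tc dt - d tr Fot)` satisfy the Heisenberg commutation rule.
-/

set_option autoImplicit false
set_option linter.unusedSectionVars false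

namespace Cfsg.Agent.Lib.helper44.SUW

open Matrix

section absx
variable {K : Type*} [Field K] {ι κ ω : Type*} [Fintype ι] [DecidableEq ι] [Fintype κ]
  [DecidableEq κ] [Fintype ω] [DecidableEq ω]

theorem h11_xx_NF (Fo : Matrix κ ι K) (Fot : Matrix ι κ K) (d : Matrix κ ω K) (dt : Matrix ω κ K)
    (r1 : Fot * Fo = 0) (r2 : dt * Fo = 0)
    (C : Matrix ι ι K) (tc : Matrix ι ω K) (tr : Matrix ω ι K) :
    (Fo * C * Fot + Fo * tc * dt - d * tr * Fot) * Fo = 0 := by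
  rw [Matrix.sub_mul, Matrix.add_mul, Matrix.mul_assoc (Fo * C), r1, Matrix.mul_assoc (Fo * tc),
    r2, Matrix.mul_assoc (d * tr), r1, Matrix.mul_zero, Matrix.mul_zero, Matrix.mul_zero,
    add_zero, sub_zero]

theorem h11_xx_Nd (Fo : Matrix κ ι K) (Fot : Matrix ι κ K) (d : Matrix κ ω K) (dt : Matrix ω κ K)
    (r3 : Fot * d = 0) (r4 : dt * d = 1)
    (C : Matrix ι ι K) (tc : Matrix ι ω K) (tr : Matrix ω ι K) :
    (Fo * C * Fot + Fo * tc * dt - d * tr * Fot) * d = Fo * tc := by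
  rw [Matrix.sub_mul, Matrix.add_mul, Matrix.mul_assoc (Fo * C), r3, Matrix.mul_assoc (Fo * tc),
    r4, Matrix.mul_assoc (d * tr), r3, Matrix.mul_zero, Matrix.mul_zero, Matrix.mul_one,
    zero_add, sub_zero]

theorem h11_xx_NN (Fo : Matrix κ ι K) (Fot : Matrix ι κ K) (d : Matrix κ ω K) (dt : Matrix ω κ K)
    (r1 : Fot * Fo = 0) (r2 : dt * Fo = 0) (r3 : Fot * d = 0) (r4 : dt * d = 1)
    (C C' : Matrix ι ι K) (tc tc' : Matrix ι ω K) (tr tr' : Matrix ω ι K) :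
    (Fo * C * Fot + Fo * tc * dt - d * tr * Fot) *
      (Fo * C' * Fot + Fo * tc' * dt - d * tr' * Fot) = -(Fo * (tc * tr') * Fot) := by
  have k1 := h11_xx_NF Fo Fot d dt r1 r2 C tc tr
  have k4 := h11_xx_Nd Fo Fot d dt r3 r4 C tc tr
  obtain ⟨N, hN⟩ : ∃ N : Matrix κ κ K, N = Fo * C * Fot + Fo * tc * dt - d * tr * Fot := ⟨_, rfl⟩
  rw [← hN] at k1 k4 ⊢
  have e : N * (Fo * C' * Fot + Fo * tc' * dt - d * tr' * Fot) =
      (N * Fo) * C' * Fot + (N * Fo) * tc' * dt - (N * d) * tr' * Fot := by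
    simp only [Matrix.mul_sub, Matrix.mul_add, Matrix.mul_assoc]
  rw [e, k1, k4, Matrix.zero_mul, Matrix.zero_mul, Matrix.zero_mul, Matrix.zero_mul, zero_add,
    zero_sub]
  simp only [Matrix.mul_assoc]

theorem h11_xx_abs (Fo : Matrix κ ι K) (Fot : Matrix ι κ K) (d : Matrix κ ω K) (dt : Matrix ω κ K)
    (r1 : Fot * Fo = 0) (r2 : dt * Fo = 0) (r3 : Fot * d = 0) (r4 : dt * d = 1)
    (C C' : Matrix ι ι K) (tc tc' : Matrix ι ω K) (tr tr' : Matrix ω ι K) :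
    (1 + (Fo * C * Fot + Fo * tc * dt - d * tr * Fot)) *
      (1 + (Fo * C' * Fot + Fo * tc' * dt - d * tr' * Fot)) =
    (1 + (Fo * C' * Fot + Fo * tc' * dt - d * tr' * Fot)) *
      (1 + (Fo * C * Fot + Fo * tc * dt - d * tr * Fot)) *
      (1 + Fo * (tc' * tr - tc * tr') * Fot) := by
  have hNN := h11_xx_NN Fo Fot d dt r1 r2 r3 r4 C C' tc tc' tr tr'
  have hNN' := h11_xx_NN Fo Fot d dt r1 r2 r3 r4 C' C tc' tc tr' tr
  have k1 := h11_xx_NF Fo Fot d dt r1 r2 C tc tr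
  have k1' := h11_xx_NF Fo Fot d dt r1 r2 C' tc' tr'
  obtain ⟨N, hN⟩ : ∃ N : Matrix κ κ K, N = Fo * C * Fot + Fo * tc * dt - d * tr * Fot := ⟨_, rfl⟩
  obtain ⟨N', hN'⟩ : ∃ N' : Matrix κ κ K, N' = Fo * C' * Fot + Fo * tc' * dt - d * tr' * Fot :=
    ⟨_, rfl⟩
  rw [← hN, ← hN'] at hNN hNN'
  rw [← hN] at k1
  rw [← hN'] at k1'
  rw [← hN, ← hN']
  obtain ⟨P, hP⟩ : ∃ P : Matrix κ κ K, P = Fo * (tc * tr') * Fot := ⟨_, rfl⟩
  obtain ⟨P', hP'⟩ : ∃ P' : Matrix κ κ K, P' = Fo * (tc' * tr) * Fot := ⟨_, rfl⟩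
  rw [← hP] at hNN
  rw [← hP'] at hNN'
  have hU : Fo * (tc' * tr - tc * tr') * Fot = P' - P := by
    rw [hP, hP', Matrix.mul_sub, Matrix.sub_mul]
  have hNU : N * (P' - P) = 0 := by
    rw [← hU]
    have : N * (Fo * (tc' * tr - tc * tr') * Fot) = (N * Fo) * (tc' * tr - tc * tr') * Fot := by
      simp only [Matrix.mul_assoc]
    rw [this, k1, Matrix.zero_mul, Matrix.zero_mul]
  have hN'U : N' * (P' - P) = 0 := by
    rw [← hU]
    have : N' * (Fo * (tc' * tr - tc * tr') * Fot) = (N' * Fo) * (tc' * tr - tc * tr') * Fot := by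
      simp only [Matrix.mul_assoc]
    rw [this, k1', Matrix.zero_mul, Matrix.zero_mul]
  have hP'U : P' * (P' - P) = 0 := by
    rw [← hU, hP']
    have : Fo * (tc' * tr) * Fot * (Fo * (tc' * tr - tc * tr') * Fot) =
        Fo * (tc' * tr) * (Fot * Fo) * (tc' * tr - tc * tr') * Fot := by
      simp only [Matrix.mul_assoc]
    rw [this, r1, Matrix.mul_zero, Matrix.zero_mul, Matrix.zero_mul]
  rw [hU]
  obtain ⟨X, hX⟩ : ∃ X : Matrix κ κ K, X = P' - P := ⟨_, rfl⟩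
  rw [← hX] at hNU hN'U hP'U ⊢
  have eL : (1 + N) * (1 + N') = 1 + N + N' - P := by
    have e0 : (1 + N) * (1 + N') = 1 + N + N' + N * N' := by noncomm_ring
    rw [e0, hNN]
    abel
  have eR : (1 + N') * (1 + N) * (1 + X) = 1 + N + N' - P := by
    have e1 : (1 + N') * (1 + N) = 1 + N' + N - P' := by
      have e0 : (1 + N') * (1 + N) = 1 + N' + N + N' * N := by noncomm_ring
      rw [e0, hNN']
      abel
    have e2 : (1 + N' + N - P') * (1 + X) = 1 + N' + N - P' + X + N' * X + N * X - P' * X := by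
      noncomm_ring
    rw [e1, e2, hNU, hN'U, hP'U, hX]
    abel
  rw [eL, eR]

end absx

end Cfsg.Agent.Lib.helper44.SUW
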