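import Cfsg.Agent.Lib.helper11.SUWLEVIcore

/-!
S2335 split, piece LEVI (helper11), canonical statement.
-/

set_option autoImplicit false
set_option linter.unusedSimpArgs false

namespace Cfsg.Agent.Lib.helper44.SUW

open Matrix Cfsg Cfsg.Agent.Lib.helper99

theorem h11_scal0 {K : Type*} [Field K] {ι : Type*} [DecidableEq ι] (x y : K) (h : x + y = 0) :
    x • (1 : Matrix ι ι K) + y • (1 : Matrix ι ι K) = 0 := by
  rw [← add_smul, h, zero_smul]

theorem h11_scal1 {K : Type*} [Field K] {ι : Type*} [DecidableEq ι] (x y : K) (h : x + y = 1) :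
    x • (1 : Matrix ι ι K) + y • (1 : Matrix ι ι K) = 1 := by
  rw [← add_smul, h, one_smul]

/-- LEVI (L) -/
theorem levi {K : Type*} [Field K] [Fintype K] {q m : ℕ} (hK : Fintype.card K = q ^ 2)
    (σ : K →+* K) (hσ : ∀ x, σ x = x ^ q) (ε : K) (hε : ε * σ ε = -1)
    (B : Matrix (Fin m) (Fin m) K) (hB : B.det = 1) :
    ∃ g : ↥(Cfsg.SU (m + m) K q), ∀ C ∈ skewH σ m,
      suMat g * uMat σ ε C = uMat σ ε (B * C * (B.map σ)ᵀ) * suMat g := by
  classical
  have hσσ : ∀ x, σ (σ x) = x := fun x => by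
    rw [hσ, hσ]; exact Cfsg.Agent.Lib.helper17.pow_q_pow_q hK x
  obtain ⟨θ, hθ⟩ := h11_exists_not_fixed hK
  have hθ' : σ θ ≠ θ := by rw [hσ]; exact hθ
  have hd : σ θ - θ ≠ 0 := sub_ne_zero.2 hθ'
  have hd' : θ - σ θ ≠ 0 := sub_ne_zero.2 (Ne.symm hθ')
  obtain ⟨a, c, hac, hsa, hsc⟩ : ∃ a c : K, a - c = 1 ∧ σ a = -c ∧ σ c = -a := by
    refine ⟨σ θ / (σ θ - θ), θ / (σ θ - θ), ?_, ?_, ?_⟩
    · field_simp
    · rw [map_div₀, map_sub, hσσ]; field_simp; ring
    · rw [map_div₀, map_sub, hσσ]; field_simp; ring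
  have hε' : σ ε * ε = -1 := by rw [mul_comm]; exact hε
  -- the four rectangular matrices
  obtain ⟨F, hFdef⟩ : ∃ F : Matrix (Fin m ⊕ Fin m) (Fin m) K,
      F = Matrix.fromRows ((1 : K) • 1) (ε • 1) := ⟨_, rfl⟩
  obtain ⟨Ft, hFtdef⟩ : ∃ Ft : Matrix (Fin m) (Fin m ⊕ Fin m) K,
      Ft = Matrix.fromCols ((1 : K) • 1) (σ ε • 1) := ⟨_, rfl⟩
  obtain ⟨F', hF'def⟩ : ∃ F' : Matrix (Fin m ⊕ Fin m) (Fin m) K,
      F' = Matrix.fromRows (a • 1) ((ε * c) • 1) := ⟨_, rfl⟩
  obtain ⟨F't, hF'tdef⟩ : ∃ F't : Matrix (Fin m) (Fin m ⊕ Fin m) K,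
      F't = Matrix.fromCols ((-c) • 1) ((-(σ ε * a)) • 1) := ⟨_, rfl⟩
  have h1 : Ft * F = 0 := by
    rw [hFtdef, hFdef, Matrix.fromCols_mul_fromRows]
    simp only [Matrix.smul_mul, Matrix.mul_smul, Matrix.one_mul, smul_smul]
    exact h11_scal0 _ _ (by linear_combination hε')
  have h2 : F't * F' = 0 := by
    rw [hF'tdef, hF'def, Matrix.fromCols_mul_fromRows]
    simp only [Matrix.smul_mul, Matrix.mul_smul, Matrix.one_mul, smul_smul]
    exact h11_scal0 _ _ (by linear_combination (-(a * c)) * hε')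
  have h3 : Ft * F' = 1 := by
    rw [hFtdef, hF'def, Matrix.fromCols_mul_fromRows]
    simp only [Matrix.smul_mul, Matrix.mul_smul, Matrix.one_mul, smul_smul]
    exact h11_scal1 _ _ (by linear_combination hac + c * hε')
  have h4 : F't * F = 1 := by
    rw [hF'tdef, hFdef, Matrix.fromCols_mul_fromRows]
    simp only [Matrix.smul_mul, Matrix.mul_smul, Matrix.one_mul, smul_smul]
    exact h11_scal1 _ _ (by linear_combination hac - a * hε')
  have h5 : F * F't + F' * Ft = 1 := by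
    rw [hFdef, hF'tdef, hF'def, hFtdef, Matrix.fromRows_mul_fromCols, Matrix.fromRows_mul_fromCols,
      Matrix.fromBlocks_add, ← Matrix.fromBlocks_one]
    simp only [Matrix.smul_mul, Matrix.mul_smul, Matrix.one_mul, smul_smul]
    congr 1
    · exact h11_scal1 _ _ (by linear_combination hac)
    · exact h11_scal0 _ _ (by ring)
    · exact h11_scal0 _ _ (by ring)
    · exact h11_scal1 _ _ (by linear_combination hac + (c - a) * hε)
  have hF : F.map σ = Ftᵀ := by
    rw [hFdef, hFtdef]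
    ext (i | i) j <;> rcases eq_or_ne i j with rfl | hij <;>
      first
      | (simp [Matrix.one_apply, hij, hij.symm, hsa, hsc, hσσ]; done)
      | (simp [hsa, hsc, hσσ]; done)
  have hFt : Ft.map σ = Fᵀ := by
    rw [hFdef, hFtdef]
    ext i (j | j) <;> rcases eq_or_ne i j with rfl | hij <;>
      first
      | (simp [Matrix.one_apply, hij, hij.symm, hsa, hsc, hσσ]; done)
      | (simp [hsa, hsc, hσσ]; done)
  have hF' : F'.map σ = F'tᵀ := by
    rw [hF'def, hF'tdef]
    ext (i | i) j <;> rcases eq_or_ne i j with rfl | hij <;>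
      first
      | (simp [Matrix.one_apply, hij, hij.symm, hsa, hsc, hσσ]; done)
      | (simp [hsa, hsc, hσσ]; done)
  have hF't : F't.map σ = F'ᵀ := by
    rw [hF'def, hF'tdef]
    ext i (j | j) <;> rcases eq_or_ne i j with rfl | hij <;>
      first
      | (simp [Matrix.one_apply, hij, hij.symm, hsa, hsc, hσσ]; done)
      | (simp [hsa, hsc, hσσ]; done)
  -- the inverse of `B`
  have hBiB : B⁻¹ * B = 1 := Matrix.nonsing_inv_mul B (by rw [hB]; exact isUnit_one)
  obtain ⟨Bi, hBi⟩ : ∃ Bi : Matrix (Fin m) (Fin m) K, Bi * B = 1 := ⟨_, hBiB⟩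
  have hmap1 : (Bi.map σ) * (B.map σ) = 1 := by
    rw [← Matrix.map_mul, hBi, Matrix.map_one σ (map_zero σ) (map_one σ)]
  have hdetBi : Bi.det = 1 := by
    have := congrArg Matrix.det hBi
    rw [Matrix.det_mul, hB, mul_one, Matrix.det_one] at this
    exact this
  obtain ⟨D, hDdef⟩ : ∃ D : Matrix (Fin m) (Fin m) K, D = (Bi.map σ)ᵀ := ⟨_, rfl⟩
  have hED : (B.map σ)ᵀ * D = 1 := by
    rw [hDdef, ← Matrix.transpose_mul, hmap1, Matrix.transpose_one]
  have hmm : (Bi.map σ).map σ = Bi := by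
    ext i j
    simp [hσσ]
  have hBD : Bᵀ * D.map σ = 1 := by
    rw [hDdef, Matrix.transpose_map, hmm, ← Matrix.transpose_mul, hBi, Matrix.transpose_one]
  have hDB : Dᵀ * B.map σ = 1 := by
    rw [hDdef, Matrix.transpose_transpose, hmap1]
  have hdetD : D.det = 1 := by
    rw [hDdef, Matrix.det_transpose]
    have := RingHom.map_det σ Bi
    rw [RingHom.mapMatrix_apply] at this
    rw [← this, hdetBi, map_one]
  -- the element
  have hdetG : ((F * B * F't + F' * D * Ft).submatrix (finSumFinEquiv (m := m) (n := m)).symm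
      (finSumFinEquiv (m := m) (n := m)).symm).det = 1 := by
    rw [Matrix.det_submatrix_equiv_self]
    exact h11_levi_det F F' Ft F't h1 h2 h3 h4 h5 B D hB hdetD
  have hpresG : ((F * B * F't + F' * D * Ft).submatrix (finSumFinEquiv (m := m) (n := m)).symm
      (finSumFinEquiv (m := m) (n := m)).symm)ᵀ *
      ((F * B * F't + F' * D * Ft).submatrix (finSumFinEquiv (m := m) (n := m)).symm
      (finSumFinEquiv (m := m) (n := m)).symm).map σ = 1 := by
    rw [Matrix.transpose_submatrix, ← Matrix.submatrix_map, Matrix.submatrix_mul_equiv,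
      h11_levi_unitary σ F F' Ft F't h1 h2 h3 h4 h5 hF hFt hF' hF't B D hBD hDB,
      Matrix.submatrix_one_equiv]
  have hu : ∀ C : Matrix (Fin m) (Fin m) K,
      Matrix.fromBlocks (1 + C) (σ ε • C) (ε • C) (1 - C) = 1 + F * C * Ft := by
    intro C
    rw [hFdef, hFtdef, Matrix.fromRows_mul, Matrix.fromRows_mul_fromCols, ← Matrix.fromBlocks_one,
      Matrix.fromBlocks_add]
    simp only [Matrix.smul_mul, Matrix.mul_smul, Matrix.one_mul, Matrix.mul_one, smul_smul,
      one_smul, hε, neg_smul, mul_one]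
    congr 1
    · rw [zero_add]
    · rw [zero_add]
    · rw [sub_eq_add_neg, hε', neg_smul, one_smul]
  refine ⟨mkSU _ hdetG (h11_herm_pres σ hσ _ hpresG), ?_⟩
  intro C _
  rw [suMat_mkSU]
  unfold uMat
  rw [hu, hu, Matrix.submatrix_mul_equiv, Matrix.submatrix_mul_equiv]
  congr 1
  exact h11_levi_conj F F' Ft F't h1 h3 h4 B D _ C hED

end Cfsg.Agent.Lib.helper44.SUW
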