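import Mathlib

/-!
# Self-dual representations in coprime characteristic (helper11)

* `selfdual_odd`: a nondegenerate invariant bilinear form in characteristic `≠ 2` splits the
  space into an invariant part carrying a nondegenerate alternating invariant form and an
  invariant part carrying a nondegenerate symmetric invariant form (Fitting decomposition of the
  asymmetry operator).
* `exists_invariant_compl`: Maschke for invariant subspaces of a `Representation`.
* `perp_compl`: right orthogonal complement of a subspace on which a (not necessarily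
  reflexive) form is nondegenerate.
* `exists_alt_of_nofix`: in characteristic `2`, a representation without fixed vectors carrying a
  nondegenerate invariant bilinear form carries a nondegenerate invariant alternating form.
-/

set_option autoImplicit false

namespace Cfsg.Agent.Lib.helper11

open Module

universe u v w

section odd

variable {F : Type u} [Field F] {G : Type v} [Group G] {V : Type w} [AddCommGroup V] [Module F V]
  [FiniteDimensional F V]

/-- odd characteristic: split by the Fitting decomposition of `1 - σ`, `σ` the asymmetry. -/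
theorem selfdual_odd (h2 : (2 : F) ≠ 0) (ρ : Representation F G V) (B : LinearMap.BilinForm F V)
    (hB : B.Nondegenerate) (hBinv : ∀ g : G, ∀ x y : V, B (ρ g x) (ρ g y) = B x y) :
    ∃ U W : Submodule F V, IsCompl U W ∧ (∀ g : G, ∀ u ∈ U, ρ g u ∈ U) ∧
      (∀ g : G, ∀ w ∈ W, ρ g w ∈ W) ∧
      (∃ A : LinearMap.BilinForm F V, (∀ x : V, A x x = 0) ∧
        (∀ g : G, ∀ x ∈ U, ∀ y ∈ U, A (ρ g x) (ρ g y) = A x y) ∧
        (∀ x ∈ U, (∀ y ∈ U, A x y = 0) → x = 0)) ∧
      (∃ S : LinearMap.BilinForm F V, (∀ x y : V, S x y = S y x) ∧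
        (∀ g : G, ∀ x ∈ W, ∀ y ∈ W, S (ρ g x) (ρ g y) = S x y) ∧
        (∀ x ∈ W, (∀ y ∈ W, S x y = 0) → x = 0)) := by
  classical
  -- the asymmetry operator
  obtain ⟨σ, hσ⟩ : ∃ σ : V →ₗ[F] V, ∀ v w : V, B (σ w) v = B v w :=
    ⟨LinearMap.BilinForm.symmCompOfNondegenerate B.flip B hB, fun v w => by
      rw [LinearMap.BilinForm.symmCompOfNondegenerate_left_apply]; rfl⟩
  have hiso : ∀ x y, B (σ x) (σ y) = B x y := fun x y => by rw [hσ, hσ]
  have hσρ : ∀ g x, σ (ρ g x) = ρ g (σ x) := by
    intro g x
    apply eq_of_sub_eq_zero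
    apply hB.1
    intro v
    rw [map_sub, LinearMap.sub_apply, hσ, sub_eq_zero]
    have h1 : B v (ρ g x) = B (ρ g⁻¹ v) x := by
      have := hBinv g (ρ g⁻¹ v) x
      rw [← this]
      congr 2
      rw [← Module.End.mul_apply, ← map_mul, mul_inv_cancel, map_one, Module.End.one_apply]
    have h2' : B (ρ g (σ x)) v = B (σ x) (ρ g⁻¹ v) := by
      have := hBinv g (σ x) (ρ g⁻¹ v)
      rw [← this]
      congr 1
      rw [← Module.End.mul_apply, ← map_mul, mul_inv_cancel, map_one, Module.End.one_apply]
    rw [h1, h2', hσ]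
  -- f = 1 - σ
  obtain ⟨f, hf⟩ : ∃ f : V →ₗ[F] V, ∀ x, f x = x - σ x := ⟨LinearMap.id - σ, fun x => rfl⟩
  have hfσ : ∀ x, f (σ x) = σ (f x) := fun x => by rw [hf, hf, map_sub]
  have hfρ : ∀ g x, f (ρ g x) = ρ g (f x) := fun g x => by rw [hf, hf, map_sub, hσρ]
  have hfpowσ : ∀ (n : ℕ) x, (f ^ n) (σ x) = σ ((f ^ n) x) := by
    intro n
    induction n with
    | zero => intro x; simp
    | succ n ih => intro x; rw [pow_succ, Module.End.mul_apply, hfσ, ih, Module.End.mul_apply]
  have hfpowρ : ∀ (n : ℕ) g x, (f ^ n) (ρ g x) = ρ g ((f ^ n) x) := by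
    intro n
    induction n with
    | zero => intro g x; simp
    | succ n ih => intro g x; rw [pow_succ, Module.End.mul_apply, hfρ, ih, Module.End.mul_apply]
  -- adjoint-type relation
  have hadj : ∀ x y, B (f x) y = - B (σ x) (f y) := by
    intro x y
    rw [hf, hf, map_sub, map_sub, LinearMap.sub_apply, hiso]
    ring
  have hadjpow : ∀ (n : ℕ) x y, (f ^ n) y = 0 → B ((f ^ n) x) y = 0 := by
    intro n
    induction n with
    | zero => intro x y hy; simp at hy; simp [hy]
    | succ n ih =>
      intro x y hy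
      rw [pow_succ', Module.End.mul_apply, hadj]
      have : B (σ ((f ^ n) x)) (f y) = 0 := by
        rw [← hfpowσ]
        apply ih
        rw [← Module.End.mul_apply, ← pow_succ]
        exact hy
      rw [this, neg_zero]
  -- Fitting decomposition
  obtain ⟨N, hN⟩ := Filter.eventually_atTop.mp (LinearMap.eventually_isCompl_ker_pow_range_pow f)
  have hc := hN (N + 1) (Nat.le_succ N)
  set n := N + 1 with hn
  refine ⟨LinearMap.range (f ^ n), LinearMap.ker (f ^ n), hc.symm, ?_, ?_, ?_, ?_⟩
  · rintro g _ ⟨x, rfl⟩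
    exact ⟨ρ g x, hfpowρ n g x⟩
  · intro g w hw
    rw [LinearMap.mem_ker] at hw ⊢
    rw [hfpowρ, hw, map_zero]
  · -- alternating part
    have hUW : ∀ u ∈ LinearMap.range (f ^ n), ∀ w ∈ LinearMap.ker (f ^ n), B u w = 0 := by
      rintro _ ⟨x, rfl⟩ w hw
      exact hadjpow n x w (LinearMap.mem_ker.mp hw)
    refine ⟨B - B.flip, fun x => by simp, fun g x _ y _ => by simp [hBinv], ?_⟩
    intro x hx hxy
    have hfx : f x ∈ LinearMap.range (f ^ n) := by
      obtain ⟨z, rfl⟩ := hx
      exact ⟨f z, by rw [← Module.End.mul_apply, ← pow_succ, pow_succ', Module.End.mul_apply]⟩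
    have h0 : f x = 0 := by
      apply hB.1
      intro v
      have hv : v ∈ LinearMap.ker (f ^ n) ⊔ LinearMap.range (f ^ n) := by
        rw [hc.sup_eq_top]; trivial
      obtain ⟨w, hw, u, hu, rfl⟩ := Submodule.mem_sup.mp hv
      rw [map_add, hUW _ hfx w hw, zero_add]
      have := hxy u hu
      rw [LinearMap.sub_apply, LinearMap.sub_apply, LinearMap.BilinForm.flip_apply] at this
      rw [hf, map_sub, LinearMap.sub_apply, hσ]
      exact this
    have hxk : x ∈ LinearMap.ker (f ^ n) := by
      rw [LinearMap.mem_ker, hn, pow_succ, Module.End.mul_apply, h0, map_zero]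
    have : x ∈ LinearMap.ker (f ^ n) ⊓ LinearMap.range (f ^ n) := ⟨hxk, hx⟩
    rw [hc.inf_eq_bot] at this
    exact (Submodule.mem_bot F).mp this
  · -- symmetric part
    have hUW : ∀ u ∈ LinearMap.range (f ^ n), ∀ w ∈ LinearMap.ker (f ^ n), B u w = 0 := by
      rintro _ ⟨x, rfl⟩ w hw
      exact hadjpow n x w (LinearMap.mem_ker.mp hw)
    have hWU : ∀ w ∈ LinearMap.ker (f ^ n), ∀ u ∈ LinearMap.range (f ^ n), B w u = 0 := by
      rintro w hw _ ⟨x, rfl⟩
      rw [← hσ, ← hfpowσ]
      exact hadjpow n (σ x) w (LinearMap.mem_ker.mp hw)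
    refine ⟨B + B.flip, fun x y => by simp [add_comm], fun g x _ y _ => by simp [hBinv], ?_⟩
    intro x hx hxy
    have hx' : (f ^ n) x = 0 := LinearMap.mem_ker.mp hx
    have hmem : x + σ x ∈ LinearMap.ker (f ^ n) := by
      rw [LinearMap.mem_ker, map_add, hfpowσ, hx', map_zero, add_zero]
    have h0 : x + σ x = 0 := by
      apply hB.1
      intro v
      have hv : v ∈ LinearMap.ker (f ^ n) ⊔ LinearMap.range (f ^ n) := by
        rw [hc.sup_eq_top]; trivial
      obtain ⟨w, hw, u, hu, rfl⟩ := Submodule.mem_sup.mp hv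
      rw [map_add, hWU _ hmem u hu, add_zero]
      have := hxy w hw
      rw [LinearMap.add_apply, LinearMap.add_apply, LinearMap.BilinForm.flip_apply] at this
      rw [map_add, LinearMap.add_apply, hσ]
      exact this
    -- f x = 2 x
    have hfx : f x = (2 : F) • x := by
      rw [hf, two_smul]
      have : σ x = -x := eq_neg_of_add_eq_zero_right h0
      rw [this]; abel
    have hpow : ∀ k : ℕ, (f ^ k) x = (2 : F) ^ k • x := by
      intro k
      induction k with
      | zero => simp
      | succ k ih => rw [pow_succ', Module.End.mul_apply, ih, map_smul, hfx, smul_smul, pow_succ]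
    rw [hpow n] at hx'
    rcases smul_eq_zero.mp hx' with h | h
    · exact absurd h (pow_ne_zero n h2)
    · exact h

end odd

section maschke

variable {F : Type u} [Field F] {G : Type v} [Group G] {V : Type w} [AddCommGroup V] [Module F V]

theorem rho_inv_apply (ρ : Representation F G V) (g : G) (x : V) : ρ g (ρ g⁻¹ x) = x := by
  rw [← Module.End.mul_apply, ← map_mul, mul_inv_cancel, map_one, Module.End.one_apply]

theorem rho_inv_apply' (ρ : Representation F G V) (g : G) (x : V) : ρ g⁻¹ (ρ g x) = x := by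
  rw [← Module.End.mul_apply, ← map_mul, inv_mul_cancel, map_one, Module.End.one_apply]

/-- Maschke's theorem for invariant subspaces of a representation. -/
theorem exists_invariant_compl [Finite G] (hG : (Nat.card G : F) ≠ 0) (ρ : Representation F G V)
    (N : Submodule F V) (hN : ∀ g : G, ∀ x ∈ N, ρ g x ∈ N) :
    ∃ N' : Submodule F V, IsCompl N N' ∧ ∀ g : G, ∀ x ∈ N', ρ g x ∈ N' := by
  classical
  let _ : Fintype G := Fintype.ofFinite G
  obtain ⟨N0, hN0⟩ := Submodule.exists_isCompl N
  obtain ⟨π0, hπ0mem, hπ0id⟩ : ∃ π0 : V →ₗ[F] V, (∀ x, π0 x ∈ N) ∧ ∀ x ∈ N, π0 x = x :=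
    ⟨N.projection N0 hN0, fun x => Submodule.projection_apply_mem hN0 x,
      fun x hx => Submodule.projection_apply_of_mem_left hN0 hx⟩
  obtain ⟨π, hπ⟩ : ∃ π : V →ₗ[F] V,
      ∀ x, π x = (Nat.card G : F)⁻¹ • ∑ g : G, ρ g (π0 (ρ g⁻¹ x)) :=
    ⟨(Nat.card G : F)⁻¹ • ∑ g : G, ρ g ∘ₗ π0 ∘ₗ ρ g⁻¹, fun x => by
      simp [LinearMap.sum_apply]⟩
  have hπmem : ∀ x, π x ∈ N := by
    intro x
    rw [hπ]
    exact N.smul_mem _ (N.sum_mem fun g _ => hN g _ (hπ0mem _))
  have hπid : ∀ x ∈ N, π x = x := by
    intro x hx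
    rw [hπ]
    have : ∀ g : G, ρ g (π0 (ρ g⁻¹ x)) = x := fun g => by
      rw [hπ0id _ (hN g⁻¹ x hx), rho_inv_apply]
    simp only [this, Finset.sum_const, Finset.card_univ, ← Nat.card_eq_fintype_card]
    rw [← Nat.cast_smul_eq_nsmul F, smul_smul, inv_mul_cancel₀ hG, one_smul]
  have hπρ : ∀ h x, π (ρ h x) = ρ h (π x) := by
    intro h x
    rw [hπ, hπ, map_smul, map_sum]
    congr 1
    refine Fintype.sum_equiv (Equiv.mulLeft h⁻¹) _ _ (fun g => ?_)
    simp only [Equiv.coe_mulLeft]
    rw [← Module.End.mul_apply (ρ h), ← map_mul, mul_inv_cancel_left, mul_inv_rev, inv_inv,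
      map_mul, Module.End.mul_apply]
  refine ⟨LinearMap.ker π, ⟨?_, ?_⟩, ?_⟩
  · rw [Submodule.disjoint_def]
    intro x hx hx'
    rw [← hπid x hx]
    exact LinearMap.mem_ker.mp hx'
  · rw [codisjoint_iff, Submodule.eq_top_iff']
    intro x
    refine Submodule.mem_sup.mpr ⟨π x, hπmem x, x - π x, ?_, by abel⟩
    rw [LinearMap.mem_ker, map_sub, hπid _ (hπmem x), sub_self]
  · intro g x hx
    rw [LinearMap.mem_ker] at hx ⊢
    rw [hπρ, hx, map_zero]

/-- the projection along an invariant complement commutes with the action -/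
theorem projection_comm (ρ : Representation F G V) {H H' : Submodule F V} (hc : IsCompl H H')
    (hH : ∀ g : G, ∀ x ∈ H, ρ g x ∈ H) (hH' : ∀ g : G, ∀ x ∈ H', ρ g x ∈ H') (g : G) (x : V) :
    H.projection H' hc (ρ g x) = ρ g (H.projection H' hc x) := by
  have hx := Submodule.projection_add_projection_eq_self hc x
  conv_lhs => rw [← hx]
  rw [map_add, map_add,
    Submodule.projection_apply_of_mem_left hc (hH g _ (Submodule.projection_apply_mem hc x)),
    Submodule.projection_apply_of_mem_right hc
      (hH' g _ (Submodule.projection_apply_mem hc.symm x)), add_zero]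

end maschke

section perp

variable {F : Type u} [Field F] {V : Type w} [AddCommGroup V] [Module F V] [FiniteDimensional F V]

/-- If `B` is left-nondegenerate on `V` and on the subspace `H`, then the right orthogonal
complement of `H` is a complement of `H` on which `B` is again left-nondegenerate.  No
reflexivity is assumed. -/
theorem perp_compl (B : LinearMap.BilinForm F V) (hB : ∀ x, (∀ y, B x y = 0) → x = 0)
    (H : Submodule F V) (hH : ∀ x ∈ H, (∀ y ∈ H, B x y = 0) → x = 0) :
    IsCompl H (B.orthogonal H) ∧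
      ∀ x ∈ B.orthogonal H, (∀ y ∈ B.orthogonal H, B x y = 0) → x = 0 := by
  classical
  have hmem : ∀ y, y ∈ B.orthogonal H ↔ ∀ h ∈ H, B h y = 0 := fun y => by
    rw [LinearMap.BilinForm.mem_orthogonal_iff]
  -- φ : H → H*, h ↦ B h ·
  let φ : H →ₗ[F] Module.Dual F H := B.restrict H
  have hφ : ∀ (h k : H), φ h k = B h k := fun h k => rfl
  have hφinj : Function.Injective φ := by
    rw [← LinearMap.ker_eq_bot, LinearMap.ker_eq_bot']
    intro h hh
    apply Subtype.ext
    apply hH h h.2
    intro y hy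
    have := congrArg (fun ℓ : Module.Dual F H => ℓ ⟨y, hy⟩) hh
    simpa [hφ] using this
  have hφsurj : Function.Surjective φ :=
    (LinearMap.injective_iff_surjective_of_finrank_eq_finrank
      (Subspace.dual_finrank_eq (K := F) (V := H)).symm).mp hφinj
  -- φ' : H → H*, h0 ↦ B · h0
  let φ' : H →ₗ[F] Module.Dual F H := (B.restrict H).flip
  have hφ' : ∀ (h k : H), φ' h k = B k h := fun h k => rfl
  have hφ'inj : Function.Injective φ' := by
    rw [← LinearMap.ker_eq_bot, LinearMap.ker_eq_bot']
    intro h hh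
    rw [← Module.forall_dual_apply_eq_zero_iff F h]
    intro ℓ
    obtain ⟨k, rfl⟩ := hφsurj ℓ
    have := congrArg (fun ℓ : Module.Dual F H => ℓ k) hh
    simpa [hφ, hφ'] using this
  have hφ'surj : Function.Surjective φ' :=
    (LinearMap.injective_iff_surjective_of_finrank_eq_finrank
      (Subspace.dual_finrank_eq (K := F) (V := H)).symm).mp hφ'inj
  have hdisj : Disjoint H (B.orthogonal H) := by
    rw [Submodule.disjoint_def]
    intro x hx hx'
    have h1 : φ' ⟨x, hx⟩ = 0 := by
      ext k
      rw [hφ']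
      exact (hmem x).mp hx' k k.2
    have h2 := hφ'inj (h1.trans (map_zero φ').symm)
    exact congrArg Subtype.val h2
  have hcod : H ⊔ B.orthogonal H = ⊤ := by
    rw [Submodule.eq_top_iff']
    intro v
    obtain ⟨h0, hh0⟩ := hφ'surj ((B.flip v).comp H.subtype)
    refine Submodule.mem_sup.mpr ⟨h0, h0.2, v - h0, ?_, by abel⟩
    rw [hmem]
    intro h hh
    have := congrArg (fun ℓ : Module.Dual F H => ℓ ⟨h, hh⟩) hh0
    simp only [hφ', LinearMap.comp_apply, Submodule.subtype_apply,
      LinearMap.BilinForm.flip_apply] at this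
    rw [map_sub, this, sub_self]
  refine ⟨⟨hdisj, codisjoint_iff.mpr hcod⟩, ?_⟩
  intro x hx hxy
  obtain ⟨h0, hh0⟩ := hφsurj ((B x).comp H.subtype)
  have hz : x - h0 = 0 := by
    apply hB
    intro v
    have hv : v ∈ H ⊔ B.orthogonal H := by rw [hcod]; trivial
    obtain ⟨h, hh, y, hy, rfl⟩ := Submodule.mem_sup.mp hv
    have h1 := congrArg (fun ℓ : Module.Dual F H => ℓ ⟨h, hh⟩) hh0
    simp only [hφ, LinearMap.comp_apply, Submodule.subtype_apply] at h1
    have h2 : B h0 y = 0 := (hmem y).mp hy h0 h0.2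
    rw [map_sub, LinearMap.sub_apply, map_add, map_add, h1, hxy y hy, h2]
    ring
  have hx0 : x = h0 := sub_eq_zero.mp hz
  have : x ∈ H ⊓ B.orthogonal H := ⟨hx0 ▸ h0.2, hx⟩
  rw [hdisj.eq_bot] at this
  exact (Submodule.mem_bot F).mp this

end perp

section glue

variable {F : Type u} [Field F] {G : Type v} [Group G] {V : Type w} [AddCommGroup V] [Module F V]

/-- the restriction of a representation to an invariant subspace -/
def subRep (ρ : Representation F G V) (H : Submodule F V) (hH : ∀ g : G, ∀ x ∈ H, ρ g x ∈ H) :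
    Representation F G H where
  toFun g := (ρ g).restrict (hH g)
  map_one' := by
    ext x
    simp
  map_mul' g h := by
    ext x
    simp

theorem subRep_coe (ρ : Representation F G V) (H : Submodule F V)
    (hH : ∀ g : G, ∀ x ∈ H, ρ g x ∈ H) (g : G) (x : H) :
    ((subRep ρ H hH g x : H) : V) = ρ g x := rfl

/-- transfer a form on an invariant subspace (as a type) to the ambient space -/
theorem alt_of_subtype (ρ : Representation F G V) {H H' : Submodule F V} (hc : IsCompl H H')
    (hH : ∀ g : G, ∀ x ∈ H, ρ g x ∈ H)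
    (A' : LinearMap.BilinForm F H) (ha : ∀ x, A' x x = 0)
    (hi : ∀ g x y, A' (subRep ρ H hH g x) (subRep ρ H hH g y) = A' x y)
    (hn : ∀ x, (∀ y, A' x y = 0) → x = 0) :
    ∃ A : LinearMap.BilinForm F V, (∀ x, A x x = 0) ∧
      (∀ g : G, ∀ x ∈ H, ∀ y ∈ H, A (ρ g x) (ρ g y) = A x y) ∧
      (∀ x ∈ H, (∀ y ∈ H, A x y = 0) → x = 0) := by
  refine ⟨A'.compl₁₂ (H.projectionOnto H' hc) (H.projectionOnto H' hc), fun x => ?_,
    fun g x hx y hy => ?_, fun x hx hxy => ?_⟩
  · rw [LinearMap.compl₁₂_apply, ha]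
  · rw [LinearMap.compl₁₂_apply, LinearMap.compl₁₂_apply,
      Submodule.projectionOnto_apply_of_mem_left hc (hH g x hx),
      Submodule.projectionOnto_apply_of_mem_left hc (hH g y hy),
      Submodule.projectionOnto_apply_of_mem_left hc hx,
      Submodule.projectionOnto_apply_of_mem_left hc hy]
    exact hi g ⟨x, hx⟩ ⟨y, hy⟩
  · have : (⟨x, hx⟩ : H) = 0 := by
      apply hn
      intro y
      have := hxy y y.2
      rw [LinearMap.compl₁₂_apply, Submodule.projectionOnto_apply_of_mem_left hc hx,
        Submodule.projectionOnto_apply_of_mem_left hc y.2] at this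
      exact this
    exact congrArg Subtype.val this

/-- glue two forms on complementary invariant subspaces -/
theorem alt_glue (ρ : Representation F G V) {H H' : Submodule F V} (hc : IsCompl H H')
    (hH : ∀ g : G, ∀ x ∈ H, ρ g x ∈ H) (hH' : ∀ g : G, ∀ x ∈ H', ρ g x ∈ H')
    (A₁ : LinearMap.BilinForm F V) (h1a : ∀ x ∈ H, A₁ x x = 0)
    (h1i : ∀ g : G, ∀ x ∈ H, ∀ y ∈ H, A₁ (ρ g x) (ρ g y) = A₁ x y)
    (h1n : ∀ x ∈ H, (∀ y ∈ H, A₁ x y = 0) → x = 0)
    (A₂ : LinearMap.BilinForm F V) (h2a : ∀ x ∈ H', A₂ x x = 0)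
    (h2i : ∀ g : G, ∀ x ∈ H', ∀ y ∈ H', A₂ (ρ g x) (ρ g y) = A₂ x y)
    (h2n : ∀ x ∈ H', (∀ y ∈ H', A₂ x y = 0) → x = 0) :
    ∃ A : LinearMap.BilinForm F V, (∀ x, A x x = 0) ∧
      (∀ (g : G) (x y : V), A (ρ g x) (ρ g y) = A x y) ∧ (∀ x, (∀ y, A x y = 0) → x = 0) := by
  obtain ⟨P, hP⟩ : ∃ P : V →ₗ[F] V, P = H.projection H' hc := ⟨_, rfl⟩
  obtain ⟨P', hP'⟩ : ∃ P' : V →ₗ[F] V, P' = H'.projection H hc.symm := ⟨_, rfl⟩
  have hPm : ∀ x, P x ∈ H := fun x => hP ▸ Submodule.projection_apply_mem hc x
  have hP'm : ∀ x, P' x ∈ H' := fun x => hP' ▸ Submodule.projection_apply_mem hc.symm x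
  have hPl : ∀ x ∈ H, P x = x := fun x hx => hP ▸ Submodule.projection_apply_of_mem_left hc hx
  have hPr : ∀ x ∈ H', P x = 0 := fun x hx => hP ▸ Submodule.projection_apply_of_mem_right hc hx
  have hP'l : ∀ x ∈ H', P' x = x := fun x hx =>
    hP' ▸ Submodule.projection_apply_of_mem_left hc.symm hx
  have hP'r : ∀ x ∈ H, P' x = 0 := fun x hx =>
    hP' ▸ Submodule.projection_apply_of_mem_right hc.symm hx
  have hadd : ∀ x, P x + P' x = x := fun x => by
    rw [hP, hP']; exact Submodule.projection_add_projection_eq_self hc x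
  have hPρ : ∀ g x, P (ρ g x) = ρ g (P x) := fun g x => by
    rw [hP]; exact projection_comm ρ hc hH hH' g x
  have hP'ρ : ∀ g x, P' (ρ g x) = ρ g (P' x) := fun g x => by
    rw [hP']; exact projection_comm ρ hc.symm hH' hH g x
  refine ⟨A₁.compl₁₂ P P + A₂.compl₁₂ P' P', fun x => ?_, fun g x y => ?_, fun x hxy => ?_⟩
  · rw [LinearMap.add_apply, LinearMap.add_apply, LinearMap.compl₁₂_apply,
      LinearMap.compl₁₂_apply, h1a _ (hPm x), h2a _ (hP'm x), add_zero]
  · rw [LinearMap.add_apply, LinearMap.add_apply, LinearMap.compl₁₂_apply,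
      LinearMap.compl₁₂_apply, LinearMap.add_apply, LinearMap.add_apply, LinearMap.compl₁₂_apply,
      LinearMap.compl₁₂_apply, hPρ, hPρ, hP'ρ, hP'ρ, h1i g _ (hPm x) _ (hPm y),
      h2i g _ (hP'm x) _ (hP'm y)]
  · have h1 : P x = 0 := by
      apply h1n _ (hPm x)
      intro y hy
      have := hxy y
      rw [LinearMap.add_apply, LinearMap.add_apply, LinearMap.compl₁₂_apply,
        LinearMap.compl₁₂_apply, hPl y hy, hP'r y hy, map_zero, add_zero] at this
      exact this
    have h2 : P' x = 0 := by
      apply h2n _ (hP'm x)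
      intro y hy
      have := hxy y
      rw [LinearMap.add_apply, LinearMap.add_apply, LinearMap.compl₁₂_apply,
        LinearMap.compl₁₂_apply, hPr y hy, hP'l y hy, map_zero, zero_add] at this
      exact this
    rw [← hadd x, h1, h2, add_zero]

end glue

section chartwo

variable {F : Type u} [Field F] {G : Type v} [Group G]

/-- In characteristic `2` and coprime order: a representation without nonzero fixed vectors that
carries a (left-)nondegenerate invariant bilinear form carries a nondegenerate invariant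
alternating form. -/
theorem exists_alt_of_nofix (h2 : (2 : F) = 0) [Finite G] (hG : (Nat.card G : F) ≠ 0) :
    ∀ (n : ℕ) (V : Type w) [AddCommGroup V] [Module F V] [FiniteDimensional F V]
      (ρ : Representation F G V) (B : LinearMap.BilinForm F V), finrank F V = n →
      (∀ x, (∀ y, B x y = 0) → x = 0) →
      (∀ (g : G) (x y : V), B (ρ g x) (ρ g y) = B x y) →
      (∀ x, (∀ g : G, ρ g x = x) → x = 0) →
      ∃ A : LinearMap.BilinForm F V, (∀ x, A x x = 0) ∧
        (∀ (g : G) (x y : V), A (ρ g x) (ρ g y) = A x y) ∧ (∀ x, (∀ y, A x y = 0) → x = 0) := by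
  intro n
  induction n using Nat.strong_induction_on with
  | _ n ih =>
    intro V _ _ _ ρ B hn hB hBinv hfix
    classical
    have hBinv' : ∀ (g : G) (x y : V), B x (ρ g y) = B (ρ g⁻¹ x) y := by
      intro g x y
      have := hBinv g (ρ g⁻¹ x) y
      rw [rho_inv_apply] at this
      exact this
    have hBinv'' : ∀ (g : G) (x y : V), B (ρ g x) y = B x (ρ g⁻¹ y) := by
      intro g x y
      have := hBinv g x (ρ g⁻¹ y)
      rw [rho_inv_apply] at this
      exact this
    have horth : ∀ (K : Submodule F V) (y : V), y ∈ B.orthogonal K ↔ ∀ h ∈ K, B h y = 0 :=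
      fun K y => by rw [LinearMap.BilinForm.mem_orthogonal_iff]
    have horthinv : ∀ K : Submodule F V, (∀ g : G, ∀ x ∈ K, ρ g x ∈ K) →
        ∀ g : G, ∀ y ∈ B.orthogonal K, ρ g y ∈ B.orthogonal K := by
      intro K hK g y hy
      rw [horth] at hy ⊢
      intro h hh
      rw [hBinv']
      exact hy _ (hK g⁻¹ h hh)
    -- the radical of the asymmetry
    obtain ⟨R, hR⟩ : ∃ R : Submodule F V, ∀ x, x ∈ R ↔ ∀ y, B x y = B y x := by
      refine ⟨LinearMap.ker (B - B.flip), fun x => ?_⟩
      rw [LinearMap.mem_ker, LinearMap.ext_iff]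
      refine forall_congr' fun y => ?_
      rw [LinearMap.sub_apply, LinearMap.sub_apply, LinearMap.BilinForm.flip_apply,
        LinearMap.zero_apply, sub_eq_zero]
    have hRinv : ∀ g : G, ∀ x ∈ R, ρ g x ∈ R := by
      intro g x hx
      rw [hR] at hx ⊢
      intro y
      rw [hBinv'', hx, hBinv']
    by_cases hR0 : R = ⊥
    · refine ⟨B - B.flip, fun x => by simp, fun g x y => by simp [hBinv], fun x hx => ?_⟩
      have : x ∈ R := by
        rw [hR]
        intro y
        have := hx y
        rw [LinearMap.sub_apply, LinearMap.sub_apply, LinearMap.BilinForm.flip_apply,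
          sub_eq_zero] at this
        exact this
      rw [hR0] at this
      exact (Submodule.mem_bot F).mp this
    -- a minimal invariant subspace of the radical
    obtain ⟨M, ⟨hM0, hMR, hMinv⟩, hMmin⟩ := WellFounded.has_min
      (wellFounded_lt (α := Submodule F V))
      {M : Submodule F V | M ≠ ⊥ ∧ M ≤ R ∧ ∀ g : G, ∀ x ∈ M, ρ g x ∈ M} ⟨R, hR0, le_rfl, hRinv⟩
    have hirr : ∀ M' : Submodule F V, M' ≤ M → (∀ g : G, ∀ x ∈ M', ρ g x ∈ M') →
        M' = ⊥ ∨ M' = M := by
      intro M' hle hinv
      by_cases h0 : M' = ⊥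
      · exact Or.inl h0
      · right
        by_contra hne
        exact hMmin M' ⟨h0, hle.trans hMR, hinv⟩ (lt_of_le_of_ne hle hne)
    have hsym : ∀ m ∈ M, ∀ y, B m y = B y m := fun m hm => (hR m).mp (hMR hm)
    have hPinv := horthinv M hMinv
    -- the key dichotomy
    obtain ⟨H, hH0, hHinv, hHnd, A₁, hA₁a, hA₁i, hA₁n⟩ : ∃ H : Submodule F V, H ≠ ⊥ ∧
        (∀ g : G, ∀ x ∈ H, ρ g x ∈ H) ∧ (∀ x ∈ H, (∀ y ∈ H, B x y = 0) → x = 0) ∧
        ∃ A₁ : LinearMap.BilinForm F V, (∀ x ∈ H, A₁ x x = 0) ∧
          (∀ g : G, ∀ x ∈ H, ∀ y ∈ H, A₁ (ρ g x) (ρ g y) = A₁ x y) ∧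
          (∀ x ∈ H, (∀ y ∈ H, A₁ x y = 0) → x = 0) := by
      rcases hirr (M ⊓ B.orthogonal M) inf_le_left
        (fun g x hx => ⟨hMinv g x hx.1, hPinv g x hx.2⟩) with hcase | hcase
      · -- `B` is nondegenerate on `M`
        have hnd : ∀ x ∈ M, (∀ y ∈ M, B x y = 0) → x = 0 := by
          intro x hx hxy
          have : x ∈ M ⊓ B.orthogonal M :=
            ⟨hx, (horth M x).mpr fun m hm => by rw [hsym m hm]; exact hxy m hm⟩
          rw [hcase] at this
          exact (Submodule.mem_bot F).mp this
        -- `B` is alternating on `M`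
        have halt : ∀ x ∈ M, B x x = 0 := by
          let Q : Submodule F V :=
            { carrier := {x | x ∈ M ∧ B x x = 0}
              add_mem' := by
                rintro a b ⟨ha, ha'⟩ ⟨hb, hb'⟩
                refine ⟨M.add_mem ha hb, ?_⟩
                have h3 : B (a + b) (a + b) = B a a + B a b + (B b a + B b b) := by
                  simp only [map_add, LinearMap.add_apply]
                  ring
                show B (a + b) (a + b) = 0
                rw [h3, ha', hb', hsym b hb a]
                linear_combination (B a b) * h2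
              zero_mem' := ⟨M.zero_mem, by simp⟩
              smul_mem' := by
                rintro c a ⟨ha, ha'⟩
                refine ⟨M.smul_mem c ha, ?_⟩
                have h3 : B (c • a) (c • a) = c * (c * B a a) := by
                  simp only [map_smul, LinearMap.smul_apply, smul_eq_mul]
                show B (c • a) (c • a) = 0
                rw [h3, ha', mul_zero, mul_zero] }
          have hQ : ∀ x, x ∈ Q ↔ x ∈ M ∧ B x x = 0 := fun x => Iff.rfl
          rcases hirr Q (fun x hx => ((hQ x).mp hx).1)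
            (fun g x hx => (hQ _).mpr ⟨hMinv g x ((hQ x).mp hx).1, by
              rw [hBinv]; exact ((hQ x).mp hx).2⟩) with hQ0 | hQM
          · exfalso
            apply hM0
            rw [Submodule.eq_bot_iff]
            intro x hx
            apply hfix
            intro g
            have : ρ g x - x ∈ Q := by
              rw [hQ]
              refine ⟨M.sub_mem (hMinv g x hx) hx, ?_⟩
              have h3 : B (ρ g x - x) (ρ g x - x) =
                  B (ρ g x) (ρ g x) - B (ρ g x) x - (B x (ρ g x) - B x x) := by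
                simp only [map_sub, LinearMap.sub_apply]
                ring
              rw [h3, hBinv, hsym x hx (ρ g x)]
              linear_combination (B x x - B (ρ g x) x) * h2
            rw [hQ0] at this
            exact sub_eq_zero.mp ((Submodule.mem_bot F).mp this)
          · intro x hx
            rw [← hQM] at hx
            exact ((hQ x).mp hx).2
        exact ⟨M, hM0, hMinv, hnd, B, halt, fun g x _ y _ => hBinv g x y, hnd⟩
      · -- `M` is totally isotropic
        have hMle : M ≤ B.orthogonal M := inf_eq_left.mp hcase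
        obtain ⟨M', hc', hM'inv⟩ := exists_invariant_compl hG ρ (B.orthogonal M) hPinv
        obtain ⟨P, hP⟩ : ∃ P : V →ₗ[F] V, P = (B.orthogonal M).projection M' hc' := ⟨_, rfl⟩
        obtain ⟨P', hP'⟩ : ∃ P' : V →ₗ[F] V, P' = M'.projection (B.orthogonal M) hc'.symm :=
          ⟨_, rfl⟩
        have hPl : ∀ x ∈ B.orthogonal M, P x = x := fun x hx =>
          hP ▸ Submodule.projection_apply_of_mem_left hc' hx
        have hPr : ∀ x ∈ M', P x = 0 := fun x hx =>
          hP ▸ Submodule.projection_apply_of_mem_right hc' hx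
        have hP'l : ∀ x ∈ M', P' x = x := fun x hx =>
          hP' ▸ Submodule.projection_apply_of_mem_left hc'.symm hx
        have hP'r : ∀ x ∈ B.orthogonal M, P' x = 0 := fun x hx =>
          hP' ▸ Submodule.projection_apply_of_mem_right hc'.symm hx
        have hPρ : ∀ g x, P (ρ g x) = ρ g (P x) := fun g x => by
          rw [hP]; exact projection_comm ρ hc' hPinv hM'inv g x
        have hP'ρ : ∀ g x, P' (ρ g x) = ρ g (P' x) := fun g x => by
          rw [hP']; exact projection_comm ρ hc'.symm hM'inv hPinv g x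
        have hzero : ∀ m' ∈ M', (∀ y ∈ M, B y m' = 0) → m' = 0 := by
          intro m' hm' h
          have : m' ∈ B.orthogonal M ⊓ M' := ⟨(horth M m').mpr h, hm'⟩
          rw [hc'.inf_eq_bot] at this
          exact (Submodule.mem_bot F).mp this
        have hzero' : ∀ m ∈ M, (∀ y ∈ M', B m y = 0) → m = 0 := by
          intro m hm h
          apply hB
          intro v
          have hv : v ∈ B.orthogonal M ⊔ M' := by rw [hc'.sup_eq_top]; trivial
          obtain ⟨a, ha, b, hb, rfl⟩ := Submodule.mem_sup.mp hv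
          rw [map_add, (horth M a).mp ha m hm, h b hb, add_zero]
        refine ⟨M ⊔ M', fun h => hM0 (le_bot_iff.mp (h ▸ le_sup_left)), ?_, ?_,
          (B.compl₁₂ P P') + (B.compl₁₂ P P').flip, ?_, ?_, ?_⟩
        · intro g x hx
          obtain ⟨m, hm, m', hm', rfl⟩ := Submodule.mem_sup.mp hx
          rw [map_add]
          exact Submodule.add_mem_sup (hMinv g m hm) (hM'inv g m' hm')
        · intro x hx hxy
          obtain ⟨m, hm, m', hm', rfl⟩ := Submodule.mem_sup.mp hx
          have h1 : m' = 0 := by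
            apply hzero m' hm'
            intro y hy
            have := hxy y (Submodule.mem_sup_left hy)
            rw [map_add, LinearMap.add_apply, (horth M y).mp (hMle hy) m hm, zero_add] at this
            rw [hsym y hy]
            exact this
          have h2' : m = 0 := by
            apply hzero' m hm
            intro y hy
            have := hxy y (Submodule.mem_sup_right hy)
            rw [h1, add_zero] at this
            exact this
          rw [h1, h2', add_zero]
        · intro x _
          rw [LinearMap.add_apply, LinearMap.add_apply, LinearMap.flip_apply]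
          linear_combination (B.compl₁₂ P P' x x) * h2
        · intro g x _ y _
          rw [LinearMap.add_apply, LinearMap.add_apply, LinearMap.flip_apply,
            LinearMap.add_apply, LinearMap.add_apply, LinearMap.flip_apply,
            LinearMap.compl₁₂_apply, LinearMap.compl₁₂_apply, LinearMap.compl₁₂_apply,
            LinearMap.compl₁₂_apply, hPρ, hPρ, hP'ρ, hP'ρ, hBinv, hBinv]
        · intro x hx hxy
          obtain ⟨m, hm, m', hm', rfl⟩ := Submodule.mem_sup.mp hx
          have hPx : P (m + m') = m := by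
            rw [map_add, hPl m (hMle hm), hPr m' hm', add_zero]
          have hP'x : P' (m + m') = m' := by
            rw [map_add, hP'r m (hMle hm), hP'l m' hm', zero_add]
          have h1 : m' = 0 := by
            apply hzero m' hm'
            intro y hy
            have := hxy y (Submodule.mem_sup_left hy)
            rw [LinearMap.add_apply, LinearMap.add_apply, LinearMap.flip_apply,
              LinearMap.compl₁₂_apply, LinearMap.compl₁₂_apply, hPx, hP'x, hPl y (hMle hy),
              hP'r y (hMle hy), map_zero, zero_add] at this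
            exact this
          have h2' : m = 0 := by
            apply hzero' m hm
            intro y hy
            have := hxy y (Submodule.mem_sup_right hy)
            rw [LinearMap.add_apply, LinearMap.add_apply, LinearMap.flip_apply,
              LinearMap.compl₁₂_apply, LinearMap.compl₁₂_apply, hPx, hP'x, hPr y hy,
              hP'l y hy, map_zero, LinearMap.zero_apply, add_zero] at this
            exact this
          rw [h1, h2', add_zero]
    -- the orthogonal complement and induction
    obtain ⟨hc, hH'nd⟩ := perp_compl B hB H hHnd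
    have hH'inv := horthinv H hHinv
    have hlt : finrank F (B.orthogonal H) < n := by
      have h1 := Submodule.finrank_add_eq_of_isCompl hc
      have h3 : finrank F H ≠ 0 := fun h => hH0 (Submodule.finrank_eq_zero.mp h)
      omega
    obtain ⟨A', hA'a, hA'i, hA'n⟩ := ih (finrank F (B.orthogonal H)) hlt (B.orthogonal H)
      (subRep ρ (B.orthogonal H) hH'inv) (B.restrict (B.orthogonal H)) rfl
      (fun x hx => Subtype.ext (hH'nd x x.2 (fun y hy => hx ⟨y, hy⟩)))
      (fun g x y => hBinv g x y)
      (fun x hx => Subtype.ext (hfix x (fun g => congrArg Subtype.val (hx g))))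
    obtain ⟨A₂, hA₂a, hA₂i, hA₂n⟩ := alt_of_subtype ρ hc.symm hH'inv A' hA'a hA'i hA'n
    exact alt_glue ρ hc hHinv hH'inv A₁ hA₁a hA₁i hA₁n A₂ (fun x _ => hA₂a x) hA₂i hA₂n

end chartwo

section two

variable {F : Type u} [Field F] {G : Type v} [Group G] {V : Type w} [AddCommGroup V] [Module F V]
  [FiniteDimensional F V]

/-- characteristic `2`, coprime order: `V = U ⊕ W` with `W` the fixed vectors, `U` carrying a
nondegenerate invariant alternating form, `W` a nondegenerate symmetric form. -/
theorem selfdual_two [Finite G] (h2 : (2 : F) = 0) (hG : (Nat.card G : F) ≠ 0)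
    (ρ : Representation F G V) (B : LinearMap.BilinForm F V)
    (hB : ∀ x, (∀ y, B x y = 0) → x = 0)
    (hBinv : ∀ (g : G) (x y : V), B (ρ g x) (ρ g y) = B x y) :
    ∃ U W : Submodule F V, IsCompl U W ∧ (∀ g : G, ∀ u ∈ U, ρ g u ∈ U) ∧
      (∀ g : G, ∀ w ∈ W, ρ g w = w) ∧
      (∃ A : LinearMap.BilinForm F V, (∀ x : V, A x x = 0) ∧
        (∀ g : G, ∀ x ∈ U, ∀ y ∈ U, A (ρ g x) (ρ g y) = A x y) ∧
        (∀ x ∈ U, (∀ y ∈ U, A x y = 0) → x = 0)) ∧
      (∃ S : LinearMap.BilinForm F V, (∀ x y : V, S x y = S y x) ∧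
        (∀ x ∈ W, (∀ y ∈ W, S x y = 0) → x = 0)) := by
  classical
  let _ : Fintype G := Fintype.ofFinite G
  -- the fixed vectors
  obtain ⟨W, hW⟩ : ∃ W : Submodule F V, ∀ x, x ∈ W ↔ ∀ g : G, ρ g x = x := by
    refine ⟨⨅ g : G, LinearMap.ker (ρ g - LinearMap.id), fun x => ?_⟩
    rw [Submodule.mem_iInf]
    refine forall_congr' fun g => ?_
    rw [LinearMap.mem_ker, LinearMap.sub_apply, LinearMap.id_apply, sub_eq_zero]
  have hWinv : ∀ g : G, ∀ x ∈ W, ρ g x ∈ W := fun g x hx => by
    rw [(hW x).mp hx g]; exact hx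
  obtain ⟨U, hc, hUinv⟩ := exists_invariant_compl hG ρ W hWinv
  have hUfix : ∀ x ∈ U, (∀ g : G, ρ g x = x) → x = 0 := by
    intro x hx hfix
    have : x ∈ W ⊓ U := ⟨(hW x).mpr hfix, hx⟩
    rw [hc.inf_eq_bot] at this
    exact (Submodule.mem_bot F).mp this
  have hUW : ∀ x ∈ U, ∀ w ∈ W, B x w = 0 := by
    intro x hx w hw
    have hs : ∑ g : G, ρ g x = 0 := by
      apply hUfix _ (U.sum_mem fun g _ => hUinv g x hx)
      intro h
      rw [map_sum]
      refine Fintype.sum_equiv (Equiv.mulLeft h) _ _ (fun g => ?_)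
      rw [Equiv.coe_mulLeft, map_mul, Module.End.mul_apply]
    have h1 : B (∑ g : G, ρ g x) w = (Nat.card G : F) * B x w := by
      rw [map_sum, LinearMap.sum_apply]
      have : ∀ g : G, B (ρ g x) w = B x w := fun g => by
        conv_lhs => rw [← (hW w).mp hw g]
        exact hBinv g x w
      simp only [this, Finset.sum_const, Finset.card_univ, ← Nat.card_eq_fintype_card,
        nsmul_eq_mul]
    rw [hs, map_zero, LinearMap.zero_apply] at h1
    rcases mul_eq_zero.mp h1.symm with h | h
    · exact absurd h hG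
    · exact h
  have hUnd : ∀ x ∈ U, (∀ y ∈ U, B x y = 0) → x = 0 := by
    intro x hx hxy
    apply hB
    intro v
    have hv : v ∈ W ⊔ U := by rw [hc.sup_eq_top]; trivial
    obtain ⟨w, hw, u, hu, rfl⟩ := Submodule.mem_sup.mp hv
    rw [map_add, hUW x hx w hw, hxy u hu, add_zero]
  obtain ⟨A', hA'a, hA'i, hA'n⟩ := exists_alt_of_nofix h2 hG (finrank F U) U
    (subRep ρ U hUinv) (B.restrict U) rfl
    (fun x hx => Subtype.ext (hUnd x x.2 (fun y hy => hx ⟨y, hy⟩)))
    (fun g x y => hBinv g x y)
    (fun x hx => Subtype.ext (hUfix x x.2 (fun g => congrArg Subtype.val (hx g))))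
  refine ⟨U, W, hc.symm, hUinv, fun g w hw => (hW w).mp hw g,
    alt_of_subtype ρ hc.symm hUinv A' hA'a hA'i hA'n, ?_⟩
  -- the symmetric form on `W`
  obtain ⟨c⟩ : Nonempty (Basis (Fin (finrank F W)) F W) := ⟨Module.finBasis F W⟩
  obtain ⟨φ, hφ⟩ : ∃ φ : Fin (finrank F W) → (V →ₗ[F] F),
      ∀ j x, φ j x = c.repr (W.projectionOnto U hc x) j :=
    ⟨fun j => (c.coord j) ∘ₗ (W.projectionOnto U hc), fun j x => rfl⟩
  obtain ⟨S, hS⟩ : ∃ S : LinearMap.BilinForm F V, ∀ x y, S x y = ∑ j, φ j x * φ j y :=
    ⟨∑ j, (φ j).smulRight (φ j), fun x y => by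
      simp [LinearMap.sum_apply]⟩
  refine ⟨S, fun x y => ?_, fun x hx hxy => ?_⟩
  · rw [hS, hS]
    exact Finset.sum_congr rfl fun j _ => mul_comm _ _
  · have h0 : (⟨x, hx⟩ : W) = 0 := by
      apply c.ext_elem
      intro k
      have := hxy (c k) (c k).2
      rw [hS] at this
      have hk : ∀ j, φ j (c k : V) = if k = j then 1 else 0 := by
        intro j
        rw [hφ, Submodule.projectionOnto_apply_of_mem_left hc (c k).2]
        simp [Finsupp.single_apply]
      simp only [hk, mul_ite, mul_one, mul_zero, Finset.sum_ite_eq, Finset.mem_univ,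
        if_true] at this
      rw [hφ, Submodule.projectionOnto_apply_of_mem_left hc hx] at this
      rw [this]
      simp
    exact congrArg Subtype.val h0

end two

end Cfsg.Agent.Lib.helper11
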