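import Mathlib
import Cfsg.Agent.Lib.helper24.SffDefs
import Cfsg.Agent.Lib.helper7.SffC3A
import Cfsg.Agent.Lib.helper18.SffC3B
import Cfsg.Agent.Lib.helper32.SffCRIT
import Cfsg.Agent.Lib.helper99.SubfD

/-!
helper11: S5965 piece N3 (`sff_nec_nodvd`): if `r ∤ q - 1`, `r ∣ q ^ j - 1`, `r ∤ q₀ ^ j - 1` with
`j ≤ n`, there is a derangement of order `r`.
-/

set_option autoImplicit false

namespace Cfsg.Agent.Lib.helper24

open Module Matrix

/-- `d ^ r = 1` and `r ∤ q - 1` give `d = 1`. -/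
theorem h11_eq_one_of_pow {F : Type*} [Field F] [Fintype F] (r : ℕ) [Fact r.Prime]
    (hnd : ¬ r ∣ Fintype.card F - 1) (d : F) (hd : d ^ r = 1) : d = 1 := by
  have hr : r.Prime := Fact.out
  have hd0 : d ≠ 0 := by
    rintro rfl
    rw [zero_pow hr.ne_zero] at hd
    exact zero_ne_one hd
  have h1 : d ^ (Fintype.card F - 1) = 1 := FiniteField.pow_card_sub_one_eq_one d hd0
  have h2 : d ^ Nat.gcd r (Fintype.card F - 1) = 1 := pow_gcd_eq_one.mpr ⟨hd, h1⟩
  have h3 : Nat.gcd r (Fintype.card F - 1) = 1 := (Nat.Prime.coprime_iff_not_dvd hr).mpr hnd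
  rw [h3, pow_one] at h2
  exact h2

/-- entries of the powers of a matrix over a subfield lie in the subfield. -/
theorem h11_pow_mem {F : Type*} [Field F] (F₀ : Subfield F) {n : ℕ}
    (M : Matrix (Fin n) (Fin n) F) (hM : ∀ i j, M i j ∈ F₀) (k : ℕ) :
    ∀ i j, (M ^ k) i j ∈ F₀ := by
  induction k with
  | zero =>
    intro i j
    rw [pow_zero, Matrix.one_apply]
    split_ifs
    · exact F₀.one_mem
    · exact F₀.zero_mem
  | succ k ih =>
    intro i j
    rw [pow_succ, Matrix.mul_apply]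
    exact F₀.sum_mem (fun l _ => F₀.mul_mem (ih i l) (hM l j))

/-- N3 -/
theorem sff_nec_nodvd {F : Type*} [Field F] [Fintype F] (F₀ : Subfield F) {n : ℕ} (r : ℕ)
    [Fact r.Prime] (hrF : (r : F) ≠ 0) (hnd : ¬ r ∣ Fintype.card F - 1) (j : ℕ) (hj : j ≤ n)
    (hj1 : r ∣ (Fintype.card F) ^ j - 1) (hj2 : ¬ r ∣ (Nat.card F₀) ^ j - 1) :
    SffDerang F₀ r n := by
  classical
  have hr : r.Prime := Fact.out
  have hqpos : 0 < Fintype.card F := Fintype.card_pos
  have hj0 : j ≠ 0 := by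
    rintro rfl
    exact hj2 (by simp)
  have hqj : ((Fintype.card F : ℕ) : ZMod r) ^ j = 1 := by
    have h1 : 1 ≤ Fintype.card F ^ j := Nat.one_le_pow _ _ hqpos
    have h2 : ((Fintype.card F ^ j - 1 : ℕ) : ZMod r) = 0 :=
      (ZMod.natCast_eq_zero_iff _ _).mpr hj1
    rw [Nat.cast_sub h1, Nat.cast_pow, Nat.cast_one, sub_eq_zero] at h2
    exact h2
  obtain ⟨i, hi⟩ : ∃ i : ℕ, i = orderOf ((Fintype.card F : ℕ) : ZMod r) := ⟨_, rfl⟩
  have hidvd : i ∣ j := by rw [hi]; exact orderOf_dvd_of_pow_eq_one hqj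
  have hile : i ≤ j := Nat.le_of_dvd (Nat.pos_of_ne_zero hj0) hidvd
  have hipos : 0 < i := Nat.pos_of_dvd_of_pos hidvd (Nat.pos_of_ne_zero hj0)
  have hi1 : i ≠ 1 := by
    intro h
    rw [hi, orderOf_eq_one_iff] at h
    apply hnd
    rw [← ZMod.natCast_eq_zero_iff, Nat.cast_sub hqpos, Nat.cast_one, h, sub_self]
  have hin : i ≤ n := hile.trans hj
  have hn : 0 < n := by omega
  obtain ⟨y, hyr, hyk⟩ := sff_exists_fix (F := F) (n := n) r hrF (by rw [← hi]; exact hin)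
  rw [← hi] at hyk
  refine ⟨y, ?_, ⟨1, by rw [hyr, one_smul]⟩, ?_, ?_⟩
  · apply h11_eq_one_of_pow r hnd
    rw [← Matrix.det_pow, hyr, Matrix.det_one]
  · intro z hz
    have hz1 : z = 1 := by
      apply h11_eq_one_of_pow r hnd
      have h1 : (z • (1 : Matrix (Fin n) (Fin n) F)) ^ r = 1 := by rw [← hz]; exact hyr
      rw [smul_pow, one_pow] at h1
      have h2 := congrFun (congrFun h1 ⟨0, hn⟩) ⟨0, hn⟩
      simpa using h2
    rw [hz1, one_smul] at hz
    rw [hz] at hyk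
    have h3 : (Matrix.toLin' (1 : Matrix (Fin n) (Fin n) F) - 1 : Module.End F (Fin n → F)) = 0 := by
      rw [Matrix.toLin'_one]
      exact sub_self _
    rw [h3, LinearMap.ker_zero, finrank_top, Module.finrank_fin_fun] at hyk
    omega
  · rintro ⟨P, M₀, σ, hP, hσ, hM₀, hx⟩
    have hPu : IsUnit P.det := isUnit_iff_ne_zero.mpr hP
    have hpow : ∀ k : ℕ, y ^ k * P = P * (σ • M₀) ^ k := by
      intro k
      induction k with
      | zero => simp
      | succ k ih => rw [pow_succ, mul_assoc, hx, ← mul_assoc, ih, mul_assoc, ← pow_succ]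
    have hMr : (σ • M₀) ^ r = 1 := by
      have h1 := hpow r
      rw [hyr, one_mul] at h1
      have h2 : P⁻¹ * P = P⁻¹ * (P * (σ • M₀) ^ r) := by rw [← h1]
      rw [← mul_assoc, Matrix.nonsing_inv_mul _ hPu, one_mul] at h2
      exact h2.symm
    have hM0r : σ ^ r * (M₀ ^ r) ⟨0, hn⟩ ⟨0, hn⟩ = 1 := by
      have h1 := congrFun (congrFun hMr ⟨0, hn⟩) ⟨0, hn⟩
      rw [smul_pow, Matrix.smul_apply, smul_eq_mul, Matrix.one_apply_eq] at h1
      exact h1
    have hmem : (M₀ ^ r) ⟨0, hn⟩ ⟨0, hn⟩ ∈ F₀ := h11_pow_mem F₀ M₀ hM₀ r _ _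
    have hσr : σ ^ r ∈ F₀ := by
      have h1 : σ ^ r = ((M₀ ^ r) ⟨0, hn⟩ ⟨0, hn⟩)⁻¹ := eq_inv_of_mul_eq_one_left hM0r
      rw [h1]
      exact F₀.inv_mem hmem
    have hσq : (σ ^ r) ^ Nat.card F₀ = σ ^ r := helper99.Subf.pow_card_subfield F₀ _ hσr
    have hq0 : 2 ≤ Nat.card F₀ := helper99.Subf.two_le_card_subfield F₀
    have hsplit : Nat.card F₀ = (Nat.card F₀ - 1) + 1 := by omega
    have h5 : (σ ^ (Nat.card F₀ - 1)) ^ r = 1 := by
      have h6 : (σ ^ (Nat.card F₀ - 1)) ^ r * σ ^ r = 1 * σ ^ r := by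
        rw [one_mul, ← mul_pow, ← pow_succ, ← hsplit, ← pow_mul, mul_comm, pow_mul]
        exact hσq
      exact mul_right_cancel₀ (pow_ne_zero r hσ) h6
    have h7 : σ ^ (Nat.card F₀ - 1) = 1 := h11_eq_one_of_pow r hnd _ h5
    have hσmem : σ ∈ F₀ := by
      apply helper99.Subf.mem_subfield_of_pow
      rw [hsplit, pow_succ, h7, one_mul]
    have hMmem : ∀ a b, (σ • M₀) a b ∈ F₀ := fun a b => by
      rw [Matrix.smul_apply, smul_eq_mul]
      exact F₀.mul_mem hσmem (hM₀ a b)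
    have hC3A := sff_fix_dvd F₀ r hrF (σ • M₀) hMmem hMr
    have hconj := h32_finrank_ker_conj y P (σ • M₀) hP hx 1
    rw [one_smul] at hconj
    rw [← hconj, hyk] at hC3A
    have h8 : n - (n - i) = i := by omega
    rw [h8] at hC3A
    exact hj2 (hC3A.trans (Nat.pow_sub_one_dvd_pow_sub_one _ hidvd))

end Cfsg.Agent.Lib.helper24
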