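import Mathlib
import Cfsg.Agent.Lib.helper24.SfuDefs
import Cfsg.Agent.Lib.helper11.SfuUN1core
import Cfsg.Agent.Lib.helper10.SfuUDIAG

/-! S5982 split (helper24), piece UN1: the derangement `w • diag(ζ, 1, …, 1)`. -/

set_option autoImplicit false

namespace Cfsg.Agent.Lib.helper24

open Module Matrix Cfsg.Geo

/-- UN1 -/
theorem sfu_nec_one {F : Type*} [Field F] [Fintype F] {n : ℕ} (hn : 3 ≤ n) (q₀ : ℕ)
    (hcard : Fintype.card F = q₀ ^ 2) (f : (Fin n → F) → (Fin n → F) → F)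
    (hf : IsUnitaryFormPow q₀ f) (r : ℕ) [Fact r.Prime] (hr2 : r ≠ 2) (hd : r ∣ q₀ - 1)
    (hv : padicValNat r n < padicValNat r (Fintype.card F - 1)) : SfuDerang f r :=
  h11_sfu_nec_one_core hn f r hr2 hv
    (fun ζ hζ a w hw h => h10_sfu_diag_crit q₀ hcard f hf r hd ζ hζ a w hw h)

end Cfsg.Agent.Lib.helper24
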