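import Mathlib
import Cfsg.Agent.Lib.helper11.SmallSimple
import Cfsg.Agent.Lib.helper11.FourConn

set_option autoImplicit false

namespace Cfsg.Agent.Lib.helper11

open Cfsg.Agent.Lib.helper53

section CoprimeFixed

variable {G : Type*} [Group G] [Finite G]

/-- The number of elements of `S` fixed by a Sylow `q`-subgroup of `N_G(S)` is congruent to
`|S|` modulo `q`. -/
theorem card_modEq_card_fixed (S : Subgroup G) (q : ℕ) [Fact q.Prime]
    (Q : Sylow q (Subgroup.normalizer (S : Set G))) :
    Nat.card S ≡ Nat.card (S ⊓ Subgroup.centralizer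
      (((Q : Subgroup (Subgroup.normalizer (S : Set G))).map
        (Subgroup.normalizer (S : Set G)).subtype : Subgroup G) : Set G) : Subgroup G) [MOD q] := by
  letI : MulAction (Q : Subgroup (Subgroup.normalizer (S : Set G))) S :=
    MulAction.compHom S ((S.normalizerMonoidHom).comp
      (Q : Subgroup (Subgroup.normalizer (S : Set G))).subtype)
  have hsmul : ∀ (x : (Q : Subgroup (Subgroup.normalizer (S : Set G)))) (s : S),
      ((x • s : S) : G) = ((x : Subgroup.normalizer (S : Set G)) : G) * (s : G) *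
        ((x : Subgroup.normalizer (S : Set G)) : G)⁻¹ := fun x s => rfl
  have h1 := Q.isPGroup'.card_modEq_card_fixedPoints S
  have h2 : Nat.card (MulAction.fixedPoints (Q : Subgroup (Subgroup.normalizer (S : Set G))) S) =
      Nat.card (S ⊓ Subgroup.centralizer
        (((Q : Subgroup (Subgroup.normalizer (S : Set G))).map
          (Subgroup.normalizer (S : Set G)).subtype : Subgroup G) : Set G) : Subgroup G) := by
    apply Nat.card_congr
    refine ⟨fun s => ⟨((s : S) : G), (s : S).2, ?_⟩, fun g => ⟨⟨(g : G), g.2.1⟩, ?_⟩,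
      fun s => rfl, fun g => rfl⟩
    · show ((s : S) : G) ∈ Subgroup.centralizer
        (((Q : Subgroup (Subgroup.normalizer (S : Set G))).map
          (Subgroup.normalizer (S : Set G)).subtype : Subgroup G) : Set G)
      rw [Subgroup.mem_centralizer_iff]
      rintro _ ⟨x, hx, rfl⟩
      have h3 := congrArg Subtype.val (s.2 ⟨x, hx⟩)
      rw [hsmul] at h3
      simp only [Subgroup.coe_subtype] at h3 ⊢
      calc (x : G) * ((s : S) : G) = ((x : G) * ((s : S) : G) * (x : G)⁻¹) * (x : G) := by group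
        _ = ((s : S) : G) * (x : G) := by rw [h3]
    · intro x
      apply Subtype.ext
      rw [hsmul]
      have h3 := Subgroup.mem_centralizer_iff.mp g.2.2 ((x : Subgroup.normalizer (S : Set G)) : G)
        ⟨(x : Subgroup.normalizer (S : Set G)), x.2, rfl⟩
      show ((x : Subgroup.normalizer (S : Set G)) : G) * (g : G) *
        ((x : Subgroup.normalizer (S : Set G)) : G)⁻¹ = (g : G)
      rw [h3]
      group
  rw [h2] at h1
  exact h1

/-- If all Sylow `q`-subgroups (`q ≠ p`) of `N_G(S)` centralize the Sylow `p`-subgroup `S`, then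
`N_G(S) = S C_G(S)`. -/
theorem normalizer_le_sup_centralizer {p : ℕ} [Fact p.Prime] (S : Sylow p G)
    (h : ∀ q : ℕ, q.Prime → q ≠ p → ∀ Q : Sylow q (Subgroup.normalizer ((S : Subgroup G) : Set G)),
      (Q : Subgroup (Subgroup.normalizer ((S : Subgroup G) : Set G))).map
        (Subgroup.normalizer ((S : Subgroup G) : Set G)).subtype ≤
        Subgroup.centralizer ((S : Subgroup G) : Set G)) :
    Subgroup.normalizer ((S : Subgroup G) : Set G) ≤
      (S : Subgroup G) ⊔ Subgroup.centralizer ((S : Subgroup G) : Set G) := by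
  have hidx : (((S : Subgroup G) ⊔ Subgroup.centralizer ((S : Subgroup G) : Set G)).subgroupOf
      (Subgroup.normalizer ((S : Subgroup G) : Set G))).index = 1 := by
    by_contra hne
    obtain ⟨q, hq, hqdvd⟩ := Nat.exists_prime_and_dvd hne
    haveI : Fact q.Prime := ⟨hq⟩
    by_cases hqp : q = p
    · subst hqp
      have hle : ((S.subtype Subgroup.le_normalizer : Sylow q _) :
          Subgroup (Subgroup.normalizer ((S : Subgroup G) : Set G))) ≤
          ((S : Subgroup G) ⊔ Subgroup.centralizer ((S : Subgroup G) : Set G)).subgroupOf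
            (Subgroup.normalizer ((S : Subgroup G) : Set G)) := by
        rw [Sylow.coe_subtype]
        intro x hx
        rw [Subgroup.mem_subgroupOf] at hx ⊢
        exact Subgroup.mem_sup_left hx
      exact (S.subtype Subgroup.le_normalizer).not_dvd_index
        (hqdvd.trans (Subgroup.index_dvd_of_le hle))
    · obtain ⟨Q⟩ : Nonempty (Sylow q (Subgroup.normalizer ((S : Subgroup G) : Set G))) :=
        inferInstance
      have hle : (Q : Subgroup (Subgroup.normalizer ((S : Subgroup G) : Set G))) ≤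
          ((S : Subgroup G) ⊔ Subgroup.centralizer ((S : Subgroup G) : Set G)).subgroupOf
            (Subgroup.normalizer ((S : Subgroup G) : Set G)) := by
        intro x hx
        rw [Subgroup.mem_subgroupOf]
        exact Subgroup.mem_sup_right (h q hq hqp Q ⟨x, hx, rfl⟩)
      exact Q.not_dvd_index (hqdvd.trans (Subgroup.index_dvd_of_le hle))
  rw [Subgroup.index_eq_one, Subgroup.subgroupOf_eq_top] at hidx
  exact hidx

theorem numeric_fix (c d q : ℕ) (hc : c ∣ 8) (hd : d ∣ c) (hq : q.Prime) (hq2 : q ≠ 2)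
    (hq3 : q ≠ 3) (hq7 : c = 8 → q ≠ 7 ∨ 2 ≤ d) (hmod : c ≡ d [MOD q]) : d = c := by
  have hc8 : c ≤ 8 := Nat.le_of_dvd (by norm_num) hc
  have hc0 : 0 < c := Nat.pos_of_dvd_of_pos hc (by norm_num)
  have hdc : d ≤ c := Nat.le_of_dvd hc0 hd
  have hd0 : 0 < d := Nat.pos_of_dvd_of_pos hd hc0
  by_contra hne
  have hdvd : q ∣ c - d := (Nat.modEq_iff_dvd' hdc).mp hmod.symm
  have hq8 : q ≤ 8 := le_trans (Nat.le_of_dvd (by omega) hdvd) (by omega)
  interval_cases q
  · exact absurd hq (by norm_num)
  · exact absurd hq (by norm_num)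
  · omega
  · omega
  · exact absurd hq (by norm_num)
  · interval_cases c <;> interval_cases d <;> omega
  · exact absurd hq (by norm_num)
  · interval_cases c <;> interval_cases d <;> omega
  · exact absurd hq (by norm_num)

/-- Sylow `q`-subgroups (`q` odd) of `N_G(S)` centralize `S` when `|S|` divides `8`,
`3 ∤ |G|`, and either `7 ∤ |G|` or `Q` fixes a nonidentity element of `S`. -/
theorem sylow_normalizer_le_centralizer_of_card_dvd_eight (S : Subgroup G) (hS : Nat.card S ∣ 8)
    (h3 : ¬ 3 ∣ Nat.card G) (q : ℕ) (hq : q.Prime) (hq2 : q ≠ 2)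
    (Q : Sylow q (Subgroup.normalizer (S : Set G)))
    (h7 : Nat.card S = 8 → ¬ 7 ∣ Nat.card G ∨ 2 ≤ Nat.card (S ⊓ Subgroup.centralizer
      (((Q : Subgroup (Subgroup.normalizer (S : Set G))).map
        (Subgroup.normalizer (S : Set G)).subtype : Subgroup G) : Set G) : Subgroup G)) :
    (Q : Subgroup (Subgroup.normalizer (S : Set G))).map
      (Subgroup.normalizer (S : Set G)).subtype ≤ Subgroup.centralizer (S : Set G) := by
  haveI : Fact q.Prime := ⟨hq⟩
  by_cases hQ : (Q : Subgroup (Subgroup.normalizer (S : Set G))) = ⊥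
  · rw [hQ, Subgroup.map_bot]
    exact bot_le
  · have hqG : q ∣ Nat.card G := by
      have h1 : q ∣ Nat.card (Q : Subgroup (Subgroup.normalizer (S : Set G))) := by
        rcases Q.isPGroup'.card_eq_or_dvd with h | h
        · exact absurd (Subgroup.card_eq_one.mp h) hQ
        · exact h
      exact h1.trans ((Subgroup.card_subgroup_dvd_card _).trans (Subgroup.card_subgroup_dvd_card _))
    have hmod := card_modEq_card_fixed S q Q
    have hd : Nat.card (S ⊓ Subgroup.centralizer
        (((Q : Subgroup (Subgroup.normalizer (S : Set G))).map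
          (Subgroup.normalizer (S : Set G)).subtype : Subgroup G) : Set G) : Subgroup G) ∣
        Nat.card S := Subgroup.card_dvd_of_le inf_le_left
    have heq := numeric_fix _ _ q hS hd hq hq2 (fun h => h3 (h ▸ hqG))
      (fun h8 => (h7 h8).imp (fun h h' => h (h' ▸ hqG)) id) hmod
    have hFS : S ⊓ Subgroup.centralizer
        (((Q : Subgroup (Subgroup.normalizer (S : Set G))).map
          (Subgroup.normalizer (S : Set G)).subtype : Subgroup G) : Set G) = S :=
      Subgroup.eq_of_le_of_card_ge inf_le_left (le_of_eq heq.symm)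
    rw [Subgroup.le_centralizer_iff]
    exact inf_eq_left.mp hFS

/-- An abelian Sylow `2`-subgroup of order dividing `8` in a group of order prime to `3` and `7`
is central in its normalizer. -/
theorem normalizer_le_centralizer_of_abelian_sylow_two (S : Sylow 2 G)
    (hcomm : ∀ a ∈ (S : Subgroup G), ∀ b ∈ (S : Subgroup G), a * b = b * a)
    (hS : Nat.card (S : Subgroup G) ∣ 8) (h3 : ¬ 3 ∣ Nat.card G)
    (h7 : Nat.card (S : Subgroup G) = 8 → ¬ 7 ∣ Nat.card G) :
    Subgroup.normalizer ((S : Subgroup G) : Set G) ≤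
      Subgroup.centralizer ((S : Subgroup G) : Set G) := by
  haveI : Fact (Nat.Prime 2) := ⟨Nat.prime_two⟩
  refine (normalizer_le_sup_centralizer S (fun q hq hq2 Q =>
    sylow_normalizer_le_centralizer_of_card_dvd_eight (S : Subgroup G) hS h3 q hq hq2 Q
      (fun h8 => Or.inl (h7 h8)))).trans (sup_le ?_ le_rfl)
  intro a ha
  rw [Subgroup.mem_centralizer_iff]
  intro b hb
  exact hcomm b hb a ha

end CoprimeFixed

section OrderEight

variable {G : Type*} [Group G] [Finite G]

/-- A subgroup of order `4` in a subgroup of order `8` is normalized by it. -/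
theorem conj_mem_of_card_four_of_card_eight {T V : Subgroup G} (hT : Nat.card T = 8)
    (hV : Nat.card V = 4) (hVT : V ≤ T) {s v : G} (hs : s ∈ T) (hv : v ∈ V) :
    s * v * s⁻¹ ∈ V := by
  have hidx : (V.subgroupOf T).index = 2 := by
    have h1 := (V.subgroupOf T).card_mul_index
    rw [Nat.card_congr (Subgroup.subgroupOfEquivOfLe hVT).toEquiv, hV, hT] at h1
    omega
  have hn : (V.subgroupOf T).Normal := Subgroup.normal_of_index_eq_two hidx
  have := hn.conj_mem ⟨v, hVT hv⟩ (Subgroup.mem_subgroupOf.mpr hv) ⟨s, hs⟩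
  exact Subgroup.mem_subgroupOf.mp this

/-- In a subgroup `T` of order `8`, for a subgroup `V` of order `4`: a product lies in `V` iff
both or neither factors do. -/
theorem mul_mem_iff_of_card_four_of_card_eight {T V : Subgroup G} (hT : Nat.card T = 8)
    (hV : Nat.card V = 4) (hVT : V ≤ T) {a b : G} (ha : a ∈ T) (hb : b ∈ T) :
    a * b ∈ V ↔ (a ∈ V ↔ b ∈ V) := by
  have hidx : (V.subgroupOf T).index = 2 := by
    have h1 := (V.subgroupOf T).card_mul_index
    rw [Nat.card_congr (Subgroup.subgroupOfEquivOfLe hVT).toEquiv, hV, hT] at h1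
    omega
  have := Subgroup.mul_mem_iff_of_index_two hidx (a := (⟨a, ha⟩ : T)) (b := ⟨b, hb⟩)
  simpa [Subgroup.mem_subgroupOf] using this

/-- The centre of a nonabelian subgroup of order `8` has order `2`. -/
theorem exists_central_involution_of_card_eight {T : Subgroup G} (hT : Nat.card T = 8)
    (hna : ¬ ∀ a ∈ T, ∀ b ∈ T, a * b = b * a) :
    ∃ z ∈ T, z * z = 1 ∧ z ≠ 1 ∧ (∀ s ∈ T, s * z = z * s) ∧
      ∀ c ∈ T, (∀ s ∈ T, s * c = c * s) → c = 1 ∨ c = z := by
  haveI : Fact (Nat.Prime 2) := ⟨Nat.prime_two⟩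
  have hTp : IsPGroup 2 T := IsPGroup.of_card (n := 3) (by rw [hT]; norm_num)
  haveI : Nontrivial T := by
    rw [← Finite.one_lt_card_iff_nontrivial, hT]; norm_num
  have hZnt : Nontrivial (Subgroup.center T) := hTp.center_nontrivial
  have hZdvd : Nat.card (Subgroup.center T) ∣ 8 := hT ▸ Subgroup.card_subgroup_dvd_card _
  have hZ1 : Nat.card (Subgroup.center T) ≠ 1 := by
    intro h
    rw [Subgroup.card_eq_one] at h
    exact (Subgroup.nontrivial_iff_ne_bot _).mp hZnt h
  have hZ8 : Nat.card (Subgroup.center T) ≠ 8 := by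
    intro h
    have htop : Subgroup.center T = ⊤ := Subgroup.card_eq_iff_eq_top _ |>.mp (h.trans hT.symm)
    apply hna
    intro a ha b hb
    have hmem : (⟨b, hb⟩ : T) ∈ Subgroup.center T := htop ▸ Subgroup.mem_top _
    have := Subgroup.mem_center_iff.mp hmem ⟨a, ha⟩
    exact congrArg Subtype.val this
  have hZ4 : Nat.card (Subgroup.center T) ≠ 4 := by
    intro h
    have hq : Nat.card (T ⧸ Subgroup.center T) = 2 := by
      have h1 := (Subgroup.center T).card_mul_index
      rw [h, hT, Subgroup.index] at h1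
      omega
    haveI : IsCyclic (T ⧸ Subgroup.center T) := isCyclic_of_prime_card (p := 2) hq
    have hcomm := commutative_of_cyclic_center_quotient (QuotientGroup.mk' (Subgroup.center T))
      (by rw [QuotientGroup.ker_mk'])
    apply hna
    intro a ha b hb
    exact congrArg Subtype.val (hcomm ⟨a, ha⟩ ⟨b, hb⟩)
  have hZ2 : Nat.card (Subgroup.center T) = 2 := by
    have hle : Nat.card (Subgroup.center T) ≤ 8 := Nat.le_of_dvd (by norm_num) hZdvd
    generalize Nat.card (Subgroup.center T) = n at *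
    interval_cases n <;> simp_all
  obtain ⟨y, hy1, hyu⟩ := (Nat.card_eq_two_iff' (1 : Subgroup.center T)).mp hZ2
  refine ⟨((y : T) : G), (y : T).2, ?_, ?_, ?_, ?_⟩
  · have h1 : y ^ 2 = 1 := by
      rw [← hZ2]; exact pow_card_eq_one'
    have h2 := congrArg (fun t : Subgroup.center T => ((t : T) : G)) h1
    simpa [pow_two] using h2
  · intro h
    apply hy1
    apply Subtype.ext
    apply Subtype.ext
    exact h
  · intro s hs
    have := Subgroup.mem_center_iff.mp y.2 ⟨s, hs⟩
    exact congrArg Subtype.val this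
  · intro c hc hcc
    have hmem : (⟨c, hc⟩ : T) ∈ Subgroup.center T := by
      rw [Subgroup.mem_center_iff]
      intro s
      apply Subtype.ext
      exact hcc s s.2
    by_cases h1 : c = 1
    · exact Or.inl h1
    · right
      have := hyu ⟨⟨c, hc⟩, hmem⟩ (by
        intro h
        apply h1
        exact congrArg (fun t : Subgroup.center T => ((t : T) : G)) h)
      exact congrArg (fun t : Subgroup.center T => ((t : T) : G)) this

/-- A nonabelian subgroup of order `8` contains an element of order `4`. -/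
theorem exists_orderOf_eq_four_of_card_eight {T : Subgroup G} (hT : Nat.card T = 8)
    (hna : ¬ ∀ a ∈ T, ∀ b ∈ T, a * b = b * a) : ∃ u ∈ T, orderOf u = 4 := by
  by_contra hcon
  push Not at hcon
  have hord : ∀ u ∈ T, orderOf u = 1 ∨ orderOf u = 2 := by
    intro u hu
    have hcoe : orderOf (⟨u, hu⟩ : T) = orderOf u := (Subgroup.orderOf_coe (⟨u, hu⟩ : T)).symm
    have h1 : orderOf u ∣ 8 := by
      have h0 := orderOf_dvd_natCard (⟨u, hu⟩ : T)
      rwa [hcoe, hT] at h0
    have h2 : orderOf u ≤ 8 := Nat.le_of_dvd (by norm_num) h1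
    have h4 := hcon u hu
    have h8 : orderOf u ≠ 8 := by
      intro h8
      have hc : IsCyclic T := isCyclic_of_orderOf_eq_card (⟨u, hu⟩ : T) (by
        rw [hcoe, hT, h8])
      apply hna
      intro a ha b hb
      have hcomm := hc.isMulCommutative.is_comm.comm (⟨a, ha⟩ : T) ⟨b, hb⟩
      exact congrArg Subtype.val hcomm
    generalize orderOf u = n at *
    interval_cases n <;> simp_all
  have hsq : ∀ u ∈ T, u * u = 1 := by
    intro u hu
    rcases hord u hu with h | h
    · rw [orderOf_eq_one_iff] at h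
      rw [h, mul_one]
    · rw [← pow_two, ← h]
      exact pow_orderOf_eq_one u
  apply hna
  intro a ha b hb
  have h1 := hsq (a * b) (T.mul_mem ha hb)
  have h2 := hsq a ha
  have h3 := hsq b hb
  calc a * b = a * (a * b * (a * b)) * b := by rw [h1, mul_one]
    _ = (a * a) * (b * a) * (b * b) := by group
    _ = b * a := by rw [h2, h3, one_mul, mul_one]

end OrderEight

section Fusion

variable {G : Type*} [Group G] [Finite G]

/-- In a subgroup `T` of order `8` whose centre is `{1, c}`, every involution `d ≠ c` is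
conjugate in `T` to `d * c`. -/
theorem exists_conj_eq_mul_of_card_eight {T : Subgroup G} (hT : Nat.card T = 8)
    {c d : G} (hc : c ∈ T) (hcc : c * c = 1) (hc1 : c ≠ 1) (hcent : ∀ s ∈ T, s * c = c * s)
    (hZ : ∀ e ∈ T, (∀ s ∈ T, s * e = e * s) → e = 1 ∨ e = c)
    (hd : d ∈ T) (hdd : d * d = 1) (hd1 : d ≠ 1) (hdc : d ≠ c) :
    ∃ s ∈ T, s * d * s⁻¹ = d * c ∧ s * c * s⁻¹ = c := by
  have hnc : ¬ ∀ s ∈ T, s * d = d * s := fun h => by
    rcases hZ d hd h with h | h
    · exact hd1 h
    · exact hdc h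
  push Not at hnc
  obtain ⟨s, hs, hsd⟩ := hnc
  have hdcm : d * c = c * d := hcent d hd
  have hK := isKleinFour_fourSubgroup d c hdd hcc hdcm hd1 hc1 hdc
  have hV4 : Nat.card (fourSubgroup d c hdd hcc hdcm) = 4 := hK.card_four
  have hVT : fourSubgroup d c hdd hcc hdcm ≤ T := by
    intro a ha
    rw [mem_fourSubgroup] at ha
    rcases ha with rfl | rfl | rfl | rfl
    · exact T.one_mem
    · exact hd
    · exact hc
    · exact T.mul_mem hd hc
  have hmem := conj_mem_of_card_four_of_card_eight hT hV4 hVT hs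
    (left_mem_fourSubgroup d c hdd hcc hdcm)
  rw [mem_fourSubgroup] at hmem
  have hsc : s * c * s⁻¹ = c := by
    rw [hcent s hs]; group
  refine ⟨s, hs, ?_, hsc⟩
  rcases hmem with h | h | h | h
  · exfalso; apply hd1
    have h2 : d = s⁻¹ * (s * d * s⁻¹) * s := by group
    rw [h2, h]; group
  · exfalso; apply hsd
    calc s * d = (s * d * s⁻¹) * s := by group
      _ = d * s := by rw [h]
  · exfalso; apply hdc
    have h2 : d = s⁻¹ * (s * d * s⁻¹) * s := by group
    rw [h2, h]
    have h3 := hcent s hs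
    calc s⁻¹ * c * s = s⁻¹ * (c * s) := by group
      _ = s⁻¹ * (s * c) := by rw [h3]
      _ = c := by group
  · exact h

/-- If the central involution `z` of a Sylow `2`-subgroup `S` of order `8` with centre `{1, z}`
is conjugate in `G` to another element of `S`, then `3` divides `|G|`. -/
theorem three_dvd_card_of_central_involution_fusion (S : Sylow 2 G)
    (hS : Nat.card (S : Subgroup G) = 8) {z : G} (hz : z ∈ (S : Subgroup G)) (hzz : z * z = 1)
    (hz1 : z ≠ 1) (hcent : ∀ s ∈ (S : Subgroup G), s * z = z * s)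
    (hZ : ∀ e ∈ (S : Subgroup G), (∀ s ∈ (S : Subgroup G), s * e = e * s) → e = 1 ∨ e = z)
    {g : G} (hy : g * z * g⁻¹ ∈ (S : Subgroup G)) (hne : g * z * g⁻¹ ≠ z) :
    3 ∣ Nat.card G := by
  haveI : Fact (Nat.Prime 2) := ⟨Nat.prime_two⟩
  by_contra h3
  obtain ⟨y, hy_def⟩ : ∃ y, y = g * z * g⁻¹ := ⟨_, rfl⟩
  rw [← hy_def] at hy hne
  have hyy : y * y = 1 := by
    rw [hy_def]
    calc g * z * g⁻¹ * (g * z * g⁻¹) = g * (z * z) * g⁻¹ := by group
      _ = 1 := by rw [hzz]; group
  have hy1 : y ≠ 1 := by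
    intro h
    apply hz1
    have h2 : z = g⁻¹ * y * g := by rw [hy_def]; group
    rw [h2, h]; group
  have hyz : y * z = z * y := hcent y hy
  have hK := isKleinFour_fourSubgroup y z hyy hzz hyz hy1 hz1 hne
  have hA : IsPGroup 2 ((S : Subgroup G).map (MulAut.conj g).toMonoidHom) :=
    isPGroup_conj S.isPGroup' g
  have hB : IsPGroup 2 (fourSubgroup y z hyy hzz hyz) := isPGroup_two_of_isKleinFour hK
  -- `y` is central in `g S g⁻¹`
  have hcent' : ∀ s ∈ (S : Subgroup G).map (MulAut.conj g).toMonoidHom, s * y = y * s := by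
    intro s hs
    rw [mem_conj_iff] at hs
    have h1 := hcent _ hs
    rw [hy_def]
    calc s * (g * z * g⁻¹) = g * (g⁻¹ * s * g * z) * g⁻¹ := by group
      _ = g * (z * (g⁻¹ * s * g)) * g⁻¹ := by rw [h1]
      _ = g * z * g⁻¹ * s := by group
  have hZ' : ∀ e ∈ (S : Subgroup G).map (MulAut.conj g).toMonoidHom,
      (∀ s ∈ (S : Subgroup G).map (MulAut.conj g).toMonoidHom, s * e = e * s) →
        e = 1 ∨ e = y := by
    intro e he hec
    rw [mem_conj_iff] at he
    have h1 : ∀ s ∈ (S : Subgroup G), s * (g⁻¹ * e * g) = g⁻¹ * e * g * s := by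
      intro s hs
      have h2 := hec (g * s * g⁻¹) (conj_mem_conj hs)
      calc s * (g⁻¹ * e * g) = g⁻¹ * (g * s * g⁻¹ * e) * g := by group
        _ = g⁻¹ * (e * (g * s * g⁻¹)) * g := by rw [h2]
        _ = g⁻¹ * e * g * s := by group
    rcases hZ _ he h1 with h | h
    · left
      have h2 : e = g * (g⁻¹ * e * g) * g⁻¹ := by group
      rw [h2, h]; group
    · right
      have h2 : e = g * (g⁻¹ * e * g) * g⁻¹ := by group
      rw [h2, h, hy_def]
  have hAH : (S : Subgroup G).map (MulAut.conj g).toMonoidHom ≤ Subgroup.centralizer {y} := by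
    intro s hs
    rw [Subgroup.mem_centralizer_iff]
    intro h hh
    rw [Set.mem_singleton_iff] at hh
    subst hh
    exact (hcent' s hs).symm
  have hBH : fourSubgroup y z hyy hzz hyz ≤ Subgroup.centralizer {y} := by
    intro a ha
    rw [Subgroup.mem_centralizer_iff]
    intro h hh
    rw [Set.mem_singleton_iff] at hh
    subst hh
    rw [mem_fourSubgroup] at ha
    rcases ha with rfl | rfl | rfl | rfl
    · simp
    · rfl
    · exact hyz
    · rw [mul_assoc, ← hyz]
  obtain ⟨n, hn, t, hAt, hBt⟩ := exists_conj_into_common_sylow S hA hB hAH hBH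
  have hcard : ∀ x : G, Nat.card ((S : Subgroup G).map (MulAut.conj x).toMonoidHom) = 8 := by
    intro x
    rw [Subgroup.card_map_of_injective (MulAut.conj x).injective, hS]
  have hEq : (S : Subgroup G).map (MulAut.conj g).toMonoidHom =
      (S : Subgroup G).map (MulAut.conj t).toMonoidHom :=
    Subgroup.eq_of_le_of_card_ge hAt (by rw [hcard, hcard])
  rw [← hEq] at hBt
  -- `n` commutes with `y`
  have hny : n * y = y * n := by
    have := Subgroup.mem_centralizer_iff.mp hn y (Set.mem_singleton y)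
    exact this.symm
  -- `d = n z n⁻¹` lies in `g S g⁻¹`
  have hd : n * z * n⁻¹ ∈ (S : Subgroup G).map (MulAut.conj g).toMonoidHom :=
    hBt (conj_mem_conj (right_mem_fourSubgroup y z hyy hzz hyz))
  have hdd : n * z * n⁻¹ * (n * z * n⁻¹) = 1 := by
    calc n * z * n⁻¹ * (n * z * n⁻¹) = n * (z * z) * n⁻¹ := by group
      _ = 1 := by rw [hzz]; group
  have hd1 : n * z * n⁻¹ ≠ 1 := by
    intro h
    apply hz1
    have h2 : z = n⁻¹ * (n * z * n⁻¹) * n := by group
    rw [h2, h]; group
  have hdy : n * z * n⁻¹ ≠ y := by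
    intro h
    apply hne
    have h2 : z = n⁻¹ * (n * z * n⁻¹) * n := by group
    rw [h2, h]
    calc y = n⁻¹ * (n * y) := by group
      _ = n⁻¹ * (y * n) := by rw [hny]
      _ = n⁻¹ * y * n := by group
  have hyT : y ∈ (S : Subgroup G).map (MulAut.conj g).toMonoidHom := by
    rw [hy_def]; exact conj_mem_conj hz
  obtain ⟨s', hs', hs'd, hs'y⟩ := exists_conj_eq_mul_of_card_eight (hcard g) hyT hyy hy1 hcent' hZ'
    hd hdd hd1 hdy
  obtain ⟨s, hs, hsy, hsz⟩ := exists_conj_eq_mul_of_card_eight hS hz hzz hz1 hcent hZ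
    hy hyy hy1 hne
  -- `s'' = n⁻¹ s' n` maps `z ↦ z y`, `y ↦ y`
  have h1 : (n⁻¹ * s' * n) * z * (n⁻¹ * s' * n)⁻¹ = z * y := by
    calc (n⁻¹ * s' * n) * z * (n⁻¹ * s' * n)⁻¹ = n⁻¹ * (s' * (n * z * n⁻¹) * s'⁻¹) * n := by group
      _ = n⁻¹ * (n * z * n⁻¹ * y) * n := by rw [hs'd]
      _ = z * (n⁻¹ * (y * n)) := by group
      _ = z * (n⁻¹ * (n * y)) := by rw [hny]
      _ = z * y := by group
  have h2 : (n⁻¹ * s' * n) * y * (n⁻¹ * s' * n)⁻¹ = y := by
    have hny' : n * y * n⁻¹ = y := by rw [hny]; group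
    calc (n⁻¹ * s' * n) * y * (n⁻¹ * s' * n)⁻¹ = n⁻¹ * s' * (n * y * n⁻¹) * s'⁻¹ * n := by group
      _ = n⁻¹ * (s' * y * s'⁻¹) * n := by rw [hny']; group
      _ = n⁻¹ * y * n := by rw [hs'y]
      _ = n⁻¹ * (y * n) := by group
      _ = n⁻¹ * (n * y) := by rw [hny]
      _ = y := by group
  obtain ⟨w, hw⟩ : ∃ w, w = (n⁻¹ * s' * n) * s := ⟨_, rfl⟩
  have hwy : w * y = z * w := by
    have e1 : s * y = y * z * s := by
      calc s * y = s * y * s⁻¹ * s := by group
        _ = y * z * s := by rw [hsy]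
    have e2 : (n⁻¹ * s' * n) * y = y * (n⁻¹ * s' * n) := by
      calc (n⁻¹ * s' * n) * y = (n⁻¹ * s' * n) * y * (n⁻¹ * s' * n)⁻¹ * (n⁻¹ * s' * n) := by group
        _ = y * (n⁻¹ * s' * n) := by rw [h2]
    have e3 : (n⁻¹ * s' * n) * z = z * y * (n⁻¹ * s' * n) := by
      calc (n⁻¹ * s' * n) * z = (n⁻¹ * s' * n) * z * (n⁻¹ * s' * n)⁻¹ * (n⁻¹ * s' * n) := by group
        _ = z * y * (n⁻¹ * s' * n) := by rw [h1]
    calc w * y = (n⁻¹ * s' * n) * (s * y) := by rw [hw, mul_assoc]
      _ = (n⁻¹ * s' * n) * (y * z * s) := by rw [e1]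
      _ = ((n⁻¹ * s' * n) * y) * z * s := by group
      _ = y * ((n⁻¹ * s' * n) * z) * s := by rw [e2]; group
      _ = y * (z * y * (n⁻¹ * s' * n)) * s := by rw [e3]
      _ = (y * z) * y * (n⁻¹ * s' * n) * s := by group
      _ = (z * y) * y * (n⁻¹ * s' * n) * s := by rw [hyz]
      _ = z * (y * y) * ((n⁻¹ * s' * n) * s) := by group
      _ = z * w := by rw [hyy, mul_one, hw]
  have hwz : w * z = z * y * w := by
    have e1 : s * z = z * s := hcent s hs
    have e3 : (n⁻¹ * s' * n) * z = z * y * (n⁻¹ * s' * n) := by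
      calc (n⁻¹ * s' * n) * z = (n⁻¹ * s' * n) * z * (n⁻¹ * s' * n)⁻¹ * (n⁻¹ * s' * n) := by group
        _ = z * y * (n⁻¹ * s' * n) := by rw [h1]
    calc w * z = (n⁻¹ * s' * n) * (s * z) := by rw [hw, mul_assoc]
      _ = (n⁻¹ * s' * n) * (z * s) := by rw [e1]
      _ = ((n⁻¹ * s' * n) * z) * s := by group
      _ = z * y * (n⁻¹ * s' * n) * s := by rw [e3]
      _ = z * y * w := by rw [hw]; group
  have hw3 : w ^ 3 * y = y * w ^ 3 := by
    have hw3' : w ^ 3 = w * w * w := by rw [pow_succ, pow_two]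
    rw [hw3']
    calc w * w * w * y = w * w * (w * y) := by group
      _ = w * w * (z * w) := by rw [hwy]
      _ = w * (w * z) * w := by group
      _ = w * (z * y * w) * w := by rw [hwz]
      _ = (w * z) * y * w * w := by group
      _ = (z * y * w) * y * w * w := by rw [hwz]
      _ = z * y * (w * y) * w * w := by group
      _ = z * y * (z * w) * w * w := by rw [hwy]
      _ = z * (y * z) * w * w * w := by group
      _ = z * (z * y) * w * w * w := by rw [hyz]
      _ = (z * z) * y * w * w * w := by group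
      _ = y * (w * w * w) := by rw [hzz]; group
  have hcop : Nat.Coprime 3 (orderOf w) := by
    rw [Nat.Prime.coprime_iff_not_dvd Nat.prime_three]
    exact fun h => h3 (h.trans (orderOf_dvd_natCard w))
  obtain ⟨m, hm⟩ := exists_pow_eq_self_of_coprime hcop
  have hcomm : Commute w y := by
    have hc3 : Commute (w ^ 3) y := hw3
    have := hc3.pow_left m
    rwa [hm] at this
  apply hne
  have : w * y = y * w := hcomm
  rw [this] at hwy
  exact mul_right_cancel hwy

/-- If a generator `u` of a cyclic subgroup `M` of order `4` of a Sylow `2`-subgroup `S` of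
order `8` with centre `{1, z}` is conjugate in `G` to an element of `S` outside `M`, then
`3` divides `|G|`. -/
theorem three_dvd_card_of_cyclic_four_fusion (S : Sylow 2 G)
    (hS : Nat.card (S : Subgroup G) = 8) {z : G} (hz : z ∈ (S : Subgroup G))
    (hz1 : z ≠ 1) (hcent : ∀ s ∈ (S : Subgroup G), s * z = z * s)
    (hZ : ∀ e ∈ (S : Subgroup G), (∀ s ∈ (S : Subgroup G), s * e = e * s) → e = 1 ∨ e = z)
    {u g : G} (hMS : Subgroup.zpowers u ≤ (S : Subgroup G))
    (hM : Nat.card (Subgroup.zpowers u) = 4)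
    (hyS : g * u * g⁻¹ ∈ (S : Subgroup G)) (hyM : g * u * g⁻¹ ∉ Subgroup.zpowers u) :
    3 ∣ Nat.card G := by
  haveI : Fact (Nat.Prime 2) := ⟨Nat.prime_two⟩
  by_contra h3
  -- Step 1: `N(S) ≤ S C(S)`
  have hN1 : Subgroup.normalizer ((S : Subgroup G) : Set G) ≤
      (S : Subgroup G) ⊔ Subgroup.centralizer ((S : Subgroup G) : Set G) := by
    refine normalizer_le_sup_centralizer S (fun q hq hq2 Q =>
      sylow_normalizer_le_centralizer_of_card_dvd_eight (S : Subgroup G) (hS ▸ dvd_rfl) h3 q hq
        hq2 Q (fun _ => Or.inr ?_))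
    have hzmem : z ∈ (S : Subgroup G) ⊓ Subgroup.centralizer
        (((Q : Subgroup (Subgroup.normalizer ((S : Subgroup G) : Set G))).map
          (Subgroup.normalizer ((S : Subgroup G) : Set G)).subtype : Subgroup G) : Set G) := by
      rw [Subgroup.mem_inf]
      refine ⟨hz, ?_⟩
      rw [Subgroup.mem_centralizer_iff]
      rintro _ ⟨x, -, rfl⟩
      have hx : (x : G) ∈ Subgroup.normalizer ((S : Subgroup G) : Set G) := x.2
      have hxz : (x : G) * z * (x : G)⁻¹ ∈ (S : Subgroup G) :=
        (Subgroup.mem_normalizer_iff.mp hx z).mp hz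
      have hc : ∀ s ∈ (S : Subgroup G), s * ((x : G) * z * (x : G)⁻¹) =
          (x : G) * z * (x : G)⁻¹ * s := by
        intro s hs
        have hs' : (x : G)⁻¹ * s * (x : G) ∈ (S : Subgroup G) := by
          have := (Subgroup.mem_normalizer_iff.mp hx ((x : G)⁻¹ * s * (x : G))).mpr
          apply this
          have e : (x : G) * ((x : G)⁻¹ * s * (x : G)) * (x : G)⁻¹ = s := by group
          rw [e]; exact hs
        have h1 := hcent _ hs'
        calc s * ((x : G) * z * (x : G)⁻¹) = (x : G) * ((x : G)⁻¹ * s * (x : G) * z) * (x : G)⁻¹ := by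
              group
          _ = (x : G) * (z * ((x : G)⁻¹ * s * (x : G))) * (x : G)⁻¹ := by rw [h1]
          _ = (x : G) * z * (x : G)⁻¹ * s := by group
      rcases hZ _ hxz hc with h | h
      · exfalso; apply hz1
        have e : z = (x : G)⁻¹ * ((x : G) * z * (x : G)⁻¹) * (x : G) := by group
        rw [e, h]; group
      · simp only [Subgroup.coe_subtype]
        calc (x : G) * z = (x : G) * z * (x : G)⁻¹ * (x : G) := by group
          _ = z * (x : G) := by rw [h]
    have hne : (S : Subgroup G) ⊓ Subgroup.centralizer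
        (((Q : Subgroup (Subgroup.normalizer ((S : Subgroup G) : Set G))).map
          (Subgroup.normalizer ((S : Subgroup G) : Set G)).subtype : Subgroup G) : Set G) ≠ ⊥ := by
      intro h
      rw [h, Subgroup.mem_bot] at hzmem
      exact hz1 hzmem
    have := (Subgroup.one_lt_card_iff_ne_bot _).mpr hne
    omega
  -- Step 2: subgroups of order 4 of `S` are normalized by `S C(S)`
  have hN2 : ∀ Y : Subgroup G, Y ≤ (S : Subgroup G) → Nat.card Y = 4 →
      (S : Subgroup G) ⊔ Subgroup.centralizer ((S : Subgroup G) : Set G) ≤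
        Subgroup.normalizer (Y : Set G) := by
    intro Y hYS hY
    refine sup_le ?_ ?_
    · intro s hs
      apply mem_normalizer_of_conj_le
      rw [conj_le_iff]
      intro v hv
      exact conj_mem_of_card_four_of_card_eight hS hY hYS hs hv
    · intro c hc
      apply mem_normalizer_of_conj_le
      rw [conj_le_iff]
      intro v hv
      have h1 := Subgroup.mem_centralizer_iff.mp hc v (hYS hv)
      have e : c * v * c⁻¹ = v := by
        rw [← h1]; group
      rw [e]; exact hv
  -- Step 3: the conjugate `Y = g M g⁻¹`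
  have hYS : (Subgroup.zpowers u).map (MulAut.conj g).toMonoidHom ≤ (S : Subgroup G) := by
    rw [conj_le_iff]
    intro x hx
    obtain ⟨k, rfl⟩ := Subgroup.mem_zpowers_iff.mp hx
    have e : g * u ^ k * g⁻¹ = (g * u * g⁻¹) ^ k := by
      rw [conj_zpow]
    rw [e]
    exact (S : Subgroup G).zpow_mem hyS k
  have hYcard : Nat.card ((Subgroup.zpowers u).map (MulAut.conj g).toMonoidHom) = 4 := by
    rw [Subgroup.card_map_of_injective (MulAut.conj g).injective, hM]
  have hSNY : (S : Subgroup G) ≤ Subgroup.normalizer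
      (((Subgroup.zpowers u).map (MulAut.conj g).toMonoidHom : Subgroup G) : Set G) :=
    le_sup_left.trans (hN2 _ hYS hYcard)
  have hSgNY : (S : Subgroup G).map (MulAut.conj g).toMonoidHom ≤ Subgroup.normalizer
      (((Subgroup.zpowers u).map (MulAut.conj g).toMonoidHom : Subgroup G) : Set G) := by
    rw [normalizer_conj]
    exact conj_mono (le_sup_left.trans (hN2 _ hMS hM)) g
  obtain ⟨n, hn, t, hAt, hBt⟩ := exists_conj_into_common_sylow S S.isPGroup'
    (isPGroup_conj S.isPGroup' g) hSNY hSgNY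
  have hcard : ∀ x : G, Nat.card ((S : Subgroup G).map (MulAut.conj x).toMonoidHom) = 8 := by
    intro x
    rw [Subgroup.card_map_of_injective (MulAut.conj x).injective, hS]
  have hEq : (S : Subgroup G) = (S : Subgroup G).map (MulAut.conj t).toMonoidHom :=
    Subgroup.eq_of_le_of_card_ge hAt (by rw [hcard, hS])
  rw [← hEq, conj_conj] at hBt
  have hng : n * g ∈ Subgroup.normalizer ((S : Subgroup G) : Set G) :=
    mem_normalizer_of_conj_le hBt
  have hngM : n * g ∈ Subgroup.normalizer ((Subgroup.zpowers u : Subgroup G) : Set G) :=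
    (hN2 _ hMS hM) (hN1 hng)
  have e1 := conj_eq_self_of_mem_normalizer hngM
  rw [← conj_conj, conj_eq_self_of_mem_normalizer hn] at e1
  apply hyM
  rw [← e1]
  exact conj_mem_conj (Subgroup.mem_zpowers u)

end Fusion

section Main

open scoped commutatorElement

variable {G : Type*} [Group G] [Finite G]

/-- The elements of a cyclic group of order `4`. -/
theorem mem_zpowers_of_orderOf_eq_four {u m : G} (hu4 : orderOf u = 4)
    (hm : m ∈ Subgroup.zpowers u) : m = 1 ∨ m = u ∨ m = u ^ 2 ∨ m = u ^ 3 := by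
  classical
  rw [mem_zpowers_iff_mem_range_orderOf, hu4] at hm
  simp only [Finset.mem_image, Finset.mem_range] at hm
  obtain ⟨k, hk, rfl⟩ := hm
  interval_cases k
  · left; simp
  · right; left; simp
  · right; right; left; rfl
  · right; right; right; rfl

/-- A perfect finite group with a nonabelian Sylow `2`-subgroup of order `8` has order divisible
by `3`. -/
theorem three_dvd_card_of_nonabelian_sylow_eight (hperf : _root_.commutator G = ⊤)
    (S : Sylow 2 G) (hS : Nat.card (S : Subgroup G) = 8)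
    (hna : ¬ ∀ a ∈ (S : Subgroup G), ∀ b ∈ (S : Subgroup G), a * b = b * a) :
    3 ∣ Nat.card G := by
  haveI : Fact (Nat.Prime 2) := ⟨Nat.prime_two⟩
  obtain ⟨z, hz, hzz, hz1, hcent, hZ⟩ := exists_central_involution_of_card_eight hS hna
  obtain ⟨u, hu, hu4⟩ := exists_orderOf_eq_four_of_card_eight hS hna
  have hMS : Subgroup.zpowers u ≤ (S : Subgroup G) := by
    rw [Subgroup.zpowers_le]; exact hu
  have hM : Nat.card (Subgroup.zpowers u) = 4 := by
    rw [Nat.card_zpowers, hu4]
  have hu4' : u ^ 4 = 1 := by rw [← hu4]; exact pow_orderOf_eq_one u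
  have hu2ne : u ^ 2 ≠ 1 := by
    intro h
    have := orderOf_dvd_of_pow_eq_one h
    rw [hu4] at this
    omega
  have hu1 : u ≠ 1 := by
    intro h
    rw [h, orderOf_one] at hu4
    omega
  -- `u ^ 2` is central in `S`, so equals `z`
  have hu2 : u ^ 2 = z := by
    have hc : ∀ s ∈ (S : Subgroup G), s * u ^ 2 = u ^ 2 * s := by
      intro s hs
      have hmem := conj_mem_of_card_four_of_card_eight hS hM hMS hs (Subgroup.mem_zpowers u)
      have hconj : s * u ^ 2 * s⁻¹ = (s * u * s⁻¹) ^ 2 := by rw [conj_pow]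
      have key : s * u ^ 2 * s⁻¹ = u ^ 2 := by
        rw [hconj]
        rcases mem_zpowers_of_orderOf_eq_four hu4 hmem with h | h | h | h
        · exfalso; apply hu1
          have e : u = s⁻¹ * (s * u * s⁻¹) * s := by group
          rw [e, h]; group
        · rw [h]
        · exfalso; apply hu2ne
          have e : u ^ 2 = s⁻¹ * (s * u * s⁻¹) ^ 2 * s := by rw [← hconj]; group
          rw [e, h, ← pow_mul, hu4']; group
        · rw [h, ← pow_mul]
          calc u ^ (3 * 2) = u ^ 4 * u ^ 2 := by rw [← pow_add]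
            _ = u ^ 2 := by rw [hu4', one_mul]
      calc s * u ^ 2 = s * u ^ 2 * s⁻¹ * s := by group
        _ = u ^ 2 * s := by rw [key]
    rcases hZ _ ((S : Subgroup G).pow_mem hu 2) hc with h | h
    · exact absurd h hu2ne
    · exact h
  by_contra h3
  -- no fusion of elements of `M` to elements of `S` outside `M`
  have hclaim : ∀ m ∈ Subgroup.zpowers u, ∀ g : G, g * m * g⁻¹ ∈ (S : Subgroup G) →
      g * m * g⁻¹ ∈ Subgroup.zpowers u := by
    intro m hm g hg
    by_contra hnot
    rcases mem_zpowers_of_orderOf_eq_four hu4 hm with h | h | h | h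
    · apply hnot
      rw [h]
      simp
    · rw [h] at hg hnot
      exact h3 (three_dvd_card_of_cyclic_four_fusion S hS hz hz1 hcent hZ hMS hM hg hnot)
    · rw [h, hu2] at hg hnot
      apply h3
      refine three_dvd_card_of_central_involution_fusion S hS hz hzz hz1 hcent hZ hg ?_
      intro h'
      apply hnot
      rw [h', ← hu2]
      exact Subgroup.pow_mem _ (Subgroup.mem_zpowers u) 2
    · have e3 : u ^ 3 = u⁻¹ := by
        rw [eq_inv_iff_mul_eq_one, ← pow_succ, hu4']
      rw [h, e3] at hg hnot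
      have e : g * u * g⁻¹ = (g * u⁻¹ * g⁻¹)⁻¹ := by group
      have hg' : g * u * g⁻¹ ∈ (S : Subgroup G) := by
        rw [e]; exact (S : Subgroup G).inv_mem hg
      have hnot' : g * u * g⁻¹ ∉ Subgroup.zpowers u := by
        intro h'
        apply hnot
        have e' : g * u⁻¹ * g⁻¹ = (g * u * g⁻¹)⁻¹ := by group
        rw [e']; exact (Subgroup.zpowers u).inv_mem h'
      exact h3 (three_dvd_card_of_cyclic_four_fusion S hS hz hz1 hcent hZ hMS hM hg' hnot')
  have hfocal : (S : Subgroup G).focalSubgroup = (S : Subgroup G) := by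
    rw [← Subgroup.commutator_inf_eq_focalSubgroup S, hperf, top_inf_eq]
  have hle : (S : Subgroup G).focalSubgroup ≤ Subgroup.zpowers u := by
    rw [Subgroup.focalSubgroup_def, Subgroup.closure_le]
    rintro g ⟨hgS, x, hx, v, rfl⟩
    show ⁅x, v⁆ ∈ Subgroup.zpowers u
    have hxi : x⁻¹ ∈ (S : Subgroup G) := (S : Subgroup G).inv_mem hx
    have hcS : v * x⁻¹ * v⁻¹ ∈ (S : Subgroup G) := by
      have e : v * x⁻¹ * v⁻¹ = x⁻¹ * ⁅x, v⁆ := by
        rw [commutatorElement_def]; group
      rw [e]
      exact (S : Subgroup G).mul_mem hxi hgS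
    have e : ⁅x, v⁆ = x * (v * x⁻¹ * v⁻¹) := by
      rw [commutatorElement_def]; group
    rw [e, mul_mem_iff_of_card_four_of_card_eight hS hM hMS hx hcS]
    constructor
    · intro hxM
      exact hclaim _ ((Subgroup.zpowers u).inv_mem hxM) v hcS
    · intro hcM
      have h1 := hclaim _ hcM v⁻¹ (by
        have e1 : v⁻¹ * (v * x⁻¹ * v⁻¹) * v⁻¹⁻¹ = x⁻¹ := by group
        rw [e1]; exact hxi)
      have e1 : v⁻¹ * (v * x⁻¹ * v⁻¹) * v⁻¹⁻¹ = x⁻¹ := by group
      rw [e1] at h1
      simpa using (Subgroup.zpowers u).inv_mem h1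
  rw [hfocal] at hle
  have := Subgroup.card_le_of_le hle
  rw [hS, hM] at this
  omega

/-- A nonabelian finite simple group of even order has order divisible by `12`, `16` or `56`. -/
theorem twelve_or_sixteen_or_fiftysix_dvd_card_of_simple [IsSimpleGroup G]
    (hG : ¬ IsMulCommutative G) (h2 : Even (Nat.card G)) :
    12 ∣ Nat.card G ∨ 16 ∣ Nat.card G ∨ 56 ∣ Nat.card G := by
  haveI : Fact (Nat.Prime 2) := ⟨Nat.prime_two⟩
  by_contra hcon
  push Not at hcon
  obtain ⟨h12, h16, h56⟩ := hcon
  have hncyc : ¬ IsCyclic G := fun h => hG h.isMulCommutative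
  obtain ⟨S⟩ : Nonempty (Sylow 2 G) := inferInstance
  have h2dvd : 2 ∣ Nat.card G := even_iff_two_dvd.mp h2
  obtain ⟨hbot, htop, hnn, hnp, hfact, hburn⟩ := sylow_facts hncyc 2 h2dvd S
  have hcardS : Nat.card (S : Subgroup G) = 2 ^ (Nat.card G).factorization 2 :=
    S.card_eq_multiplicity
  have hSdvd : Nat.card (S : Subgroup G) ∣ Nat.card G := Subgroup.card_subgroup_dvd_card _
  obtain ⟨a, ha⟩ : ∃ a, a = (Nat.card G).factorization 2 := ⟨_, rfl⟩
  rw [← ha] at hcardS
  have ha1 : 1 ≤ a := by
    by_contra h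
    have h0 : a = 0 := by omega
    rw [h0, pow_zero] at hcardS
    exact hbot (Subgroup.card_eq_one.mp hcardS)
  have ha3 : a ≤ 3 := by
    by_contra h
    apply h16
    have h4 : 2 ^ 4 ∣ 2 ^ a := pow_dvd_pow 2 (by omega)
    exact h4.trans (hcardS ▸ hSdvd)
  have h3 : 2 ≤ a → ¬ 3 ∣ Nat.card G := by
    intro h2a h3
    apply h12
    have h4 : 2 ^ 2 ∣ Nat.card G := (pow_dvd_pow 2 h2a).trans (hcardS ▸ hSdvd)
    exact Nat.Coprime.mul_dvd_of_dvd_of_dvd (by norm_num) h3 h4
  have h7 : a = 3 → ¬ 7 ∣ Nat.card G := by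
    intro h3a h7
    apply h56
    have h8 : 2 ^ 3 ∣ Nat.card G := (pow_dvd_pow 2 h3a.ge).trans (hcardS ▸ hSdvd)
    exact Nat.Coprime.mul_dvd_of_dvd_of_dvd (by norm_num) h7 h8
  have hperf : _root_.commutator G = ⊤ := by
    rcases (inferInstance : (_root_.commutator G).Normal).eq_bot_or_eq_top with h | h
    · exact absurd ((commutator_eq_bot_iff G).mp h) hG
    · exact h
  interval_cases a
  · -- `|S| = 2`
    have hcyc : IsCyclic (S : Subgroup G) := isCyclic_of_prime_card (p := 2) (by rw [hcardS]; rfl)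
    exact hburn (IsCyclic.normalizer_le_centralizer ((Nat.minFac_eq_two_iff _).mpr h2dvd) hcyc)
  · -- `|S| = 4`
    have hc : IsMulCommutative (S : Subgroup G) :=
      IsPGroup.isMulCommutative_of_card_eq_prime_sq (p := 2) hcardS
    apply hburn
    refine normalizer_le_centralizer_of_abelian_sylow_two S ?_ (by rw [hcardS]; norm_num)
      (h3 le_rfl) (fun h8 => by rw [hcardS] at h8; norm_num at h8)
    intro x hx y hy
    exact congrArg Subtype.val (hc.is_comm.comm (⟨x, hx⟩ : (S : Subgroup G)) ⟨y, hy⟩)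
  · -- `|S| = 8`
    have hS8 : Nat.card (S : Subgroup G) = 8 := by rw [hcardS]; norm_num
    by_cases hcomm : ∀ a ∈ (S : Subgroup G), ∀ b ∈ (S : Subgroup G), a * b = b * a
    · apply hburn
      exact normalizer_le_centralizer_of_abelian_sylow_two S hcomm (by rw [hS8])
        (h3 (by norm_num)) (fun _ => h7 rfl)
    · exact h3 (by norm_num) (three_dvd_card_of_nonabelian_sylow_eight hperf S hS8 hcomm)

end Main

end Cfsg.Agent.Lib.helper11
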