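import Mathlib
import Cfsg.Agent.Lib.helper11.D8Iso

/-!
# General lemmas for the recognition of `S₆`

* `inverts_of_fpf`: a fixed-point-free involution inverts a normal subgroup;
* `card_eq_card_cent_mul`: the size of a conjugacy class;
* `card_dvd_factorial_index`: a simple group embeds in the symmetric group on the cosets of a
  proper subgroup;
* `exists_conj_le`: two subgroups of order `60` and index `6` sharing an element of order `3`
  are conjugate;
* `sym6_of_index_two`: recognition of `S₆` from a simple normal subgroup of index `2` and order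
  `360`.
-/

set_option autoImplicit false

namespace Cfsg.Agent.Lib.helper11.TwoS4

open Cfsg.Agent.Lib.helper11.FourCent

variable {G : Type*} [Group G]

/-- An involution without non-identity fixed points on a finite normal subgroup inverts it. -/
theorem inverts_of_fpf [Finite G] (K : Subgroup G) [hKn : K.Normal] {v : G} (hv : v * v = 1)
    (hfpf : ∀ k ∈ K, k * v = v * k → k = 1) : ∀ k ∈ K, v * k * v⁻¹ = k⁻¹ := by
  have hvinv : v⁻¹ = v := inv_eq_self_of_sq hv
  let ψ : K → K := fun k =>
    ⟨(k : G)⁻¹ * (v * (k : G) * v⁻¹), K.mul_mem (K.inv_mem k.2) (hKn.conj_mem _ k.2 _)⟩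
  have hinj : Function.Injective ψ := by
    intro k l h
    have h1 : (k : G)⁻¹ * (v * (k : G) * v⁻¹) = (l : G)⁻¹ * (v * (l : G) * v⁻¹) :=
      congrArg Subtype.val h
    have h2 : ((l : G) * (k : G)⁻¹) * v = v * ((l : G) * (k : G)⁻¹) := by
      have e : (l : G) * (k : G)⁻¹ * v =
          (l : G) * ((k : G)⁻¹ * (v * (k : G) * v⁻¹)) * v * (k : G)⁻¹ := by group
      rw [e, h1]; group
    have h3 := hfpf _ (K.mul_mem l.2 (K.inv_mem k.2)) h2
    rw [mul_inv_eq_one] at h3
    exact Subtype.ext h3.symm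
  have hsurj := Finite.injective_iff_surjective.mp hinj
  intro k hk
  obtain ⟨l, hl⟩ := hsurj ⟨k, hk⟩
  have hl' : (l : G)⁻¹ * (v * (l : G) * v⁻¹) = k := congrArg Subtype.val hl
  rw [← hl']
  have e1 : v * ((l : G)⁻¹ * (v * (l : G) * v⁻¹)) * v⁻¹ =
      v * (l : G)⁻¹ * v * (l : G) * (v⁻¹ * v⁻¹) := by group
  have e2 : ((l : G)⁻¹ * (v * (l : G) * v⁻¹))⁻¹ = v * (l : G)⁻¹ * v⁻¹ * (l : G) := by group
  rw [e1, e2, hvinv, hv, mul_one]

section Count

open Classical

variable [Fintype G]

/-- The size of a conjugacy class. -/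
theorem card_eq_card_cent_mul (t : G) :
    Fintype.card G = Nat.card (Subgroup.centralizer ({t} : Set G)) *
      (Finset.univ.image (fun h : G => h * t * h⁻¹)).card := by
  have hmaps : ((Finset.univ : Finset G) : Set G).MapsTo (fun h => h * t * h⁻¹)
      (Finset.univ.image (fun h : G => h * t * h⁻¹)) := by
    intro h _
    exact Finset.mem_coe.mpr (Finset.mem_image_of_mem _ (Finset.mem_univ _))
  have h2 := Finset.card_eq_sum_card_fiberwise hmaps
  rw [Finset.card_univ] at h2
  have h3 : ∀ x ∈ Finset.univ.image (fun h : G => h * t * h⁻¹),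
      (Finset.univ.filter (fun h : G => h * t * h⁻¹ = x)).card =
        Nat.card (Subgroup.centralizer ({t} : Set G)) := by
    intro x hx
    obtain ⟨h₀, -, hh₀⟩ := Finset.mem_image.mp hx
    rw [← card_CF]
    symm
    apply Finset.card_bij (fun c _ => h₀ * c)
    · intro c hc
      rw [mem_CF] at hc
      rw [Finset.mem_filter]
      refine ⟨Finset.mem_univ _, ?_⟩
      calc h₀ * c * t * (h₀ * c)⁻¹ = h₀ * (c * t) * c⁻¹ * h₀⁻¹ := by group
        _ = h₀ * (t * c) * c⁻¹ * h₀⁻¹ := by rw [hc]
        _ = h₀ * t * h₀⁻¹ := by group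
        _ = x := hh₀
    · intro c _ c' _ h; exact mul_left_cancel h
    · intro h hh
      rw [Finset.mem_filter] at hh
      refine ⟨h₀⁻¹ * h, ?_, by group⟩
      rw [mem_CF]
      have e : h * t * h⁻¹ = h₀ * t * h₀⁻¹ := hh.2.trans hh₀.symm
      calc h₀⁻¹ * h * t = h₀⁻¹ * (h * t * h⁻¹) * h := by group
        _ = h₀⁻¹ * (h₀ * t * h₀⁻¹) * h := by rw [e]
        _ = t * (h₀⁻¹ * h) := by group
  rw [Finset.sum_congr rfl h3, Finset.sum_const, smul_eq_mul] at h2
  rw [h2, mul_comm]

end Count

/-- A finite simple group embeds in the symmetric group on the cosets of a proper subgroup. -/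
theorem card_dvd_factorial_index {L : Type*} [Group L] [Finite L] [IsSimpleGroup L]
    (M : Subgroup L) (hM : M ≠ ⊤) : Nat.card L ∣ (M.index).factorial := by
  have hker : (MulAction.toPermHom L (L ⧸ M)).ker = ⊥ := by
    rcases (inferInstance : (MulAction.toPermHom L (L ⧸ M)).ker.Normal).eq_bot_or_eq_top
      with h0 | h0
    · exact h0
    · exfalso
      have h1 : (MulAction.toPermHom L (L ⧸ M)).ker ≤ M := by
        rw [← Subgroup.normalCore_eq_ker]; exact Subgroup.normalCore_le M
      rw [h0] at h1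
      exact hM (top_le_iff.mp h1)
  have hinj : Function.Injective (MulAction.toPermHom L (L ⧸ M)) :=
    (MonoidHom.ker_eq_bot_iff _).mp hker
  have h1 : Nat.card L = Nat.card (MulAction.toPermHom L (L ⧸ M)).range :=
    Nat.card_congr (MonoidHom.ofInjective hinj).toEquiv
  have h2 := Subgroup.card_subgroup_dvd_card (MulAction.toPermHom L (L ⧸ M)).range
  rw [← h1, Nat.card_perm] at h2
  exact h2

/-- Two subgroups of order `60` and index `6` with a common element of order `3`, one of them
without proper subgroups of index less than `5`, are conjugate. -/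
theorem exists_conj_le {N : Type*} [Group N] [Finite N] (K K' : Subgroup N) (hK : K.index = 6)
    (hK' : Nat.card K' = 60) (hidx : ∀ L : Subgroup K', L.index = 1 ∨ 5 ≤ L.index) (y : N)
    (hyK : y ∈ K) (hyK' : y ∈ K') (hy : orderOf y = 3) :
    ∃ g : N, ∀ k ∈ K', g⁻¹ * k * g ∈ K := by
  have hcardX : Nat.card (N ⧸ K) = 6 := hK
  have hfix : ∀ g : N, MulAction.stabilizer K' (g : N ⧸ K) = ⊤ → ∀ k ∈ K', g⁻¹ * k * g ∈ K := by
    intro g hg k hk
    have h1 : (⟨k, hk⟩ : K') ∈ MulAction.stabilizer K' (g : N ⧸ K) := by rw [hg]; trivial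
    rw [MulAction.mem_stabilizer_iff] at h1
    have h2 : ((k * g : N) : N ⧸ K) = (g : N ⧸ K) := h1
    rw [QuotientGroup.eq] at h2
    have h3 := K.inv_mem h2
    have e : ((k * g)⁻¹ * g)⁻¹ = g⁻¹ * k * g := by group
    rwa [e] at h3
  have hidx6 : ∀ x : N ⧸ K, (MulAction.stabilizer K' x).index ≤ 6 := by
    intro x
    rw [MulAction.index_stabilizer, ← hcardX]
    exact Set.ncard_le_card _
  -- the stabilizer of the base point contains `y`
  have hy' : (⟨y, hyK'⟩ : K') ∈ MulAction.stabilizer K' ((1 : N) : N ⧸ K) := by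
    rw [MulAction.mem_stabilizer_iff]
    have h2 : ((y * 1 : N) : N ⧸ K) = ((1 : N) : N ⧸ K) := by
      rw [QuotientGroup.eq]
      have e : (y * 1)⁻¹ * 1 = y⁻¹ := by group
      rw [e]; exact K.inv_mem hyK
    exact h2
  have h3 : 3 ∣ Nat.card (MulAction.stabilizer K' ((1 : N) : N ⧸ K)) := by
    have h4 := Subgroup.orderOf_dvd_natCard _ hy'
    have h5 : orderOf (⟨y, hyK'⟩ : K') = 3 := by rw [← hy]; exact Subgroup.orderOf_mk y hyK'
    rwa [h5] at h4
  have h6 := (MulAction.stabilizer K' ((1 : N) : N ⧸ K)).card_mul_index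
  rw [hK'] at h6
  rcases hidx (MulAction.stabilizer K' ((1 : N) : N ⧸ K)) with h1 | h5
  · refine ⟨1, ?_⟩
    exact hfix 1 (Subgroup.index_eq_one.mp h1)
  · have h7 := hidx6 ((1 : N) : N ⧸ K)
    have h8 : (MulAction.stabilizer K' ((1 : N) : N ⧸ K)).index = 5 := by
      obtain ⟨q, hq⟩ := h3
      rw [hq] at h6
      rcases Nat.lt_or_ge (MulAction.stabilizer K' ((1 : N) : N ⧸ K)).index 6 with h9 | h9
      · omega
      · have h10 : (MulAction.stabilizer K' ((1 : N) : N ⧸ K)).index = 6 := le_antisymm h7 h9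
        rw [h10] at h6
        omega
    rw [MulAction.index_stabilizer] at h8
    -- a point outside the orbit of the base point
    have hex : ∃ x : N ⧸ K, x ∉ MulAction.orbit K' ((1 : N) : N ⧸ K) := by
      by_contra hcon
      push Not at hcon
      have h9 : MulAction.orbit K' ((1 : N) : N ⧸ K) = Set.univ := Set.eq_univ_of_forall hcon
      rw [h9, Set.ncard_univ, hcardX] at h8
      omega
    obtain ⟨x, hx⟩ := hex
    obtain ⟨g, rfl⟩ := QuotientGroup.mk_surjective x
    refine ⟨g, hfix g ?_⟩
    rw [← Subgroup.index_eq_one, MulAction.index_stabilizer]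
    have hdisj : Disjoint (MulAction.orbit K' (g : N ⧸ K))
        (MulAction.orbit K' ((1 : N) : N ⧸ K)) := by
      rw [Set.disjoint_left]
      intro z hz1 hz2
      apply hx
      rw [← MulAction.orbit_eq_iff] at hz1 hz2
      rw [← hz2, hz1]
      exact MulAction.mem_orbit_self _
    have h9 := Set.ncard_union_eq hdisj (Set.toFinite _) (Set.toFinite _)
    have h10 := Set.ncard_le_card (MulAction.orbit K' (g : N ⧸ K) ∪
      MulAction.orbit K' ((1 : N) : N ⧸ K))
    rw [h9, h8, hcardX] at h10
    have h11 : (MulAction.orbit K' (g : N ⧸ K)).ncard ≠ 0 := by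
      intro h0
      rw [Set.ncard_eq_zero (Set.toFinite _)] at h0
      have h12 := MulAction.mem_orbit_self (M := K') (g : N ⧸ K)
      rw [h0] at h12
      exact h12
    omega

/-- **Recognition of `S₆`.** A finite group with a simple normal subgroup `N` of index `2` and
order `360`, an element `τ` outside `N` centralizing an element of order `3` of a subgroup of
`N` isomorphic to `A₅`, and no central element outside `N`, is isomorphic to `S₆`. -/
theorem sym6_of_index_two [Finite G] (N : Subgroup G) [hNn : N.Normal] (hN2 : N.index = 2)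
    [hNs : IsSimpleGroup N] (hNc : Nat.card N = 360) (τ : G) (hτ : τ ∉ N)
    (KN : Subgroup N) (hK : Nonempty (KN ≃* alternatingGroup (Fin 5)))
    (y : N) (hy : orderOf y = 3) (hyK : y ∈ KN) (hτy : τ * (y : G) = (y : G) * τ)
    (hcen : ∀ k : G, (∀ g : G, k * g = g * k) → k ∈ N) :
    Nonempty (G ≃* Equiv.Perm (Fin 6)) := by
  obtain ⟨ψ⟩ := hK
  have hKc : Nat.card KN = 60 := by
    rw [Nat.card_congr ψ.toEquiv, nat_card_alternatingGroup]
    simp [Nat.factorial]
  haveI hKs : IsSimpleGroup KN := ψ.isSimpleGroup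
  let c : N ≃* N := MulAut.conjNormal τ
  have hcval : ∀ k : N, ((c k : N) : G) = τ * (k : G) * τ⁻¹ := fun k =>
    MulAut.conjNormal_apply τ k
  have hK'c : Nat.card (KN.map c.toMonoidHom) = 60 := by
    exact (Subgroup.card_map_of_injective (f := c.toMonoidHom) c.injective).trans hKc
  haveI : IsSimpleGroup (KN.map c.toMonoidHom) :=
    (KN.equivMapOfInjective c.toMonoidHom c.injective).symm.isSimpleGroup
  have hidx : ∀ L : Subgroup (KN.map c.toMonoidHom), L.index = 1 ∨ 5 ≤ L.index := by
    intro L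
    by_cases hL : L = ⊤
    · left; rw [hL, Subgroup.index_top]
    · right
      have h1 := card_dvd_factorial_index L hL
      rw [hK'c] at h1
      by_contra hlt
      push Not at hlt
      have h2 : (L.index).factorial ∣ (4 : ℕ).factorial := Nat.factorial_dvd_factorial (by omega)
      have h3 := h1.trans h2
      norm_num [Nat.factorial] at h3
  have hKidx : KN.index = 6 := by
    have h1 := KN.card_mul_index
    rw [hKc, hNc] at h1
    omega
  have hyK' : y ∈ KN.map c.toMonoidHom := by
    refine ⟨y, hyK, Subtype.ext ?_⟩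
    show ((c y : N) : G) = (y : G)
    rw [hcval, hτy, mul_assoc, mul_inv_cancel, mul_one]
  obtain ⟨n, hn⟩ := exists_conj_le KN (KN.map c.toMonoidHom) hKidx hK'c hidx y hyK hyK' hy
  -- the element `s = n⁻¹ τ` normalizes `K`
  have hsN : (n : G)⁻¹ * τ ∉ N := by
    intro h
    apply hτ
    have h1 := N.mul_mem n.2 h
    rwa [mul_inv_cancel_left] at h1
  have hsK : ∀ x ∈ ((KN.map N.subtype : Subgroup G) : Set G),
      ((n : G)⁻¹ * τ) * x * ((n : G)⁻¹ * τ)⁻¹ ∈ ((KN.map N.subtype : Subgroup G) : Set G) := by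
    rintro x ⟨k, hk, rfl⟩
    have h1 := hn (c k) ⟨k, hk, rfl⟩
    refine ⟨n⁻¹ * c k * n, h1, ?_⟩
    show ((n⁻¹ * c k * n : N) : G) = _
    rw [Subgroup.coe_mul, Subgroup.coe_mul, Subgroup.coe_inv, hcval]
    show (n : G)⁻¹ * (τ * (k : G) * τ⁻¹) * (n : G) = (n : G)⁻¹ * τ * (k : G) * ((n : G)⁻¹ * τ)⁻¹
    group
  have hsnorm : (n : G)⁻¹ * τ ∈ Subgroup.normalizer ((KN.map N.subtype : Subgroup G) : Set G) :=
    Subgroup.mem_normalizer_fintype hsK
  have hKH : KN.map N.subtype ≤ Subgroup.normalizer ((KN.map N.subtype : Subgroup G) : Set G) :=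
    Subgroup.le_normalizer
  generalize hHn : Subgroup.normalizer ((KN.map N.subtype : Subgroup G) : Set G) = Hn at hsnorm hKH
  have hKL : KN ≤ Hn.subgroupOf N := by
    intro k hk
    rw [Subgroup.mem_subgroupOf]
    exact hKH ⟨k, hk, rfl⟩
  have hLtop : Hn.subgroupOf N ≠ ⊤ := by
    intro h
    have hKNn : KN.Normal := by
      constructor
      intro k hk g
      have hg : (g : G) ∈ Hn := by
        have h1 : g ∈ Hn.subgroupOf N := by rw [h]; trivial
        exact Subgroup.mem_subgroupOf.mp h1
      rw [← hHn] at hg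
      have h2 := (Subgroup.mem_normalizer_iff.mp hg (k : G)).mp ⟨k, hk, rfl⟩
      obtain ⟨k', hk', hk'e⟩ := h2
      have h3 : k' = g * k * g⁻¹ := Subtype.ext hk'e
      rw [← h3]; exact hk'
    rcases hKNn.eq_bot_or_eq_top with h3 | h3
    · rw [h3, Subgroup.card_bot] at hKc; omega
    · rw [h3, Subgroup.card_top, hNc] at hKc; omega
  have hLidx : (Hn.subgroupOf N).index = 6 := by
    have h1 := card_dvd_factorial_index (Hn.subgroupOf N) hLtop
    have h2 : (Hn.subgroupOf N).index ∣ KN.index := Subgroup.index_dvd_of_le hKL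
    rw [hKidx] at h2
    rw [hNc] at h1
    have h3 := Nat.le_of_dvd (by norm_num) h2
    rcases Nat.lt_or_ge (Hn.subgroupOf N).index 6 with h4 | h4
    · exfalso
      have h5 : ((Hn.subgroupOf N).index).factorial ∣ (5 : ℕ).factorial :=
        Nat.factorial_dvd_factorial (by omega)
      have h6 := h1.trans h5
      norm_num [Nat.factorial] at h6
    · omega
  have hrel : N.relIndex Hn = 2 := by
    have h1 : N.relIndex Hn ∣ N.index := Subgroup.relIndex_dvd_index_of_normal N Hn
    rw [hN2] at h1
    have h2 : N.relIndex Hn ≠ 1 := by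
      intro h
      rw [Subgroup.relIndex_eq_one] at h
      exact hsN (h hsnorm)
    rcases (Nat.dvd_prime Nat.prime_two).mp h1 with h3 | h3
    · exact absurd h3 h2
    · exact h3
  have hHidx : Hn.index = 6 := by
    have h1 := Subgroup.relIndex_mul_index (H := Hn ⊓ N) (K := N) inf_le_right
    have h2 := Subgroup.relIndex_mul_index (H := Hn ⊓ N) (K := Hn) inf_le_left
    rw [Subgroup.inf_relIndex_right, hN2] at h1
    rw [Subgroup.inf_relIndex_left, hrel] at h2
    have h3 : Hn.relIndex N = 6 := hLidx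
    rw [h3] at h1
    omega
  -- the action on the cosets of `Hn` is faithful
  have hker : (MulAction.toPermHom G (G ⧸ Hn)).ker = ⊥ := by
    have hKρH : (MulAction.toPermHom G (G ⧸ Hn)).ker ≤ Hn := by
      rw [← Subgroup.normalCore_eq_ker]; exact Subgroup.normalCore_le Hn
    have hKρn : (MulAction.toPermHom G (G ⧸ Hn)).ker.Normal := inferInstance
    generalize (MulAction.toPermHom G (G ⧸ Hn)).ker = Kρ at hKρH hKρn
    haveI := hKρn
    rcases (inferInstance : (Kρ.subgroupOf N).Normal).eq_bot_or_eq_top with h1 | h1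
    · rw [eq_bot_iff]
      intro k hk
      rw [Subgroup.mem_bot]
      by_contra hk1
      have hkN : k ∉ N := by
        intro hN
        have h2 : (⟨k, hN⟩ : N) ∈ Kρ.subgroupOf N := Subgroup.mem_subgroupOf.mpr hk
        rw [h1, Subgroup.mem_bot] at h2
        exact hk1 (congrArg Subtype.val h2)
      apply hkN
      apply hcen
      intro g
      have h2 : g * k * g⁻¹ ∈ Kρ := hKρn.conj_mem k hk g
      have h3 : g * k * g⁻¹ * k⁻¹ ∈ Kρ := Kρ.mul_mem h2 (Kρ.inv_mem hk)
      have h4 : g * k * g⁻¹ * k⁻¹ ∈ N := by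
        rw [Subgroup.mul_mem_iff_of_index_two hN2]
        constructor
        · intro h
          exfalso
          apply hkN
          have e : k = g⁻¹ * (g * k * g⁻¹) * g⁻¹⁻¹ := by group
          rw [e]
          exact hNn.conj_mem _ h _
        · intro h
          exfalso
          exact hkN ((Subgroup.inv_mem_iff N).mp h)
      have h5 : (⟨_, h4⟩ : N) ∈ Kρ.subgroupOf N := Subgroup.mem_subgroupOf.mpr h3
      rw [h1, Subgroup.mem_bot] at h5
      have h6 : g * k * g⁻¹ * k⁻¹ = 1 := congrArg Subtype.val h5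
      have h7 : g * k * g⁻¹ = k := by rwa [mul_inv_eq_one] at h6
      calc k * g = (g * k * g⁻¹) * g := by rw [h7]
        _ = g * k := by group
    · exfalso
      apply hLtop
      rw [eq_top_iff]
      intro x _
      rw [Subgroup.mem_subgroupOf]
      apply hKρH
      have h2 : x ∈ Kρ.subgroupOf N := by rw [h1]; trivial
      exact Subgroup.mem_subgroupOf.mp h2
  have hinj : Function.Injective (MulAction.toPermHom G (G ⧸ Hn)) :=
    (MonoidHom.ker_eq_bot_iff _).mp hker
  have hcard6 : Nat.card (G ⧸ Hn) = 6 := hHidx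
  let e : (G ⧸ Hn) ≃ Fin 6 := Finite.equivFinOfCardEq hcard6
  let θ : G →* Equiv.Perm (Fin 6) :=
    (e.permCongrHom : Equiv.Perm (G ⧸ Hn) →* Equiv.Perm (Fin 6)).comp
      (MulAction.toPermHom G (G ⧸ Hn))
  have hθ : Function.Injective θ := by
    intro x x' hxx
    exact hinj (e.permCongrHom.injective hxx)
  have hGc : Nat.card G = 720 := by
    have h1 := N.card_mul_index
    rw [hNc, hN2] at h1
    omega
  have hbij : Function.Bijective θ := by
    rw [Nat.bijective_iff_injective_and_card]
    refine ⟨hθ, ?_⟩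
    rw [hGc, Nat.card_perm, Nat.card_fin]
    rfl
  exact ⟨MulEquiv.ofBijective θ hbij⟩

end Cfsg.Agent.Lib.helper11.TwoS4
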