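import Mathlib

/-!
# The model group `Z₂ × S₄`

Explicit elements and finite checks in `Multiplicative (ZMod 2) × Equiv.Perm (Fin 4)`, used
for the analysis of groups with an involution centralizer of this shape.
-/

set_option autoImplicit false

namespace Cfsg.Agent.Lib.helper11.TwoS4

open Equiv DihedralGroup

/-- The model group `Z₂ × S₄`. -/
abbrev Γ := Multiplicative (ZMod 2) × Perm (Fin 4)

/-- The central involution. -/
def z₀ : Γ := (Multiplicative.ofAdd 1, 1)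

/-- The central involution of a Sylow `2`-subgroup of the `S₄`-factor. -/
def u₀ : Γ := (1, swap 0 2 * swap 1 3)

/-- A transposition. -/
def a₀ : Γ := (1, swap 0 2)

/-- A double transposition different from `u₀`. -/
def b₀ : Γ := (1, swap 0 1 * swap 2 3)

/-- A `4`-cycle with square `u₀`. -/
def c₀ : Γ := (1, swap 0 1 * swap 1 2 * swap 2 3)

/-- A `3`-cycle. -/
def y₀ : Γ := (1, swap 0 1 * swap 1 2)

/-- The function underlying the character `(ε, σ) ↦ ε · sign σ`. -/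
def chiFun (γ : Γ) : Multiplicative (ZMod 2) :=
  γ.1 * (if Perm.sign γ.2 = 1 then 1 else Multiplicative.ofAdd 1)

theorem chiFun_aux : ∀ e₁ e₂ : ℤˣ,
    (if e₁ * e₂ = 1 then (1 : Multiplicative (ZMod 2)) else Multiplicative.ofAdd 1) =
      (if e₁ = 1 then 1 else Multiplicative.ofAdd 1) *
        (if e₂ = 1 then 1 else Multiplicative.ofAdd 1) := by decide

theorem chiFun_mul : ∀ γ δ : Γ, chiFun (γ * δ) = chiFun γ * chiFun δ := by
  intro γ δ
  simp only [chiFun, Prod.fst_mul, Prod.snd_mul, map_mul, chiFun_aux]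
  exact mul_mul_mul_comm _ _ _ _

/-- The character `(ε, σ) ↦ ε · sign σ`. -/
def χ₀ : Γ →* Multiplicative (ZMod 2) := MonoidHom.mk' chiFun chiFun_mul

theorem thetaFun_mul : ∀ γ δ : Γ,
    ((chiFun (γ * δ), (γ * δ).2) : Γ) = (chiFun γ, γ.2) * (chiFun δ, δ.2) :=
  fun γ δ => Prod.ext (chiFun_mul γ δ) rfl

/-- The automorphism `(ε, σ) ↦ (ε · sign σ, σ)`. -/
def θ : Γ →* Γ := MonoidHom.mk' (fun γ => (chiFun γ, γ.2)) thetaFun_mul

theorem theta_theta : ∀ γ : Γ, θ (θ γ) = γ := by decide +kernel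

theorem theta_injective : Function.Injective θ := fun γ δ h => by
  rw [← theta_theta γ, ← theta_theta δ, h]

theorem theta_surjective : Function.Surjective θ := fun γ => ⟨θ γ, theta_theta γ⟩

theorem theta_z : θ z₀ = z₀ := by decide +kernel

theorem theta_u : θ u₀ = u₀ := by decide +kernel

theorem theta_a : θ a₀ = z₀ * a₀ := by decide +kernel

theorem z_central : ∀ γ : Γ, γ * z₀ = z₀ * γ := by decide +kernel

theorem center_eq : ∀ γ : Γ, (∀ δ : Γ, γ * δ = δ * γ) → γ = 1 ∨ γ = z₀ := by decide +kernel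

set_option synthInstance.maxHeartbeats 400000 in
set_option synthInstance.maxSize 1024 in
theorem inv_types : ∀ γ : Γ, γ * γ = 1 → γ ≠ 1 → γ ≠ z₀ →
    ((∃ δ : Γ, δ * u₀ * δ⁻¹ = γ) ∨ (∃ δ : Γ, δ * (z₀ * u₀) * δ⁻¹ = γ)) ∨
    ((∃ δ : Γ, δ * a₀ * δ⁻¹ = γ) ∨ (∃ δ : Γ, δ * (z₀ * a₀) * δ⁻¹ = γ)) := by decide +kernel

theorem comm_P : ∀ p q : Γ, p * u₀ = u₀ * p → q * u₀ = u₀ * q →
    p * q * p⁻¹ * q⁻¹ = 1 ∨ p * q * p⁻¹ * q⁻¹ = u₀ := by decide +kernel

theorem card_P : Fintype.card {p : Γ // p * u₀ = u₀ * p} = 16 := by decide +kernel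

theorem u_eq_comm : u₀ = a₀ * c₀ * a₀⁻¹ * c₀⁻¹ := by decide +kernel

theorem a_comm_u : a₀ * u₀ = u₀ * a₀ := by decide +kernel

theorem c_comm_u : c₀ * u₀ = u₀ * c₀ := by decide +kernel

theorem c_not_comm_a : c₀ * a₀ ≠ a₀ * c₀ := by decide +kernel

theorem c_conj_a : c₀ * a₀ * c₀⁻¹ = a₀ * u₀ := by decide +kernel

theorem c_conj_za : c₀ * (z₀ * a₀) * c₀⁻¹ = z₀ * a₀ * u₀ := by decide +kernel

set_option synthInstance.maxHeartbeats 400000 in
set_option synthInstance.maxSize 1024 in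
theorem center_P : ∀ p : Γ, p * u₀ = u₀ * p → (∀ q : Γ, q * u₀ = u₀ * q → p * q = q * p) →
    p = 1 ∨ p = z₀ ∨ p = u₀ ∨ p = z₀ * u₀ := by decide +kernel

set_option synthInstance.maxHeartbeats 400000 in
set_option synthInstance.maxSize 1024 in
theorem cent_a : ∀ γ : Γ, γ * a₀ = a₀ * γ →
    (γ = 1 ∨ γ = z₀ ∨ γ = u₀ ∨ γ = z₀ * u₀) ∨
    (γ = a₀ ∨ γ = a₀ * u₀ ∨ γ = z₀ * a₀ ∨ γ = z₀ * a₀ * u₀) := by decide +kernel

set_option synthInstance.maxHeartbeats 400000 in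
set_option synthInstance.maxSize 1024 in
theorem inv_M : ∀ m : Γ, m * u₀ = u₀ * m → χ₀ m = 1 → m * m = 1 → m ≠ 1 →
    (∃ δ : Γ, δ * u₀ * δ⁻¹ = m) ∨ (∃ δ : Γ, δ * (z₀ * a₀) * δ⁻¹ = m) := by decide +kernel

theorem swap_conj : ∀ x y : Fin 4, x ≠ y → ∃ δ : Γ, δ * a₀ * δ⁻¹ = (1, swap x y) := by
  decide +kernel

theorem pow_twelve : ∀ γ : Γ, γ ^ 12 = 1 := by decide +kernel

set_option synthInstance.maxHeartbeats 400000 in
set_option synthInstance.maxSize 1024 in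
theorem odd_conj : ∀ γ : Γ, γ ≠ 1 → γ ^ 3 = 1 →
    ∃ δ : Γ, γ * (δ * γ * δ⁻¹) ≠ 1 ∧ (γ * (δ * γ * δ⁻¹)) * (γ * (δ * γ * δ⁻¹)) = 1 := by
  decide +kernel

theorem b_conj : ∃ δ : Γ, δ * u₀ * δ⁻¹ = b₀ := by decide +kernel

theorem ub_conj : ∃ δ : Γ, δ * u₀ * δ⁻¹ = u₀ * b₀ := by decide +kernel

theorem chi_z : χ₀ z₀ ≠ 1 := by decide +kernel

theorem chi_a : χ₀ a₀ ≠ 1 := by decide +kernel

theorem chi_u : χ₀ u₀ = 1 := by decide +kernel

theorem chi_y : χ₀ y₀ = 1 := by decide +kernel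

theorem y_pow : y₀ ^ 3 = 1 := by decide +kernel

theorem y_ne_one : y₀ ≠ 1 := by decide +kernel

theorem z_ne_one : z₀ ≠ 1 := by decide +kernel

theorem z_sq : z₀ * z₀ = 1 := by decide +kernel

theorem u_ne_one : u₀ ≠ 1 := by decide +kernel

theorem u_sq : u₀ * u₀ = 1 := by decide +kernel

theorem a_sq : a₀ * a₀ = 1 := by decide +kernel

theorem a_ne_z : a₀ ≠ z₀ := by decide +kernel

theorem u_ne_z : u₀ ≠ z₀ := by decide +kernel

/-- The map of the dihedral group of order `8` onto the subgroup `C(u₀) ∩ ker χ₀`. -/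
def phiFun : DihedralGroup 4 → Γ
  | r i => (z₀ * c₀) ^ i.val
  | sr i => b₀ * (z₀ * c₀) ^ i.val

theorem phiFun_mul : ∀ d d' : DihedralGroup 4, phiFun (d * d') = phiFun d * phiFun d' := by
  decide +kernel

/-- The embedding of the dihedral group of order `8` onto `C(u₀) ∩ ker χ₀`. -/
def φ₀ : DihedralGroup 4 →* Γ := MonoidHom.mk' phiFun phiFun_mul

theorem phi_inj : ∀ d d' : DihedralGroup 4, φ₀ d = φ₀ d' → d = d' := by decide +kernel

theorem phi_mem : ∀ d : DihedralGroup 4, φ₀ d * u₀ = u₀ * φ₀ d ∧ χ₀ (φ₀ d) = 1 := by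
  decide +kernel

theorem phi_surj : ∀ p : Γ, p * u₀ = u₀ * p → χ₀ p = 1 → ∃ d : DihedralGroup 4, φ₀ d = p := by
  decide +kernel

theorem phi_r2 : φ₀ (r 2) = u₀ := by decide +kernel

/-- The central involution together with the transpositions. -/
def D₇ : Finset Γ := Finset.univ.filter (fun γ : Γ => γ = z₀ ∨ ∃ δ : Γ, δ * a₀ * δ⁻¹ = γ)

theorem card_D₇ : D₇.card = 7 := by decide +kernel

theorem card_Γ : Fintype.card Γ = 48 := by decide +kernel

end Cfsg.Agent.Lib.helper11.TwoS4
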