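import Mathlib
import Cfsg.Agent.Lib.helper11.TwoS4Model
import Cfsg.Agent.Lib.helper11.D8Iso

/-!
# Groups with an involution centralizer `Z₂ × S₄`: fusion

`Setup t f` records an involution `t` whose centralizer is the image of an embedding `f` of the
model group `Z₂ × S₄`, such that the centralizer of the involution `u = f u₀` is a Sylow
`2`-subgroup contained in the centralizer of `t`.
-/

set_option autoImplicit false

namespace Cfsg.Agent.Lib.helper11.TwoS4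

open Cfsg.Agent.Lib.helper11.FourCent Cfsg.Agent.Lib.helper11.D8Cent

variable {G : Type*} [Group G]

/-- The basic configuration. -/
structure Setup (t : G) (f : Γ →* G) : Prop where
  inj : Function.Injective f
  mem : ∀ x : G, x * t = t * x → ∃ γ, f γ = x
  ht : f z₀ = t
  ku : ∀ x : G, x * f u₀ = f u₀ * x → x * t = t * x
  syl : ∃ S : Sylow 2 G, (S : Subgroup G) = Subgroup.centralizer ({f u₀} : Set G)

theorem conj_comm {x y : G} (h : G) (hxy : x * y = y * x) :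
    h * x * h⁻¹ * (h * y * h⁻¹) = h * y * h⁻¹ * (h * x * h⁻¹) := by
  have e1 : h * x * h⁻¹ * (h * y * h⁻¹) = h * (x * y) * h⁻¹ := by group
  have e2 : h * y * h⁻¹ * (h * x * h⁻¹) = h * (y * x) * h⁻¹ := by group
  rw [e1, e2, hxy]

theorem comm_of_conj_comm {x y : G} (h : G)
    (hxy : h * x * h⁻¹ * (h * y * h⁻¹) = h * y * h⁻¹ * (h * x * h⁻¹)) : x * y = y * x := by
  have e := conj_comm h⁻¹ hxy
  have e1 : h⁻¹ * (h * x * h⁻¹) * h⁻¹⁻¹ = x := by group
  have e2 : h⁻¹ * (h * y * h⁻¹) * h⁻¹⁻¹ = y := by group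
  rwa [e1, e2] at e

theorem comm_of_comm_mul {x a t : G} (hxa : x * a = a * x) (h : x * (a * t) = a * t * x) :
    x * t = t * x := by
  have e : a * (x * t) = a * (t * x) := by
    rw [← mul_assoc, ← hxa, mul_assoc, h, mul_assoc]
  exact mul_left_cancel e

namespace Setup

variable {t : G} {f : Γ →* G}

theorem comm (H : Setup t f) (γ : Γ) : f γ * t = t * f γ := by
  rw [← H.ht, ← map_mul, ← map_mul, z_central]

theorem tsq (H : Setup t f) : t * t = 1 := by
  rw [← H.ht, ← map_mul, TwoS4.z_sq, map_one]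

theorem tne (H : Setup t f) : t ≠ 1 := by
  rw [← H.ht]
  intro h
  exact z_ne_one (H.inj (by rw [h, map_one]))

theorem usq (_H : Setup t f) : f u₀ * f u₀ = 1 := by
  rw [← map_mul, TwoS4.u_sq, map_one]

theorem une (H : Setup t f) : f u₀ ≠ 1 := by
  intro h
  exact TwoS4.u_ne_one (H.inj (by rw [h, map_one]))

theorem unet (H : Setup t f) : f u₀ ≠ t := by
  rw [← H.ht]
  intro h
  exact u_ne_z (H.inj h)

theorem anet (H : Setup t f) : f a₀ ≠ t := by
  rw [← H.ht]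
  intro h
  exact a_ne_z (H.inj h)

theorem mem_u (H : Setup t f) (x : G) (hx : x * f u₀ = f u₀ * x) :
    ∃ p : Γ, p * u₀ = u₀ * p ∧ f p = x := by
  obtain ⟨p, hp⟩ := H.mem x (H.ku x hx)
  refine ⟨p, ?_, hp⟩
  apply H.inj
  rw [map_mul, map_mul, hp]
  exact hx

theorem card_cent_t (H : Setup t f) : Nat.card (Subgroup.centralizer ({t} : Set G)) = 48 := by
  have hbij : Function.Bijective (fun γ : Γ =>
      (⟨f γ, mem_cent.mpr (H.comm γ)⟩ : Subgroup.centralizer ({t} : Set G))) := by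
    constructor
    · intro γ δ h
      exact H.inj (congrArg Subtype.val h)
    · intro x
      obtain ⟨γ, hγ⟩ := H.mem (x : G) (mem_cent.mp x.2)
      exact ⟨γ, Subtype.ext hγ⟩
  rw [← Nat.card_congr (Equiv.ofBijective _ hbij), Nat.card_eq_fintype_card, card_Γ]

theorem card_cent_u (H : Setup t f) :
    Nat.card (Subgroup.centralizer ({f u₀} : Set G)) = 16 := by
  have hbij : Function.Bijective (fun p : {p : Γ // p * u₀ = u₀ * p} =>
      (⟨f p.1, mem_cent.mpr (by rw [← map_mul, ← map_mul, p.2])⟩ :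
        Subgroup.centralizer ({f u₀} : Set G))) := by
    constructor
    · intro γ δ h
      exact Subtype.ext (H.inj (congrArg Subtype.val h))
    · intro x
      obtain ⟨p, hp, hpx⟩ := H.mem_u (x : G) (mem_cent.mp x.2)
      exact ⟨⟨p, hp⟩, Subtype.ext hpx⟩
  rw [← Nat.card_congr (Equiv.ofBijective _ hbij), Nat.card_eq_fintype_card, card_P]

theorem not_conj_u (H : Setup t f) (g : G) : g * f u₀ * g⁻¹ ≠ t := by
  intro h
  have h1 := card_cent_conj g (f u₀)
  rw [h, H.card_cent_t, H.card_cent_u] at h1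
  omega

/-- Twisting the embedding by the automorphism `θ`. -/
theorem twist (H : Setup t f) : Setup t (f.comp θ) where
  inj := H.inj.comp theta_injective
  mem := by
    intro x hx
    obtain ⟨γ, hγ⟩ := H.mem x hx
    obtain ⟨γ', hγ'⟩ := theta_surjective γ
    exact ⟨γ', by rw [MonoidHom.comp_apply, hγ', hγ]⟩
  ht := by rw [MonoidHom.comp_apply, theta_z, H.ht]
  ku := by
    intro x hx
    rw [MonoidHom.comp_apply, theta_u] at hx
    exact H.ku x hx
  syl := by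
    obtain ⟨S, hS⟩ := H.syl
    exact ⟨S, by rw [MonoidHom.comp_apply, theta_u]; exact hS⟩

theorem twist_a (_H : Setup t f) : (f.comp θ) a₀ = f (z₀ * a₀) := by
  rw [MonoidHom.comp_apply, theta_a]

theorem twist_u (_H : Setup t f) : (f.comp θ) u₀ = f u₀ := by
  rw [MonoidHom.comp_apply, theta_u]

/-- `t` is not conjugate to `t u`. -/
theorem not_conj_tu [Finite G] (H : Setup t f) (g : G) : g⁻¹ * t * g ≠ t * f u₀ := by
  intro hg
  obtain ⟨S, hS⟩ := H.syl
  haveI : Fact (Nat.Prime 2) := ⟨Nat.prime_two⟩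
  have hSmem : ∀ s : G, s ∈ (S : Subgroup G) ↔ s * f u₀ = f u₀ * s := by
    intro s
    rw [hS, mem_cent]
  have htc : t ∈ Subgroup.centralizer ((S : Subgroup G) : Set G) := by
    rw [Subgroup.mem_centralizer_iff]
    intro s hs
    exact H.ku s ((hSmem s).mp hs)
  have htuc : g⁻¹ * t * g ∈ Subgroup.centralizer ((S : Subgroup G) : Set G) := by
    rw [hg, Subgroup.mem_centralizer_iff]
    intro s hs
    have h1 := H.ku s ((hSmem s).mp hs)
    have h2 := (hSmem s).mp hs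
    calc s * (t * f u₀) = t * s * f u₀ := by rw [← mul_assoc, h1]
      _ = t * f u₀ * s := by rw [mul_assoc, h2, ← mul_assoc]
  obtain ⟨n, hn, hn2⟩ := Sylow.conj_eq_normalizer_conj_of_mem_centralizer S t g htc htuc
  have hnS := Subgroup.mem_normalizer_iff.mp hn
  have hu'S : n⁻¹ * f u₀ * n ∈ (S : Subgroup G) := by
    rw [hnS]
    have e : n * (n⁻¹ * f u₀ * n) * n⁻¹ = f u₀ := by group
    rw [e, hSmem]
  have hu'c : ∀ s ∈ (S : Subgroup G), (n⁻¹ * f u₀ * n) * s = s * (n⁻¹ * f u₀ * n) := by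
    intro s hs
    have h1 : n * s * n⁻¹ ∈ (S : Subgroup G) := (hnS s).mp hs
    have h2 := (hSmem _).mp h1
    have e1 : (n⁻¹ * f u₀ * n) * s = n⁻¹ * (f u₀ * (n * s * n⁻¹)) * n := by group
    have e2 : s * (n⁻¹ * f u₀ * n) = n⁻¹ * ((n * s * n⁻¹) * f u₀) * n := by group
    rw [e1, e2, h2]
  obtain ⟨p, hp, hpf⟩ := H.mem_u _ ((hSmem _).mp hu'S)
  have hpc : ∀ q : Γ, q * u₀ = u₀ * q → p * q = q * p := by
    intro q hq
    apply H.inj
    rw [map_mul, map_mul, hpf]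
    exact hu'c (f q) ((hSmem _).mpr (by rw [← map_mul, ← map_mul, hq]))
  rcases center_P p hp hpc with h | h | h | h
  · rw [h, map_one] at hpf
    apply H.une
    have e : f u₀ = n * (n⁻¹ * f u₀ * n) * n⁻¹ := by group
    rw [e, ← hpf]; group
  · rw [h, H.ht] at hpf
    apply H.not_conj_u n⁻¹
    rw [inv_inv, ← hpf]
  · rw [h] at hpf
    have h1 : n * f u₀ = f u₀ * n := by
      have e : n * f u₀ = n * (n⁻¹ * f u₀ * n) := by rw [← hpf]
      rw [e]; group
    have h2 := H.ku n h1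
    have h3 : n⁻¹ * t * n = t := by
      rw [mul_assoc, ← h2, inv_mul_cancel_left]
    rw [hn2, h3] at hg
    apply H.une
    exact (mul_eq_left.mp hg.symm)
  · rw [h, map_mul, H.ht, ← hg, hn2] at hpf
    apply H.unet
    have e : f u₀ = n * (n⁻¹ * f u₀ * n) * n⁻¹ := by group
    rw [e, ← hpf]; group

/-- If the transposition `a = f a₀` is conjugate to `t`, then `f (z₀ a₀)` is conjugate to
`u = f u₀`. -/
theorem exists_conj_za [Finite G] (H : Setup t f) {g : G} (hg : g * t * g⁻¹ = f a₀) :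
    ∃ h : G, h * f u₀ * h⁻¹ = f (z₀ * a₀) := by
  have hta : f a₀ * t = t * f a₀ := H.comm a₀
  have ht := H.tsq
  have htinv : t⁻¹ = t := inv_eq_self_of_sq ht
  -- the element `g⁻¹ t g` of the centralizer of `t`
  have hw : g⁻¹ * t * g * t = t * (g⁻¹ * t * g) := by
    have e := conj_comm g⁻¹ hta.symm
    have e1 : g⁻¹ * f a₀ * g⁻¹⁻¹ = t := by rw [← hg]; group
    rw [e1, inv_inv] at e
    exact e
  obtain ⟨γ, hγ⟩ := H.mem _ hw
  have hγ2 : γ * γ = 1 := by
    apply H.inj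
    rw [map_mul, hγ, map_one]
    calc g⁻¹ * t * g * (g⁻¹ * t * g) = g⁻¹ * (t * t) * g := by group
      _ = 1 := by rw [ht]; group
  have hγ1 : γ ≠ 1 := by
    intro h
    rw [h, map_one] at hγ
    apply H.tne
    have e : t = g * (g⁻¹ * t * g) * g⁻¹ := by group
    rw [e, ← hγ]; group
  have hγz : γ ≠ z₀ := by
    intro h
    rw [h, H.ht] at hγ
    apply H.anet
    rw [← hg]
    have e : g * t * g⁻¹ = g * (g⁻¹ * t * g) * g⁻¹ := by rw [← hγ]
    rw [e]; group
  -- an element `h` conjugating `t` to `a` and `a` to `t` or `a t`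
  have key : ∃ h : G, h * t * h⁻¹ = f a₀ ∧ (h * f a₀ * h⁻¹ = t ∨ h * f a₀ * h⁻¹ = f a₀ * t) := by
    rcases inv_types γ hγ2 hγ1 hγz with (⟨δ, hδ⟩ | ⟨δ, hδ⟩) | (⟨δ, hδ⟩ | ⟨δ, hδ⟩)
    · exfalso
      apply H.not_conj_u (g * f δ)
      have e : g * f δ * f u₀ * (g * f δ)⁻¹ = g * (f δ * f u₀ * (f δ)⁻¹) * g⁻¹ := by group
      rw [e, ← map_inv, ← map_mul, ← map_mul, hδ, hγ]; group
    · exfalso
      apply H.not_conj_tu (g * f δ)
      have e : (g * f δ)⁻¹ * t * (g * f δ) = (f δ)⁻¹ * (g⁻¹ * t * g) * f δ := by group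
      rw [e, ← hγ, ← hδ, map_mul, map_mul, map_mul, map_inv, H.ht]; group
    · refine ⟨g * f δ, ?_, Or.inl ?_⟩
      · have e : g * f δ * t * (g * f δ)⁻¹ = g * (f δ * t * (f δ)⁻¹) * g⁻¹ := by group
        rw [e, H.comm δ, mul_assoc t, mul_inv_cancel, mul_one, hg]
      · have e : g * f δ * f a₀ * (g * f δ)⁻¹ = g * (f δ * f a₀ * (f δ)⁻¹) * g⁻¹ := by group
        rw [e, ← map_inv, ← map_mul, ← map_mul, hδ, hγ]; group
    · refine ⟨g * f δ, ?_, Or.inr ?_⟩
      · have e : g * f δ * t * (g * f δ)⁻¹ = g * (f δ * t * (f δ)⁻¹) * g⁻¹ := by group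
        rw [e, H.comm δ, mul_assoc t, mul_inv_cancel, mul_one, hg]
      · have e1 : f δ * f a₀ * (f δ)⁻¹ = t * (g⁻¹ * t * g) := by
          have e2 : f (δ * (z₀ * a₀) * δ⁻¹) = t * (f δ * f a₀ * (f δ)⁻¹) := by
            rw [map_mul, map_mul, map_mul, map_inv, H.ht, ← mul_assoc (f δ), H.comm δ]
            group
          rw [hδ, hγ] at e2
          rw [e2, ← mul_assoc, ht, one_mul]
        have e : g * f δ * f a₀ * (g * f δ)⁻¹ = g * (f δ * f a₀ * (f δ)⁻¹) * g⁻¹ := by group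
        rw [e, e1, ← hg]; group
  obtain ⟨h, hht, hha⟩ := key
  -- the conjugate `x = h u h⁻¹` lies in the centralizer of `t` and `a`
  have hua : f u₀ * f a₀ = f a₀ * f u₀ := by rw [← map_mul, ← map_mul, a_comm_u]
  have hxa : h * f u₀ * h⁻¹ * f a₀ = f a₀ * (h * f u₀ * h⁻¹) := by
    have e := conj_comm h (H.comm u₀)
    rwa [hht] at e
  have hxt : h * f u₀ * h⁻¹ * t = t * (h * f u₀ * h⁻¹) := by
    have e := conj_comm h hua
    rcases hha with hha | hha
    · rwa [hha] at e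
    · rw [hha] at e
      exact comm_of_comm_mul hxa e
  obtain ⟨ξ, hξ⟩ := H.mem _ hxt
  have hξa : ξ * a₀ = a₀ * ξ := by
    apply H.inj
    rw [map_mul, map_mul, hξ]
    exact hxa
  have hc0u : f c₀ * f u₀ = f u₀ * f c₀ := by rw [← map_mul, ← map_mul, c_comm_u]
  rcases cent_a ξ hξa with (h1 | h1 | h1 | h1) | (h1 | h1 | h1 | h1)
  · exfalso
    rw [h1, map_one] at hξ
    apply H.une
    have e : f u₀ = h⁻¹ * (h * f u₀ * h⁻¹) * h := by group
    rw [e, ← hξ]; group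
  · exfalso
    rw [h1, H.ht] at hξ
    exact H.not_conj_u h hξ.symm
  · exfalso
    rw [h1] at hξ
    have h2 : h * f u₀ = f u₀ * h := by
      have e : h * f u₀ = (h * f u₀ * h⁻¹) * h := by group
      rw [e, ← hξ]
    have h3 := H.ku h h2
    apply H.anet
    rw [← hht, h3, mul_assoc, mul_inv_cancel, mul_one]
  · exfalso
    rw [h1, map_mul, H.ht] at hξ
    -- `f c₀` commutes with `t u = h u h⁻¹`, hence with `a = h t h⁻¹`
    have h2 : f c₀ * (h * f u₀ * h⁻¹) = (h * f u₀ * h⁻¹) * f c₀ := by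
      rw [← hξ, ← mul_assoc, H.comm c₀, mul_assoc, hc0u, ← mul_assoc]
    have h3 : (h⁻¹ * f c₀ * h) * f u₀ = f u₀ * (h⁻¹ * f c₀ * h) := by
      have e1 : (h⁻¹ * f c₀ * h) * f u₀ = h⁻¹ * (f c₀ * (h * f u₀ * h⁻¹)) * h := by group
      have e2 : f u₀ * (h⁻¹ * f c₀ * h) = h⁻¹ * ((h * f u₀ * h⁻¹) * f c₀) * h := by group
      rw [e1, e2, h2]
    have h4 := H.ku _ h3
    have h5 : f c₀ * (h * t * h⁻¹) = (h * t * h⁻¹) * f c₀ := by
      have e1 : f c₀ * (h * t * h⁻¹) = h * ((h⁻¹ * f c₀ * h) * t) * h⁻¹ := by group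
      have e2 : (h * t * h⁻¹) * f c₀ = h * (t * (h⁻¹ * f c₀ * h)) * h⁻¹ := by group
      rw [e1, e2, h4]
    rw [hht, ← map_mul, ← map_mul] at h5
    exact c_not_comm_a (H.inj h5)
  · exfalso
    rw [h1, ← hg] at hξ
    apply H.not_conj_u (g⁻¹ * h)
    have e : g⁻¹ * h * f u₀ * (g⁻¹ * h)⁻¹ = g⁻¹ * (h * f u₀ * h⁻¹) * g := by group
    rw [e, ← hξ]; group
  · exfalso
    rw [h1, ← c_conj_a, map_mul, map_mul, map_inv, ← hg] at hξ
    apply H.not_conj_u ((f c₀ * g)⁻¹ * h)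
    have e : (f c₀ * g)⁻¹ * h * f u₀ * ((f c₀ * g)⁻¹ * h)⁻¹ =
        (f c₀ * g)⁻¹ * (h * f u₀ * h⁻¹) * (f c₀ * g) := by group
    rw [e, ← hξ]; group
  · exact ⟨h, by rw [← hξ, h1]⟩
  · refine ⟨(f c₀)⁻¹ * h, ?_⟩
    have e : (f c₀)⁻¹ * h * f u₀ * ((f c₀)⁻¹ * h)⁻¹ = (f c₀)⁻¹ * (h * f u₀ * h⁻¹) * f c₀ := by
      group
    rw [e, ← hξ, h1, ← c_conj_za, map_mul, map_mul, map_inv]; group

end Setup

end Cfsg.Agent.Lib.helper11.TwoS4
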