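import Mathlib
import Cfsg.Agent.Lib.helper11.TwoS4Setup

/-!
# Groups with an involution centralizer `Z₂ × S₄`: the subgroup of index two

If the transposition `a = f a₀` is conjugate to `t`, Thompson's transfer gives a normal subgroup
`N` of index `2` not containing `t`; in `N` the involution `u` has a dihedral centralizer of
order `8` and all involutions are conjugate.
-/

set_option autoImplicit false

namespace Cfsg.Agent.Lib.helper11.TwoS4

open Cfsg.Agent.Lib.helper11.FourCent Cfsg.Agent.Lib.helper11.D8Cent DihedralGroup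
open Cfsg.Agent.Lib.helper92

variable {G : Type*} [Group G]

/-- The subgroup `C(u₀) ∩ ker χ₀` of the model group. -/
def M₀ : Subgroup Γ := Subgroup.centralizer ({u₀} : Set Γ) ⊓ χ₀.ker

theorem mem_M₀ {m : Γ} : m ∈ M₀ ↔ m * u₀ = u₀ * m ∧ χ₀ m = 1 := by
  rw [M₀, Subgroup.mem_inf, mem_cent, MonoidHom.mem_ker]

theorem card_M₀ : Nat.card M₀ = 8 := by
  have hbij : Function.Bijective (fun d : DihedralGroup 4 =>
      (⟨φ₀ d, mem_M₀.mpr (phi_mem d)⟩ : M₀)) := by
    constructor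
    · intro d d' h
      exact phi_inj d d' (congrArg Subtype.val h)
    · intro x
      obtain ⟨d, hd⟩ := phi_surj (x : Γ) (mem_M₀.mp x.2).1 (mem_M₀.mp x.2).2
      exact ⟨d, Subtype.ext hd⟩
  rw [← Nat.card_congr (Equiv.ofBijective _ hbij), DihedralGroup.nat_card]

theorem zmod_two_mul : ∀ x y : Multiplicative (ZMod 2), x * y = 1 ↔ (x = 1 ↔ y = 1) := by
  decide

theorem fst_cases : ∀ ε : Multiplicative (ZMod 2), ((ε, 1) : Γ) = 1 ∨ ((ε, 1) : Γ) = z₀ := by
  decide +kernel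

namespace Setup

variable {t : G} {f : Γ →* G}

theorem t_pow_even (H : Setup t f) {k : ℕ} (hk : Even k) : t ^ k = 1 := by
  obtain ⟨j, rfl⟩ := hk
  rw [← two_mul, pow_mul, pow_two, H.tsq, one_pow]

theorem t_pow_odd (H : Setup t f) {k : ℕ} (hk : Odd k) : t ^ k = t := by
  obtain ⟨j, rfl⟩ := hk
  rw [pow_succ, pow_mul, pow_two, H.tsq, one_pow, one_mul]

/-- Thompson transfer: a normal subgroup of index `2` avoiding `t`. -/
theorem exists_index_two [Finite G] (H : Setup t f) {g : G} (hg : g * t * g⁻¹ = f a₀) :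
    ∃ N : Subgroup G, N.Normal ∧ N.index = 2 ∧ t ∉ N := by
  obtain ⟨S, hS⟩ := H.syl
  have hSmem : ∀ s : G, s ∈ (S : Subgroup G) ↔ s * f u₀ = f u₀ * s := by
    intro s
    rw [hS, mem_cent]
  have hScard : Nat.card (S : Subgroup G) = 16 := by rw [hS]; exact H.card_cent_u
  have hMS : M₀.map f ≤ (S : Subgroup G) := by
    rintro x ⟨m, hm, rfl⟩
    rw [hSmem, ← map_mul, ← map_mul, (mem_M₀.mp hm).1]
  have hMcard : Nat.card (M₀.map f) = 8 := by
    rw [Subgroup.card_map_of_injective H.inj, card_M₀]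
  have hM : ((M₀.map f).subgroupOf (S : Subgroup G)).index = 2 := by
    have h1 := ((M₀.map f).subgroupOf (S : Subgroup G)).card_mul_index
    have h2 : Nat.card ((M₀.map f).subgroupOf (S : Subgroup G)) = 8 := by
      rw [Nat.card_congr (Subgroup.subgroupOfEquivOfLe hMS).toEquiv, hMcard]
    rw [h2, hScard] at h1
    omega
  obtain ⟨K, hKn, hK1, hK2⟩ := Cfsg.Agent.Lib.helper26.exists_transfer_kernel S _ hM
  have htS : t ∈ (S : Subgroup G) := by
    rw [hSmem]; exact (H.comm u₀).symm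
  obtain ⟨h, hh⟩ := H.exists_conj_za hg
  have htK : t ∉ K := by
    apply hK1 t htS
    intro k g₀ hc
    rcases Nat.even_or_odd k with hk | hk
    · refine ⟨fun _ => hk, fun _ => ?_⟩
      rw [Subgroup.mem_subgroupOf]
      show g₀⁻¹ * t ^ k * g₀ ∈ M₀.map f
      rw [H.t_pow_even hk, mul_one, inv_mul_cancel]
      exact Subgroup.one_mem _
    · refine ⟨fun hmem => ?_, fun hev => absurd hev (Nat.not_even_iff_odd.mpr hk)⟩
      exfalso
      rw [Subgroup.mem_subgroupOf] at hmem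
      have hmem' : g₀⁻¹ * t ^ k * g₀ ∈ M₀.map f := hmem
      rw [H.t_pow_odd hk] at hmem'
      obtain ⟨m, hm, hmf⟩ := hmem'
      have hm2 : m * m = 1 := by
        apply H.inj
        rw [map_mul, hmf, map_one]
        calc g₀⁻¹ * t * g₀ * (g₀⁻¹ * t * g₀) = g₀⁻¹ * (t * t) * g₀ := by group
          _ = 1 := by rw [H.tsq]; group
      have hm1 : m ≠ 1 := by
        intro h1
        rw [h1, map_one] at hmf
        apply H.tne
        have e : t = g₀ * (g₀⁻¹ * t * g₀) * g₀⁻¹ := by group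
        rw [e, ← hmf]; group
      rcases inv_M m (mem_M₀.mp hm).1 (mem_M₀.mp hm).2 hm2 hm1 with ⟨δ, hδ⟩ | ⟨δ, hδ⟩
      · apply H.not_conj_u (g₀ * f δ)
        have e : g₀ * f δ * f u₀ * (g₀ * f δ)⁻¹ = g₀ * (f δ * f u₀ * (f δ)⁻¹) * g₀⁻¹ := by
          group
        rw [e, ← map_inv, ← map_mul, ← map_mul, hδ, hmf]; group
      · apply H.not_conj_u (g₀ * f δ * h)
        have e : g₀ * f δ * h * f u₀ * (g₀ * f δ * h)⁻¹ =
            g₀ * (f δ * (h * f u₀ * h⁻¹) * (f δ)⁻¹) * g₀⁻¹ := by group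
        rw [e, hh, ← map_inv, ← map_mul, ← map_mul, hδ, hmf]; group
  exact ⟨K, hKn, hK2 ⟨t, htK⟩, htK⟩

/-- Membership in the subgroup of index two is detected by the character `χ₀`. -/
theorem mem_iff_chi (H : Setup t f) {g : G} (hg : g * t * g⁻¹ = f a₀) (N : Subgroup G)
    [hNn : N.Normal] (hN2 : N.index = 2) (htN : t ∉ N) (γ : Γ) : f γ ∈ N ↔ χ₀ γ = 1 := by
  have hmul : ∀ x y : G, x * y ∈ N ↔ (x ∈ N ↔ y ∈ N) := fun x y =>
    Subgroup.mul_mem_iff_of_index_two hN2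
  have hPmul : ∀ γ δ : Γ, (f γ ∈ N ↔ χ₀ γ = 1) → (f δ ∈ N ↔ χ₀ δ = 1) →
      (f (γ * δ) ∈ N ↔ χ₀ (γ * δ) = 1) := by
    intro γ δ h1 h2
    rw [map_mul, map_mul, hmul, zmod_two_mul, h1, h2]
  have haN : f a₀ ∉ N := by
    intro h
    apply htN
    have e : t = g⁻¹ * (g * t * g⁻¹) * g⁻¹⁻¹ := by group
    rw [e, hg]
    exact hNn.conj_mem _ h _
  have hPz : f z₀ ∈ N ↔ χ₀ z₀ = 1 := by
    rw [H.ht]
    exact ⟨fun h => absurd h htN, fun h => absurd h chi_z⟩
  have hPswap : ∀ x y : Fin 4, x ≠ y →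
      (f ((1, Equiv.swap x y) : Γ) ∈ N ↔ χ₀ ((1, Equiv.swap x y) : Γ) = 1) := by
    intro x y hxy
    obtain ⟨δ, hδ⟩ := swap_conj x y hxy
    rw [← hδ]
    constructor
    · intro h
      exfalso
      apply haN
      have e : f a₀ = (f δ)⁻¹ * f (δ * a₀ * δ⁻¹) * (f δ)⁻¹⁻¹ := by
        rw [map_mul, map_mul, map_inv]; group
      rw [e]
      exact hNn.conj_mem _ h _
    · intro h
      exfalso
      rw [map_mul, map_mul, map_inv, mul_inv_cancel_comm] at h
      exact chi_a h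
  have hPperm : ∀ σ : Equiv.Perm (Fin 4), (f ((1, σ) : Γ) ∈ N ↔ χ₀ ((1, σ) : Γ) = 1) := by
    intro σ
    induction σ using Equiv.Perm.swap_induction_on with
    | one =>
      have e : ((1, 1) : Γ) = 1 := rfl
      rw [e, map_one, map_one]
      exact ⟨fun _ => rfl, fun _ => N.one_mem⟩
    | swap_mul σ x y hxy ih =>
      have e : ((1, Equiv.swap x y * σ) : Γ) = (1, Equiv.swap x y) * (1, σ) := by
        rw [Prod.mk_mul_mk, one_mul]
      rw [e]
      exact hPmul _ _ (hPswap x y hxy) ih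
  have e : γ = (γ.1, 1) * (1, γ.2) := by
    rw [Prod.mk_mul_mk, one_mul, mul_one]
  rw [e]
  apply hPmul _ _ _ (hPperm γ.2)
  rcases fst_cases γ.1 with h | h
  · rw [h, map_one, map_one]
    exact ⟨fun _ => rfl, fun _ => N.one_mem⟩
  · rw [h]
    exact hPz

/-- In the subgroup of index two, `u` has a dihedral centralizer of order `8` and all
involutions are conjugate to `u`. -/
theorem exists_d8h [Finite G] (H : Setup t f) {g : G} (hg : g * t * g⁻¹ = f a₀)
    (N : Subgroup G) [hNn : N.Normal] (hN2 : N.index = 2) (htN : t ∉ N) :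
    ∃ (φ : DihedralGroup 4 →* N) (uN : N), (uN : G) = f u₀ ∧ D8H uN φ := by
  have hchi := H.mem_iff_chi hg N hN2 htN
  have hmul : ∀ x y : G, x * y ∈ N ↔ (x ∈ N ↔ y ∈ N) := fun x y =>
    Subgroup.mul_mem_iff_of_index_two hN2
  have hφN : ∀ d : DihedralGroup 4, (f.comp φ₀) d ∈ N := by
    intro d
    rw [MonoidHom.comp_apply, hchi]
    exact (phi_mem d).2
  have huN : f u₀ ∈ N := (hchi u₀).mpr chi_u
  refine ⟨(f.comp φ₀).codRestrict N hφN, ⟨f u₀, huN⟩, rfl, ⟨?_, ?_, ?_⟩, ?_⟩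
  · intro d d' h
    have h1 : f (φ₀ d) = f (φ₀ d') := congrArg Subtype.val h
    exact phi_inj d d' (H.inj h1)
  · intro x hx
    have hx' : (x : G) * f u₀ = f u₀ * (x : G) := congrArg Subtype.val hx
    obtain ⟨p, hp, hpx⟩ := H.mem_u _ hx'
    have hpN : χ₀ p = 1 := by
      rw [← hchi, hpx]; exact x.2
    obtain ⟨d, hd⟩ := phi_surj p hp hpN
    refine ⟨d, Subtype.ext ?_⟩
    show f (φ₀ d) = (x : G)
    rw [hd, hpx]
  · apply Subtype.ext
    show f (φ₀ (r 2)) = f u₀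
    rw [phi_r2]
  · intro s hs1 hs2
    obtain ⟨S, hS⟩ := H.syl
    have hSmem : ∀ s : G, s ∈ (S : Subgroup G) ↔ s * f u₀ = f u₀ * s := by
      intro s
      rw [hS, mem_cent]
    have hs1' : (s : G) ≠ 1 := fun h => hs1 (Subtype.ext h)
    have hs2' : (s : G) * (s : G) = 1 := congrArg Subtype.val hs2
    haveI : Fact (Nat.Prime 2) := ⟨Nat.prime_two⟩
    have hot : orderOf (s : G) = 2 ^ 1 := by
      rw [pow_one]
      exact orderOf_eq_prime (by rw [pow_two]; exact hs2') hs1'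
    obtain ⟨k, hk⟩ := exists_conj_mem_sylow_of_orderOf S hot
    obtain ⟨p, hp, hpf⟩ := H.mem_u _ ((hSmem _).mp hk)
    have hpN : χ₀ p = 1 := by
      rw [← hchi, hpf]
      have e : k⁻¹ * (s : G) * k = k⁻¹ * (s : G) * k⁻¹⁻¹ := by rw [inv_inv]
      rw [e]
      exact hNn.conj_mem _ s.2 _
    have hp2 : p * p = 1 := by
      apply H.inj
      rw [map_mul, hpf, map_one]
      calc k⁻¹ * (s : G) * k * (k⁻¹ * (s : G) * k) = k⁻¹ * ((s : G) * (s : G)) * k := by group
        _ = 1 := by rw [hs2']; group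
    have hp1 : p ≠ 1 := by
      intro h1
      rw [h1, map_one] at hpf
      apply hs1'
      have e : (s : G) = k * (k⁻¹ * (s : G) * k) * k⁻¹ := by group
      rw [e, ← hpf]; group
    -- `s` is conjugate to `u` in `G`
    have hconj : ∃ c : G, c * f u₀ * c⁻¹ = (s : G) := by
      rcases inv_M p hp hpN hp2 hp1 with ⟨δ, hδ⟩ | ⟨δ, hδ⟩
      · refine ⟨k * f δ, ?_⟩
        have e : k * f δ * f u₀ * (k * f δ)⁻¹ = k * (f δ * f u₀ * (f δ)⁻¹) * k⁻¹ := by group
        rw [e, ← map_inv, ← map_mul, ← map_mul, hδ, hpf]; group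
      · obtain ⟨h, hh⟩ := H.exists_conj_za hg
        refine ⟨k * f δ * h, ?_⟩
        have e : k * f δ * h * f u₀ * (k * f δ * h)⁻¹ =
            k * (f δ * (h * f u₀ * h⁻¹) * (f δ)⁻¹) * k⁻¹ := by group
        rw [e, hh, ← map_inv, ← map_mul, ← map_mul, hδ, hpf]; group
    obtain ⟨c, hc⟩ := hconj
    by_cases hcN : c ∈ N
    · refine ⟨⟨c, hcN⟩, Subtype.ext ?_⟩
      exact hc
    · have hctN : c * t ∈ N := by
        rw [hmul]
        exact ⟨fun h => absurd h hcN, fun h => absurd h htN⟩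
      refine ⟨⟨c * t, hctN⟩, Subtype.ext ?_⟩
      show c * t * f u₀ * (c * t)⁻¹ = (s : G)
      have e : c * t * f u₀ * (c * t)⁻¹ = c * (t * f u₀ * t⁻¹) * c⁻¹ := by group
      rw [e, ← H.comm u₀, mul_assoc (f u₀), mul_inv_cancel, mul_one, hc]

end Setup

end Cfsg.Agent.Lib.helper11.TwoS4
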