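import Mathlib
import Cfsg.Agent.Lib.helper11.TwoS4Trans
import Cfsg.Agent.Lib.helper11.TwoS4Gen

/-!
# Groups with an involution centralizer `Z₂ × S₄`: conclusion

* `Setup.central_of_isolated`: if `t` is isolated (Glauberman's `Z*`-theorem supplies a normal
  subgroup of odd order containing all commutators with `t`), then `t` is central;
* `Setup.sym6_of_conj`: if a transposition is conjugate to `t`, the group is `S₆`.
-/

set_option autoImplicit false

namespace Cfsg.Agent.Lib.helper11.TwoS4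

open Cfsg.Agent.Lib.helper11.FourCent Cfsg.Agent.Lib.helper11.D8Cent DihedralGroup
open Cfsg.Agent.Lib.helper92

variable {G : Type*} [Group G]

theorem y_not_comm_u : y₀ * u₀ ≠ u₀ * y₀ := by decide +kernel

theorem chi_zc : χ₀ (z₀ * c₀) = 1 := by decide +kernel

theorem chi_b : χ₀ b₀ = 1 := by decide +kernel

theorem chi_za : χ₀ (z₀ * a₀) = 1 := by decide +kernel

theorem za_ne_one : z₀ * a₀ ≠ 1 := by decide +kernel

theorem zc_not_comm_b : (z₀ * c₀) * b₀ ≠ b₀ * (z₀ * c₀) := by decide +kernel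

theorem mem_D₇ {γ : Γ} : γ ∈ D₇ ↔ γ = z₀ ∨ ∃ δ : Γ, δ * a₀ * δ⁻¹ = γ := by
  simp [D₇]

section A5

open Classical

variable [Fintype G] {a : G} {φ : DihedralGroup 4 →* G}

/-- In the case of order `360`, every element of order `3` lies in a subgroup isomorphic to
`A₅`. -/
theorem exists_A5_of_order_three (H : D8H a φ) (hn : Fintype.card G = 360) {y' : G}
    (hy' : orderOf y' = 3) :
    ∃ K : Subgroup G, y' ∈ K ∧ Nonempty (K ≃* alternatingGroup (Fin 5)) := by
  have ha := H.dc.sq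
  have ha1 := H.dc.ne_one
  have hnc := H.nc
  rcases H.main with ⟨hn', -⟩ | ⟨-, g₁, g₂, hg₁, hg₂, h5, hN1, h9, hN2, hd⟩
  · rw [hn] at hn'; omega
  · obtain ⟨y, hy, hy3, hCF, hNy⟩ := H.exists_order_three hg₂ h9 hN2
    have hC : Nat.card (Subgroup.centralizer ({y} : Set G)) = 9 := by
      rw [← card_CF', hCF, h9]
    haveI : Fact (Nat.Prime 3) := ⟨Nat.prime_three⟩
    obtain ⟨P, hP⟩ := exists_sylow_eq (p := 3) (k := 2) (m := 40) (by norm_num)
      (by rw [Nat.card_eq_fintype_card, hn]; norm_num) (Subgroup.centralizer ({y} : Set G))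
      (by rw [hC]; norm_num)
    obtain ⟨k, hk⟩ := exists_conj_mem_sylow_of_orderOf P (n := 1) (by rw [pow_one]; exact hy')
    have hy₁C : k⁻¹ * y' * k ∈ Subgroup.centralizer ({y} : Set G) := by
      rw [← hP]; exact hk
    have hy'1 : y' ≠ 1 := by
      intro h
      rw [h, orderOf_one] at hy'
      omega
    have hy₁1 : k⁻¹ * y' * k ≠ 1 := by
      intro h
      apply hy'1
      have e : y' = k * (k⁻¹ * y' * k) * k⁻¹ := by group
      rw [e, h]; group
    have hy₁3 : (k⁻¹ * y' * k) ^ 3 = 1 := by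
      have e : k⁻¹ * y' * k = k⁻¹ * y' * k⁻¹⁻¹ := by rw [inv_inv]
      rw [e, conj_pow, ← hy', pow_orderOf_eq_one]; group
    have hSA : SA a (k⁻¹ * y' * k) := hnc.SA_of_mem ha1 ha hy hy₁C hy₁1
    have hcent := hnc.cent_eq ha1 ha hy hy₁C hy₁1
    have hCF₁ : CF' (k⁻¹ * y' * k) = CF' y := by
      ext c
      rw [mem_CF', mem_CF', ← mem_cent, ← mem_cent, hcent]
    have hNr₁ : Nr φ (k⁻¹ * y' * k) := by
      unfold Nr
      rw [hcent]
      exact (hnc.normalizes_of_conj_mem ha1 ha hy hNy _).mp hy₁C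
    have hXF : XF (k⁻¹ * y' * k) = XF g₂ := by unfold XF; rw [hCF₁, hCF]
    obtain ⟨x, hx, hxy⟩ := H.exists_235 hn hg₁ hSA h5 hN1 (by rw [hCF₁, hCF]; exact h9) hNr₁
      (by rw [hXF]; exact hd)
    have hb : ((k⁻¹ * y' * k)⁻¹ * x) ^ 5 = 1 := by
      have e : (k⁻¹ * y' * k)⁻¹ * x = (x * (k⁻¹ * y' * k))⁻¹ := by
        rw [mul_inv_rev x, inv_eq_self_of_sq hx]
      rw [e, inv_pow, hxy, inv_one]
    have hab : ((k⁻¹ * y' * k) * ((k⁻¹ * y' * k)⁻¹ * x)) ^ 2 = 1 := by
      rw [mul_inv_cancel_left, pow_two, hx]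
    obtain ⟨ψ⟩ := Cfsg.Agent.Lib.helper61.CycGen.closure_equiv_A5 (k⁻¹ * y' * k)
      ((k⁻¹ * y' * k)⁻¹ * x) hy₁3 hb hab hy₁1
    have hmem : k⁻¹ * y' * k ∈ Subgroup.closure
        ({k⁻¹ * y' * k, (k⁻¹ * y' * k)⁻¹ * x} : Set G) :=
      Subgroup.subset_closure (Set.mem_insert _ _)
    generalize Subgroup.closure ({k⁻¹ * y' * k, (k⁻¹ * y' * k)⁻¹ * x} : Set G) = K₁ at ψ hmem
    refine ⟨K₁.map (MulAut.conj k).toMonoidHom, ⟨k⁻¹ * y' * k, hmem, ?_⟩, ⟨?_⟩⟩
    · rw [MulEquiv.coe_toMonoidHom, MulAut.conj_apply]; group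
    · exact (K₁.equivMapOfInjective _ (MulAut.conj k).injective).symm.trans ψ

end A5

theorem conj_comm_of_comm {x t c : G} (hx : x * t = t * x) (hc : c * t = t * c) :
    (c * x * c⁻¹) * t = t * (c * x * c⁻¹) := by
  have hc' : c⁻¹ * t = t * c⁻¹ := by
    rw [eq_mul_inv_iff_mul_eq, mul_assoc, ← hc, inv_mul_cancel_left]
  calc c * x * c⁻¹ * t = c * x * (c⁻¹ * t) := by group
    _ = c * x * (t * c⁻¹) := by rw [hc']
    _ = c * (x * t) * c⁻¹ := by group
    _ = c * (t * x) * c⁻¹ := by rw [hx]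
    _ = (c * t) * x * c⁻¹ := by group
    _ = (t * c) * x * c⁻¹ := by rw [hc]
    _ = t * (c * x * c⁻¹) := by group

namespace Setup

variable {t : G} {f : Γ →* G}

/-- If all commutators with `t` lie in a normal subgroup of odd order, then `t` is central. -/
theorem central_of_isolated [Finite G] (H : Setup t f)
    (hZ : ∃ K : Subgroup G, K.Normal ∧ Odd (Nat.card K) ∧ ∀ g : G, t * g * t⁻¹ * g⁻¹ ∈ K) :
    ∀ g : G, g * t = t * g := by
  obtain ⟨K, hKn, hKodd, hK⟩ := hZ
  -- no element of `K` commutes with `t`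
  have h1 : ∀ k ∈ K, k * t = t * k → k = 1 := by
    intro k hk hkt
    obtain ⟨γ, hγ⟩ := H.mem k hkt
    have ho1 : orderOf k ∣ Nat.card K := Subgroup.orderOf_dvd_natCard K hk
    have ho2 : orderOf k ∣ 4 * 3 := by
      apply orderOf_dvd_of_pow_eq_one
      rw [← hγ, ← map_pow, pow_twelve, map_one]
    have hodd : Odd (orderOf k) := hKodd.of_dvd_nat ho1
    have hcop : Nat.Coprime (orderOf k) 4 :=
      Nat.Coprime.pow_right 2 (Nat.coprime_two_right.mpr hodd)
    have ho3 : orderOf k ∣ 3 := hcop.dvd_of_dvd_mul_left ho2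
    have hk3 : k ^ 3 = 1 := orderOf_dvd_iff_pow_eq_one.mp ho3
    have hγ3 : γ ^ 3 = 1 := by
      apply H.inj
      rw [map_pow, hγ, hk3, map_one]
    by_contra hk1
    have hγ1 : γ ≠ 1 := by
      intro h
      rw [h, map_one] at hγ
      exact hk1 hγ.symm
    obtain ⟨δ, hδ1, hδ2⟩ := odd_conj γ hγ1 hγ3
    have hw : f (γ * (δ * γ * δ⁻¹)) ∈ K := by
      rw [map_mul, map_mul, map_mul, map_inv, hγ]
      exact K.mul_mem hk (hKn.conj_mem k hk _)
    have hw1 : f (γ * (δ * γ * δ⁻¹)) ≠ 1 := by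
      intro h
      exact hδ1 (H.inj (by rw [h, map_one]))
    have hw2 : f (γ * (δ * γ * δ⁻¹)) ^ 2 = 1 := by
      rw [pow_two, ← map_mul, hδ2, map_one]
    have ho : orderOf (f (γ * (δ * γ * δ⁻¹))) = 2 := orderOf_eq_prime hw2 hw1
    have ho4 := Subgroup.orderOf_dvd_natCard K hw
    rw [ho] at ho4
    exact (Nat.not_even_iff_odd.mpr hKodd) (even_iff_two_dvd.mpr ho4)
  -- involutions conjugate to `u` in the centralizer of `t` invert `K`
  have h2 : ∀ δ : Γ, ∀ k ∈ K, f (δ * u₀ * δ⁻¹) * k * (f (δ * u₀ * δ⁻¹))⁻¹ = k⁻¹ := by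
    intro δ
    apply inverts_of_fpf K
    · rw [← map_mul]
      have e : δ * u₀ * δ⁻¹ * (δ * u₀ * δ⁻¹) = δ * (u₀ * u₀) * δ⁻¹ := by group
      rw [e, TwoS4.u_sq, mul_one, mul_inv_cancel, map_one]
    · intro k hk hkv
      apply h1 k hk
      rw [map_mul, map_mul, map_inv] at hkv
      have h3 : ((f δ)⁻¹ * k * f δ) * f u₀ = f u₀ * ((f δ)⁻¹ * k * f δ) := by
        have e1 : ((f δ)⁻¹ * k * f δ) * f u₀ = (f δ)⁻¹ * (k * (f δ * f u₀ * (f δ)⁻¹)) * f δ := by
          group
        have e2 : f u₀ * ((f δ)⁻¹ * k * f δ) = (f δ)⁻¹ * ((f δ * f u₀ * (f δ)⁻¹) * k) * f δ := by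
          group
        rw [e1, e2, hkv]
      have h4 := H.ku _ h3
      have e : k = f δ * ((f δ)⁻¹ * k * f δ) * (f δ)⁻¹ := by group
      rw [e]
      exact conj_comm_of_comm h4 (H.comm δ)
  have h3 : K = ⊥ := by
    rw [eq_bot_iff]
    intro k hk
    rw [Subgroup.mem_bot]
    obtain ⟨δ₁, hδ₁⟩ := b_conj
    obtain ⟨δ₂, hδ₂⟩ := ub_conj
    have hu := h2 1 k⁻¹ (K.inv_mem hk)
    rw [one_mul, inv_one, mul_one, inv_inv] at hu
    have hb := h2 δ₁ k⁻¹ (K.inv_mem hk)
    rw [hδ₁, inv_inv] at hb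
    have hub := h2 δ₂ k hk
    rw [hδ₂, map_mul] at hub
    -- `u b` both centralizes and inverts `k`
    have e : f u₀ * f b₀ * k * (f u₀ * f b₀)⁻¹ = k := by
      have e1 : f u₀ * f b₀ * k * (f u₀ * f b₀)⁻¹ =
          f u₀ * (f b₀ * k⁻¹ * (f b₀)⁻¹)⁻¹ * (f u₀)⁻¹ := by group
      rw [e1, hb, hu]
    rw [e] at hub
    have hk2 : k * k = 1 := by
      nth_rewrite 1 [hub]
      exact inv_mul_cancel k
    have ho : orderOf k ∣ 2 := orderOf_dvd_of_pow_eq_one (by rw [pow_two]; exact hk2)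
    have hodd : Odd (orderOf k) := hKodd.of_dvd_nat (Subgroup.orderOf_dvd_natCard K hk)
    rcases (Nat.dvd_prime Nat.prime_two).mp ho with h | h
    · exact orderOf_eq_one_iff.mp h
    · rw [h] at hodd
      exact absurd hodd (by decide)
  intro g
  have h4 := hK g
  rw [h3, Subgroup.mem_bot] at h4
  have h5 : t * g * t⁻¹ = g := by rwa [mul_inv_eq_one] at h4
  have h6 : t * g = g * t := by
    calc t * g = (t * g * t⁻¹) * t := by group
      _ = g * t := by rw [h5]
  exact h6.symm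

/-- If a transposition is conjugate to `t`, the group is isomorphic to `S₆`. -/
theorem sym6_of_conj [Finite G] (H : Setup t f) {g : G} (hg : g * t * g⁻¹ = f a₀) :
    Nonempty (G ≃* Equiv.Perm (Fin 6)) := by
  obtain ⟨N, hNn, hN2, htN⟩ := H.exists_index_two hg
  haveI := hNn
  obtain ⟨φ, uN, huN, HD⟩ := H.exists_d8h hg N hN2 htN
  have hchi := H.mem_iff_chi hg N hN2 htN
  classical
  haveI : Fintype N := Fintype.ofFinite N
  haveI : Fintype G := Fintype.ofFinite G
  have hmain := HD.main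
  have hsimple : IsSimpleGroup N :=
    { exists_pair_ne := ⟨uN, 1, HD.dc.ne_one⟩
      eq_bot_or_eq_top_of_normal := by
        intro M hM
        apply HD.eq_bot_or_eq_top _ M hM
        rcases hmain with h | ⟨hn, g₁, g₂, hg₁, hg₂, h5, -, h9, -, -⟩
        · exact Or.inl h
        · exact Or.inr ⟨hn, g₁, g₂, hg₁, hg₂, h5, h9⟩ }
  have hGN : Nat.card G = 2 * Nat.card N := by
    have h1 := N.card_mul_index
    rw [hN2] at h1
    omega
  rcases hmain with ⟨hn, -⟩ | ⟨hn, -⟩
  · exfalso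
    -- order `336`: the class of `t` has `7` elements, all in the centralizer of `t`
    have hG : Fintype.card G = 336 := by
      rw [← Nat.card_eq_fintype_card, hGN, Nat.card_eq_fintype_card, hn]
    have hcl := card_eq_card_cent_mul t
    rw [hG, H.card_cent_t] at hcl
    have hcl7 : (Finset.univ.image (fun h : G => h * t * h⁻¹)).card = 7 := by omega
    have hsub : D₇.image f ⊆ Finset.univ.image (fun h : G => h * t * h⁻¹) := by
      intro x hx
      obtain ⟨γ, hγ, rfl⟩ := Finset.mem_image.mp hx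
      rw [Finset.mem_image]
      rcases mem_D₇.mp hγ with h | ⟨δ, hδ⟩
      · exact ⟨1, Finset.mem_univ _, by rw [h, H.ht]; group⟩
      · refine ⟨f δ * g, Finset.mem_univ _, ?_⟩
        rw [← hδ, map_mul, map_mul, map_inv, ← hg]; group
    have hcardD : (D₇.image f).card = 7 := by
      rw [Finset.card_image_of_injective _ H.inj, card_D₇]
    have heq : D₇.image f = Finset.univ.image (fun h : G => h * t * h⁻¹) :=
      Finset.eq_of_subset_of_card_le hsub (by rw [hcl7, hcardD])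
    have hcomm : ∀ h : G, (h * t * h⁻¹) * t = t * (h * t * h⁻¹) := by
      intro h
      have h1 : h * t * h⁻¹ ∈ D₇.image f := by
        rw [heq]; exact Finset.mem_image_of_mem _ (Finset.mem_univ _)
      obtain ⟨γ, -, hγ⟩ := Finset.mem_image.mp h1
      rw [← hγ]; exact H.comm γ
    have hcomm2 : ∀ h₁ h₂ : G,
        (h₁ * t * h₁⁻¹) * (h₂ * t * h₂⁻¹) = (h₂ * t * h₂⁻¹) * (h₁ * t * h₁⁻¹) := by
      intro h₁ h₂
      have h1 := hcomm (h₂⁻¹ * h₁)
      have h2 := conj_comm h₂ h1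
      have e1 : h₂ * (h₂⁻¹ * h₁ * t * (h₂⁻¹ * h₁)⁻¹) * h₂⁻¹ = h₁ * t * h₁⁻¹ := by group
      rw [e1] at h2
      exact h2
    have hWgen : ∀ x ∈ Group.conjugatesOfSet ({t} : Set G), ∃ h : G, x = h * t * h⁻¹ := by
      intro x hx
      rw [Group.mem_conjugatesOfSet_iff] at hx
      obtain ⟨a', ha', hc⟩ := hx
      rw [Set.mem_singleton_iff] at ha'
      subst ha'
      obtain ⟨c, hc⟩ := isConj_iff.mp hc
      exact ⟨c, hc.symm⟩
    have hW1 : Subgroup.normalClosure ({t} : Set G) ≤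
        Subgroup.centralizer (Group.conjugatesOfSet ({t} : Set G)) := by
      rw [Subgroup.normalClosure, Subgroup.closure_le]
      intro x hx
      obtain ⟨h₁, rfl⟩ := hWgen x hx
      rw [SetLike.mem_coe, Subgroup.mem_centralizer_iff]
      intro z hz
      obtain ⟨h₂, rfl⟩ := hWgen z hz
      exact hcomm2 h₂ h₁
    have hW2 : ∀ w₁ ∈ Subgroup.normalClosure ({t} : Set G),
        ∀ w₂ ∈ Subgroup.normalClosure ({t} : Set G), w₂ * w₁ = w₁ * w₂ := by
      intro w₁ hw₁ w₂ hw₂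
      have h1 : Subgroup.normalClosure ({t} : Set G) ≤ Subgroup.centralizer ({w₁} : Set G) := by
        rw [Subgroup.normalClosure, Subgroup.closure_le]
        intro x hx
        rw [SetLike.mem_coe, mem_cent]
        exact Subgroup.mem_centralizer_iff.mp (hW1 hw₁) x hx
      exact mem_cent.mp (h1 hw₂)
    have htW : t ∈ Subgroup.normalClosure ({t} : Set G) :=
      Subgroup.subset_normalClosure (Set.mem_singleton t)
    have haW : f a₀ ∈ Subgroup.normalClosure ({t} : Set G) := by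
      rw [← hg]
      exact Subgroup.normalClosure_normal.conj_mem t htW g
    rcases (inferInstance :
        ((Subgroup.normalClosure ({t} : Set G)).subgroupOf N).Normal).eq_bot_or_eq_top
      with hV | hV
    · have h1 : f (z₀ * a₀) ∈ N := (hchi _).mpr chi_za
      have h2 : (⟨f (z₀ * a₀), h1⟩ : N) ∈
          (Subgroup.normalClosure ({t} : Set G)).subgroupOf N := by
        rw [Subgroup.mem_subgroupOf]
        show f (z₀ * a₀) ∈ _
        rw [map_mul, H.ht]
        exact Subgroup.mul_mem _ htW haW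
      rw [hV, Subgroup.mem_bot] at h2
      have h3 : f (z₀ * a₀) = 1 := congrArg Subtype.val h2
      exact za_ne_one (H.inj (by rw [h3, map_one]))
    · have hall : ∀ γ : Γ, χ₀ γ = 1 → f γ ∈ Subgroup.normalClosure ({t} : Set G) := by
        intro γ hγ
        have h1 : f γ ∈ N := (hchi γ).mpr hγ
        have h2 : (⟨f γ, h1⟩ : N) ∈ (Subgroup.normalClosure ({t} : Set G)).subgroupOf N := by
          rw [hV]; trivial
        exact Subgroup.mem_subgroupOf.mp h2
      have h3 := hW2 _ (hall _ chi_b) _ (hall _ chi_zc)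
      rw [← map_mul, ← map_mul] at h3
      exact zc_not_comm_b (H.inj h3)
  · have hNc : Nat.card N = 360 := by rw [Nat.card_eq_fintype_card, hn]
    have hyN : f y₀ ∈ N := (hchi y₀).mpr chi_y
    have hyo : orderOf (⟨f y₀, hyN⟩ : N) = 3 := by
      rw [Subgroup.orderOf_mk]
      exact orderOf_eq_prime (by rw [← map_pow, y_pow, map_one])
        (fun h => y_ne_one (H.inj (by rw [h, map_one])))
    obtain ⟨KN, hyK, hKN⟩ := exists_A5_of_order_three HD hn hyo
    refine sym6_of_index_two N hN2 hNc t htN KN hKN ⟨f y₀, hyN⟩ hyo hyK (H.comm y₀).symm ?_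
    intro k hk
    obtain ⟨p, hp, hpk⟩ := H.mem_u k (hk (f u₀))
    have hpc : ∀ q : Γ, q * u₀ = u₀ * q → p * q = q * p := by
      intro q _
      apply H.inj
      rw [map_mul, map_mul, hpk]
      exact hk (f q)
    rcases center_P p hp hpc with h | h | h | h
    · rw [← hpk, h, map_one]; exact N.one_mem
    · exfalso
      rw [h, H.ht] at hpk
      apply H.anet
      rw [← hg, hpk, ← hk g, mul_assoc, mul_inv_cancel, mul_one]
    · rw [← hpk, h]; exact (hchi u₀).mpr chi_u
    · exfalso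
      rw [h, map_mul, H.ht] at hpk
      have h1 := hk (f y₀)
      rw [← hpk] at h1
      have h2 : f u₀ * f y₀ = f y₀ * f u₀ := by
        have h3 : t * (f u₀ * f y₀) = t * (f y₀ * f u₀) := by
          rw [← mul_assoc, h1, ← mul_assoc, H.comm y₀, mul_assoc]
        exact mul_left_cancel h3
      rw [← map_mul, ← map_mul] at h2
      exact y_not_comm_u (H.inj h2).symm

end Setup

end Cfsg.Agent.Lib.helper11.TwoS4
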