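import Mathlib
import Cfsg.Agent.Lib.helper16.U34CDefs

/-! helper11: S1903 piece D4c (`cent_klein`). -/

set_option autoImplicit false
set_option linter.unusedSectionVars false
set_option linter.unusedVariables false

namespace Cfsg.Agent.Lib.helper16.U34C

open Cfsg
open scoped commutatorElement
open Cfsg.Agent.Lib.helper58 Cfsg.Agent.Lib.helper7

section Concrete

variable {F : Type*} [Field F] [Fintype F]

/-- PIECE D4c -/
theorem cent_klein (hF : Fintype.card F = 16)
    (htc : ∀ v ∈ UU hF, v * tauE hF = tauE hF * v)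
    (hc : commutator ↥(Subgroup.centralizer ({tauE hF} : Set ↥(SU 3 F 4))) =
      (UU hF).subgroupOf (Subgroup.centralizer ({tauE hF} : Set ↥(SU 3 F 4)))) :
    Nat.card ↥(commutator ↥(Subgroup.centralizer ({tauE hF} : Set ↥(SU 3 F 4)))) = 64 ∧
    IsKleinFour ↥(Subgroup.center
      ↥(commutator ↥(Subgroup.centralizer ({tauE hF} : Set ↥(SU 3 F 4))))) := by
  have hUC : UU hF ≤ Subgroup.centralizer ({tauE hF} : Set ↥(SU 3 F 4)) := by
    intro v hv
    rw [Subgroup.mem_centralizer_iff]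
    intro h hh
    rw [Set.mem_singleton_iff] at hh
    rw [hh]
    exact (htc v hv).symm
  let e : ↥(commutator ↥(Subgroup.centralizer ({tauE hF} : Set ↥(SU 3 F 4)))) ≃* ↥(UU hF) :=
    (MulEquiv.subgroupCongr hc).trans (Subgroup.subgroupOfEquivOfLe hUC)
  let c : UCoord ↥(commutator ↥(Subgroup.centralizer ({tauE hF} : Set ↥(SU 3 F 4)))) F 4 :=
    (su3UCoord (card16 hF) (two0 hF)).congr e
  have h64 : Nat.card ↥(commutator ↥(Subgroup.centralizer ({tauE hF} : Set ↥(SU 3 F 4)))) = 64 := by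
    rw [c.card_eq (card16 hF) (two0 hF)]
    norm_num
  have h4 : Nat.card ↥(Subgroup.center
      ↥(commutator ↥(Subgroup.centralizer ({tauE hF} : Set ↥(SU 3 F 4))))) = 4 :=
    c.card_center (card16 hF) (two0 hF)
  refine ⟨h64, ⟨h4, ?_⟩⟩
  have hsq : ∀ z : ↥(Subgroup.center
      ↥(commutator ↥(Subgroup.centralizer ({tauE hF} : Set ↥(SU 3 F 4))))), z ^ 2 = 1 := by
    intro z
    apply Subtype.ext
    rw [Subgroup.coe_pow, Subgroup.coe_one]
    exact c.center_sq_eq_one (card16 hF) (two0 hF) z.1 z.2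
  have hdvd : Monoid.exponent ↥(Subgroup.center
      ↥(commutator ↥(Subgroup.centralizer ({tauE hF} : Set ↥(SU 3 F 4))))) ∣ 2 :=
    Monoid.exponent_dvd_of_forall_pow_eq_one hsq
  have hne1 : Monoid.exponent ↥(Subgroup.center
      ↥(commutator ↥(Subgroup.centralizer ({tauE hF} : Set ↥(SU 3 F 4))))) ≠ 1 := by
    intro h1
    have hsub := Monoid.exp_eq_one_iff.mp h1
    have hfin : Finite ↥(Subgroup.center
      ↥(commutator ↥(Subgroup.centralizer ({tauE hF} : Set ↥(SU 3 F 4))))) :=
      Nat.finite_of_card_ne_zero (by rw [h4]; norm_num)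
    have h5 : Nat.card ↥(Subgroup.center
      ↥(commutator ↥(Subgroup.centralizer ({tauE hF} : Set ↥(SU 3 F 4))))) = 1 :=
      @Nat.card_of_subsingleton _ 1 hsub
    omega
  rcases (Nat.dvd_prime Nat.prime_two).mp hdvd with h | h
  · exact absurd h hne1
  · exact h

end Concrete

end Cfsg.Agent.Lib.helper16.U34C
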