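import Cfsg.Agent.Lib.helper81.WTDefs

/-! helper11: S4414 piece B2 (`supp_comb`). -/

set_option autoImplicit false

namespace Cfsg.Agent.Lib.helper81.WT

open scoped TensorProduct

universe u v w

/-- [B2] support of a combination of two vectors with disjoint supports -/
theorem supp_comb {S : Type u} [Group S] [Finite S] {F : Type w} [Field F] [Finite F] [CharP F 2]
    {V : Type v} [AddCommGroup V] [Module F V]
    (R : Representation F S V) (Y : Subgroup S) [Y.Normal] [Fintype ↥Y]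
    (v₁ v₂ : V) (hd : Disjoint (supp R Y v₁) (supp R Y v₂)) (a b : F) :
    supp R Y (a • v₁ + b • v₂) = {ν | (a ≠ 0 ∧ ν ∈ supp R Y v₁) ∨ (b ≠ 0 ∧ ν ∈ supp R Y v₂)} := by
  ext ν
  have hlin : proj R Y ν (a • v₁ + b • v₂) = a • proj R Y ν v₁ + b • proj R Y ν v₂ := by
    rw [map_add, map_smul, map_smul]
  have hdis : ν ∈ supp R Y v₁ → ν ∈ supp R Y v₂ → False := fun h1 h2 =>
    Set.disjoint_left.mp hd h1 h2
  show proj R Y ν (a • v₁ + b • v₂) ≠ 0 ↔
    (a ≠ 0 ∧ proj R Y ν v₁ ≠ 0) ∨ (b ≠ 0 ∧ proj R Y ν v₂ ≠ 0)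
  rw [hlin]
  by_cases h1 : proj R Y ν v₁ = 0
  · rw [h1, smul_zero, zero_add]
    constructor
    · intro h
      right
      exact ⟨fun hb => h (by rw [hb, zero_smul]), fun h2 => h (by rw [h2, smul_zero])⟩
    · rintro (⟨_, h⟩ | ⟨hb, h2⟩)
      · exact absurd rfl h
      · exact smul_ne_zero hb h2
  · have h2 : proj R Y ν v₂ = 0 := by
      by_contra h2
      exact hdis h1 h2
    rw [h2, smul_zero, add_zero]
    constructor
    · intro h
      left
      exact ⟨fun ha => h (by rw [ha, zero_smul]), h1⟩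
    · rintro (⟨ha, _⟩ | ⟨_, h⟩)
      · exact smul_ne_zero ha h1
      · exact absurd rfl h

end Cfsg.Agent.Lib.helper81.WT
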